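import Mathlib
import Cfsg.Agent.Class.Max.FmHyp

/-!
Class `C₂`, pairs of complementary totally singular subspaces.
-/

set_option autoImplicit false

namespace Cfsg.Agent.Class.Max

open Module

variable {F V : Type*} [Field F] [AddCommGroup V] [Module F V]

/-- The stabiliser of the unordered pair `{U, U'}`. -/
def stabPair (U U' : Submodule F V) : Subgroup (V ≃ₗ[F] V) where
  carrier := {g | (g ∈ stab U ∧ g ∈ stab U') ∨
    ((∀ v, v ∈ U ↔ g v ∈ U') ∧ ∀ v, v ∈ U' ↔ g v ∈ U)}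
  mul_mem' {a b} ha hb := by
    rcases ha with ha | ha <;> rcases hb with hb | hb
    · exact Or.inl ⟨(stab U).mul_mem ha.1 hb.1, (stab U').mul_mem ha.2 hb.2⟩
    · exact Or.inr ⟨fun v => (hb.1 v).trans (ha.2 _), fun v => (hb.2 v).trans (ha.1 _)⟩
    · exact Or.inr ⟨fun v => (hb.1 v).trans (ha.1 _), fun v => (hb.2 v).trans (ha.2 _)⟩
    · exact Or.inl ⟨fun v => (hb.1 v).trans (ha.2 _), fun v => (hb.2 v).trans (ha.1 _)⟩
  one_mem' := Or.inl ⟨(stab U).one_mem, (stab U').one_mem⟩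
  inv_mem' {a} ha := by
    rcases ha with ha | ha
    · exact Or.inl ⟨(stab U).inv_mem ha.1, (stab U').inv_mem ha.2⟩
    · refine Or.inr ⟨fun v => ?_, fun v => ?_⟩
      · have := ha.2 (a⁻¹ v)
        rw [app_inv_app] at this
        exact this.symm
      · have := ha.1 (a⁻¹ v)
        rw [app_inv_app] at this
        exact this.symm

theorem stabPair_comm (U U' : Submodule F V) : stabPair U U' = stabPair U' U := by
  ext g
  exact or_congr and_comm and_comm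

theorem mem_iff_of_mapsTo [FiniteDimensional F V] {U U' : Submodule F V} {g : V ≃ₗ[F] V}
    (h1 : ∀ v ∈ U, g v ∈ U') (h2 : finrank F U' ≤ finrank F U) (v : V) : v ∈ U ↔ g v ∈ U' := by
  have : U.map (g : V →ₗ[F] V) = U' := Submodule.eq_of_le_of_finrank_le
    (by rintro _ ⟨u, hu, rfl⟩; exact h1 u hu) (by rwa [LinearEquiv.finrank_map_eq])
  refine ⟨h1 v, fun h => ?_⟩
  rw [← this] at h
  obtain ⟨u, hu, e⟩ := h
  rwa [← g.injective e]

theorem mem_stabPair_of_swap [FiniteDimensional F V] {U U' : Submodule F V} {g : V ≃ₗ[F] V}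
    (h1 : ∀ v ∈ U, g v ∈ U') (h2 : ∀ v ∈ U', g v ∈ U) : g ∈ stabPair U U' := by
  have e1 : finrank F U ≤ finrank F U' := by
    rw [← LinearEquiv.finrank_map_eq g U]
    exact Submodule.finrank_mono (by rintro _ ⟨u, hu, rfl⟩; exact h1 u hu)
  have e2 : finrank F U' ≤ finrank F U := by
    rw [← LinearEquiv.finrank_map_eq g U']
    exact Submodule.finrank_mono (by rintro _ ⟨u, hu, rfl⟩; exact h2 u hu)
  exact Or.inr ⟨mem_iff_of_mapsTo h1 e2, mem_iff_of_mapsTo h2 e1⟩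

theorem mapsTo_or_mapsTo {X U U' : Submodule F V} {g : V ≃ₗ[F] V}
    (h : ∀ v ∈ X, g v ∈ U ∨ g v ∈ U') : (∀ v ∈ X, g v ∈ U) ∨ ∀ v ∈ X, g v ∈ U' := by
  by_contra hc
  push Not at hc
  obtain ⟨⟨x, hx, hx'⟩, y, hy, hy'⟩ := hc
  have h1 := (h x hx).resolve_left hx'
  have h2 := (h y hy).resolve_right hy'
  rcases h _ (X.add_mem hx hy) with h3 | h3 <;> rw [map_add] at h3
  · exact hx' ((U.add_mem_iff_left h2).1 h3)
  · exact hy' ((U'.add_mem_iff_right h1).1 h3)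

theorem finrank_span_pair_le_two (x y : V) : finrank F (Submodule.span F {x, y}) ≤ 2 := by
  classical
  have := finrank_span_finset_le_card (R := F) ({x, y} : Finset V)
  rw [Set.finrank, Finset.coe_pair] at this
  exact this.trans Finset.card_le_two

namespace Fm

variable {Φ : Fm F V} {M : Subgroup (V ≃ₗ[F] V)}

theorem ef_symm (a w x : V) : Φ.ef a w 0 x = Φ.ef w (-(Φ.ε • a)) 0 x := by
  simp only [ef, Φ.bsimp]
  have := Φ.eps_sq
  match_scalars <;> grind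

theorem hasE_symm {a w : V} : Φ.HasE M a w 0 ↔ Φ.HasE M w (-(Φ.ε • a)) 0 := by
  simp only [HasE, ef_symm a w]

/-! ### Swapping the two members -/

variable (Φ) in
/-- Two totally singular subspaces in duality. -/
structure DualPair (U U' : Submodule F V) : Prop where
  ts : Φ.TS U
  ts' : Φ.TS U'
  nd : ∀ x ∈ U, (∀ y ∈ U', Φ.B x y = 0) → x = 0
  nd' : ∀ y ∈ U', (∀ x ∈ U, Φ.B x y = 0) → y = 0

variable (Φ) in
/-- Some element of `EG` supported on `U + U'` interchanges `U` and `U'`. -/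
def Swap (U U' : Submodule F V) : Prop :=
  ∃ g ∈ Φ.EG, (∀ x ∈ U, g x ∈ U') ∧ (∀ y ∈ U', g y ∈ U) ∧
    ∀ v, (∀ x ∈ U, Φ.B x v = 0) → (∀ y ∈ U', Φ.B y v = 0) → g v = v

theorem DualPair.split {U U' : Submodule F V} [FiniteDimensional F V] (h : Φ.DualPair U U')
    (h0 : 0 < finrank F U) :
    ∃ e ∈ U, ∃ f ∈ U', Φ.B e f = 1 ∧
      Φ.DualPair (U ⊓ LinearMap.ker (Φ.B f)) (U' ⊓ LinearMap.ker (Φ.B e)) ∧
      finrank F U = finrank F ↥(U ⊓ LinearMap.ker (Φ.B f)) + 1 := by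
  obtain ⟨e, he, he0⟩ := Submodule.exists_mem_ne_zero_of_ne_bot (p := U) (by
    rintro rfl
    simp at h0)
  obtain ⟨y, hy, hy'⟩ : ∃ y ∈ U', Φ.B e y ≠ 0 := by
    by_contra hc
    push Not at hc
    exact he0 (h.nd e he hc)
  have hef : Φ.B e ((Φ.B e y)⁻¹ • y) = 1 := by rw [Φ.B_smul_right, inv_mul_cancel₀ hy']
  have hf := U'.smul_mem (Φ.B e y)⁻¹ hy
  generalize (Φ.B e y)⁻¹ • y = f at hef hf
  have hfe := B_eq_eps hef
  refine ⟨e, he, f, hf, hef, ⟨h.ts.mono inf_le_left, h.ts'.mono inf_le_left, ?_, ?_⟩, ?_⟩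
  · rintro x ⟨hx, hx'⟩ h1
    refine h.nd x hx fun z hz => ?_
    have := h1 (z - Φ.B e z • f) ⟨U'.sub_mem hz (U'.smul_mem _ hf), by simp [hef]⟩
    simpa [Φ.perp_symm hx'] using this
  · rintro x ⟨hx, hx'⟩ h1
    refine h.nd' x hx fun z hz => ?_
    have := h1 (z - (Φ.ε * Φ.B f z) • e) ⟨U.sub_mem hz (U.smul_mem _ he), by
      simp only [SetLike.mem_coe, LinearMap.mem_ker, Φ.bsimp, hfe]
      linear_combination (-Φ.B f z) * Φ.eps_sq⟩
    simpa only [Φ.bsimp, show Φ.B e x = 0 from hx', mul_zero, sub_zero] using this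
  · have h1 := finrank_le_inf_ker U (Φ.B f)
    have h2 : U ⊓ LinearMap.ker (Φ.B f) < U := lt_of_le_of_ne inf_le_left fun h3 => by
      rw [← h3] at he
      exact Φ.eps_ne (hfe ▸ he.2)
    have := Submodule.finrank_lt_finrank_of_lt h2
    omega

theorem Swap.combine {U U' A A' W W' : Submodule F V} (hU : Φ.TS U) (hU' : Φ.TS U')
    (hA : A ≤ U) (hA' : A' ≤ U') (hW : W ≤ U) (hW' : W' ≤ U')
    (h1 : ∀ x ∈ U, ∃ a ∈ A, x - a ∈ W) (h2 : ∀ x ∈ U', ∃ a ∈ A', x - a ∈ W')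
    (h3 : ∀ a ∈ A, ∀ y ∈ W', Φ.B a y = 0) (h4 : ∀ a ∈ A', ∀ y ∈ W, Φ.B a y = 0)
    (hs : Φ.Swap A A') (ht : Φ.Swap W W') : Φ.Swap U U' := by
  obtain ⟨s, hs, s1, s2, s3⟩ := hs
  obtain ⟨t, ht, t1, t2, t3⟩ := ht
  refine ⟨s * t, Φ.EG.mul_mem hs ht, fun x hx => ?_, fun x hx => ?_, fun v h5 h6 => ?_⟩
  · obtain ⟨a, ha, hw⟩ := h1 x hx
    rw [show x = a + (x - a) by abel, mul_app, map_add, map_add,
      t3 a (fun y hy => hU.2 y (hW hy) a (hA ha)) (fun y hy => Φ.perp_symm (h3 a ha y hy)),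
      s3 _ (fun y hy => h3 y hy _ (t1 _ hw)) (fun y hy => hU'.2 y (hA' hy) _ (hW' (t1 _ hw)))]
    exact U'.add_mem (hA' (s1 a ha)) (hW' (t1 _ hw))
  · obtain ⟨a, ha, hw⟩ := h2 x hx
    rw [show x = a + (x - a) by abel, mul_app, map_add, map_add,
      t3 a (fun y hy => Φ.perp_symm (h4 a ha y hy)) (fun y hy => hU'.2 y (hW' hy) a (hA' ha)),
      s3 _ (fun y hy => hU.2 y (hA hy) _ (hW (t2 _ hw))) (fun y hy => h4 y hy _ (t2 _ hw))]
    exact U.add_mem (hA (s2 a ha)) (hW (t2 _ hw))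
  · rw [mul_app, t3 v (fun y hy => h5 y (hW hy)) (fun y hy => h6 y (hW' hy)),
      s3 v (fun y hy => h5 y (hA hy)) (fun y hy => h6 y (hA' hy))]

theorem swap_one {e f : V} (he : Φ.Q e = 0) (hf : Φ.Q f = 0) (hef : Φ.B e f = 1) {c : F}
    (hc : c ≠ 0) (hc' : Φ.π c = 0) :
    Φ.Swap (Submodule.span F {e}) (Submodule.span F {f}) := by
  have hfe := B_eq_eps hef
  have h1 := Φ.lam_trace hc'
  have h2 : Φ.σ c = -(Φ.ε * c) := by linear_combination Φ.ε * h1 - Φ.σ c * Φ.eps_sq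
  have hε := Φ.eps_ne
  have hε2 := Φ.eps_sq
  have h3 : Φ.π (-(Φ.ε * c⁻¹)) = 0 := by
    have := Φ.π_norm c⁻¹ c
    rw [hc', mul_zero, map_inv₀, h2] at this
    convert this using 2
    field_simp
    linear_combination -Φ.eps_sq
  have v1 : Φ.Valid e 0 c := ⟨he, map_zero _, by rw [hc', Φ.Q_zero]⟩
  have v2 : Φ.Valid f 0 (-(Φ.ε * c⁻¹)) := ⟨hf, map_zero _, by rw [h3, Φ.Q_zero]⟩
  refine ⟨v1.eich * v2.eich * v1.eich, Φ.EG.mul_mem (Φ.EG.mul_mem v1.eich_mem v2.eich_mem)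
    v1.eich_mem, fun x hx => ?_, fun x hx => ?_, fun v h5 h6 => ?_⟩
  · obtain ⟨t, rfl⟩ := Submodule.mem_span_singleton.1 hx
    refine Submodule.mem_span_singleton.2 ⟨t * (Φ.ε * c⁻¹), ?_⟩
    simp only [mul_app, Valid.eich_apply, ef, Φ.bsimp, hef, hfe, Φ.B_self he]
    match_scalars <;> grind
  · obtain ⟨t, rfl⟩ := Submodule.mem_span_singleton.1 hx
    refine Submodule.mem_span_singleton.2 ⟨-(t * (Φ.ε * c)), ?_⟩
    simp only [mul_app, Valid.eich_apply, ef, Φ.bsimp, hef, hfe, Φ.B_self he, Φ.B_self hf]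
    match_scalars <;> grind
  · have h7 := h5 e (Submodule.mem_span_singleton_self e)
    have h8 := h6 f (Submodule.mem_span_singleton_self f)
    have h9 : Φ.B 0 v = 0 := by simp
    simp only [mul_app, Valid.eich_apply, ef_apply_of_perp h7 h9, ef_apply_of_perp h8 h9]

theorem swap_two {e₁ e₂ f₁ f₂ : V} (q₁ : Φ.Q e₁ = 0) (q₂ : Φ.Q e₂ = 0) (r₁ : Φ.Q f₁ = 0)
    (r₂ : Φ.Q f₂ = 0) (h₁ : Φ.B e₁ f₁ = 1) (h₂ : Φ.B e₂ f₂ = 1) (ee : Φ.B e₁ e₂ = 0)
    (ff : Φ.B f₁ f₂ = 0) (ef₁ : Φ.B e₁ f₂ = 0) (fe₁ : Φ.B f₁ e₂ = 0) :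
    Φ.Swap (Submodule.span F {e₁, e₂}) (Submodule.span F {f₁, f₂}) := by
  have v1 := valid_zero q₁ ee q₂
  have v2 := valid_zero r₁ ff r₂
  have hε2 := Φ.eps_sq
  refine ⟨v1.eich * v2.eich * v1.eich, Φ.EG.mul_mem (Φ.EG.mul_mem v1.eich_mem v2.eich_mem)
    v1.eich_mem, fun x hx => ?_, fun x hx => ?_, fun v h5 h6 => ?_⟩
  · obtain ⟨s, t, rfl⟩ := Submodule.mem_span_pair.1 hx
    refine Submodule.mem_span_pair.2 ⟨-t, s * Φ.ε, ?_⟩
    simp only [mul_app, Valid.eich_apply, ef, Φ.bsimp, h₁, h₂, B_eq_eps h₁, B_eq_eps h₂,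
      Φ.B_self q₁, Φ.B_self q₂, ee, ef₁, fe₁, Φ.perp_symm ee, Φ.perp_symm ef₁, Φ.perp_symm fe₁]
    match_scalars <;> grind
  · obtain ⟨s, t, rfl⟩ := Submodule.mem_span_pair.1 hx
    refine Submodule.mem_span_pair.2 ⟨-(t * Φ.ε), s, ?_⟩
    simp only [mul_app, Valid.eich_apply, ef, Φ.bsimp, h₁, h₂, B_eq_eps h₁, B_eq_eps h₂,
      Φ.B_self q₁, Φ.B_self q₂, Φ.B_self r₁, Φ.B_self r₂, ee, ff, ef₁, fe₁, Φ.perp_symm ee,
      Φ.perp_symm ff, Φ.perp_symm ef₁, Φ.perp_symm fe₁]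
    match_scalars <;> grind
  · have h7 := h5 e₁ (Submodule.subset_span (by simp))
    have h8 := h5 e₂ (Submodule.subset_span (by simp))
    have h9 := h6 f₁ (Submodule.subset_span (by simp))
    have h10 := h6 f₂ (Submodule.subset_span (by simp))
    simp only [mul_app, Valid.eich_apply, ef_apply_of_perp h7 h8, ef_apply_of_perp h9 h10]

theorem DualPair.swap [FiniteDimensional F V] (k : ℕ) {U U' : Submodule F V} (h : Φ.DualPair U U')
    (hk : finrank F U = k) (hΛ : (∃ c, c ≠ 0 ∧ Φ.π c = 0) ∨ Even k) : Φ.Swap U U' := by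
  induction k using Nat.strong_induction_on generalizing U U' with
  | _ k ih =>
  rcases Nat.eq_zero_or_pos k with rfl | h0
  · have h1 : U = ⊥ := Submodule.finrank_eq_zero.1 hk
    subst h1
    refine ⟨1, Φ.EG.one_mem, fun x hx => ?_, fun y hy => ?_, fun _ _ _ => rfl⟩
    · rw [(Submodule.mem_bot F).1 hx]; exact U'.zero_mem
    · exact h.nd' y hy fun x hx => by rw [(Submodule.mem_bot F).1 hx]; simp
  obtain ⟨e, he, f, hf, hef, h1, h2⟩ := h.split (by omega)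
  have hfe := B_eq_eps hef
  have hε := Φ.eps_sq
  rcases hΛ with ⟨c, hc, hc'⟩ | hk2
  · refine Swap.combine h.ts h.ts' ((Submodule.span_singleton_le_iff_mem _ _).2 he)
      ((Submodule.span_singleton_le_iff_mem _ _).2 hf) inf_le_left inf_le_left
      (fun x hx => ⟨(Φ.ε * Φ.B f x) • e, Submodule.smul_mem _ _ (Submodule.mem_span_singleton_self e),
        U.sub_mem hx (U.smul_mem _ he), ?_⟩)
      (fun x hx => ⟨Φ.B e x • f, Submodule.smul_mem _ _ (Submodule.mem_span_singleton_self f),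
        U'.sub_mem hx (U'.smul_mem _ hf), by simp [hef]⟩) (fun a ha y hy => ?_) (fun a ha y hy => ?_)
      (swap_one (h.ts.1 e he) (h.ts'.1 f hf) hef hc hc')
      (ih _ (by omega) h1 rfl (Or.inl ⟨c, hc, hc'⟩))
    · simp only [SetLike.mem_coe, LinearMap.mem_ker, Φ.bsimp, hfe]
      grind
    · obtain ⟨t, rfl⟩ := Submodule.mem_span_singleton.1 ha
      rw [Φ.B_smul_left, show Φ.B e y = 0 from hy.2, mul_zero]
    · obtain ⟨t, rfl⟩ := Submodule.mem_span_singleton.1 ha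
      rw [Φ.B_smul_left, show Φ.B f y = 0 from hy.2, mul_zero]
  obtain ⟨e', he', f', hf', hef', h3, h4⟩ := h1.split (by
    obtain ⟨r, hr⟩ := hk2
    omega)
  have hfe' := B_eq_eps hef'
  have h5 : Φ.B f e' = 0 := he'.2
  have h6 : Φ.B e f' = 0 := hf'.2
  refine Swap.combine (A := Submodule.span F {e, e'}) (A' := Submodule.span F {f, f'}) h.ts h.ts'
    (Submodule.span_le.2 (by rintro _ (rfl | rfl); exacts [he, he'.1]))
    (Submodule.span_le.2 (by rintro _ (rfl | rfl); exacts [hf, hf'.1]))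
    (inf_le_left.trans inf_le_left) (inf_le_left.trans inf_le_left)
    (fun x hx => ⟨(Φ.ε * Φ.B f x) • e + (Φ.ε * Φ.B f' x) • e',
      Submodule.mem_span_pair.2 ⟨_, _, rfl⟩,
      ⟨U.sub_mem hx (U.add_mem (U.smul_mem _ he) (U.smul_mem _ he'.1)), ?_⟩, ?_⟩)
    (fun x hx => ⟨Φ.B e x • f + Φ.B e' x • f', Submodule.mem_span_pair.2 ⟨_, _, rfl⟩,
      ⟨U'.sub_mem hx (U'.add_mem (U'.smul_mem _ hf) (U'.smul_mem _ hf'.1)), by simp [hef, h6]⟩,
      by simp [hef', Φ.perp_symm h5]⟩) (fun a ha y hy => ?_) (fun a ha y hy => ?_)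
    (swap_two (h.ts.1 e he) (h.ts.1 e' he'.1) (h.ts'.1 f hf) (h.ts'.1 f' hf'.1) hef hef'
      (h.ts.2 e he e' he'.1) (h.ts'.2 f hf f' hf'.1) h6 h5)
    (ih _ (by omega) h3 rfl (Or.inr (by
      obtain ⟨r, hr⟩ := hk2
      exact ⟨r - 1, by omega⟩)))
  · simp only [SetLike.mem_coe, LinearMap.mem_ker, Φ.bsimp, hfe, h5]
    grind
  · simp only [SetLike.mem_coe, LinearMap.mem_ker, Φ.bsimp, hfe', Φ.perp_symm h6]
    grind
  · obtain ⟨s, t, rfl⟩ := Submodule.mem_span_pair.1 ha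
    simp only [Φ.bsimp, show Φ.B e y = 0 from hy.1.2, show Φ.B e' y = 0 from hy.2]
    ring
  · obtain ⟨s, t, rfl⟩ := Submodule.mem_span_pair.1 ha
    simp only [Φ.bsimp, show Φ.B f y = 0 from hy.1.2, show Φ.B f' y = 0 from hy.2]
    ring

/-! ### Complementary totally singular subspaces -/

variable (Φ) in
/-- Two complementary totally singular subspaces. -/
structure TsPair (U U' : Submodule F V) : Prop where
  ts : Φ.TS U
  ts' : Φ.TS U'
  sup : ∀ v, ∃ x ∈ U, ∃ y ∈ U', v = x + y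

namespace TsPair

variable {U U' : Submodule F V}

theorem symm (h : Φ.TsPair U U') : Φ.TsPair U' U :=
  ⟨h.ts', h.ts, fun v => let ⟨x, hx, y, hy, e⟩ := h.sup v; ⟨y, hy, x, hx, by rw [e, add_comm]⟩⟩

theorem nd (h : Φ.TsPair U U') {x : V} (hx : x ∈ U) (h1 : ∀ y ∈ U', Φ.B x y = 0) : x = 0 :=
  Φ.nondeg x fun v => by
    obtain ⟨a, ha, b, hb, rfl⟩ := h.sup v
    rw [map_add, h.ts.2 x hx a ha, h1 b hb, add_zero]

theorem dualPair (h : Φ.TsPair U U') : Φ.DualPair U U' :=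
  ⟨h.ts, h.ts', fun _ hx => h.nd hx, fun _ hy h1 =>
    h.symm.nd hy fun x hx => Φ.perp_symm (h1 x hx)⟩

theorem eq_zero (h : Φ.TsPair U U') {x : V} (hx : x ∈ U) (hx' : x ∈ U') : x = 0 :=
  h.nd hx fun y hy => h.ts'.2 x hx' y hy

theorem valid (h : Φ.TsPair U U') {e w : V} (he : e ∈ U) (hw : w ∈ U') (hew : Φ.B e w = 0) :
    Φ.Valid e w 0 := valid_zero (h.ts.1 e he) hew (h.ts'.1 w hw)

variable [FiniteDimensional F V]

theorem finrank_eq (h : Φ.TsPair U U') : finrank F U' = finrank F U := by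
  have h1 := h.ts.two_mul_le
  have h2 := h.ts'.two_mul_le
  have h3 := Submodule.finrank_sup_add_finrank_inf_eq U U'
  have h4 : U ⊔ U' = ⊤ := eq_top_iff.2 fun v _ => by
    obtain ⟨a, ha, b, hb, rfl⟩ := h.sup v
    exact Submodule.add_mem_sup ha hb
  rw [h4, finrank_top] at h3
  omega

/-- Duality between `U` and `U'`. -/
theorem exists_dual (h : Φ.TsPair U U') {X : Submodule F V} (hX : X ≤ U) {u : V} (hu : u ∈ U)
    (hu' : u ∉ X) : ∃ f ∈ U', (∀ x ∈ X, Φ.B f x = 0) ∧ Φ.B f u = 1 := by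
  obtain ⟨y, hy, hy'⟩ := Φ.exists_perp_not_perp hu'
  obtain ⟨a, ha, b, hb, rfl⟩ := h.sup y
  refine ⟨b, hb, fun x hx => ?_, ?_⟩
  · have := Φ.perp_symm (hy x hx)
    rwa [Φ.B_add_left, h.ts.2 a ha x (hX hx), zero_add] at this
  · rwa [Φ.B_add_left, h.ts.2 a ha u hu, zero_add] at hy'

theorem exists_dual₁ (h : Φ.TsPair U U') {x u : V} (hx : x ∈ U) (hu : u ∈ U)
    (hu' : u ∉ Submodule.span F {x}) : ∃ f ∈ U', Φ.B f x = 0 ∧ Φ.B f u = 1 := by
  obtain ⟨f, hf, h1, h2⟩ := h.exists_dual ((Submodule.span_singleton_le_iff_mem _ _).2 hx) hu hu'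
  exact ⟨f, hf, h1 x (Submodule.mem_span_singleton_self x), h2⟩

theorem eich_mem (h : Φ.TsPair U U') {e w : V} (he : e ∈ U) (hw : w ∈ U') (hew : Φ.B e w = 0) :
    (h.valid he hw hew).eich ∈ stabPair U U' ⊓ Φ.EG := by
  refine ⟨Or.inl ⟨mem_stab_of_mapsTo fun x hx => ?_, mem_stab_of_mapsTo fun x hx => ?_⟩,
    Valid.eich_mem _⟩
  · rw [Valid.eich_apply, ef_apply_of_perp' (h.ts.2 e he x hx)]
    exact U.sub_mem hx (U.smul_mem _ he)
  · rw [Valid.eich_apply, ef_symm, ef_apply_of_perp' (h.ts'.2 w hw x hx)]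
    exact U'.sub_mem hx (U'.smul_mem _ hw)

variable (h : Φ.TsPair U U') (hM : stabPair U U' ⊓ Φ.EG ≤ M)
include h hM

theorem hasE {e w : V} (he : e ∈ U) (hw : w ∈ U') (hew : Φ.B e w = 0) : Φ.HasE M e w 0 :=
  ⟨_, hM (h.eich_mem he hw hew), fun _ => rfl⟩

/-- Moving a vector of `U` inside `U`. -/
theorem exists_move {x y : V} (hx : x ∈ U) (hy : y ∈ U) (hxy : x ∉ Submodule.span F {y}) :
    ∃ g ∈ M, g ∈ Φ.Iso ∧ g x = x + y := by
  obtain ⟨f, hf, h1, h2⟩ := h.exists_dual₁ hy hx hxy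
  have h3 : Φ.B (-(Φ.ε • y)) f = 0 := by simp only [Φ.bsimp, Φ.perp_symm h1]; ring
  have he := U.neg_mem (U.smul_mem Φ.ε hy)
  refine ⟨_, hM (h.eich_mem he hf h3), Φ.EG_le_Iso (Valid.eich_mem _), ?_⟩
  rw [Valid.eich_apply, ef_apply_of_perp' (h.ts.2 _ he x hx), h2]
  have := Φ.eps_sq
  match_scalars <;> grind

theorem hasE_of_comm {w u y : V} (hw : w ∈ U) (hu : u ∈ U) (hy : y ∈ U)
    (h1 : u ∉ Submodule.span F {w, y}) (h2 : Φ.HasE M w u 0) : Φ.HasE M w y 0 := by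
  obtain ⟨f, hf, h3, h4⟩ := h.exists_dual (X := Submodule.span F {w, y})
    (Submodule.span_le.2 (by rintro _ (rfl | rfl); exacts [hw, hy])) hu h1
  have h5 : Φ.B f w = 0 := h3 w (Submodule.subset_span (by simp))
  have h6 : Φ.B f y = 0 := h3 y (Submodule.subset_span (by simp))
  have he := U.neg_mem (U.smul_mem Φ.ε hy)
  have h7 : Φ.B (-(Φ.ε • y)) f = 0 := by simp only [Φ.bsimp, Φ.perp_symm h6]; ring
  have h8 := h2.conj (hM (h.eich_mem he hf h7)) (Φ.EG_le_Iso (Valid.eich_mem _))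
  rw [Valid.eich_apply, Valid.eich_apply, ef_apply_of_perp (h.ts.2 _ he w hw) h5,
    ef_apply_of_perp' (h.ts.2 _ he u hu), h4] at h8
  have e1 : u - (Φ.ε * 1) • -(Φ.ε • y) = u + y := by
    have := Φ.eps_sq
    match_scalars <;> grind
  rw [e1] at h8
  have v1 : ∀ z ∈ U, Φ.Valid w z 0 := fun z hz =>
    valid_zero (h.ts.1 w hw) (h.ts.2 w hw z hz) (h.ts.1 z hz)
  have := h8.sub (v1 _ (U.add_mem hu hy)) (v1 u hu) h2
  rwa [add_sub_cancel_left, h.ts.2 _ (U.sub_mem hu (U.add_mem hu hy)) u hu, sub_zero,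
    add_zero] at this

theorem hasE_of_siegel (hk : 3 ≤ finrank F U) {w u : V} (hw : w ∈ U) (hu : u ∈ U)
    (h1 : u ∉ Submodule.span F {w}) (h2 : Φ.HasE M w u 0) {y : V} (hy : y ∈ U) :
    Φ.HasE M w y 0 := by
  by_cases h3 : u ∈ Submodule.span F {w, y}
  swap
  · exact h.hasE_of_comm hM hw hu hy h3 h2
  obtain ⟨z, hz, hz'⟩ : ∃ z ∈ U, z ∉ Submodule.span F {w, u} := by
    by_contra hc
    push Not at hc
    have := (Submodule.finrank_mono (show U ≤ _ from hc)).trans (finrank_span_pair_le_two w u)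
    omega
  have key : ∀ y' ∈ Submodule.span F {w, u}, u ∉ Submodule.span F {w, y' + z} := by
    intro y' hy' hc
    obtain ⟨s, t, e⟩ := Submodule.mem_span_pair.1 hc
    by_cases ht : t = 0
    · exact h1 (Submodule.mem_span_singleton.2 ⟨s, by rw [← e, ht]; simp⟩)
    · apply hz'
      have : z = t⁻¹ • (u - s • w) - y' := by
        rw [← e]
        match_scalars <;> field_simp <;> ring
      rw [this]
      exact Submodule.sub_mem _ (Submodule.smul_mem _ _ (Submodule.sub_mem _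
        (Submodule.subset_span (by simp)) (Submodule.smul_mem _ _
        (Submodule.subset_span (by simp))))) hy'
  have hy' : y ∈ Submodule.span F {w, u} := by
    obtain ⟨s, t, e⟩ := Submodule.mem_span_pair.1 h3
    have ht : t ≠ 0 := fun ht =>
      h1 (Submodule.mem_span_singleton.2 ⟨s, by rw [← e, ht]; simp⟩)
    refine Submodule.mem_span_pair.2 ⟨-(s / t), t⁻¹, ?_⟩
    rw [← e]
    match_scalars <;> field_simp
    ring
  have v1 : ∀ z ∈ U, Φ.Valid w z 0 := fun z hz =>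
    valid_zero (h.ts.1 w hw) (h.ts.2 w hw z hz) (h.ts.1 z hz)
  have h4 := h.hasE_of_comm hM hw hu (U.add_mem hy hz) (key y hy') h2
  have h5 := h.hasE_of_comm hM hw hu hz (by simpa using key 0 (Submodule.zero_mem _)) h2
  have := h4.sub (v1 _ (U.add_mem hy hz)) (v1 z hz) h5
  rwa [add_sub_cancel_right, h.ts.2 _ (U.sub_mem hz (U.add_mem hy hz)) z hz, sub_zero,
    add_zero] at this

theorem EG_le_of_full {s : V ≃ₗ[F] V} (hs : s ∈ M) (hI : s ∈ Φ.Iso) (hs' : ∀ x ∈ U, s x ∈ U')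
    {w : V} (hw : w ∈ U) (hw0 : w ≠ 0) (hF : Φ.Full M w) : Φ.EG ≤ M := by
  have h1 := hF.conj hs hI
  have h2 := hs' w hw
  by_cases h3 : Φ.B w (s w) = 0
  swap
  · exact Fm.EG_le_of_full hF h1 (h.ts.1 w hw) (h.ts'.1 _ h2) h3
  obtain ⟨e, he, he'⟩ : ∃ e ∈ U, Φ.B (s w) e ≠ 0 := by
    by_contra hc
    push Not at hc
    exact hw0 (s.injective (by rw [h.symm.nd h2 hc, map_zero]))
  obtain ⟨g, hg, hgI, e1⟩ := h.exists_move hM hw he (fun hc => by
    obtain ⟨t, rfl⟩ := Submodule.mem_span_singleton.1 hc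
    have ht : t ≠ 0 := fun ht => hw0 (by rw [ht, zero_smul])
    rw [Φ.B_smul_left, mul_eq_zero, Φ.σ_eq_zero] at h3
    exact he' (Φ.perp_symm (h3.resolve_left ht)))
  refine Fm.EG_le_of_full h1 (e1 ▸ hF.conj hg hgI) (h.ts'.1 _ h2) (h.ts.1 _ (U.add_mem hw he)) ?_
  rwa [map_add, Φ.perp_symm h3, zero_add]

variable (hΛ : ∀ c, Φ.π c = 0 → ∃ t, c = Φ.σ t - Φ.ε * t) (hsw : Φ.Swap U U')
  (hk : 3 ≤ finrank F U)
include hΛ hsw hk

theorem EG_le_of_siegel {w u : V} (hw : w ∈ U) (hw0 : w ≠ 0) (hu : u ∈ U)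
    (h1 : u ∉ Submodule.span F {w}) (h2 : Φ.HasE M w u 0) : Φ.EG ≤ M := by
  obtain ⟨s, hs, s1, s2, -⟩ := hsw
  refine h.EG_le_of_full hM (hM ⟨mem_stabPair_of_swap s1 s2, hs⟩) (Φ.EG_le_Iso hs) s1 hw hw0
    fun v c hv => InA.hasE ?_ (fun c hc => ?_) hv
  · obtain ⟨x, hx, y, hy, rfl⟩ := h.sup v
    have h3 : Φ.B w y = 0 := by
      have := hv.perp
      rwa [map_add, h.ts.2 w hw x hx, zero_add] at this
    exact InA.add ⟨0, valid_zero (h.ts.1 w hw) (h.ts.2 w hw x hx) (h.ts.1 x hx),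
      h.hasE_of_siegel hM hk hw hu h1 h2 hx⟩ ⟨0, h.valid hw hy h3, h.hasE hM hw hy h3⟩
  · obtain ⟨t, rfl⟩ := hΛ c hc
    obtain ⟨g, hg, e⟩ := h.hasE_of_siegel hM hk hw hu h1 h2 (U.smul_mem t hw)
    refine ⟨g, hg, fun x => ?_⟩
    have := ef_add_smul (Φ := Φ) w 0 t 0 x
    rw [zero_add, zero_add] at this
    rw [e, this]

theorem EG_le_of_tv {w : V} (hw : w ∈ U) (hw0 : w ≠ 0) {c : F} (hc : c ≠ 0) (hc' : Φ.π c = 0)
    (h2 : Φ.HasE M w 0 c) : Φ.EG ≤ M := by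
  obtain ⟨y, hy, hy'⟩ : ∃ z ∈ U, z ∉ Submodule.span F {w} := by
    by_contra hc
    push Not at hc
    have := (Submodule.finrank_mono (show U ≤ _ from hc)).trans (finrank_span_le_card ({w} : Set V))
    simp only [Set.toFinset_singleton, Finset.card_singleton] at this
    omega
  have h3 : w ∉ Submodule.span F {y} := fun h3 => by
    obtain ⟨t, rfl⟩ := Submodule.mem_span_singleton.1 h3
    have ht : t ≠ 0 := fun ht => hw0 (by rw [ht, zero_smul])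
    exact hy' (Submodule.mem_span_singleton.2 ⟨t⁻¹, by rw [smul_smul, inv_mul_cancel₀ ht, one_smul]⟩)
  obtain ⟨g, hg, hI, e1⟩ := h.exists_move hM hw hy h3
  obtain ⟨g', hg', hI', e2⟩ := h.exists_move hM (U.add_mem hw hy) (U.neg_mem hw) (fun h4 => by
    obtain ⟨t, ht⟩ := Submodule.mem_span_singleton.1 h4
    exact hy' (Submodule.mem_span_singleton.2 ⟨-t - 1, by
      rw [← add_sub_cancel_left w y, ← ht]; module⟩))
  have h4 := h2.conj hg hI
  rw [e1, map_zero] at h4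
  have h5 := h4.conj hg' hI'
  rw [e2, map_zero, show w + y + -w = y by abel] at h5
  have h6 := (hasE_add_center (h.ts.1 w hw) (h.ts.1 y hy) (h.ts.2 w hw y hy) hc' h4 h2).1 h5
  refine h.EG_le_of_siegel hM hΛ hsw hk hw hw0 (U.smul_mem _ hy) (fun h7 => hy' ?_) h6
  rwa [Submodule.smul_mem_iff _ (neg_ne_zero.2 (mul_ne_zero Φ.eps_ne hc))] at h7

/-- The basic commutator computation. -/
theorem step {a₁ a₂ b e w : V} (ha₁ : a₁ ∈ U') (ha₂ : a₂ ∈ U) (ha0 : a₂ ≠ 0)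
    (hv : Φ.Valid (a₁ + a₂) b 0) (hab : ∀ s : F, Φ.HasE M (a₁ + a₂) (s • b) 0) (he : e ∈ U')
    (hw : w ∈ U) (hw0 : w ≠ 0) (hew : Φ.B e w = 0) (hea : Φ.B e a₂ = 0) (hwa : Φ.B w a₁ = 0)
    (hwb : Φ.B w b = 0) (heb : Φ.B e b ≠ 0)
    (h1 : (∃ c, c ≠ 0 ∧ Φ.π c = 0) ∨ a₂ ∉ Submodule.span F {w}) : Φ.EG ≤ M := by
  have hM' : stabPair U' U ⊓ Φ.EG ≤ M := by rwa [stabPair_comm]
  have hg := h.symm.eich_mem he hw hew
  have h2 : Φ.B e (a₁ + a₂) = 0 := by rw [map_add, h.ts'.2 e he a₁ ha₁, hea, add_zero]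
  have h3 : Φ.B w (a₁ + a₂) = 0 := by rw [map_add, h.ts.2 w hw a₂ ha₂, hwa, add_zero]
  have key : ∀ s : F, Φ.HasE M (s • w) (-(Φ.ε • a₂)) (-Φ.B a₂ a₁) := fun s => by
    have h4 := hab (s / Φ.B e b)
    have h5 := h4.conj (hM' hg) (Φ.EG_le_Iso hg.2)
    rw [Valid.eich_apply, Valid.eich_apply, ef_apply_of_perp h2 h3] at h5
    have e1 : Φ.ef e w 0 ((s / Φ.B e b) • b) = (s / Φ.B e b) • b + s • w := by
      simp only [ef, Φ.bsimp, hwb]
      match_scalars <;> field_simp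
      ring
    have v1 : Φ.Valid (a₁ + a₂) ((s / Φ.B e b) • b) 0 := by simpa using hv.smul (s / Φ.B e b)
    have v2 : Φ.Valid (a₁ + a₂) (s • w) 0 := valid_zero hv.sing
      (by rw [Φ.B_smul_right, Φ.perp_symm h3, mul_zero]) (h.ts.1 _ (U.smul_mem s hw))
    have h6 : Φ.B ((s / Φ.B e b) • b) (s • w) = 0 := by
      simp only [Φ.bsimp, Φ.perp_symm hwb]; ring
    have v3 := v1.add v2
    rw [h6, add_zero, add_zero] at v3
    rw [e1] at h5
    have h7 := h5.sub v3 v1 h4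
    rw [add_sub_cancel_left, sub_add_cancel_left, Φ.B_neg_left, Φ.perp_symm h6, neg_zero, sub_zero,
      add_zero, hasE_symm] at h7
    have h8 : Φ.B (s • w) (-(Φ.ε • a₁)) = 0 := by simp only [Φ.bsimp, hwa]; ring
    have h9 := U'.neg_mem (U'.smul_mem Φ.ε ha₁)
    have v4 : Φ.Valid (s • w) (-(Φ.ε • (a₁ + a₂))) 0 := valid_zero (h.ts.1 _ (U.smul_mem s hw))
      (by simp only [Φ.bsimp, hwa, h.ts.2 w hw a₂ ha₂]; ring)
      (by rw [Φ.Q_neg, Φ.Q_smul_zero hv.sing])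
    have h10 := h7.sub v4 (h.valid (U.smul_mem s hw) h9 h8) (h.hasE hM (U.smul_mem s hw) h9 h8)
    have e2 : -(Φ.ε • (a₁ + a₂)) - -(Φ.ε • a₁) = -(Φ.ε • a₂) := by module
    have e3 : -(Φ.ε • a₁) - -(Φ.ε • (a₁ + a₂)) = Φ.ε • a₂ := by module
    rw [e2, e3, sub_zero, zero_add] at h10
    convert h10 using 1
    simp only [Φ.bsimp]
    linear_combination (Φ.B a₂ a₁) * Φ.eps_sq
  by_cases h4 : a₂ ∈ Submodule.span F {w}
  · obtain ⟨c, hc, hc'⟩ := h1.resolve_right (not_not.2 h4)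
    obtain ⟨t, rfl⟩ := Submodule.mem_span_singleton.1 h4
    have ht : t ≠ 0 := fun ht => ha0 (by rw [ht, zero_smul])
    obtain ⟨r, rfl⟩ := hΛ c hc'
    have h5 := key (Φ.σ (-(Φ.ε * r / t)))
    rw [hasE_smul_left, Φ.B_smul_left, hwa, mul_zero, neg_zero, mul_zero, Φ.invol] at h5
    have e1 : -(Φ.ε * r / t) • -(Φ.ε • t • w) = 0 + r • w := by
      have := Φ.eps_sq
      match_scalars
      grind
    obtain ⟨g, hg, e2⟩ := h5
    refine h.EG_le_of_tv hM hΛ hsw hk hw hw0 hc hc' ⟨g, hg, fun x => ?_⟩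
    rw [e2, e1, ef_add_smul, zero_add]
  · have h5 : Φ.π (-Φ.B a₂ a₁) = 0 := by
      have := hv.sing
      rw [add_comm, Φ.add, h.ts.1 a₂ ha₂, h.ts'.1 a₁ ha₁, zero_add, zero_add] at this
      rw [map_neg, this, neg_zero]
    obtain ⟨r, hr⟩ := hΛ _ h5
    obtain ⟨g, hg, e2⟩ := key 1
    refine h.EG_le_of_siegel hM hΛ hsw hk hw hw0
      (U.add_mem (U.neg_mem (U.smul_mem Φ.ε ha₂)) (U.smul_mem r hw)) (fun h6 => h4 ?_)
      ⟨g, hg, fun x => by rw [e2, ef_add_smul, hr, one_smul, zero_add]⟩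
    rwa [Submodule.add_mem_iff_left _ (Submodule.smul_mem _ _ (Submodule.mem_span_singleton_self w)),
      neg_mem_iff, Submodule.smul_mem_iff _ Φ.eps_ne] at h6

theorem step_of_four (h4 : ((∃ c, c ≠ 0 ∧ Φ.π c = 0) ∧ 4 ≤ finrank F U) ∨ 5 ≤ finrank F U)
    {a₁ a₂ b₁ b₂ : V} (ha₁ : a₁ ∈ U') (ha₂ : a₂ ∈ U) (hb₁ : b₁ ∈ U') (hb₂ : b₂ ∈ U) (ha0 : a₂ ≠ 0)
    (hv : Φ.Valid (a₁ + a₂) (b₁ + b₂) 0) (hab : ∀ s : F, Φ.HasE M (a₁ + a₂) (s • (b₁ + b₂)) 0)
    (hb : b₂ ∉ Submodule.span F {a₂}) : Φ.EG ≤ M := by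
  obtain ⟨e, he, h1, h2⟩ := h.exists_dual₁ ha₂ hb₂ hb
  obtain ⟨w, hw, hw0, h3, h5, h6, h7⟩ : ∃ w ∈ U, w ≠ 0 ∧ Φ.B a₁ w = 0 ∧ Φ.B b₁ w = 0 ∧
      Φ.B e w = 0 ∧ ((∃ c, c ≠ 0 ∧ Φ.π c = 0) ∨ a₂ ∉ Submodule.span F {w}) := by
    rcases h4 with h4 | h4
    · obtain ⟨w, hw, hw0, h3⟩ := exists_ne_zero_ker [Φ.B a₁, Φ.B b₁, Φ.B e] U (by simp; omega)
      exact ⟨w, hw, hw0, h3 _ (by simp), h3 _ (by simp), h3 _ (by simp), Or.inl h4.1⟩
    · obtain ⟨φ, -, hφ⟩ := exists_dual_one (⊥ : Submodule F V) (u := a₂) ha0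
      obtain ⟨w, hw, hw0, h3⟩ := exists_ne_zero_ker [Φ.B a₁, Φ.B b₁, Φ.B e, φ] U (by simp; omega)
      refine ⟨w, hw, hw0, h3 _ (by simp), h3 _ (by simp), h3 _ (by simp), Or.inr fun hc => ?_⟩
      obtain ⟨t, rfl⟩ := Submodule.mem_span_singleton.1 hc
      rw [map_smul, h3 φ (by simp), smul_zero] at hφ
      exact zero_ne_one hφ
  refine h.step hM hΛ hsw hk ha₁ ha₂ ha0 hv hab he hw hw0 h6 h1 (Φ.perp_symm h3) ?_ ?_ h7
  · rw [map_add, Φ.perp_symm h5, h.ts.2 w hw b₂ hb₂, add_zero]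
  · rw [map_add, h.ts'.2 e he b₁ hb₁, h2, zero_add]
    exact one_ne_zero

end TsPair

theorem Swap.symm {U U' : Submodule F V} (h : Φ.Swap U U') : Φ.Swap U' U :=
  let ⟨g, hg, h1, h2, h3⟩ := h
  ⟨g, hg, h2, h1, fun v h4 h5 => h3 v h5 h4⟩

variable [FiniteDimensional F V] {U U' : Submodule F V}

/-- Reduction of the maximality of the stabiliser of a pair to a statement on single vectors. -/
theorem TsPair.isMaximalIn_of_key (h : Φ.TsPair U U') (hk : 2 ≤ finrank F U)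
    (key : ∀ M : Subgroup (V ≃ₗ[F] V), stabPair U U' ⊓ Φ.EG ≤ M → M ≤ Φ.EG → ¬ Φ.EG ≤ M →
      ∀ g ∈ M, ∀ v, v ∈ U ∨ v ∈ U' → g v ∈ U ∨ g v ∈ U') :
    Geo.IsMaximalIn Φ.EG (stabPair U U' ⊓ Φ.EG) := by
  have hsup : ∀ W : Submodule F V, (W = U ∨ W = U') → ∀ g : V ≃ₗ[F] V, (∀ v ∈ U, g v ∈ W) →
      (∀ v ∈ U', g v ∈ W) → False := by
    intro W hW g h1 h2
    have h3 : W = ⊤ := eq_top_iff.2 fun v _ => by
      obtain ⟨x, hx, y, hy, e⟩ := h.sup (g⁻¹ v)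
      rw [← app_inv_app g v, e, map_add]
      exact W.add_mem (h1 x hx) (h2 y hy)
    have h4 := h.ts.two_mul_le
    have h5 := h.finrank_eq
    have h6 : finrank F W = finrank F V := by rw [h3, finrank_top]
    rcases hW with rfl | rfl <;> omega
  refine isMaximalIn_of inf_le_right ?_ fun M h1 h2 g hg hg' => ?_
  · obtain ⟨e, he, f, hf, hef, -, h3⟩ := h.dualPair.split (by omega)
    obtain ⟨u, ⟨hu, hu'⟩, hu0⟩ := Submodule.exists_mem_ne_zero_of_ne_bot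
      (p := U ⊓ LinearMap.ker (Φ.B f)) (by
        intro h4
        rw [h4, finrank_bot] at h3
        omega)
    have hv := valid_zero (h.ts.1 e he) (h.ts.2 e he u hu) (h.ts.1 u hu)
    have e1 : hv.eich f = f + u := by
      rw [Valid.eich_apply, ef, hef, Φ.perp_symm hu']
      simp
    refine ⟨hv.eich, hv.eich_mem, ?_⟩
    rintro ⟨h4 | h4, -⟩
    · have := stab_apply h4.2 hf
      rw [e1] at this
      exact hu0 (h.eq_zero hu ((U'.add_mem_iff_right hf).1 this))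
    · have := (h4.2 f).1 hf
      rw [e1] at this
      rw [h.eq_zero ((U.add_mem_iff_left hu).1 this) hf, map_zero] at hef
      exact zero_ne_one hef
  · by_contra hc
    have h3 := key M h1 h2 hc g hg
    refine hg' ⟨?_, h2 hg⟩
    rcases mapsTo_or_mapsTo (fun v hv => h3 v (Or.inl hv)) with h4 | h4 <;>
      rcases mapsTo_or_mapsTo (fun v hv => h3 v (Or.inr hv)) with h5 | h5
    · exact (hsup U (Or.inl rfl) g h4 h5).elim
    · exact Or.inl ⟨mem_stab_of_mapsTo h4, mem_stab_of_mapsTo h5⟩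
    · exact mem_stabPair_of_swap h4 h5
    · exact (hsup U' (Or.inr rfl) g h4 h5).elim

/-- The images of the standard Siegel transformations. -/
theorem TsPair.exists_image (h : Φ.TsPair U U') (hM : stabPair U U' ⊓ Φ.EG ≤ M) (hI : M ≤ Φ.EG)
    {g : V ≃ₗ[F] V} (hg : g ∈ M) {v : V} (hv : v ∈ U ∨ v ∈ U') :
    ∃ Y : Submodule F V, finrank F U ≤ finrank F Y + 1 ∧ (∀ b ∈ Y, ∀ t : F, b = t • g v → b = 0) ∧
      ∀ b ∈ Y, Φ.Q b = 0 ∧ Φ.Valid (g v) b 0 ∧ Φ.HasE M (g v) b 0 := by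
  wlog hv' : v ∈ U generalizing U U'
  · rw [← h.finrank_eq]
    exact this h.symm (by rwa [stabPair_comm]) hv.symm (hv.resolve_left hv')
  have hgI := Φ.EG_le_Iso (hI hg)
  refine ⟨(U' ⊓ LinearMap.ker (Φ.B v)).map (g : V →ₗ[F] V), ?_, ?_, ?_⟩
  · rw [LinearEquiv.finrank_map_eq, ← h.finrank_eq]
    exact finrank_le_inf_ker _ _
  · rintro _ ⟨f, ⟨hf, -⟩, rfl⟩ t ht
    have : f = t • v := g.injective (by rw [map_smul]; exact ht)
    rw [h.eq_zero (this ▸ U.smul_mem t hv') hf, map_zero]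
  · rintro _ ⟨f, ⟨hf, hf'⟩, rfl⟩
    exact ⟨(Iso.Q hgI f).trans (h.ts'.1 f hf), (h.valid hv' hf hf').map hgI,
      (h.hasE hM hv' hf hf').conj hg hgI⟩

theorem TsPair.isMaximalIn (h : Φ.TsPair U U') (hΛ : ∀ c, Φ.π c = 0 → ∃ t, c = Φ.σ t - Φ.ε * t)
    (h4 : ((∃ c, c ≠ 0 ∧ Φ.π c = 0) ∧ 4 ≤ finrank F U) ∨ (Even (finrank F U) ∧ 5 ≤ finrank F U)) :
    Geo.IsMaximalIn Φ.EG (stabPair U U' ⊓ Φ.EG) := by
  have hk : 4 ≤ finrank F U := by omega
  have hsw := h.dualPair.swap _ rfl (h4.imp And.left And.left)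
  have h5 := h4.imp_right And.right
  refine h.isMaximalIn_of_key (by omega) fun M h1 h2 hc g hg v hv => ?_
  obtain ⟨Y, hY, -, hY'⟩ := h.exists_image h1 h2 hg hv
  obtain ⟨a₂, ha₂, a₁, ha₁, e⟩ := h.sup (g v)
  by_contra h6
  have h7 : a₂ ≠ 0 := fun h7 => h6 (Or.inr (by rwa [e, h7, zero_add]))
  have h8 : a₁ ≠ 0 := fun h8 => h6 (Or.inl (by rwa [e, h8, add_zero]))
  have h9 : Y ≤ Submodule.span F {a₁, a₂} := fun b hb => by
    obtain ⟨b₂, hb₂, b₁, hb₁, rfl⟩ := h.sup b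
    have h10 : b₂ ∈ Submodule.span F {a₂} := by
      by_contra h10
      refine hc (h.step_of_four h1 hΛ hsw (by omega) h5 ha₁ ha₂ hb₁ hb₂ h7 ?_ (fun s => ?_) h10)
      · rw [add_comm a₁, add_comm b₁, ← e]; exact (hY' _ hb).2.1
      · rw [add_comm a₁, add_comm b₁, ← e]; exact (hY' _ (Y.smul_mem s hb)).2.2
    have h11 : b₁ ∈ Submodule.span F {a₁} := by
      by_contra h11
      refine hc (h.symm.step_of_four (by rwa [stabPair_comm]) hΛ hsw.symm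
        (by rw [h.finrank_eq]; omega) (by rwa [h.finrank_eq]) ha₂ ha₁ hb₂ hb₁ h8 ?_ (fun s => ?_) h11)
      · rw [← e]; exact (hY' _ hb).2.1
      · rw [← e]; exact (hY' _ (Y.smul_mem s hb)).2.2
    exact Submodule.add_mem _ (Submodule.span_mono (by simp) h10) (Submodule.span_mono (by simp) h11)
  have := (Submodule.finrank_mono h9).trans (finrank_span_pair_le_two a₁ a₂)
  omega

end Fm

section Matrices

variable {ι : Type} [Fintype ι] [DecidableEq ι]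

theorem mem_decompositionStabilizer_two (D : Fin 2 → Submodule F (ι → F)) (g : GL ι F) :
    g ∈ Geo.decompositionStabilizer D ↔ glEquiv ι F g ∈ stabPair (D 0) (D 1) := by
  rw [mem_decompositionStabilizer_iff]
  have key : ∀ U U' : Submodule F (ι → F), U.map (glEquiv ι F g).toLinearMap = U' ↔
      ∀ v, v ∈ U ↔ glEquiv ι F g v ∈ U' := fun U U' => by
    constructor
    · rintro rfl v
      exact ⟨fun h => ⟨v, h, rfl⟩, fun ⟨u, hu, e⟩ => (glEquiv ι F g).injective e ▸ hu⟩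
    · intro h
      ext v
      exact ⟨by rintro ⟨u, hu, rfl⟩; exact (h u).1 hu, fun hv =>
        ⟨(glEquiv ι F g)⁻¹ v, (h _).2 (by rwa [app_inv_app]), app_inv_app _ v⟩⟩
  simp only [key]
  constructor
  · rintro ⟨σ, hσ⟩
    have h0 := hσ 0
    have h1 := hσ 1
    have : σ 1 ≠ σ 0 := σ.injective.ne (by decide)
    by_cases h : σ 0 = 0
    · rw [h] at h0
      rw [show σ 1 = 1 by omega] at h1
      exact Or.inl ⟨h0, h1⟩
    · rw [show σ 0 = 1 by omega] at h0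
      rw [show σ 1 = 0 by omega] at h1
      exact Or.inr ⟨h0, h1⟩
  · rintro (h | h)
    · exact ⟨1, Fin.forall_fin_two.2 h⟩
    · exact ⟨Equiv.swap 0 1, Fin.forall_fin_two.2 h⟩

omit [Fintype ι] [DecidableEq ι] in
theorem tsPair_of {Φ : Fm F (ι → F)} {k : ℕ} {D : Fin 2 → Submodule F (ι → F)}
    (hD : Geo.IsMDecomposition k D) (h : ∀ i, Φ.TS (D i)) : Φ.TsPair (D 0) (D 1) := by
  refine ⟨h 0, h 1, fun v => ?_⟩
  have h1 : D 0 ⊔ D 1 = ⊤ := by
    rw [← hD.iSup_eq_top]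
    exact le_antisymm (sup_le (le_iSup D 0) (le_iSup D 1))
      (iSup_le (Fin.forall_fin_two.2 ⟨le_sup_left, le_sup_right⟩))
  obtain ⟨x, hx, y, hy, e⟩ := Submodule.mem_sup.1 (h1 ▸ Submodule.mem_top : v ∈ D 0 ⊔ D 1)
  exact ⟨x, hx, y, hy, e.symm⟩

theorem pair_isMaximalIn_of {Φ : Fm F (ι → F)} {G : Subgroup (GL ι F)}
    (hG : ∀ g, g ∈ G ↔ glEquiv ι F g ∈ Φ.EG) {D : Fin 2 → Submodule F (ι → F)}
    (h : Geo.IsMaximalIn Φ.EG (stabPair (D 0) (D 1) ⊓ Φ.EG)) :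
    Geo.IsMaximalIn G (Geo.decompositionStabilizer D ⊓ G) :=
  isMaximalIn_of_equiv (glEquiv ι F) hG (fun g => by
    rw [Subgroup.mem_inf, Subgroup.mem_inf, hG, mem_decompositionStabilizer_two]) h

theorem fmSpStd_lam_of_odd [Fintype F] (hodd : Odd (Fintype.card F)) (m : ℕ) (c : F) :
    ∃ t, c = (fmSpStd F m).σ t - (fmSpStd F m).ε * t :=
  ⟨c / 2, by
    have := two_ne_zero_of_odd hodd
    change c = c / 2 - -1 * (c / 2)
    field_simp
    ring⟩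

theorem fmUStd_lam_eq [Finite F] (n q : ℕ) [U.UF F q] (c : F) (hc : (fmUStd F n q).π c = 0) :
    ∃ t, c = (fmUStd F n q).σ t - (fmUStd F n q).ε * t := by
  obtain ⟨a, ha⟩ : ∃ a, U.conj F q a ≠ a := by
    by_contra h
    push Not at h
    exact U.conj_ne_id F q (RingHom.ext h)
  have h1 : c + U.conj F q c = 0 := hc
  have h2 : U.conj F q a - a ≠ 0 := sub_ne_zero.2 ha
  have h3 : a - U.conj F q a ≠ 0 := sub_ne_zero.2 ha.symm
  refine ⟨c * a / (U.conj F q a - a), ?_⟩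
  change c = U.conj F q (c * a / (U.conj F q a - a)) - 1 * (c * a / (U.conj F q a - a))
  rw [map_div₀, map_mul, map_sub, U.conj_conj, show U.conj F q c = -c by linear_combination h1]
  field_simp
  ring

theorem sp_pair_isMaximalIn [Fintype F] {m : ℕ} (hm : 4 ≤ m) (hodd : Odd (Fintype.card F))
    {D : Fin 2 → Submodule F (Fin m ⊕ Fin m → F)} (hD : Geo.IsMDecomposition m D)
    (hts : ∀ i, Geo.IsTotallySingularFor (sympForm m F) (D i)) :
    Geo.IsMaximalIn (spGL m F) (Geo.decompositionStabilizer D ⊓ spGL m F) :=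
  pair_isMaximalIn_of (mem_spGL_iff m) ((tsPair_of (Φ := fmSpStd F m) hD
    fun i => ⟨fun _ _ => rfl, hts i⟩).isMaximalIn
    (fun c _ => fmSpStd_lam_of_odd hodd m c)
    (Or.inl ⟨⟨1, one_ne_zero, rfl⟩, by rwa [hD.finrank_eq]⟩))

theorem u_pair_isMaximalIn [Fintype F] {n q : ℕ} (hF : Fintype.card F = q ^ 2) {k : ℕ}
    (hk : 4 ≤ k) {D : Fin 2 → Submodule F (Fin n → F)} (hD : Geo.IsMDecomposition k D)
    (hts : ∀ i, Geo.IsTotallySingularFor (hermForm n F q) (D i)) :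
    Geo.IsMaximalIn (GU n F q ⊓ Geo.specialLinear (Fin n) F)
      (Geo.decompositionStabilizer D ⊓ (GU n F q ⊓ Geo.specialLinear (Fin n) F)) :=
  haveI := U.UF.of_card hF
  pair_isMaximalIn_of (mem_SU_iff n q) ((tsPair_of hD fun i =>
    ⟨fun x hx => hts i x hx x hx, fun x hx y hy => hts i y hy x hx⟩).isMaximalIn
    (fmUStd_lam_eq n q) (Or.inl ⟨fmUStd_lam n q, by rwa [hD.finrank_eq]⟩))

theorem o_tsPair_isMaximalIn [Finite F] {Q : (ι → F) → F}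
    (hQ : Geo.IsNondegenerateQuadraticForm Q) {k : ℕ} (hk : 5 ≤ k) (hke : Even k)
    {D : Fin 2 → Submodule F (ι → F)} (hD : Geo.IsMDecomposition k D)
    (hts : ∀ i, Geo.IsTotallySingularQuad Q (D i)) :
    Geo.IsMaximalIn (Geo.omegaGL Q) (Geo.decompositionStabilizer D ⊓ Geo.omegaGL Q) :=
  pair_isMaximalIn_of (mem_omegaGL_iff hQ (by
    have := finrank_of_isMDecomposition hD
    omega)) ((tsPair_of hD fun i => ts_fmO hQ (hts i)).isMaximalIn
    (fun c hc => ⟨0, by rw [show c = 0 from hc]; simp⟩)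
    (Or.inr (by rw [hD.finrank_eq]; exact ⟨hke, hk⟩)))

end Matrices

end Cfsg.Agent.Class.Max
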