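import Mathlib
import Cfsg.Agent.Class.Max.C2Pair

/-!
Class `C₂`, linear case: the standard decomposition of `ι → W` into blocks and its stabiliser.
-/

set_option autoImplicit false

namespace Cfsg.Agent.Class.Max

open Module

variable {F : Type*} [Field F] {ι : Type*} [DecidableEq ι] {W : Type*} [AddCommGroup W] [Module F W]

/-- The vector with the single component `u` in place `i`. -/
abbrev sg (i : ι) (u : W) : ι → W := Pi.single i u

theorem sg_ne {i j : ι} (h : j ≠ i) (u : W) : sg i u j = 0 := by simp [h]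

theorem sg_same (i : ι) (u : W) : sg i u i = u := by simp

theorem sg_add (i : ι) (u v : W) : sg i (u + v) = sg i u + sg i v := Pi.single_add (f := fun _ => W) i u v

theorem sg_smul (i : ι) (c : F) (u : W) : sg i (c • u) = c • sg i u :=
  Pi.single_smul (f := fun _ => W) i c u

theorem sg_zero (i : ι) : sg i (0 : W) = 0 := Pi.single_zero i

variable (F W) in
/-- The `i`-th block. -/
def blk (i : ι) : Submodule F (ι → W) where
  carrier := {v | ∀ j, j ≠ i → v j = 0}
  zero_mem' _ _ := rfl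
  add_mem' {a b} ha hb j hj := by rw [Pi.add_apply, ha j hj, hb j hj, add_zero]
  smul_mem' c a ha j hj := by rw [Pi.smul_apply, ha j hj, smul_zero]

theorem single_mem_blk (i : ι) (u : W) : sg i u ∈ blk F W i :=
  fun _ hj => sg_ne hj u

theorem eq_single_of_mem_blk {i : ι} {v : ι → W} (h : v ∈ blk F W i) : v = sg i (v i) := by
  ext j
  by_cases hj : j = i
  · subst hj; simp
  · rw [h j hj, sg_ne hj]

omit [DecidableEq ι] in
theorem eq_of_mem_blk {i j : ι} {v : ι → W} (h : v ∈ blk F W i) (hj : v j ≠ 0) : j = i := by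
  by_contra hc
  exact hj (h j hc)

theorem finrank_blk (i : ι) : finrank F (blk F W i) = finrank F W := by
  have : blk F W i = LinearMap.range (LinearMap.single F (fun _ : ι => W) i) := by
    ext v
    exact ⟨fun h => ⟨v i, (eq_single_of_mem_blk h).symm⟩, by
      rintro ⟨u, rfl⟩; exact single_mem_blk i u⟩
  rw [this, LinearMap.finrank_range_of_inj fun a b h => by simpa using congrFun h i]

variable (F ι W) in
/-- The stabiliser of the decomposition into blocks. -/
def Nblk : Subgroup ((ι → W) ≃ₗ[F] (ι → W)) where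
  carrier := {g | ∃ σ : Equiv.Perm ι, ∀ i v, v ∈ blk F W i ↔ g v ∈ blk F W (σ i)}
  mul_mem' := by
    rintro a b ⟨σ, ha⟩ ⟨τ, hb⟩
    exact ⟨τ.trans σ, fun i v => (hb i v).trans (ha _ _)⟩
  one_mem' := ⟨1, fun _ _ => Iff.rfl⟩
  inv_mem' := by
    rintro a ⟨σ, ha⟩
    refine ⟨σ.symm, fun i v => ?_⟩
    have := ha (σ.symm i) (a⁻¹ v)
    rw [app_inv_app, Equiv.apply_symm_apply] at this
    exact this.symm

omit [DecidableEq ι] in
theorem Nblk_apply {g : (ι → W) ≃ₗ[F] (ι → W)} (hg : g ∈ Nblk F ι W) {i : ι} {v : ι → W}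
    (hv : v ∈ blk F W i) : ∃ j, g v ∈ blk F W j :=
  let ⟨σ, h⟩ := hg
  ⟨σ i, (h i v).1 hv⟩

/-- The functional `χ` on the `j`-th block. -/
def onB (j : ι) (χ : Dual F W) : Dual F (ι → W) := χ ∘ₗ LinearMap.proj j

omit [DecidableEq ι] in
@[simp] theorem onB_apply (j : ι) (χ : Dual F W) (x : ι → W) : onB j χ x = χ (x j) := rfl

/-- The `j`-th component of a functional. -/
def cpt (j : ι) (ψ : Dual F (ι → W)) : Dual F W := ψ ∘ₗ LinearMap.single F (fun _ : ι => W) j

@[simp] theorem cpt_apply (j : ι) (ψ : Dual F (ι → W)) (u : W) :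
    cpt j ψ u = ψ (sg j u) := rfl

variable [Fintype ι]

theorem dual_eq_sum (ψ : Dual F (ι → W)) : ψ = ∑ j, onB j (cpt j ψ) := by
  ext1 j
  ext u
  simp only [LinearMap.comp_apply, LinearMap.coe_single, LinearMap.sum_apply, onB_apply, cpt_apply]
  rw [← map_sum, Finset.univ_sum_single]

theorem dual_eq_onB {ψ : Dual F (ι → W)} {i : ι} (h : ∀ j, j ≠ i → cpt j ψ = 0) :
    ψ = onB i (cpt i ψ) := by
  conv_lhs => rw [dual_eq_sum ψ]
  refine Finset.sum_eq_single i (fun j _ hj => ?_) (by simp)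
  rw [h j hj]
  rfl

variable [FiniteDimensional F W]

theorem mem_Nblk_of [Nontrivial W] {g : (ι → W) ≃ₗ[F] (ι → W)}
    (h : ∀ i, ∃ j, ∀ v ∈ blk F W i, g v ∈ blk F W j) : g ∈ Nblk F ι W := by
  choose f hf using h
  have h1 : ∀ i v, v ∈ blk F W i ↔ g v ∈ blk F W (f i) := fun i =>
    mem_iff_of_mapsTo (hf i) (by rw [finrank_blk, finrank_blk])
  obtain ⟨u, hu⟩ := exists_ne (0 : W)
  have h2 : Function.Injective f := fun i j hij => by
    have := (h1 i _).1 (single_mem_blk i u)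
    rw [hij, ← h1] at this
    exact eq_of_mem_blk this (by simpa using hu)
  exact ⟨Equiv.ofBijective f (Finite.injective_iff_bijective.1 h2), h1⟩

theorem mem_Nblk_of_apply [Nontrivial W] {g : (ι → W) ≃ₗ[F] (ι → W)}
    (h : ∀ i u, ∃ j, g (sg i u) ∈ blk F W j) : g ∈ Nblk F ι W := by
  refine mem_Nblk_of fun i => ?_
  obtain ⟨u, hu⟩ := exists_ne (0 : W)
  obtain ⟨j, hj⟩ := h i u
  refine ⟨j, fun v hv => ?_⟩
  rw [eq_single_of_mem_blk hv]
  obtain ⟨k, hk⟩ := h i (v i)
  obtain ⟨l, hl⟩ := h i (v i + u)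
  by_contra hc
  have h1 : g (sg i u) j ≠ 0 := fun h1 => by
    have := eq_single_of_mem_blk hj
    rw [h1, sg_zero, map_eq_zero_iff _ g.injective] at this
    exact hu (by simpa using congrFun this i)
  have h2 : k ≠ j := fun h2 => hc (h2 ▸ hk)
  have h3 : g (sg i (v i)) k ≠ 0 := fun h3 => by
    apply hc
    rw [eq_single_of_mem_blk hk, h3, sg_zero]
    exact Submodule.zero_mem _
  rw [sg_add, map_add] at hl
  have h4 := eq_of_mem_blk hl (j := j) (by rwa [Pi.add_apply, hk j h2.symm, zero_add])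
  have h5 := eq_of_mem_blk hl (j := k) (by rwa [Pi.add_apply, hj k h2, add_zero])
  exact h2 (h5.trans h4.symm)

omit [Fintype ι] [FiniteDimensional F W] in
theorem mem_Nblk_of_tv {g : (ι → W) ≃ₗ[F] (ι → W)} {i : ι} {χ : Dual F W} {u : W}
    (h : ∀ x, g x = x + onB i χ x • sg i u) : g ∈ Nblk F ι W := by
  refine ⟨1, fun j v => ?_⟩
  by_cases hj : j = i
  · subst hj
    rw [h]
    exact ((blk F W j).add_mem_iff_left ((blk F W j).smul_mem _ (single_mem_blk j u))).symm
  · refine ⟨fun hv => ?_, fun hv => ?_⟩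
    · rwa [h, onB_apply, hv i (Ne.symm hj), map_zero, zero_smul, add_zero]
    · have h1 : g (g v) = g v := by
        rw [h (g v), onB_apply, hv i (Ne.symm hj), map_zero, zero_smul, add_zero]
      rwa [← g.injective h1]

/-- A dilation inside a block with prescribed determinant. -/
theorem exists_blk_dil (i : ι) {χ : Dual F W} {u : W} (h : χ u = 1) {a : F} (ha : a ≠ 0) :
    ∃ d ∈ Nblk F ι W, LinearMap.det (d : (ι → W) →ₗ[F] (ι → W)) = a ∧
      ∀ x, d x = x + ((a - 1) * χ (x i)) • sg i u := by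
  have h1 : 1 + onB i ((a - 1) • χ) (sg i u) = a := by simp [h]
  have h2 : IsUnit (1 + onB i ((a - 1) • χ) (sg i u)) := by rw [h1]; exact ha.isUnit
  refine ⟨LinearEquiv.dilatransvection h2, mem_Nblk_of_tv fun x =>
    LinearEquiv.dilatransvection.apply, ?_, fun x => LinearEquiv.dilatransvection.apply⟩
  rw [LinearEquiv.dilatransvection.coe_toLinearMap, LinearMap.transvection.det, h1]

theorem exists_perm [Nontrivial W] (i : ι) (σ : Equiv.Perm ι) :
    ∃ g ∈ Nblk F ι W ⊓ SLV F (ι → W), (∀ j v, v ∈ blk F W j ↔ g v ∈ blk F W (σ j)) ∧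
      ∀ j, σ j ≠ i → ∀ u, g (sg j u) = sg (σ j) u := by
  obtain ⟨u, hu⟩ := exists_ne (0 : W)
  obtain ⟨χ, -, hχ⟩ := exists_dual_one (⊥ : Submodule F W) (u := u) hu
  let p : (ι → W) ≃ₗ[F] (ι → W) := LinearEquiv.funCongrLeft F W σ.symm
  have hp : ∀ j v, v ∈ blk F W j ↔ p v ∈ blk F W (σ j) := fun j v =>
    ⟨fun h k hk => h _ fun e => hk (by rw [← e]; simp),
      fun h k hk => by simpa [p] using h (σ k) (σ.injective.ne hk)⟩
  obtain ⟨d, hd, h1, h2⟩ := exists_blk_dil i hχ (inv_ne_zero (LinearEquiv.isUnit_det' p).ne_zero)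
  have h3 : ∀ j v, v ∈ blk F W j ↔ d v ∈ blk F W j := fun j v => by
    obtain ⟨τ, hτ⟩ := hd
    have h4 : ∀ v ∈ blk F W j, d v ∈ blk F W j := fun v hv => by
      rw [h2]
      by_cases hj : j = i
      · subst hj
        exact (blk F W j).add_mem hv ((blk F W j).smul_mem _ (single_mem_blk j u))
      · rwa [hv i (Ne.symm hj), map_zero, mul_zero, zero_smul, add_zero]
    exact mem_iff_of_mapsTo h4 le_rfl v
  refine ⟨d * p, ⟨(Nblk F ι W).mul_mem hd ⟨σ, hp⟩, mem_SLV.2 ?_⟩, fun j v => (hp j v).trans (h3 _ _),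
    fun j hj w => ?_⟩
  · rw [LinearEquiv.coe_toLinearMap_mul, map_mul, h1,
      inv_mul_cancel₀ (LinearEquiv.isUnit_det' p).ne_zero]
  · have : p (sg j w) = sg (σ j) w := by
      ext k
      simp [p, Pi.single_apply, Equiv.symm_apply_eq]
    rw [mul_app, this, h2, sg_ne hj.symm, map_zero, mul_zero, zero_smul, add_zero]

variable {M : Subgroup ((ι → W) ≃ₗ[F] (ι → W))}

theorem hasTv_blk (hM : Nblk F ι W ⊓ SLV F (ι → W) ≤ M) (i : ι) {χ : Dual F W} {u : W}
    (h : χ u = 0) : HasTv M (onB i χ) (sg i u) := by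
  obtain ⟨g, hg, e⟩ := hasTv_SLV (φ := onB i χ) (v := sg i u) (by simpa using h)
  exact ⟨g, hM ⟨mem_Nblk_of_tv e, hg⟩, e⟩

omit [Fintype ι] in
theorem exists_perm_pair {i j k l : ι} (hij : i ≠ j) (hkl : k ≠ l) :
    ∃ σ : Equiv.Perm ι, σ i = k ∧ σ j = l := by
  refine ⟨Equiv.swap (Equiv.swap i k j) l * Equiv.swap i k, ?_, by simp⟩
  rw [Equiv.Perm.mul_apply, Equiv.swap_apply_left, Equiv.swap_apply_of_ne_of_ne _ hkl]
  intro h
  exact hij ((Equiv.swap i k).injective (by rw [← h, Equiv.swap_apply_left]))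

/-- All transvections between two blocks give `SL`. -/
theorem SLV_le_of_blk_pair [Nontrivial W] (hM : Nblk F ι W ⊓ SLV F (ι → W) ≤ M) {i j : ι}
    (hij : i ≠ j) (h : ∀ (χ : Dual F W) (u : W), HasTv M (onB j χ) (sg i u)) :
    SLV F (ι → W) ≤ M := by
  have key : ∀ k l, k ≠ l → ∀ (χ : Dual F W) (u : W), HasTv M (onB l χ) (sg k u) := by
    intro k l hkl χ u
    obtain ⟨σ, rfl, rfl⟩ := exists_perm_pair hij hkl
    obtain ⟨g, hg, h1, -⟩ := exists_perm (F := F) (W := W) i σ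
    have h2 : g⁻¹ (sg (σ i) u) ∈ blk F W i := by
      rw [h1, app_inv_app]; exact single_mem_blk _ _
    have h3 := (h (cpt j (onB (σ j) χ ∘ₗ g.toLinearMap)) (g⁻¹ (sg (σ i) u) i)).conj (hM hg)
    rw [← eq_single_of_mem_blk h2, app_inv_app, ← dual_eq_onB] at h3
    · convert h3
      ext1 x
      ext u
      simp
    · intro k hk
      ext w
      simp [(h1 k _).1 (single_mem_blk k w) (σ j) (σ.injective.ne hk.symm)]
  apply SLV_le_of_elations_eq_top
  rw [eq_top_iff]
  intro v _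
  rw [← Finset.univ_sum_single v]
  refine Submodule.sum_mem _ fun k _ φ hφ => ?_
  rw [dual_eq_sum φ]
  have h4 : ∀ l, onB l (cpt l φ) (sg k (v k)) = 0 := fun l => by
    by_cases hl : l = k
    · subst hl; simpa using hφ
    · simp [sg_ne hl]
  induction (Finset.univ : Finset ι) using Finset.induction_on with
  | empty => exact hasTv_zero_left _
  | insert l s hl ih =>
    rw [Finset.sum_insert hl]
    refine HasTv.add_left (h4 l) ?_ ih
    by_cases hl : l = k
    · subst hl; exact hasTv_blk hM l (by simpa using hφ)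
    · exact key k l (Ne.symm hl) _ _

theorem exists_SLV_not_Nblk [Nontrivial W] [Nontrivial ι] :
    ∃ g ∈ SLV F (ι → W), g ∉ Nblk F ι W ⊓ SLV F (ι → W) := by
  obtain ⟨i, j, hij⟩ := exists_pair_ne ι
  obtain ⟨u, hu⟩ := exists_ne (0 : W)
  obtain ⟨χ, -, hχ⟩ := exists_dual_one (⊥ : Submodule F W) (u := u) hu
  obtain ⟨g, hg, e⟩ := hasTv_SLV (φ := onB j χ) (v := sg i u)
    (by simp [sg_ne hij.symm])
  refine ⟨g, hg, fun h => ?_⟩
  obtain ⟨k, hk⟩ := Nblk_apply h.1 (single_mem_blk j u)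
  rw [e] at hk
  have h1 := eq_of_mem_blk hk (j := i) (by simpa [hχ, sg_ne hij] using hu)
  have h2 := eq_of_mem_blk hk (j := j) (by simpa [hχ, sg_ne hij.symm] using hu)
  exact hij (h1.trans h2.symm)

/-! ### Transfer to an arbitrary decomposition -/

/-- Conjugation by a linear equivalence. -/
def conjEquivAut {V V' : Type*} [AddCommGroup V] [Module F V] [AddCommGroup V'] [Module F V']
    (e : V ≃ₗ[F] V') : (V ≃ₗ[F] V) ≃* (V' ≃ₗ[F] V') where
  toFun g := (e.symm.trans g).trans e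
  invFun g := (e.trans g).trans e.symm
  left_inv g := by ext; simp
  right_inv g := by ext; simp
  map_mul' g h := by ext; simp

theorem mem_SLV_conj {V V' : Type*} [AddCommGroup V] [Module F V] [AddCommGroup V'] [Module F V']
    (e : V ≃ₗ[F] V') (g : V ≃ₗ[F] V) : g ∈ SLV F V ↔ conjEquivAut e g ∈ SLV F V' := by
  rw [mem_SLV, mem_SLV, ← LinearMap.det_conj (g : V →ₗ[F] V) e]
  rfl

theorem mem_iff_of_mapsTo' {V V' : Type*} [AddCommGroup V] [Module F V] [AddCommGroup V']
    [Module F V'] [FiniteDimensional F V'] {U : Submodule F V} {U' : Submodule F V'}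
    {g : V ≃ₗ[F] V'} (h1 : ∀ v ∈ U, g v ∈ U') (h2 : finrank F U' ≤ finrank F U) (v : V) :
    v ∈ U ↔ g v ∈ U' := by
  have : U.map (g : V →ₗ[F] V') = U' := Submodule.eq_of_le_of_finrank_le
    (by rintro _ ⟨u, hu, rfl⟩; exact h1 u hu) (by rwa [LinearEquiv.finrank_map_eq])
  refine ⟨h1 v, fun h => ?_⟩
  rw [← this] at h
  obtain ⟨u, hu, e⟩ := h
  rwa [← g.injective e]

theorem exists_equiv_blk {V : Type*} [AddCommGroup V] [Module F V] [FiniteDimensional F V]
    {D : ι → Submodule F V} (h1 : iSupIndep D) (h2 : iSup D = ⊤)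
    (h3 : ∀ i, finrank F (D i) = finrank F W) :
    ∃ e : V ≃ₗ[F] (ι → W), ∀ i v, v ∈ D i ↔ e v ∈ blk F W i := by
  have h4 := DirectSum.isInternal_submodule_of_iSupIndep_of_iSup_eq_top h1 h2
  let e₁ := LinearEquiv.ofBijective (DirectSum.coeLinearMap D) h4
  let e₂ := DirectSum.linearEquivFunOnFintype F ι (fun i => D i)
  let e₃ : (∀ i, D i) ≃ₗ[F] (ι → W) :=
    LinearEquiv.piCongrRight fun i => LinearEquiv.ofFinrankEq _ _ (h3 i)
  refine ⟨(e₁.symm.trans e₂).trans e₃, fun i => mem_iff_of_mapsTo' (fun v hv j hj => ?_)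
    (by rw [finrank_blk, h3])⟩
  have : e₁.symm v = DirectSum.lof F ι (fun i => D i) i ⟨v, hv⟩ := by
    rw [LinearEquiv.symm_apply_eq]
    exact (DirectSum.coeLinearMap_lof D i ⟨v, hv⟩).symm
  simp [e₃, e₂, this, DirectSum.lof_eq_of, DirectSum.of_eq_of_ne _ _ _ hj]

theorem decomposition_isMaximalIn_of {n : Type} [Fintype n] [DecidableEq n] {t : ℕ}
    {D : Fin t → Submodule F (n → F)} (hD : Geo.IsMDecomposition (finrank F W) D)
    (h : Geo.IsMaximalIn (SLV F (Fin t → W)) (Nblk F (Fin t) W ⊓ SLV F (Fin t → W))) :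
    Geo.IsMaximalIn (Geo.specialLinear n F)
      (Geo.decompositionStabilizer D ⊓ Geo.specialLinear n F) := by
  obtain ⟨e, he⟩ := exists_equiv_blk (W := W) hD.indep hD.iSup_eq_top hD.finrank_eq
  have h1 : ∀ g, g ∈ Geo.specialLinear n F ↔
      ((glEquiv n F).trans (conjEquivAut e)) g ∈ SLV F (Fin t → W) := fun g =>
    (mem_specialLinear_iff g).trans (mem_SLV_conj e _)
  refine isMaximalIn_of_equiv ((glEquiv n F).trans (conjEquivAut e)) h1 (fun g => ?_) h
  rw [Subgroup.mem_inf, Subgroup.mem_inf, h1, mem_decompositionStabilizer_iff]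
  refine and_congr_left fun _ => exists_congr fun σ => forall_congr' fun i => ?_
  constructor
  · intro h2 v
    obtain ⟨v, rfl⟩ := e.surjective v
    change _ ↔ e (glEquiv n F g (e.symm (e v))) ∈ _
    rw [← he, ← he, e.symm_apply_apply, ← h2]
    exact ⟨fun h => ⟨v, h, rfl⟩, fun ⟨u, hu, e⟩ => (glEquiv n F g).injective e ▸ hu⟩
  · intro h2
    have h3 : ∀ v, v ∈ D i ↔ glEquiv n F g v ∈ D (σ i) := fun v => by
      rw [he, he, h2]
      change e (glEquiv n F g (e.symm (e v))) ∈ _ ↔ _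
      rw [e.symm_apply_apply]
    ext v
    exact ⟨by rintro ⟨u, hu, rfl⟩; exact (h3 u).1 hu, fun hv =>
      ⟨(glEquiv n F g)⁻¹ v, (h3 _).2 (by rwa [app_inv_app]), app_inv_app _ v⟩⟩

end Cfsg.Agent.Class.Max
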