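import Mathlib
import Cfsg.Agent.Class.Max.C2Blk

/-!
Class `C₂`, linear case, blocks of dimension at least two.
-/

set_option autoImplicit false

namespace Cfsg.Agent.Class.Max

open Module

variable {F : Type*} [Field F] {ι : Type*} [DecidableEq ι] {W : Type*} [AddCommGroup W] [Module F W]
  [Fintype ι] [FiniteDimensional F W] {M : Subgroup ((ι → W) ≃ₗ[F] (ι → W))}

omit [FiniteDimensional F W] in
theorem exists_dual_pair {v w : W} (h : w ∉ Submodule.span F {v}) :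
    ∃ ξ : Dual F W, ξ v = 0 ∧ ξ w = 1 := by
  obtain ⟨ξ, h1, h2⟩ := exists_dual_one _ h
  exact ⟨ξ, h1 v (Submodule.mem_span_singleton_self v), h2⟩

omit [FiniteDimensional F W] in
theorem notMem_span_symm {v w : W} (hw : w ≠ 0) (h : v ∉ Submodule.span F {w}) :
    w ∉ Submodule.span F {v} := fun hc => by
  obtain ⟨t, rfl⟩ := Submodule.mem_span_singleton.1 hc
  have ht : t ≠ 0 := fun ht => hw (by rw [ht, zero_smul])
  exact h (Submodule.mem_span_singleton.2 ⟨t⁻¹, by rw [smul_smul, inv_mul_cancel₀ ht, one_smul]⟩)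

theorem exists_ker_ne_zero (h2 : 2 ≤ finrank F W) (χ : Dual F W) : ∃ u, u ≠ 0 ∧ χ u = 0 := by
  obtain ⟨u, -, h3, h4⟩ := exists_ne_zero_ker [χ] ⊤ (by rw [finrank_top]; exact h2)
  exact ⟨u, h3, h4 χ (by simp)⟩

omit [FiniteDimensional F W] in
theorem exists_dual_ne_zero (h2 : 2 ≤ finrank F W) (u : W) :
    ∃ χ : Dual F W, ∃ x, χ u = 0 ∧ χ x = 1 := by
  obtain ⟨x, -, hx⟩ := SetLike.exists_of_lt (lt_top_iff_ne_top.2 fun h : Submodule.span F {u} = ⊤ => by
    have := finrank_span_le_card (R := F) ({u} : Set W)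
    rw [h, finrank_top] at this
    simp only [Set.toFinset_singleton, Finset.card_singleton] at this
    omega)
  obtain ⟨χ, h3, h4⟩ := exists_dual_pair hx
  exact ⟨χ, x, h3, h4⟩

variable (hM : Nblk F ι W ⊓ SLV F (ι → W) ≤ M) (h2 : 2 ≤ finrank F W)
include hM h2

/-- A transvection with centre in a block and axis not of the standard form gives `SL`. -/
theorem SLV_le_of_center {ψ : Dual F (ι → W)} {i j : ι} {v : W} (hv : v ≠ 0)
    (h : HasTv M ψ (sg i v)) (h0 : ψ (sg i v) = 0) (hij : j ≠ i) (hj : cpt j ψ ≠ 0) :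
    SLV F (ι → W) ≤ M := by
  have : Nontrivial W := Module.nontrivial_of_finrank_pos (R := F) (by omega)
  have h1 : ∀ (χ : Dual F W) (u : W), χ u = 0 → cpt j ψ u ≠ 0 → ∀ c : F,
      HasTv M (onB j χ) (c • sg i v) := fun χ u h3 h4 c => by
    have h5 : χ ((c / cpt j ψ u) • u) = 0 := by simp [h3]
    have := h.comm h0 (by simpa using h5) (by simp [sg_ne hij]) (hasTv_blk hM j h5)
    rwa [← cpt_apply, map_smul, smul_eq_mul, div_mul_cancel₀ _ h4] at this
  have h3 : ∀ (χ : Dual F W) (c : F), HasTv M (onB j χ) (c • sg i v) := fun χ c => by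
    by_cases h4 : ∃ u, χ u = 0 ∧ cpt j ψ u ≠ 0
    · obtain ⟨u, h5, h6⟩ := h4
      exact h1 χ u h5 h6 c
    push Not at h4
    obtain ⟨x, hx⟩ := DFunLike.ne_iff.1 hj
    obtain ⟨ξ, y, h5, h6⟩ := exists_dual_ne_zero h2 x
    have h7 : χ x ≠ 0 := fun h7 => hx (h4 x h7)
    obtain ⟨z, hz, hz'⟩ := exists_ker_ne_zero h2 χ
    have h8 : x ∉ Submodule.span F {z} := fun h8 => by
      obtain ⟨t, rfl⟩ := Submodule.mem_span_singleton.1 h8
      simp [hz'] at h7
    obtain ⟨ζ, h9, h10⟩ := exists_dual_pair (notMem_span_symm hz h8)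
    have h11 := h1 ζ x h9 hx c
    have h12 := h1 (χ - ζ) (x + χ x • z) (by simp [hz', h9, h10])
      (by rwa [map_add, map_smul, h4 z hz', smul_zero, add_zero]) c
    have := h12.add_left (by simp [sg_ne hij]) h11
    convert this using 1
    ext1 k
    ext w
    simp
  refine SLV_le_of_blk_pair hM hij.symm fun χ u => ?_
  by_cases hu : u ∈ Submodule.span F {v}
  · obtain ⟨c, rfl⟩ := Submodule.mem_span_singleton.1 hu
    rw [sg_smul]
    exact h3 χ c
  · obtain ⟨ξ, h4, h5⟩ := exists_dual_pair (notMem_span_symm hv hu)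
    have h6 := h3 χ 1
    rw [one_smul] at h6
    have := h6.comm' (by simp [sg_ne hij]) (by simpa using h4) (by simp [sg_ne hij])
      (hasTv_blk hM i h4)
    simpa [h5] using this

/-- A transvection with axis of block type and centre not in the block gives `SL`. -/
theorem SLV_le_of_axis {χ : Dual F W} {i j : ι} {w : ι → W} (hχ : χ ≠ 0)
    (h : HasTv M (onB j χ) w) (h0 : χ (w j) = 0) (hij : j ≠ i) (hi : w i ≠ 0) :
    SLV F (ι → W) ≤ M := by
  obtain ⟨ξ, -, hξ⟩ := exists_dual_one (⊥ : Submodule F W) (u := w i) hi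
  obtain ⟨u, hu, hu'⟩ := exists_ker_ne_zero h2 ξ
  have := h.comm' h0 (ψ := onB i ξ) (w := sg i u) (by simpa using hu') (by simp [sg_ne hij])
    (hasTv_blk hM i hu')
  rw [onB_apply, hξ, one_smul] at this
  refine SLV_le_of_center hM h2 hu this (by simp [sg_ne hij]) hij ?_
  convert hχ using 1
  ext x
  simp

theorem mem_blk_of_ker (hc : ¬ SLV F (ι → W) ≤ M) {ψ : Dual F (ι → W)} {w : ι → W}
    (h : HasTv M ψ w) (h0 : ψ w = 0) (hψ : ψ ≠ 0) {i : ι} (hi : w i ≠ 0) {v : W}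
    (hv : v ∉ Submodule.span F {w i}) (hv' : cpt i ψ v = 0) : w ∈ blk F W i := by
  obtain ⟨ξ, h3, h4⟩ := exists_dual_pair (notMem_span_symm hi hv)
  have h5 := h.comm' h0 (ψ := onB i ξ) (w := sg i v) (by simpa using h3) hv' (hasTv_blk hM i h3)
  rw [onB_apply, h4, one_smul] at h5
  have hv0 : v ≠ 0 := fun h6 => hv (h6 ▸ Submodule.zero_mem _)
  have h6 := dual_eq_onB (ψ := ψ) (i := i) fun j hj => by
    by_contra h6
    exact hc (SLV_le_of_center hM h2 hv0 h5 hv' hj h6)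
  intro j hj
  by_contra h7
  rw [h6] at h h0
  refine hc (SLV_le_of_axis hM h2 (fun h8 => hψ ?_) h h0 hj.symm h7)
  rw [h6, h8]
  rfl

theorem exists_mem_blk (hc : ¬ SLV F (ι → W) ≤ M)
    (h3 : 3 ≤ finrank F W ∨ (3 ≤ Fintype.card ι ∧ ∃ a : F, a ≠ 0 ∧ a ≠ 1))
    {ψ : Dual F (ι → W)} {w : ι → W} (h : HasTv M ψ w) (h0 : ψ w = 0) (hψ : ψ ≠ 0) (hw : w ≠ 0) :
    ∃ i, w ∈ blk F W i := by
  obtain ⟨i, hi⟩ := Function.ne_iff.1 hw
  refine ⟨i, ?_⟩
  by_contra h4
  obtain ⟨j, hj, hj'⟩ : ∃ j, j ≠ i ∧ w j ≠ 0 := by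
    by_contra h5
    push Not at h5
    exact h4 h5
  have key : ∀ ψ : Dual F (ι → W), HasTv M ψ w → ψ w = 0 → ψ ≠ 0 → ∀ l, w l ≠ 0 →
      ∀ v, cpt l ψ v = 0 → v ∈ Submodule.span F {w l} := fun ψ h h0 hψ l hl v hv => by
    by_contra h5
    have h6 := mem_blk_of_ker hM h2 hc h h0 hψ hl h5 hv
    exact hj ((eq_of_mem_blk h6 hj').trans (eq_of_mem_blk h6 hi).symm)
  have key2 : ∀ ψ : Dual F (ι → W), HasTv M ψ w → ψ w = 0 → ψ ≠ 0 → ∀ l, w l ≠ 0 →
      finrank F W ≤ 2 ∧ cpt l ψ ≠ 0 := fun ψ h h0 hψ l hl => by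
    have h5 := (Submodule.finrank_mono (show LinearMap.ker (cpt l ψ) ≤ _ from
      key ψ h h0 hψ l hl)).trans (finrank_span_le_card ({w l} : Set W))
    simp only [Set.toFinset_singleton, Finset.card_singleton] at h5
    have h6 := finrank_le_inf_ker ⊤ (cpt l ψ)
    rw [top_inf_eq, finrank_top] at h6
    refine ⟨by omega, fun h7 => ?_⟩
    rw [h7, LinearMap.ker_zero, finrank_top] at h5
    omega
  obtain ⟨h5, a, ha, ha'⟩ := h3.resolve_left (by have := (key2 ψ h h0 hψ i hi).1; omega)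
  obtain ⟨k, hk, hk'⟩ : ∃ k, k ≠ i ∧ k ≠ j := by
    by_contra h6
    push Not at h6
    have : (Finset.univ : Finset ι) ⊆ {i, j} := fun k _ => by
      by_cases hk : k = i
      · simp [hk]
      · simp [h6 k hk]
    have := (Finset.card_le_card this).trans Finset.card_le_two
    rw [Finset.card_univ] at this
    omega
  obtain ⟨x, hx⟩ := DFunLike.ne_iff.1 (key2 ψ h h0 hψ i hi).2
  have hx' : cpt i ψ ((cpt i ψ x)⁻¹ • x) = 1 := by
    rw [map_smul, smul_eq_mul, inv_mul_cancel₀ hx]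
  generalize (cpt i ψ x)⁻¹ • x = u at hx'
  have h6 : cpt i ψ (w i) = 0 := by
    obtain ⟨z, hz, hz'⟩ := exists_ker_ne_zero h2 (cpt i ψ)
    obtain ⟨t, rfl⟩ := Submodule.mem_span_singleton.1 (key ψ h h0 hψ i hi z hz')
    rw [map_smul, smul_eq_mul, mul_eq_zero] at hz'
    exact hz'.resolve_left fun ht => hz (by rw [ht, zero_smul])
  obtain ⟨d, hd, d1, d2⟩ := exists_blk_dil i hx' ha
  obtain ⟨χ, y, h7, h8⟩ := exists_dual_ne_zero h2 (w k)
  obtain ⟨d', hd', d1', d2'⟩ := exists_blk_dil k h8 (inv_ne_zero ha)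
  have h9 : d * d' ∈ M := hM ⟨(Nblk F ι W).mul_mem hd hd', mem_SLV.2 (by
    rw [LinearEquiv.coe_toLinearMap_mul, map_mul, d1, d1', mul_inv_cancel₀ ha])⟩
  have h10 : (d * d') w = w := by rw [mul_app, d2', h7, d2]; simp [h6]
  have h11 := h.conj (M.inv_mem h9)
  rw [inv_inv, show (d * d')⁻¹ w = w from (d * d').injective (by rw [app_inv_app, h10])] at h11
  have h12 : (ψ ∘ₗ (d * d').toLinearMap) w = 0 := by
    rw [LinearMap.comp_apply, LinearEquiv.coe_coe, h10, h0]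
  refine (key2 _ (h11.add_left h12 (h.neg_left h0)) (by rw [LinearMap.add_apply, h12]; simp [h0])
    (fun h13 => ?_) j hj').2 ?_
  · have := LinearMap.congr_fun h13 (sg i u)
    simp only [LinearMap.add_apply, LinearMap.comp_apply, LinearEquiv.coe_coe, mul_app, d2', d2,
      sg_ne hk, map_zero, mul_zero, zero_smul, add_zero, sg_same, hx', map_add, map_smul,
      LinearMap.neg_apply, LinearMap.zero_apply, ← cpt_apply, smul_eq_mul] at this
    exact ha' (by linear_combination this)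
  · ext z
    simp only [cpt_apply, LinearMap.add_apply, LinearMap.comp_apply, LinearEquiv.coe_coe, mul_app,
      d2', d2, sg_ne hk', sg_ne hj.symm, map_zero, mul_zero, zero_smul, add_zero,
      LinearMap.neg_apply, LinearMap.zero_apply, add_neg_cancel]

omit hM in
theorem Nblk_isMaximalIn [Nontrivial ι]
    (h3 : 3 ≤ finrank F W ∨ (3 ≤ Fintype.card ι ∧ ∃ a : F, a ≠ 0 ∧ a ≠ 1)) :
    Geo.IsMaximalIn (SLV F (ι → W)) (Nblk F ι W ⊓ SLV F (ι → W)) := by
  have : Nontrivial W := Module.nontrivial_of_finrank_pos (R := F) (by omega)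
  refine isMaximalIn_of inf_le_right exists_SLV_not_Nblk fun M h4 h5 g hg hg' => ?_
  by_contra hc
  refine hg' ⟨mem_Nblk_of_apply fun i u => ?_, h5 hg⟩
  by_cases hu : u = 0
  · exact ⟨i, by rw [hu, sg_zero, map_zero]; exact Submodule.zero_mem _⟩
  obtain ⟨χ, x, h6, h7⟩ := exists_dual_ne_zero h2 u
  refine exists_mem_blk h4 h2 hc h3 ((hasTv_blk h4 i h6).conj hg) (by simpa using h6)
    (fun h8 => ?_) (fun h8 => hu ?_)
  · simpa [h7] using LinearMap.congr_fun h8 (g (sg i x))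
  · simpa using congrFun ((map_eq_zero_iff _ g.injective).1 h8) i

end Cfsg.Agent.Class.Max
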