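import Mathlib
import Cfsg.Agent.Class.Max.C2Blk

/-!
Overgroups of the diagonal group containing further homologies.
-/

set_option autoImplicit false

namespace Cfsg.Agent.Class.Max

open Module Polynomial

variable {F : Type*} [Field F]

theorem exists_eval_ne_zero [Fintype F] (p : F[X]) (hp : p ≠ 0)
    (h : p.natDegree < Fintype.card F) : ∃ a, p.eval a ≠ 0 := by
  by_contra hc
  push Not at hc
  exact hp (eq_zero_of_natDegree_lt_card_of_eval_eq_zero p Function.injective_id hc h)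

theorem exists_sq_ne_one [Fintype F] (h : 5 ≤ Fintype.card F) : ∃ b : F, b ≠ 0 ∧ b * b ≠ 1 := by
  obtain ⟨a, ha⟩ := exists_eval_ne_zero (X * (X * X - 1) : F[X])
    (mul_ne_zero X_ne_zero fun h => by simpa using congrArg (eval 0) h)
    (lt_of_le_of_lt (show _ ≤ 3 by compute_degree) (by omega))
  simp only [eval_mul, eval_X, eval_sub, eval_one, mul_ne_zero_iff, sub_ne_zero] at ha
  exact ⟨a, ha⟩

theorem five_eq_zero_of [Fintype F] (h : 5 ≤ Fintype.card F) {c : F} (hc : c ≠ 0)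
    (h1 : ∀ a : F, a ≠ 0 → a ≠ 1 →
      (a - 1) * (a⁻¹ - 1) * c = 1 ∨ 2 * ((a - 1) * (a⁻¹ - 1) * c) = 1) :
    (5 : F) = 0 ∧ 4 * c = 1 := by
  have h5 : (5 : F) = 0 := by
    by_cases h7 : 7 ≤ Fintype.card F
    · obtain ⟨a, ha⟩ := exists_eval_ne_zero (X * (X - 1) * (C c * ((X - 1) * (1 - X)) - X) *
        (C (2 * c) * ((X - 1) * (1 - X)) - X) : F[X])
        (mul_ne_zero (mul_ne_zero (mul_ne_zero X_ne_zero fun h => by
          simpa using congrArg (eval 0) h) fun h => by simpa [hc] using congrArg (eval 0) h)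
          fun h => by simpa using congrArg (eval 1) h)
        (lt_of_le_of_lt (show _ ≤ 6 by compute_degree) (by omega))
      simp only [eval_mul, eval_X, eval_sub, eval_one, eval_C, mul_ne_zero_iff, sub_ne_zero] at ha
      obtain ⟨⟨⟨h2, h3⟩, h4⟩, h5⟩ := ha
      rcases h1 a h2 h3 with h6 | h6
      · exact absurd (by field_simp at h6; linear_combination h6) h4
      · exact absurd (by field_simp at h6; linear_combination h6) h5
    · have h6 : Fintype.card F ≠ 6 := fun h6 => by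
        have := FiniteField.isPrimePow_card F
        rw [h6] at this
        revert this
        decide
      have := FiniteField.cast_card_eq_zero F
      rwa [show Fintype.card F = 5 by omega] at this
  have h2 : (2 : F) ≠ 0 := fun h2 => one_ne_zero (by linear_combination h5 - 2 * h2 : (1 : F) = 0)
  have h3 : (2 : F)⁻¹ = 3 := by field_simp; linear_combination -h5
  have h4 := h1 2 h2 (fun h => one_ne_zero (by linear_combination h : (1 : F) = 0))
  have h6 := h1 (-1) (by simp) (fun h => h2 (by linear_combination -h))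
  rw [h3] at h4
  rw [inv_neg, inv_one] at h6
  refine ⟨h5, ?_⟩
  rcases h6 with h6 | h6
  · linear_combination h6
  rcases h4 with h4 | h4
  · exact absurd (by linear_combination 2 * h6 - 8 * h4 - h5) (one_ne_zero (α := F))
  · linear_combination h4

variable {ι : Type*} [DecidableEq ι]

variable (F) in
/-- The standard basis vectors. -/
abbrev ev (i : ι) : ι → F := sg i 1

variable (F) in
/-- The coordinate functionals. -/
abbrev pr (j : ι) : Dual F (ι → F) := LinearMap.proj j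

theorem ev_ne {i j : ι} (h : j ≠ i) : ev F i j = 0 := sg_ne h 1

theorem ev_same (i : ι) : ev F i i = 1 := sg_same i 1

theorem hasTv_of_quot {V : Type*} [AddCommGroup V] [Module F V] {L : Subgroup (V ≃ₗ[F] V)}
    {p p' : V ≃ₗ[F] V} (hp : p ∈ L) (hp' : p' ∈ L) {χ : Dual F V} {v : V}
    (h : ∀ z, p' z = p z + χ z • p v) : HasTv L χ v :=
  ⟨p⁻¹ * p', L.mul_mem (L.inv_mem hp) hp', fun z => by
    rw [mul_app, h, map_add, map_smul, inv_app_app, inv_app_app]⟩

theorem hom_inv_apply {V : Type*} [AddCommGroup V] [Module F V] {h : V ≃ₗ[F] V} {φ : Dual F V}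
    {u : V} (h1 : φ u = 1) {a : F} (ha : a ≠ 0) (e : ∀ x, h x = x + ((a - 1) • φ) x • u) (y : V) :
    h⁻¹ y = y + ((a⁻¹ - 1) * φ y) • u := by
  apply h.injective
  rw [app_inv_app, e]
  simp only [LinearMap.smul_apply, map_add, map_smul, h1, smul_eq_mul]
  match_scalars <;> field_simp
  ring

section Homology

variable (L : Subgroup ((ι → F) ≃ₗ[F] (ι → F))) (k : ι)

/-- `L` contains the full group of homologies with centre `u` and axis `φ`. -/
structure Hml (u : ι → F) (φ : Dual F (ι → F)) : Prop where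
  one : φ u = 1
  zero : φ (ev F k) = 0
  mem : ∀ a : F, a ≠ 0 → HasTv L ((a - 1) • φ) u

/-- `L` contains an elementary transvection with centre different from `k`. -/
def HasElem : Prop := ∃ i j : ι, ∃ c : F, i ≠ k ∧ i ≠ j ∧ c ≠ 0 ∧ HasTv L (c • pr F j) (ev F i)

variable {L k}

theorem Hml.conj {u : ι → F} {φ : Dual F (ι → F)} (h : Hml L k u φ) {g : (ι → F) ≃ₗ[F] (ι → F)}
    (hg : g ∈ L) (h0 : φ (g⁻¹ (ev F k)) = 0) :
    Hml L k (g u) (φ ∘ₗ (g⁻¹ : (ι → F) ≃ₗ[F] (ι → F)).toLinearMap) :=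
  ⟨by simpa using h.one, h0, fun a ha => (h.mem a ha).conj hg⟩

theorem Hml.act {u v : ι → F} {φ ψ : Dual F (ι → F)} (h : Hml L k u φ) (h' : Hml L k v ψ) {a : F}
    (ha : a ≠ 0) : Hml L k (v + ((a - 1) * φ v) • u) (ψ + ((a⁻¹ - 1) * ψ u) • φ) := by
  obtain ⟨x, hx, e⟩ := h.mem a ha
  have e' := hom_inv_apply h.one ha e
  have := h'.conj hx (by rw [e', h.zero]; simp [h'.zero])
  rw [e] at this
  have e2 : ψ ∘ₗ (x⁻¹ : (ι → F) ≃ₗ[F] (ι → F)).toLinearMap = ψ + ((a⁻¹ - 1) * ψ u) • φ := by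
    refine LinearMap.ext fun z => ?_
    simp only [LinearMap.comp_apply, LinearEquiv.coe_coe, e', map_add, map_smul,
      LinearMap.add_apply, LinearMap.smul_apply, smul_eq_mul]
    ring
  rwa [e2] at this

variable [Fintype ι]

theorem dual_apply_eq_sum (φ : Dual F (ι → F)) (u : ι → F) : φ u = ∑ i, u i * φ (ev F i) := by
  conv_lhs => rw [← Finset.univ_sum_single u, map_sum]
  refine Finset.sum_congr rfl fun i _ => ?_
  rw [← smul_eq_mul, ← map_smul, ← sg_smul, smul_eq_mul, mul_one]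

theorem Hml.exists_ne {u : ι → F} {φ : Dual F (ι → F)} (h : Hml L k u φ) :
    ∃ i, i ≠ k ∧ u i ≠ 0 ∧ φ (ev F i) ≠ 0 := by
  have h1 := h.one
  rw [dual_apply_eq_sum] at h1
  obtain ⟨i, -, hi⟩ := Finset.exists_ne_zero_of_sum_ne_zero (h1.trans_ne one_ne_zero)
  rw [mul_ne_zero_iff] at hi
  exact ⟨i, fun h2 => hi.2 (h2 ▸ h.zero), hi⟩

variable (hD : ∀ j, ∀ a : F, a ≠ 0 → HasTv L ((a - 1) • pr F j) (ev F j))
include hD

omit [Fintype ι] in
theorem hml_ev {j : ι} (hj : j ≠ k) : Hml L k (ev F j) (pr F j) :=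
  ⟨ev_same j, ev_ne hj, hD j⟩

omit [Fintype ι] in
theorem elem_of_center {a : F} (ha : a ≠ 0) (ha' : a ≠ 1) {χ : Dual F (ι → F)} {i j : ι}
    (h : HasTv L χ (ev F i)) (h0 : χ (ev F i) = 0) (h1 : χ (ev F j) ≠ 0) :
    i ≠ j ∧ ∃ c : F, c ≠ 0 ∧ HasTv L (c • pr F j) (ev F i) := by
  have hij : i ≠ j := fun e => h1 (e ▸ h0)
  obtain ⟨d, hd, e⟩ := hD j a ha
  have h2 : d (ev F i) = ev F i := by rw [e]; simp [ev_ne hij.symm]
  have h3 := h.conj (L.inv_mem hd)
  rw [inv_inv, show d⁻¹ (ev F i) = ev F i from d.injective (by rw [app_inv_app, h2])] at h3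
  refine ⟨hij, (a - 1) * χ (ev F j), mul_ne_zero (sub_ne_zero.2 ha') h1, ?_⟩
  convert h3.add_left (by rw [LinearMap.comp_apply, LinearEquiv.coe_coe, h2, h0]) (h.neg_left h0)
    using 1
  refine LinearMap.ext fun z => ?_
  simp only [LinearMap.comp_apply, LinearEquiv.coe_coe, e, map_add, map_smul,
    LinearMap.add_apply, LinearMap.smul_apply, smul_eq_mul, LinearMap.neg_apply]
  ring

omit [Fintype ι] in
theorem elem_of_axis {a : F} (ha : a ≠ 0) (ha' : a ≠ 1) {w : ι → F} {i j : ι}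
    (h : HasTv L (pr F j) w) (h0 : w j = 0) (h1 : w i ≠ 0) :
    i ≠ j ∧ ∃ c : F, c ≠ 0 ∧ HasTv L (c • pr F j) (ev F i) := by
  have hij : i ≠ j := fun e => h1 (e ▸ h0)
  obtain ⟨d, hd, e⟩ := hD i a ha
  have h3 := h.conj hd
  have h4 : pr F j ∘ₗ (d⁻¹ : (ι → F) ≃ₗ[F] (ι → F)).toLinearMap = pr F j := by
    refine LinearMap.ext fun z => ?_
    rw [LinearMap.comp_apply, LinearEquiv.coe_coe, hom_inv_apply (φ := pr F i) (ev_same i) ha e]
    simp [hij.symm]
  rw [h4, e] at h3
  refine ⟨hij, (a - 1) * w i, mul_ne_zero (sub_ne_zero.2 ha') h1, ?_⟩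
  rw [hasTv_smul_iff]
  convert h3.add_right (w := -w) (by simp [h0]) (h.neg_right h0) using 1
  simp

variable (hE : ¬ HasElem L k) {b : F} (hb : b ≠ 0) (hb' : b ≠ 1)
include hE hb hb'

theorem Hml.zero_iff {u : ι → F} {φ : Dual F (ι → F)} (h : Hml L k u φ) {j : ι} (hj : j ≠ k) :
    u j = 0 ↔ φ (ev F j) = 0 := by
  obtain ⟨i, hi, hi', hi''⟩ := h.exists_ne
  obtain ⟨x, hx, e⟩ := h.mem b hb
  obtain ⟨d, hd, e'⟩ := hD j b hb
  have hb1 := sub_ne_zero.2 hb'
  constructor <;> intro h1 <;> by_contra h2 <;> apply hE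
  · have h3 : HasTv L (pr F j) (((b - 1) * (b - 1) * φ (ev F j)) • u) := by
      refine hasTv_of_quot hd (L.mul_mem (L.mul_mem hx hd) (L.inv_mem hx)) fun z => ?_
      rw [mul_app, mul_app, e', map_add, app_inv_app, map_smul, hom_inv_apply h.one hb e, e, e', e']
      simp only [LinearMap.smul_apply, LinearMap.proj_apply, Pi.add_apply, Pi.smul_apply, h1,
        smul_eq_mul]
      module
    obtain ⟨h4, c, h5, h6⟩ := elem_of_axis hD hb hb' (i := i) h3 (by simp [h1])
      (by simp [hb1, h2, hi'])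
    exact ⟨i, j, c, hi, h4, h5, h6⟩
  · have h3 : HasTv L (((b - 1) * (b - 1) * u j) • φ) (ev F j) := by
      refine hasTv_of_quot hx (L.mul_mem (L.mul_mem hd hx) (L.inv_mem hd)) fun z => ?_
      rw [mul_app, mul_app, e, map_add, app_inv_app, map_smul,
        hom_inv_apply (φ := pr F j) (ev_same j) hb e', e', e, e]
      simp only [LinearMap.smul_apply, LinearMap.proj_apply, map_add, map_smul, h1, smul_eq_mul]
      module
    obtain ⟨h4, c, h5, h6⟩ := elem_of_center hD hb hb' (j := i) h3 (by simp [h1])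
      (by simp [hb1, h2, hi''])
    exact ⟨j, i, c, hj, h4, h5, h6⟩

theorem Hml.theta {u : ι → F} {φ : Dual F (ι → F)} (h : Hml L k u φ) {j : ι} (hj : j ≠ k)
    (h1 : u j ≠ 0) : u j * φ (ev F j) = 1 ∨ 2 * (u j * φ (ev F j)) = 1 := by
  have h2 : φ (ev F j) ≠ 0 := fun h2 => h1 ((h.zero_iff hD hE hb hb' hj).2 h2)
  by_cases h3 : u j * φ (ev F j) = 1
  · exact Or.inl h3
  have h4 : u j * φ (ev F j) - 1 ≠ 0 := sub_ne_zero.2 h3
  have h5 : 1 - (u j * φ (ev F j))⁻¹ ≠ 0 := by
    rw [sub_ne_zero]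
    exact fun h5 => h3 (inv_eq_one.1 h5.symm)
  have h6 := ((h.act (hml_ev hD hj) h5).zero_iff hD hE hb hb' hj).1 (by
    simp only [Pi.add_apply, Pi.smul_apply, ev_same, smul_eq_mul]
    field_simp
    ring)
  simp only [LinearMap.add_apply, LinearMap.smul_apply, LinearMap.proj_apply, ev_same,
    smul_eq_mul] at h6
  right
  field_simp at h6
  linear_combination h6

omit hb hb' in
theorem Hml.half [Fintype F] (hq : 5 ≤ Fintype.card F) {u : ι → F} {φ : Dual F (ι → F)}
    (h : Hml L k u φ) {j l : ι} (hj : j ≠ k) (hl : l ≠ k) (hjl : j ≠ l) (h1 : u j ≠ 0)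
    (h2 : u l ≠ 0) : (5 : F) = 0 ∧ 2 * (u j * φ (ev F j)) = 1 := by
  obtain ⟨b, hb, hb2⟩ := exists_sq_ne_one hq
  have hb' : b ≠ 1 := fun h => hb2 (by rw [h, mul_one])
  have h3 : φ (ev F j) ≠ 0 := fun h2 => h1 ((h.zero_iff hD hE hb hb' hj).2 h2)
  have h4 : φ (ev F l) ≠ 0 := fun h3 => h2 ((h.zero_iff hD hE hb hb' hl).2 h3)
  obtain ⟨h5, h6⟩ := five_eq_zero_of hq (c := u j * φ (ev F j) * (u l * φ (ev F l)))
    (by simp [h1, h2, h3, h4]) fun a ha ha' => by
      have := (h.act (hml_ev hD hj) ha).theta hD hE hb hb' hl (by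
        simp [ev_ne hjl.symm, h2, h3, sub_ne_zero.2 ha'])
      simp only [Pi.add_apply, Pi.smul_apply, LinearMap.add_apply, LinearMap.smul_apply,
        LinearMap.proj_apply, ev_ne hjl, ev_ne hjl.symm, smul_eq_mul, zero_add] at this
      rcases this with h7 | h7
      · exact Or.inl (by linear_combination h7)
      · exact Or.inr (by linear_combination h7)
  refine ⟨h5, (h.theta hD hE hb hb' hj h1).resolve_left fun h7 => ?_⟩
  rw [h7, one_mul] at h6
  rcases h.theta hD hE hb hb' hl h2 with h8 | h8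
  · exact one_ne_zero (by linear_combination 2 * h6 - 8 * h8 - h5 : (1 : F) = 0)
  · exact one_ne_zero (by linear_combination h6 - 2 * h8 : (1 : F) = 0)

omit hb hb' in
/-- Without elementary transvections every homology is monomial modulo `e_k`. -/
theorem Hml.false [Fintype F] (hq : 5 ≤ Fintype.card F) (hn : 4 ≤ Fintype.card ι)
    (hS : ∀ l m, l ≠ k → m ≠ k → l ≠ m → ∃ s ∈ L, (∀ j, j ≠ l → j ≠ m → s (ev F j) = ev F j) ∧
      ∃ c : F, c ≠ 0 ∧ s (ev F l) = c • ev F m ∧ ∃ c' : F, s (c' • ev F m) = ev F l)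
    {u : ι → F} {φ : Dual F (ι → F)} (h : Hml L k u φ) {j l : ι} (hj : j ≠ k) (hl : l ≠ k)
    (hjl : j ≠ l) (h1 : u j ≠ 0) (h2 : u l ≠ 0) : False := by
  obtain ⟨b, hb, hb2⟩ := exists_sq_ne_one hq
  have hb' : b ≠ 1 := fun h => hb2 (by rw [h, mul_one])
  obtain ⟨h5, h3⟩ := h.half hD hE hq hj hl hjl h1 h2
  have h4 := (h.half hD hE hq hl hj hjl.symm h2 h1).2
  have h2' : (2 : F) ≠ 0 := fun h2 => one_ne_zero (by linear_combination h5 - 2 * h2 : (1 : F) = 0)
  have h6 : φ (ev F j) ≠ 0 := fun h2 => h1 ((h.zero_iff hD hE hb hb' hj).2 h2)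
  by_cases h7 : ∃ m, m ≠ k ∧ m ≠ j ∧ m ≠ l ∧ u m ≠ 0
  · obtain ⟨m, hm, hmj, hml, h7⟩ := h7
    have h8 : (-1 - 1 : F) ≠ 0 := fun h8 => h2' (by linear_combination -h8)
    have := ((h.act (hml_ev hD hj) (a := -1) (by simp)).half hD hE hq hl hm hml.symm
      (by simp [ev_ne hjl.symm, h2, h6, h8]) (by simp [ev_ne hmj, h7, h6, h8])).2
    simp only [Pi.add_apply, Pi.smul_apply, LinearMap.add_apply, LinearMap.smul_apply,
      LinearMap.proj_apply, ev_ne hjl, ev_ne hjl.symm, smul_eq_mul, zero_add, inv_neg,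
      inv_one] at this
    exact one_ne_zero (by
      linear_combination this - 4 * (u l * φ (ev F l)) * h3 - 2 * h4 : (1 : F) = 0)
  push Not at h7
  obtain ⟨m, hm, hmj, hml⟩ : ∃ m, m ≠ k ∧ m ≠ j ∧ m ≠ l := by
    by_contra h8
    push Not at h8
    have : (Finset.univ : Finset ι) ⊆ {k, j, l} := fun m _ => by
      by_cases h9 : m = k
      · simp [h9]
      by_cases h10 : m = j
      · simp [h10]
      · simp [h8 m h9 h10]
    have := (Finset.card_le_card this).trans Finset.card_le_three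
    rw [Finset.card_univ] at this
    omega
  have h8 : φ (ev F m) = 0 := (h.zero_iff hD hE hb hb' hm).1 (h7 m hm hmj hml)
  obtain ⟨s, hs, s1, c, hc, s2, c', s3⟩ := hS l m hl hm hml.symm
  have hu : u = u j • ev F j + u l • ev F l + u k • ev F k := by
    ext r
    simp only [Pi.add_apply, Pi.smul_apply, smul_eq_mul]
    by_cases r1 : r = k
    · subst r1; simp [hj.symm, hl.symm]
    by_cases r2 : r = j
    · subst r2; simp [hj, hjl]
    by_cases r3 : r = l
    · subst r3; simp [hl, hjl.symm]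
    · simp [r1, r2, r3, h7 r r1 r2 r3]
  have t1 : ∀ r, r ≠ l → r ≠ m → s⁻¹ (ev F r) = ev F r := fun r r1 r2 =>
    s.injective (by rw [app_inv_app, s1 r r1 r2])
  have t2 : s⁻¹ (ev F m) = c⁻¹ • ev F l :=
    s.injective (by rw [app_inv_app, map_smul, s2, smul_smul, inv_mul_cancel₀ hc, one_smul])
  have t3 : s⁻¹ (ev F l) = c' • ev F m := s.injective (by rw [app_inv_app, s3])
  have hv : s u = u j • ev F j + (u l * c) • ev F m + u k • ev F k := by
    conv_lhs => rw [hu]
    rw [map_add, map_add, map_smul, map_smul, map_smul, s1 j hjl hmj.symm, s1 k hl.symm hm.symm, s2,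
      smul_smul]
  have e1 : φ (s u) = u j * φ (ev F j) := by simp [hv, h8, h.zero]
  have e2 : φ (s⁻¹ u) = u j * φ (ev F j) := by
    conv_lhs => rw [hu]
    simp only [map_add, map_smul, t1 j hjl hmj.symm, t1 k hl.symm hm.symm, t3, h8, h.zero,
      smul_eq_mul, mul_zero, add_zero]
  have e3 : s u m = u l * c := by simp [hv, hmj, hm]
  have e4 : s u l = 0 := by simp [hv, hjl.symm, hml.symm, hl]
  have h9 := (h.conj hs (by rw [t1 k hl.symm hm.symm, h.zero])).act h h2'
  have := (h9.half hD hE hq hm hl hml (by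
    simp only [Pi.add_apply, Pi.smul_apply, LinearMap.comp_apply, LinearEquiv.coe_coe, e2, e3,
      h7 m hm hmj hml, smul_eq_mul, zero_add]
    refine mul_ne_zero (mul_ne_zero (by norm_num) (mul_ne_zero h1 h6)) (mul_ne_zero h2 hc))
    (by simpa [e4] using h2)).2
  simp only [Pi.add_apply, Pi.smul_apply, LinearMap.comp_apply, LinearEquiv.coe_coe, e1, e2, e3,
    h7 m hm hmj hml, smul_eq_mul, zero_add, LinearMap.add_apply, LinearMap.smul_apply, h8, t2,
    map_smul] at this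
  field_simp at this
  grind

end Homology

end Cfsg.Agent.Class.Max
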