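import Mathlib
import Cfsg.Agent.Class.Max.C2Mon1
import Cfsg.Agent.Class.Max.C2Lin

/-!
The monomial group is maximal in `SL`.
-/

set_option autoImplicit false

namespace Cfsg.Agent.Class.Max

open Module Polynomial

variable {F : Type*} [Field F] {ι : Type*} [DecidableEq ι]

/-- The diagonal map with entries `b`, `b⁻¹` in places `i`, `j`. -/
def dd {i j : ι} (hij : i ≠ j) {b : F} (hb : b ≠ 0) : (ι → F) ≃ₗ[F] (ι → F) where
  toFun x := x + ((b - 1) * x i) • ev F i + ((b⁻¹ - 1) * x j) • ev F j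
  invFun x := x + ((b⁻¹ - 1) * x i) • ev F i + ((b - 1) * x j) • ev F j
  map_add' x y := by simp only [Pi.add_apply]; module
  map_smul' c x := by simp only [Pi.smul_apply, smul_eq_mul, RingHom.id_apply]; module
  left_inv x := by
    simp only [Pi.add_apply, Pi.smul_apply, smul_eq_mul, ev_same, ev_ne hij, ev_ne hij.symm]
    match_scalars <;> field_simp <;> ring
  right_inv x := by
    simp only [Pi.add_apply, Pi.smul_apply, smul_eq_mul, ev_same, ev_ne hij, ev_ne hij.symm]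
    match_scalars <;> field_simp <;> ring

section DD

variable {i j : ι} (hij : i ≠ j) {b : F} (hb : b ≠ 0)

theorem dd_apply (x : ι → F) :
    dd hij hb x = x + ((b - 1) * x i) • ev F i + ((b⁻¹ - 1) * x j) • ev F j := rfl

theorem dd_inv : (dd hij hb)⁻¹ = dd hij (inv_ne_zero hb) :=
  LinearEquiv.ext fun x => by rw [dd_apply, inv_inv]; rfl

theorem dd_left (x : ι → F) : dd hij hb x i = b * x i := by
  simp [dd_apply, hij]; ring

theorem dd_right (x : ι → F) : dd hij hb x j = b⁻¹ * x j := by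
  simp [dd_apply, hij.symm]; ring

theorem dd_ne (x : ι → F) {l : ι} (h1 : l ≠ i) (h2 : l ≠ j) : dd hij hb x l = x l := by
  simp [dd_apply, h1, h2]

theorem dd_fix {x : ι → F} (h1 : x i = 0) (h2 : x j = 0) : dd hij hb x = x := by
  simp [dd_apply, h1, h2]

theorem dd_ev {l : ι} (h1 : l ≠ i) (h2 : l ≠ j) : dd hij hb (ev F l) = ev F l :=
  dd_fix hij hb (ev_ne h1.symm) (ev_ne h2.symm)

theorem dd_ev_left : dd hij hb (ev F i) = b • ev F i := by
  rw [dd_apply, ev_same, ev_ne hij.symm]; module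

theorem dd_ev_right : dd hij hb (ev F j) = b⁻¹ • ev F j := by
  rw [dd_apply, ev_same, ev_ne hij]; module

theorem dd_mem [Fintype ι] : dd hij hb ∈ Nblk F ι F ⊓ SLV F (ι → F) := by
  obtain ⟨d, hd, d1, d2⟩ := exists_blk_dil i (χ := LinearMap.id) (u := (1 : F)) rfl hb
  obtain ⟨d', hd', d1', d2'⟩ := exists_blk_dil j (χ := LinearMap.id) (u := (1 : F)) rfl (inv_ne_zero hb)
  have : dd hij hb = d' * d := LinearEquiv.ext fun x => by
    rw [mul_app, d2', d2, dd_apply]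
    simp [hij.symm]
  rw [this]
  exact ⟨(Nblk F ι F).mul_mem hd' hd, mem_SLV.2 (by
    rw [LinearEquiv.coe_toLinearMap_mul, map_mul, d1, d1', inv_mul_cancel₀ hb])⟩

end DD

theorem eq_smul_ev {i : ι} {v : ι → F} (h : v ∈ blk F F i) : v = v i • ev F i := by
  rw [← sg_smul, smul_eq_mul, mul_one]
  exact eq_single_of_mem_blk h

theorem smul_ev_mem (i : ι) (c : F) : c • ev F i ∈ blk F F i :=
  (blk F F i).smul_mem c (single_mem_blk i 1)

variable [Fintype ι]

theorem exists_notMem_of_card_lt (s : Finset ι) (h : s.card < Fintype.card ι) : ∃ m, m ∉ s := by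
  by_contra hc
  push Not at hc
  have := Finset.card_le_card (show Finset.univ ⊆ s from fun m _ => hc m)
  rw [Finset.card_univ] at this
  omega

theorem exists_ne_list (l : List ι) (h : l.length < Fintype.card ι) : ∃ m, ∀ x ∈ l, m ≠ x := by
  obtain ⟨m, hm⟩ := exists_notMem_of_card_lt l.toFinset ((List.toFinset_card_le l).trans_lt h)
  exact ⟨m, fun x hx e => hm (List.mem_toFinset.2 (e ▸ hx))⟩

theorem mem_Nblk_of_ev {g : (ι → F) ≃ₗ[F] (ι → F)} (h : ∀ i, ∃ j, g (ev F i) ∈ blk F F j) :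
    g ∈ Nblk F ι F :=
  mem_Nblk_of_apply fun i u => by
    obtain ⟨j, hj⟩ := h i
    refine ⟨j, ?_⟩
    rw [show sg i u = u • ev F i by rw [← sg_smul, smul_eq_mul, mul_one], map_smul]
    exact (blk F F j).smul_mem u hj

variable {M : Subgroup ((ι → F) ≃ₗ[F] (ι → F))} (hM : Nblk F ι F ⊓ SLV F (ι → F) ≤ M)
  (hn : 4 ≤ Fintype.card ι) {b : F} (hb : b ≠ 0) (hb' : b * b ≠ 1)
include hM

theorem hasTv_dd {χ : Dual F (ι → F)} {k l m : ι} (h : HasTv M χ (ev F k)) (h0 : χ (ev F k) = 0)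
    (hlm : l ≠ m) (hkl : k ≠ l) (hkm : k ≠ m) {b : F} (hb : b ≠ 0) :
    HasTv M (((b - 1) * χ (ev F l)) • pr F l + ((b⁻¹ - 1) * χ (ev F m)) • pr F m) (ev F k) := by
  have h3 := h.conj (M.inv_mem (hM (dd_mem hlm hb)))
  rw [inv_inv, dd_inv, dd_ev _ _ hkl hkm] at h3
  convert h3.add_left (by rw [LinearMap.comp_apply, LinearEquiv.coe_coe, dd_ev _ _ hkl hkm, h0])
    (h.neg_left h0) using 1
  refine LinearMap.ext fun z => ?_
  simp only [LinearMap.comp_apply, LinearEquiv.coe_coe, dd_apply, map_add, map_smul,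
    LinearMap.add_apply, LinearMap.smul_apply, smul_eq_mul, LinearMap.neg_apply,
    LinearMap.proj_apply]
  ring

include hn hb hb'

theorem SLV_le_of_tv_ev {χ : Dual F (ι → F)} {k l : ι} (h : HasTv M χ (ev F k))
    (h0 : χ (ev F k) = 0) (h1 : χ (ev F l) ≠ 0) : SLV F (ι → F) ≤ M := by
  have hb1 : b - 1 ≠ 0 := sub_ne_zero.2 fun h => hb' (by rw [h, mul_one])
  have hkl : k ≠ l := fun e => h1 (e ▸ h0)
  obtain ⟨m, hm⟩ := exists_ne_list [k, l] (by simp; omega)
  obtain ⟨m', hm'⟩ := exists_ne_list [k, l, m] (by simp; omega)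
  simp only [List.mem_cons, List.not_mem_nil, or_false, forall_eq_or_imp, forall_eq] at hm hm'
  have h2 := hasTv_dd hM h h0 hm.2.symm hkl hm.1.symm hb
  have h3 := hasTv_dd hM h2 (by simp [hkl.symm, hm.1]) hm'.2.1.symm hkl hm'.1.symm hb
  simp only [LinearMap.add_apply, LinearMap.smul_apply, LinearMap.proj_apply, ev_same,
    ev_ne hm.2, ev_ne hm'.2.1.symm, ev_ne hm'.2.2.symm, smul_eq_mul, mul_zero, add_zero, zero_smul,
    mul_one] at h3
  refine SLV_le_of_blk_pair hM hkl fun ξ u => ?_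
  by_cases h4 : ξ 1 * u = 0
  · refine (hasTv_zero_left (ev F k)).congr fun x => ?_
    rw [onB_apply, ← sg_smul, ← sg_smul, show ξ (x l) = x l * ξ 1 by
      rw [← smul_eq_mul, ← map_smul, smul_eq_mul, mul_one]]
    simp [mul_assoc, h4]
  have h5 : ξ 1 * u / ((b - 1) * ((b - 1) * χ (ev F l))) ≠ 0 :=
    div_ne_zero h4 (by simp [h1, hb1])
  have h6 := h3.conj (hM (dd_mem hm.1.symm h5))
  refine h6.congr fun x => ?_
  rw [onB_apply, show ξ (x l) = x l * ξ 1 by rw [← smul_eq_mul, ← map_smul, smul_eq_mul, mul_one],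
    dd_ev_left, dd_inv, ← sg_smul, ← sg_smul, ← sg_smul]
  simp only [LinearMap.comp_apply, LinearEquiv.coe_coe, LinearMap.smul_apply, LinearMap.proj_apply,
    dd_ne _ _ _ hkl.symm hm.2.symm, smul_eq_mul]
  congr 1
  field_simp

theorem SLV_le_of_triv (hS : M ≤ SLV F (ι → F)) {y : (ι → F) ≃ₗ[F] (ι → F)} (hy : y ∈ M) {k : ι}
    (h : ∀ z, y z - z ∈ blk F F k) {l : ι} (hl : y (ev F l) ≠ ev F l) : SLV F (ι → F) ≤ M := by
  let ψ : Dual F (ι → F) := pr F k ∘ₗ (y.toLinearMap - LinearMap.id)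
  have e : ∀ z, y z = z + ψ z • ev F k := fun z => by
    rw [← sub_eq_iff_eq_add']
    exact eq_smul_ev (h z)
  have h1 : (y : (ι → F) →ₗ[F] (ι → F)) = LinearMap.transvection ψ (ev F k) := LinearMap.ext e
  have h2 := mem_SLV.1 (hS hy)
  rw [h1, LinearMap.transvection.det] at h2
  refine SLV_le_of_tv_ev hM hn hb hb' ⟨y, hy, e⟩ (by linear_combination h2) (l := l) fun h3 => hl ?_
  rw [e, h3, zero_smul, add_zero]

omit hM hn hb hb' in
variable (M) in
/-- The group induced by `M` on the quotient by the `k`-th coordinate axis. -/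
def modAxis (k : ι) : Subgroup ((ι → F) ≃ₗ[F] (ι → F)) where
  carrier := {h | h ∈ stab (blk F F k) ∧ ∃ p ∈ M, ∀ x, p x - h x ∈ blk F F k}
  mul_mem' := by
    rintro h h' ⟨h1, p, hp, h2⟩ ⟨h1', p', hp', h2'⟩
    refine ⟨(stab _).mul_mem h1 h1', p * p', M.mul_mem hp hp', fun x => ?_⟩
    have := (blk F F k).add_mem (h2 (p' x)) (stab_apply h1 (h2' x))
    rwa [map_sub, sub_add_sub_cancel] at this
  one_mem' := ⟨(stab _).one_mem, 1, M.one_mem, fun x => by simp⟩
  inv_mem' := by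
    rintro h ⟨h1, p, hp, h2⟩
    refine ⟨(stab _).inv_mem h1, p⁻¹, M.inv_mem hp, fun x => ?_⟩
    have := stab_apply ((stab _).inv_mem h1) ((blk F F k).neg_mem (h2 (p⁻¹ x)))
    rwa [app_inv_app, neg_sub, map_sub, inv_app_app] at this

theorem SLV_le_of_hasElem {k : ι} (h : HasElem (modAxis M k) k) :
    SLV F (ι → F) ≤ M := by
  have hb1 : b - 1 ≠ 0 := sub_ne_zero.2 fun h => hb' (by rw [h, mul_one])
  obtain ⟨i, j, c, hik, hij, hc, t, ⟨h1, p, hp, h2⟩, e⟩ := h
  have hjk : j ≠ k := by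
    rintro rfl
    have := stab_apply h1 (single_mem_blk j 1) i hik
    rw [e] at this
    simp [hij, hc] at this
  let ψ : Dual F (ι → F) := pr F k ∘ₗ (p.toLinearMap - t.toLinearMap)
  have e1 : ∀ z, p z = z + (c * z j) • ev F i + ψ z • ev F k := fun z => by
    rw [← smul_eq_mul c, ← LinearMap.proj_apply (R := F) (φ := fun _ => F) j z,
      ← LinearMap.smul_apply, ← e, ← sub_eq_iff_eq_add']
    exact eq_smul_ev (h2 z)
  generalize ψ = ψ at e1
  obtain ⟨m, hm⟩ := exists_ne_list [i, j, k] (by simp; omega)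
  simp only [List.mem_cons, List.not_mem_nil, or_false, forall_eq_or_imp, forall_eq] at hm
  obtain ⟨hmi, hmj, hmk⟩ := hm
  have e2 : p (ev F k) = (1 + ψ (ev F k)) • ev F k := by rw [e1, ev_ne hjk]; module
  have e3 : 1 + ψ (ev F k) ≠ 0 := fun h3 => by
    rw [h3, zero_smul, map_eq_zero_iff _ p.injective] at e2
    simpa using congrFun e2 k
  by_contra hc'
  have h3 : ∀ l, l ≠ k → ψ (ev F l) = 0 := by
    have hd := hM (dd_mem hmk.symm hb)
    have h4 : HasTv M ((1 + ψ (ev F k))⁻¹ • (b • ψ ∘ₗ (dd hmk.symm (inv_ne_zero hb)).toLinearMap - ψ))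
        (ev F k) := by
      refine hasTv_of_quot hp (M.mul_mem (M.mul_mem hd hp) (M.inv_mem hd)) fun z => ?_
      rw [mul_app, mul_app, e1, map_add, map_add, app_inv_app, map_smul, map_smul, dd_ev_left,
        dd_ev _ _ hik hmi.symm, e1 z, e2, dd_inv, dd_ne _ _ _ hjk hmj.symm]
      simp only [LinearMap.smul_apply, LinearMap.sub_apply, LinearMap.comp_apply,
        LinearEquiv.coe_coe, smul_eq_mul]
      match_scalars <;> field_simp
      ring
    intro l hl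
    by_contra h5
    refine hc' (SLV_le_of_tv_ev hM hn hb hb' h4 (l := l) ?_ ?_)
    · simp [dd_ev_left, hb]
    · by_cases h6 : l = m
      · subst h6
        simp only [LinearMap.smul_apply, LinearMap.sub_apply, LinearMap.comp_apply,
          LinearEquiv.coe_coe, smul_eq_mul, dd_ev_right, map_smul, inv_inv]
        refine mul_ne_zero (inv_ne_zero e3) fun h7 => h5 ?_
        exact mul_left_cancel₀ (sub_ne_zero.2 hb') (by linear_combination h7)
      · simp only [LinearMap.smul_apply, LinearMap.sub_apply, LinearMap.comp_apply,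
          LinearEquiv.coe_coe, smul_eq_mul, dd_ev _ _ hl h6]
        refine mul_ne_zero (inv_ne_zero e3) fun h7 => h5 ?_
        exact mul_left_cancel₀ hb1 (by linear_combination h7)
  have hd := hM (dd_mem hmi.symm hb)
  have h4 : HasTv M (((b - 1) * c) • pr F j) (ev F i) := by
    refine hasTv_of_quot hp (M.mul_mem (M.mul_mem hd hp) (M.inv_mem hd)) fun z => ?_
    rw [mul_app, mul_app, e1, map_add, map_add, app_inv_app, map_smul, map_smul, dd_ev_left,
      dd_ev _ _ hik.symm hmk.symm, e1 z, e1 (ev F i), dd_inv, dd_ne _ _ _ hij.symm hmj.symm,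
      dd_apply _ _ z, ev_ne hij.symm]
    simp only [LinearMap.smul_apply, LinearMap.proj_apply, map_add, map_smul, h3 i hik, h3 m hmk,
      smul_eq_mul]
    module
  exact hc' (SLV_le_of_tv_ev hM hn hb hb' h4 (l := j) (by simp [hij.symm]) (by simp [hb1, hc]))

omit hM hn hb hb' in
theorem mem_modAxis {k : ι} {g : (ι → F) ≃ₗ[F] (ι → F)} (hg : g ∈ M)
    (h : g (ev F k) ∈ blk F F k) : g ∈ modAxis M k :=
  ⟨mem_stab_of_mapsTo fun v hv => by
    rw [eq_smul_ev hv, map_smul]; exact (blk F F k).smul_mem _ h, g, hg, fun x => by simp⟩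

omit hn hb hb' in
theorem hasTv_modAxis (k j : ι) (a : F) (ha : a ≠ 0) :
    HasTv (modAxis M k) ((a - 1) • pr F j) (ev F j) := by
  obtain ⟨d, -, -, d2⟩ := exists_blk_dil j (χ := LinearMap.id) (u := (1 : F)) rfl ha
  refine ⟨d, ⟨mem_stab_of_mapsTo fun v hv => ?_, ?_⟩, d2⟩
  · rw [d2]
    by_cases hj : j = k
    · subst hj
      exact (blk F F j).add_mem hv (smul_ev_mem _ _)
    · simpa [hv j hj] using hv
  · by_cases hj : j = k
    · subst hj
      exact ⟨1, M.one_mem, fun x => by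
        rw [d2, one_app, sub_add_cancel_left]; exact (blk F F j).neg_mem (smul_ev_mem _ _)⟩
    · exact ⟨_, hM (dd_mem hj ha), fun x => by
        rw [d2, dd_apply, LinearMap.id_apply, add_sub_cancel_left]; exact smul_ev_mem _ _⟩

omit hb hb' in
/-- A non-monomial element fixing a coordinate axis gives `SL`. -/
theorem SLV_le_of_fix [Fintype F] (hq : 5 ≤ Fintype.card F) (hS : M ≤ SLV F (ι → F))
    {g : (ι → F) ≃ₗ[F] (ι → F)} (hg : g ∈ M) {k : ι} (hk : g (ev F k) ∈ blk F F k)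
    (hg' : g ∉ Nblk F ι F) : SLV F (ι → F) ≤ M := by
  obtain ⟨b, hb, hb'⟩ := exists_sq_ne_one hq
  have hb1 : b ≠ 1 := fun h => hb' (by rw [h, mul_one])
  by_contra hc
  have hE : ¬ HasElem (modAxis M k) k := fun h => hc (SLV_le_of_hasElem hM hn hb hb' h)
  have hD := hasTv_modAxis hM k
  obtain ⟨j, hj⟩ : ∃ j, ∀ i, g (ev F j) ∉ blk F F i := by
    by_contra h
    push Not at h
    exact hg' (mem_Nblk_of_ev h)
  have hjk : j ≠ k := fun h => hj k (h ▸ hk)
  have hgL := mem_modAxis hg hk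
  have h1 := (hml_ev hD hjk).conj hgL
    (stab_apply ((stab _).inv_mem hgL.1) (single_mem_blk k 1) j hjk)
  obtain ⟨l, hl, hl', hl''⟩ := h1.exists_ne
  have h2 : ∀ m, m ≠ k → m ≠ l → g (ev F j) m = 0 := fun m hm hml => by
    by_contra h2
    refine h1.false hD hE hq hn (fun l m hl hm hlm => ?_) hm hl hml h2 hl'
    obtain ⟨s, hs, s1, s2⟩ := exists_perm (F := F) (W := F) l (Equiv.swap l m)
    have s3 : ∀ j, j ≠ l → j ≠ m → s (ev F j) = ev F j := fun j h3 h4 => by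
      rw [s2 j (by rwa [Equiv.swap_apply_of_ne_of_ne h3 h4]), Equiv.swap_apply_of_ne_of_ne h3 h4]
    refine ⟨s, mem_modAxis (hM hs) (by rw [s3 k hl.symm hm.symm]; exact single_mem_blk _ _), s3, 1,
      one_ne_zero, by rw [s2 l (by simpa using hlm.symm), Equiv.swap_apply_left, one_smul],
      s⁻¹ (ev F l) m, ?_⟩
    rw [← eq_smul_ev, app_inv_app]
    rw [s1, app_inv_app, Equiv.swap_apply_right]
    exact single_mem_blk _ _
  set u := g (ev F j) with hu
  set φ := pr F j ∘ₗ (g⁻¹ : (ι → F) ≃ₗ[F] (ι → F)).toLinearMap with hφ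
  have h3 : u k ≠ 0 := fun h3 => hj l fun m hm => by
    by_cases h4 : m = k
    · rw [h4, h3]
    · exact h2 m h4 hm
  have h4 : u = u l • ev F l + u k • ev F k := by
    ext m
    by_cases h4 : m = k
    · simp [h4, hl.symm]
    by_cases h5 : m = l
    · simp [h5, hl]
    · simp [h4, h5, h2 m h4 h5]
  have h5 : ∀ z, φ z = z l * φ (ev F l) := fun z => by
    rw [dual_apply_eq_sum]
    refine Finset.sum_eq_single l (fun m _ hm => ?_) (by simp)
    by_cases h4 : m = k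
    · rw [h4, h1.zero, mul_zero]
    · rw [(h1.zero_iff hD hE hb hb1 h4).1 (h2 m h4 hm), mul_zero]
  have h6 : u l * φ (ev F l) = 1 := by rw [← h5, h1.one]
  set x := g * dd hjk hb * g⁻¹ with hx
  have h7 : ∀ z, x z = z + ((b - 1) * φ z) • u + ((b⁻¹ - 1) * g⁻¹ z k) • g (ev F k) := fun z => by
    rw [hx, mul_app, mul_app, dd_apply, map_add, map_add, map_smul, map_smul, app_inv_app]
    rfl
  have h8 : x u = b • u := by rw [hx, hu, mul_app, mul_app, inv_app_app, dd_ev_left, map_smul]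
  have h9 : x (ev F k) = b⁻¹ • ev F k := by
    have := eq_smul_ev (stab_apply ((stab _).inv_mem hgL.1) (single_mem_blk k 1))
    rw [hx, mul_app, mul_app, this, map_smul, dd_ev_right, smul_comm, ← this, map_smul,
      app_inv_app]
  refine hc (SLV_le_of_triv hM hn hb hb' hS (y := (dd hl hb)⁻¹ * x)
    (M.mul_mem (M.inv_mem (hM (dd_mem hl hb)))
      (M.mul_mem (M.mul_mem hg (hM (dd_mem hjk hb))) (M.inv_mem hg))) (k := k)
    (fun z m hm => ?_) (l := l) fun h10 => ?_)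
  · rw [Pi.sub_apply, mul_app, dd_inv, sub_eq_zero]
    by_cases h4 : m = l
    · subst h4
      rw [dd_left, h7, h5]
      simp only [Pi.add_apply, Pi.smul_apply, smul_eq_mul, hk m hm]
      rw [inv_mul_eq_iff_eq_mul₀ hb]
      linear_combination z m * (b - 1) * h6
    · rw [dd_ne _ _ _ h4 hm, h7]
      simp [hk m hm, h2 m hm h4]
  · have h11 : x (ev F l) = b • ev F l := by
      have := congrArg (dd hl hb) h10
      rwa [mul_app, app_inv_app, dd_ev_left] at this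
    rw [h4, map_add, map_smul, map_smul, h11, h9] at h8
    have := congrFun h8 k
    simp only [Pi.add_apply, Pi.smul_apply, smul_eq_mul, ev_same, ev_ne hl.symm] at this
    field_simp at this
    exact hb' (mul_right_cancel₀ h3 (by linear_combination -this))

section HypA

omit hb hb' hn
variable [Fintype F] (hq : 5 ≤ Fintype.card F)
  (hA : ∀ g ∈ M, ∀ k i, g (ev F k) ∈ blk F F i → g ∈ Nblk F ι F)
include hq hA

theorem zero_of_two_zeros {g : (ι → F) ≃ₗ[F] (ι → F)} (hg : g ∈ M) {k i j : ι} (hij : i ≠ j)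
    (hi : g (ev F k) i = 0) (hj : g (ev F k) j = 0) {r : ι} (hr : g (ev F r) i ≠ 0) {l : ι}
    (hli : l ≠ i) (hlj : l ≠ j) : g (ev F r) l = 0 := by
  set p := g (ev F r) with hp
  obtain ⟨b, hb⟩ := exists_eval_ne_zero (X * (X - 1) * (X + C (p i * g⁻¹ (ev F i) r) * ((X - 1) * X)
    + C (p j * g⁻¹ (ev F j) r) * (1 - X)) : F[X])
    (mul_ne_zero (mul_ne_zero X_ne_zero fun h => by simpa using congrArg (eval 0) h)
      fun h => by simpa using congrArg (eval 1) h)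
    (lt_of_le_of_lt (show _ ≤ 4 by compute_degree) (by omega))
  simp only [eval_mul, eval_X, eval_sub, eval_add, eval_one, eval_C, mul_ne_zero_iff,
    sub_ne_zero] at hb
  obtain ⟨⟨hb, hb1⟩, hb2⟩ := hb
  have hy := M.mul_mem (M.mul_mem (M.inv_mem hg) (hM (dd_mem hij hb))) hg
  obtain ⟨r', hr'⟩ := Nblk_apply (hA _ hy k k (by
    rw [mul_app, mul_app, dd_fix _ _ hi hj, inv_app_app]; exact single_mem_blk _ _))
    (single_mem_blk r 1)
  rw [mul_app, mul_app, ← hp] at hr'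
  have h1 : g⁻¹ (dd hij hb p) r ≠ 0 := by
    rw [dd_apply, map_add, map_add, map_smul, map_smul, hp, inv_app_app, ← hp]
    simp only [Pi.add_apply, Pi.smul_apply, smul_eq_mul, ev_same]
    intro h1
    apply hb2
    field_simp at h1
    linear_combination h1
  rw [← eq_of_mem_blk hr' h1] at hr'
  have h2 := congrArg g (eq_smul_ev hr')
  rw [app_inv_app, map_smul, ← hp] at h2
  have h3 := congrFun h2 i
  have h4 := congrFun h2 l
  rw [dd_left, Pi.smul_apply, smul_eq_mul] at h3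
  rw [dd_ne _ _ _ hli hlj, Pi.smul_apply, smul_eq_mul, ← mul_right_cancel₀ hr h3] at h4
  exact mul_left_cancel₀ (sub_ne_zero.2 hb1) (by linear_combination -h4)

omit hM hq hA [Fintype F] in
theorem exists_apply_ev_ne (g : (ι → F) ≃ₗ[F] (ι → F)) (i : ι) : ∃ r, g (ev F r) i ≠ 0 := by
  by_contra h
  push Not at h
  have := dual_apply_eq_sum (pr F i ∘ₗ g.toLinearMap) (g⁻¹ (ev F i))
  simp [h] at this

theorem mem_Nblk_of_three_zeros {g : (ι → F) ≃ₗ[F] (ι → F)} (hg : g ∈ M) {k i j l : ι}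
    (hij : i ≠ j) (hil : i ≠ l) (hjl : j ≠ l) (hi : g (ev F k) i = 0) (hj : g (ev F k) j = 0)
    (hl : g (ev F k) l = 0) : g ∈ Nblk F ι F := by
  obtain ⟨r, hr⟩ := exists_apply_ev_ne g i
  refine hA g hg r i fun s hs => ?_
  by_cases h : s = j
  · exact zero_of_two_zeros hM hq hA hg hil hi hl hr hs (h ▸ hjl)
  · exact zero_of_two_zeros hM hq hA hg hij hi hj hr hs h

variable (hn6 : 6 ≤ Fintype.card ι)
include hn6

theorem mem_Nblk_of_two_zeros {g : (ι → F) ≃ₗ[F] (ι → F)} (hg : g ∈ M) {k i j : ι}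
    (hij : i ≠ j) (hi : g (ev F k) i = 0) (hj : g (ev F k) j = 0) : g ∈ Nblk F ι F := by
  obtain ⟨r, hr⟩ := exists_apply_ev_ne g i
  obtain ⟨a, ha⟩ := exists_ne_list [i, j] (by simp; omega)
  obtain ⟨b, hb⟩ := exists_ne_list [i, j, a] (by simp; omega)
  obtain ⟨c, hc⟩ := exists_ne_list [i, j, a, b] (by simp; omega)
  simp only [List.mem_cons, List.not_mem_nil, or_false, forall_eq_or_imp, forall_eq] at ha hb hc
  exact mem_Nblk_of_three_zeros hM hq hA hg hb.2.2.symm hc.2.2.1.symm hc.2.2.2.symm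
    (zero_of_two_zeros hM hq hA hg hij hi hj hr ha.1 ha.2)
    (zero_of_two_zeros hM hq hA hg hij hi hj hr hb.1 hb.2.1)
    (zero_of_two_zeros hM hq hA hg hij hi hj hr hc.1 hc.2.1)

omit hM hq hA hn6 [Fintype F] [Fintype ι] in
theorem conj_dd_apply (g : (ι → F) ≃ₗ[F] (ι → F)) {s t : ι} (hst : s ≠ t) {a : F} (ha : a ≠ 0)
    (z : ι → F) : (g * dd hst ha * g⁻¹) z =
      z + ((a - 1) * g⁻¹ z s) • g (ev F s) + ((a⁻¹ - 1) * g⁻¹ z t) • g (ev F t) := by
  rw [mul_app, mul_app, dd_apply, map_add, map_add, map_smul, map_smul, app_inv_app]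

theorem conj_dd_notMem {g : (ι → F) ≃ₗ[F] (ι → F)} (hg : g ∈ M) (hg' : g ∉ Nblk F ι F) {s t : ι}
    (hst : s ≠ t) {a : F} (ha : a ≠ 0) (ha' : a ≠ 1) : g * dd hst ha * g⁻¹ ∉ Nblk F ι F := by
  intro hx
  obtain ⟨k, l, hkl⟩ : ∃ k l, g⁻¹ (ev F k) s * g⁻¹ (ev F l) t - g⁻¹ (ev F l) s * g⁻¹ (ev F k) t ≠ 0 := by
    by_contra h
    push Not at h
    obtain ⟨k, hk⟩ := exists_apply_ev_ne g⁻¹ s
    have := dual_apply_eq_sum (g⁻¹ (ev F k) s • pr F t ∘ₗ (g⁻¹ : (ι → F) ≃ₗ[F] (ι → F)).toLinearMap -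
      g⁻¹ (ev F k) t • pr F s ∘ₗ (g⁻¹ : (ι → F) ≃ₗ[F] (ι → F)).toLinearMap) (g (ev F t))
    simp only [LinearMap.sub_apply, LinearMap.smul_apply, LinearMap.comp_apply,
      LinearEquiv.coe_coe, inv_app_app, LinearMap.proj_apply, ev_same, ev_ne hst, smul_eq_mul,
      mul_one, mul_zero, sub_zero] at this
    refine hk (this.trans (Finset.sum_eq_zero fun l _ => ?_))
    rw [mul_comm (g⁻¹ (ev F k) t), h, mul_zero]
  obtain ⟨k', hk'⟩ := Nblk_apply hx (single_mem_blk k 1)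
  obtain ⟨l', hl'⟩ := Nblk_apply hx (single_mem_blk l 1)
  obtain ⟨i, hi⟩ := exists_ne_list [k, k', l, l'] (by simp; omega)
  obtain ⟨j, hj⟩ := exists_ne_list [k, k', l, l', i] (by simp; omega)
  simp only [List.mem_cons, List.not_mem_nil, or_false, forall_eq_or_imp, forall_eq] at hi hj
  have key : ∀ i, i ≠ k → i ≠ k' → i ≠ l → i ≠ l' → g (ev F s) i = 0 := fun i h1 h2 h3 h4 => by
    have e1 := hk' i h2
    have e2 := hl' i h4
    rw [conj_dd_apply] at e1 e2
    simp only [Pi.add_apply, Pi.smul_apply, smul_eq_mul, sg_ne h1, sg_ne h3] at e1 e2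
    exact mul_left_cancel₀ (mul_ne_zero (sub_ne_zero.2 ha') hkl)
      (by linear_combination g⁻¹ (ev F l) t * e1 - g⁻¹ (ev F k) t * e2)
  exact hg' (mem_Nblk_of_two_zeros hM hq hA hn6 hg hj.2.2.2.2.symm
    (key i hi.1 hi.2.1 hi.2.2.1 hi.2.2.2) (key j hj.1 hj.2.1 hj.2.2.1 hj.2.2.2.1))

theorem conj_dd_ne_zero {g : (ι → F) ≃ₗ[F] (ι → F)} (hg : g ∈ M) (hg' : g ∉ Nblk F ι F) {s t : ι}
    (hst : s ≠ t) {a : F} (ha : a ≠ 0) (ha' : a ≠ 1) (k i : ι) :
    (g * dd hst ha * g⁻¹) (ev F k) i ≠ 0 := by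
  intro hi
  have hx' := conj_dd_notMem hM hq hA hn6 hg hg' hst ha ha'
  have hx := M.mul_mem (M.mul_mem hg (hM (dd_mem hst ha))) (M.inv_mem hg)
  have e := conj_dd_apply g hst ha
  generalize g * dd hst ha * g⁻¹ = x at hi hx hx' e
  have h1 : ∀ j, j ≠ i → x (ev F k) j ≠ 0 := fun j hj h =>
    hx' (mem_Nblk_of_two_zeros hM hq hA hn6 hx hj h hi)
  obtain ⟨j₁, h₁⟩ := exists_ne_list [i, k] (by simp; omega)
  obtain ⟨j₂, h₂⟩ := exists_ne_list [i, k, j₁] (by simp; omega)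
  obtain ⟨j₃, h₃⟩ := exists_ne_list [i, k, j₁, j₂] (by simp; omega)
  obtain ⟨m, hm⟩ := exists_ne_list [k, j₁, j₂, j₃] (by simp; omega)
  obtain ⟨m', hm'⟩ := exists_ne_list [k, j₁, j₂, j₃, m] (by simp; omega)
  simp only [List.mem_cons, List.not_mem_nil, or_false, forall_eq_or_imp, forall_eq]
    at h₁ h₂ h₃ hm hm'
  obtain ⟨c, hc, h2⟩ : ∃ c : Fin 3 → F, c ≠ 0 ∧
      x (c 0 • ev F j₁ + c 1 • ev F j₂ + c 2 • ev F j₃) =
        c 0 • ev F j₁ + c 1 • ev F j₂ + c 2 • ev F j₃ := by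
    let T : (Fin 3 → F) →ₗ[F] (ι → F) := (pr F 0).smulRight (ev F j₁) +
      (pr F 1).smulRight (ev F j₂) + (pr F 2).smulRight (ev F j₃)
    obtain ⟨c, -, hc, h2⟩ := exists_ne_zero_ker
      [pr F s ∘ₗ (g⁻¹ : (ι → F) ≃ₗ[F] (ι → F)).toLinearMap ∘ₗ T,
        pr F t ∘ₗ (g⁻¹ : (ι → F) ≃ₗ[F] (ι → F)).toLinearMap ∘ₗ T] ⊤ (by simp)
    simp only [List.mem_cons, List.not_mem_nil, or_false, forall_eq_or_imp, forall_eq] at h2
    refine ⟨c, hc, ?_⟩
    have h3 : g⁻¹ (c 0 • ev F j₁ + c 1 • ev F j₂ + c 2 • ev F j₃) s = 0 := h2.1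
    have h4 : g⁻¹ (c 0 • ev F j₁ + c 1 • ev F j₂ + c 2 • ev F j₃) t = 0 := h2.2
    rw [e, h3, h4]
    simp
  set w := x (ev F k) with hw
  have w₁ := h1 j₁ h₁.1
  have w₂ := h1 j₂ h₂.1
  have w₃ := h1 j₃ h₃.1
  obtain ⟨r, hr⟩ := exists_eval_ne_zero (X * (C (w j₁) + C (c 0) * X) * (C (w j₂) + C (c 1) * X) *
    (C (w j₃) + C (c 2) * X) : F[X])
    (mul_ne_zero (mul_ne_zero (mul_ne_zero X_ne_zero fun h => by
      simpa [w₁] using congrArg (eval 0) h) fun h => by simpa [w₂] using congrArg (eval 0) h)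
      fun h => by simpa [w₃] using congrArg (eval 0) h)
    (lt_of_le_of_lt (show _ ≤ 4 by compute_degree) (by omega))
  simp only [eval_mul, eval_X, eval_add, eval_C, mul_ne_zero_iff] at hr
  obtain ⟨⟨⟨hr, r₁⟩, r₂⟩, r₃⟩ := hr
  set d := dd h₁.1 (div_ne_zero r₁ w₁) * dd h₂.1 (div_ne_zero r₂ w₂) *
    dd h₃.1 (div_ne_zero r₃ w₃) with hd
  have hdM : d ∈ M := M.mul_mem (M.mul_mem (hM (dd_mem _ _)) (hM (dd_mem _ _))) (hM (dd_mem _ _))
  have h3 : d w = w + r • (c 0 • ev F j₁ + c 1 • ev F j₂ + c 2 • ev F j₃) := by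
    simp only [hd, mul_app, dd_apply, Pi.add_apply, Pi.smul_apply, smul_eq_mul, hi,
      ev_ne h₂.1.symm, ev_ne h₃.1.symm,
      ev_ne h₂.2.2.symm, ev_ne h₃.2.2.1.symm, ev_ne h₃.2.2.2.symm, mul_zero, add_zero, zero_smul]
    match_scalars <;> field_simp <;> ring
  have h4 : (x⁻¹ * d * x) (ev F k) =
      ev F k + r • (c 0 • ev F j₁ + c 1 • ev F j₂ + c 2 • ev F j₃) := by
    rw [mul_app, mul_app, ← hw, h3, ← h2, map_add, map_smul, hw, inv_app_app, inv_app_app, h2]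
  obtain ⟨l, hl⟩ := Nblk_apply (mem_Nblk_of_two_zeros hM hq hA hn6
    (M.mul_mem (M.mul_mem (M.inv_mem hx) hdM) hx) (k := k) hm'.2.2.2.2
    (by simp [h4, hm'.1, hm'.2.1, hm'.2.2.1, hm'.2.2.2.1])
    (by simp [h4, hm.1, hm.2.1, hm.2.2.1, hm.2.2.2])) (single_mem_blk k 1)
  rw [h4] at hl
  rw [← eq_of_mem_blk hl (j := k) (by simp [h₁.2.symm, h₂.2.1.symm, h₃.2.1.symm])] at hl
  apply hc
  ext n
  fin_cases n
  · simpa [h₁.2, h₂.2.2.symm, h₃.2.2.1.symm, hr] using hl j₁ h₁.2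
  · simpa [h₂.2.1, h₂.2.2, h₃.2.2.2.symm, hr] using hl j₂ h₂.2.1
  · simpa [h₃.2.1, h₃.2.2.1, h₃.2.2.2, hr] using hl j₃ h₃.2.1

theorem le_Nblk_of_hypA : M ≤ Nblk F ι F := by
  intro g hg
  by_contra hg'
  obtain ⟨b, hb, hb'⟩ := exists_sq_ne_one hq
  have hb1 : b ≠ 1 := fun h => hb' (by rw [h, mul_one])
  obtain ⟨s, -⟩ := exists_ne_list ([] : List ι) (by simp; omega)
  obtain ⟨t, ht⟩ := exists_ne_list [s] (by simp; omega)
  obtain ⟨r, hr⟩ := exists_ne_list [s, t] (by simp; omega)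
  simp only [List.mem_cons, List.not_mem_nil, or_false, forall_eq_or_imp, forall_eq] at ht hr
  have h1 := conj_dd_ne_zero hM hq hA hn6 hg hg' ht hb hb1
  have h2 := conj_dd_ne_zero hM hq hA hn6 hg hg' ht (inv_ne_zero hb) (by simpa using hb1)
  have hx' := conj_dd_notMem hM hq hA hn6 hg hg' ht hb hb1
  have hx := M.mul_mem (M.mul_mem hg (hM (dd_mem ht hb))) (M.inv_mem hg)
  rw [← dd_inv _ hb, show g * (dd ht hb)⁻¹ * g⁻¹ = (g * dd ht hb * g⁻¹)⁻¹ by group] at h2
  generalize g * dd ht hb * g⁻¹ = x at h1 h2 hx hx'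
  have h3 : x⁻¹ (ev F s) t • x (ev F t) - x⁻¹ (ev F s) s • x (ev F s) ∈ blk F F s := fun i hi => by
    by_contra h3
    simp only [Pi.sub_apply, Pi.smul_apply, smul_eq_mul, sub_eq_zero] at h3
    have h4 := mul_ne_zero (h2 s t) (h1 t i)
    have h5 := mul_ne_zero (h2 s s) (h1 s i)
    apply conj_dd_ne_zero hM hq hA hn6 hx hx' ht (div_ne_zero h5 h4)
      (fun h6 => h3 (div_eq_one_iff_eq h4 |>.1 h6).symm) s i
    have := h2 s t
    have := h1 t i
    have := h2 s s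
    have := h1 s i
    rw [conj_dd_apply]
    simp only [Pi.add_apply, Pi.smul_apply, smul_eq_mul, ev_ne hi]
    field_simp
    ring
  have h4 := congrArg (x⁻¹ : (ι → F) ≃ₗ[F] (ι → F)) (eq_smul_ev h3)
  rw [map_sub, map_smul, map_smul, map_smul, inv_app_app, inv_app_app] at h4
  have h5 := congrFun h4 t
  have h6 := congrFun h4 r
  simp only [Pi.sub_apply, Pi.smul_apply, smul_eq_mul, ev_same, ev_ne ht, ev_ne hr.1, ev_ne hr.2,
    mul_zero, mul_one, sub_zero] at h5 h6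
  rw [(mul_eq_zero.1 h6.symm).resolve_right (h2 s r), zero_mul] at h5
  exact h2 s t h5

end HypA

omit hM hn hb hb' in
/-- The monomial group is maximal in `SL_n(q)` for `q ≥ 5`, `n ≥ 6`. -/
theorem monomial_isMaximalIn [Fintype F] (hq : 5 ≤ Fintype.card F) (hn : 6 ≤ Fintype.card ι) :
    Geo.IsMaximalIn (SLV F (ι → F)) (Nblk F ι F ⊓ SLV F (ι → F)) := by
  have : Nontrivial ι := Fintype.one_lt_card_iff_nontrivial.1 (by omega)
  refine isMaximalIn_of inf_le_right exists_SLV_not_Nblk fun M h4 h5 g hg hg' => ?_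
  by_contra hc
  refine hg' ⟨le_Nblk_of_hypA h4 hq (fun g hg k i hk => ?_) hn hg, h5 hg⟩
  by_contra hg'
  obtain ⟨s, hs, s1, -⟩ := exists_perm (F := F) (W := F) i (Equiv.swap i k)
  refine hc (SLV_le_of_fix h4 (by omega) hq h5 (M.mul_mem (h4 hs) hg) (k := k) ?_ fun h => hg' ?_)
  · simpa using (s1 i _).1 hk
  · exact ((Nblk F ι F).mul_mem_cancel_left hs.1).1 h

omit hM hn hb hb' in
theorem lin_decomposition_isMaximalIn [Fintype F] {n : Type} [Fintype n] [DecidableEq n] {t m : ℕ}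
    {D : Fin t → Submodule F (n → F)} (hD : Geo.IsMDecomposition m D)
    (h : (m = 1 ∧ 5 ≤ Fintype.card F ∧ 6 ≤ t) ∨ (m = 2 ∧ 3 ≤ Fintype.card F ∧ 3 ≤ t) ∨ 3 ≤ m) :
    Geo.IsMaximalIn (Geo.specialLinear n F)
      (Geo.decompositionStabilizer D ⊓ Geo.specialLinear n F) := by
  classical
  have := hD.two_le
  have : Nontrivial (Fin t) := Fin.nontrivial_iff_two_le.2 this
  rcases h with ⟨rfl, h1, h2⟩ | h
  · exact decomposition_isMaximalIn_of (W := F) (by simpa using hD)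
      (monomial_isMaximalIn h1 (by simpa using h2))
  · refine decomposition_isMaximalIn_of (W := Fin m → F) (by simpa using hD)
      (Nblk_isMaximalIn (by simp; omega) ?_)
    rcases h with ⟨rfl, h1, h2⟩ | h
    · obtain ⟨a, ha⟩ := exists_ne_list [(0 : F), 1] h1
      exact Or.inr ⟨by simpa using h2, a, ha 0 (by simp), ha 1 (by simp)⟩
    · exact Or.inl (by simpa using h)

end Cfsg.Agent.Class.Max
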