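import Mathlib
import Cfsg.Agent.Class.SymmCharTwo
import Cfsg.Agent.Class.Max.C2Pair

/-!
Class `C₂`, orthogonal decompositions of formed spaces into isometric non-degenerate subspaces:
projections, swaps, tori, and the recognition lemma for an Eichler transformation whose centre
lies in a block.
-/

set_option autoImplicit false

namespace Cfsg.Agent.Class.Max

open Module

variable {F V : Type*} [Field F] [AddCommGroup V] [Module F V] {ι : Type*}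

/-- The stabiliser of a family of subspaces. -/
def dstab (D : ι → Submodule F V) : Subgroup (V ≃ₗ[F] V) where
  carrier := {g | ∃ σ : Equiv.Perm ι, ∀ i v, v ∈ D i ↔ g v ∈ D (σ i)}
  mul_mem' {a b} := by
    rintro ⟨σ, hσ⟩ ⟨τ, hτ⟩
    exact ⟨τ.trans σ, fun i v => (hτ i v).trans (hσ _ _)⟩
  one_mem' := ⟨1, fun _ _ => Iff.rfl⟩
  inv_mem' {a} := by
    rintro ⟨σ, hσ⟩
    refine ⟨σ.symm, fun i v => ?_⟩
    have := hσ (σ.symm i) (a⁻¹ v)
    rw [app_inv_app, Equiv.apply_symm_apply] at this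
    exact this.symm

theorem dstab_apply {D : ι → Submodule F V} {g : V ≃ₗ[F] V} (hg : g ∈ dstab D) (i : ι) :
    ∃ j, ∀ v ∈ D i, g v ∈ D j :=
  let ⟨σ, hσ⟩ := hg
  ⟨σ i, fun v => (hσ i v).1⟩

namespace Fm

variable {Φ : Fm F V} {M N : Subgroup (V ≃ₗ[F] V)}

/-! ### Hyperbolic planes and tori -/

theorem hyp_ext {e f : V} (he : Φ.Q e = 0) (hf : Φ.Q f = 0) (h : Φ.B e f = 1) {g g' : V ≃ₗ[F] V}
    (h1 : g e = g' e) (h2 : g f = g' f) (h3 : ∀ z, Φ.B e z = 0 → Φ.B f z = 0 → g z = g' z) :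
    g = g' := LinearEquiv.ext fun x => by
  have := h3 _ (sub_mem_ker_hyp he hf h x).1 (sub_mem_ker_hyp he hf h x).2
  simpa only [map_sub, map_smul, h1, h2, sub_left_inj] using this

theorem exists_hyp_move [FiniteDimensional F V] {e f e' f' : V} (he : Φ.Q e = 0) (hf : Φ.Q f = 0)
    (h : Φ.B e f = 1) (he' : Φ.Q e' = 0) (hf' : Φ.Q f' = 0) (h' : Φ.B e' f' = 1)
    (hz : ∀ z, Φ.B e z = 0 → Φ.B f z = 0 → Φ.B e' z = 0 ∧ Φ.B f' z = 0) :
    ∃ g ∈ Φ.Iso, g e = e' ∧ g f = f' ∧ ∀ z, Φ.B e z = 0 → Φ.B f z = 0 → g z = z := by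
  let L : V →ₗ[F] V := LinearMap.id + (Φ.B e).smulRight (f' - f) +
    (Φ.ε • Φ.B f).smulRight (e' - e)
  have hL : ∀ z (a b : F), Φ.B e z = 0 → Φ.B f z = 0 →
      L (z + a • f + b • e) = z + a • f' + b • e' := by
    intro z a b h1 h2
    simp only [L, LinearMap.add_apply, LinearMap.id_apply, LinearMap.smulRight_apply,
      LinearMap.smul_apply, Φ.bsimp, h1, h2, h, B_eq_eps h, Φ.B_self he, Φ.B_self hf, smul_eq_mul]
    match_scalars
    · rfl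
    · ring
    · linear_combination (-b) * Φ.eps_sq
    · ring
    · linear_combination b * Φ.eps_sq
  have hd : ∀ x, ∃ (z : V) (a b : F), Φ.B e z = 0 ∧ Φ.B f z = 0 ∧ x = z + a • f + b • e := fun x =>
    ⟨_, Φ.B e x, Φ.ε * Φ.B f x, (sub_mem_ker_hyp he hf h x).1, (sub_mem_ker_hyp he hf h x).2,
      by abel⟩
  have hB : ∀ x y, Φ.B (L x) (L y) = Φ.B x y := fun x y => by
    obtain ⟨z, a, b, h1, h2, rfl⟩ := hd x
    obtain ⟨z', a', b', h1', h2', rfl⟩ := hd y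
    rw [hL z a b h1 h2, hL z' a' b' h1' h2']
    simp only [Φ.bsimp, h1', h2', Φ.perp_symm h1, Φ.perp_symm h2, (hz z' h1' h2').1,
      (hz z' h1' h2').2, Φ.perp_symm (hz z h1 h2).1, Φ.perp_symm (hz z h1 h2).2, h, h', B_eq_eps h,
      B_eq_eps h', Φ.B_self he, Φ.B_self hf, Φ.B_self he', Φ.B_self hf']
  have hQ : ∀ x, Φ.Q (L x) = Φ.Q x := fun x => by
    obtain ⟨z, a, b, h1, h2, rfl⟩ := hd x
    rw [hL z a b h1 h2]
    simp only [Φ.add, Φ.smul, he, hf, he', hf', Φ.bsimp, Φ.perp_symm h1, Φ.perp_symm h2,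
      Φ.perp_symm (hz z h1 h2).1, Φ.perp_symm (hz z h1 h2).2, B_eq_eps h, B_eq_eps h']
  refine ⟨LinearEquiv.ofInjectiveEndo L (Φ.isFormed.injective_of_preserves L hB), ⟨hB, hQ⟩, ?_, ?_,
    fun z h1 h2 => ?_⟩
  · simpa using hL 0 0 1 (map_zero _) (map_zero _)
  · simpa using hL 0 1 0 (map_zero _) (map_zero _)
  · simpa using hL z 0 0 h1 h2

variable (Φ) in
/-- `g` is the torus element scaling `e` by `μ` in the hyperbolic plane spanned by `e`, `f`. -/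
structure IsTor (g : V ≃ₗ[F] V) (e f : V) (μ : F) : Prop where
  iso : g ∈ Φ.Iso
  fst : g e = μ • e
  snd : g f = (Φ.σ μ)⁻¹ • f
  fix : ∀ z, Φ.B e z = 0 → Φ.B f z = 0 → g z = z

theorem exists_isTor [FiniteDimensional F V] {e f : V} (he : Φ.Q e = 0) (hf : Φ.Q f = 0)
    (h : Φ.B e f = 1) {μ : F} (hμ : μ ≠ 0) : ∃ g, Φ.IsTor g e f μ := by
  obtain ⟨g, h1, h2, h3, h4⟩ := exists_hyp_move he hf h (Φ.Q_smul_zero he μ)
    (Φ.Q_smul_zero hf (Φ.σ μ)⁻¹) (by simp [h, hμ]) fun z h1 h2 => by simp [h1, h2]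
  exact ⟨g, h1, h2, h3, h4⟩

theorem exists_hyp_swap [FiniteDimensional F V] {e f : V} (he : Φ.Q e = 0) (hf : Φ.Q f = 0)
    (h : Φ.B e f = 1) :
    ∃ g ∈ Φ.Iso, g e = f ∧ g f = Φ.ε • e ∧ ∀ z, Φ.B e z = 0 → Φ.B f z = 0 → g z = z :=
  exists_hyp_move he hf h hf (Φ.Q_smul_zero he _) (by simp [B_eq_eps h, Φ.eps_sq])
    fun z h1 h2 => by simp [h1, h2]

variable (Φ) in
/-- The Eichler group contains the commutator subgroup of the isometry group. -/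
def Comm : Prop := ∀ g ∈ Φ.Iso, ∀ h ∈ Φ.Iso, g * h * g⁻¹ * h⁻¹ ∈ Φ.EG

theorem Comm.exists_isTor [FiniteDimensional F V] (hc : Φ.Comm) {e f : V} (he : Φ.Q e = 0)
    (hf : Φ.Q f = 0) (h : Φ.B e f = 1) {a : F} (ha : a ≠ 0) :
    ∃ g ∈ Φ.EG, Φ.IsTor g e f (a * Φ.σ a) := by
  have ha' := Φ.σ_ne ha
  obtain ⟨g, hg⟩ := Fm.exists_isTor he hf h ha
  obtain ⟨w, hw, w1, w2, w3⟩ := exists_hyp_swap he hf h
  have i1 : w⁻¹ f = e := by rw [← w1, inv_app_app]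
  have i2 : w⁻¹ e = Φ.ε • f := w.injective (by
    rw [app_inv_app, map_smul, w2, smul_smul, Φ.eps_sq, one_smul])
  have i3 : g⁻¹ e = a⁻¹ • e := g.injective (by
    rw [app_inv_app, map_smul, hg.fst, smul_smul, inv_mul_cancel₀ ha, one_smul])
  have i4 : g⁻¹ f = Φ.σ a • f := g.injective (by
    rw [app_inv_app, map_smul, hg.snd, smul_smul, mul_inv_cancel₀ ha', one_smul])
  refine ⟨_, hc g hg.iso w hw, Φ.EG_le_Iso (hc g hg.iso w hw), ?_, ?_, fun z h1 h2 => ?_⟩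
  · simp only [mul_app, i2, i4, map_smul, w2, hg.fst, smul_smul]
    congr 1
    linear_combination (a * Φ.σ a) * Φ.eps_sq
  · simp only [mul_app, i1, i3, map_smul, w1, hg.snd, smul_smul, Φ.bsimp]
    congr 1
    field_simp
  · have j1 : w⁻¹ z = z := w.injective (by rw [app_inv_app, w3 z h1 h2])
    have j2 : g⁻¹ z = z := g.injective (by rw [app_inv_app, hg.fix z h1 h2])
    rw [mul_app, mul_app, mul_app, j1, j2, w3 z h1 h2, hg.fix z h1 h2]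

theorem IsTor.B_left {g : V ≃ₗ[F] V} {e f : V} {μ : F} (h : Φ.IsTor g e f μ) (x : V) :
    Φ.σ μ * Φ.B e (g x) = Φ.B e x := by rw [← Φ.B_smul_left, ← h.fst, Iso.B h.iso]

/-! ### Isometries supported on a subspace; covering the quotient by the Eichler group -/

variable (Φ) in
/-- The isometries fixing the perpendicular of `P` pointwise. -/
def supp (P : Submodule F V) : Subgroup (V ≃ₗ[F] V) := Φ.Iso ⊓ fixing (Φ.perp P : Set V)

theorem supp_iso {P : Submodule F V} {g : V ≃ₗ[F] V} (h : g ∈ Φ.supp P) : g ∈ Φ.Iso := h.1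

theorem supp_fix {P : Submodule F V} {g : V ≃ₗ[F] V} (h : g ∈ Φ.supp P) {x : V}
    (hx : x ∈ Φ.perp P) : g x = x := h.2 x hx

theorem supp_mono {P P' : Submodule F V} (h : P ≤ P') : Φ.supp P ≤ Φ.supp P' :=
  fun _ hg => ⟨hg.1, fun x hx => hg.2 x (Φ.perp_anti h hx)⟩

theorem supp_sub_mem [FiniteDimensional F V] {P : Submodule F V} {g : V ≃ₗ[F] V}
    (h : g ∈ Φ.supp P) (x : V) : g x - x ∈ P := by
  rw [← Φ.perp_perp P]
  intro y hy
  rw [map_sub, ← supp_fix h hy, Iso.B h.1, supp_fix h hy, sub_self]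

theorem supp_apply [FiniteDimensional F V] {P : Submodule F V} {g : V ≃ₗ[F] V}
    (h : g ∈ Φ.supp P) {x : V} (hx : x ∈ P) : g x ∈ P := by
  simpa using P.add_mem (supp_sub_mem h x) hx

theorem IsTor.mem_supp {g : V ≃ₗ[F] V} {e f : V} {μ : F} (h : Φ.IsTor g e f μ)
    {P : Submodule F V} (he : e ∈ P) (hf : f ∈ P) : g ∈ Φ.supp P :=
  ⟨h.iso, fun z hz => h.fix z (hz e he) (hz f hf)⟩

theorem hasOn_supp (P : Submodule F V) : Φ.HasOn (Φ.supp P) P :=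
  (hasOn_Iso P).inf (hasOn_fixing fun y hy _ hz => hz y hy)

theorem refl_mem_supp {P : Submodule F V} {a : V} (ha : a ∈ P) {c : F} (hc : c ≠ 0)
    (h : Φ.π c = Φ.Q a) : refl hc h ∈ Φ.supp P :=
  ⟨refl_mem_Iso hc h, fun z hz => by rw [refl_apply, hz a ha, mul_zero, zero_smul, sub_zero]⟩

theorem ND.exists_supp_move [FiniteDimensional F V] {P : Submodule F V} (hP : Φ.ND P) {x y : V}
    (hx : x ∈ P) (hy : y ∈ P) (hx0 : x ≠ 0) (hy0 : y ≠ 0) (hQ : Φ.Q y = Φ.Q x) :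
    ∃ g ∈ Φ.supp P, g x = y := by
  obtain ⟨g, h1, h2, h3, h4⟩ := Φ.isFormed.exists_isometry_fix (Φ.perp P) (u := x) (u' := y)
    (fun h => hx0 (Submodule.disjoint_def.1 hP.isCompl.1 x hx h))
    (fun h => hy0 (Submodule.disjoint_def.1 hP.isCompl.1 y hy h))
    (fun z hz => by rw [Φ.perp_symm (hz x hx), Φ.perp_symm (hz y hy)]) hQ
  exact ⟨g, ⟨⟨h1, h2⟩, h3⟩, h4⟩

theorem Comm.exists_move_ne [FiniteDimensional F V] (hc : Φ.Comm) {P : Submodule F V}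
    (hP : Φ.ND P) {e : V} (he : e ∈ P) (he0 : Φ.Q e = 0) (he1 : e ≠ 0)
    (hm : (∃ a : F, a ≠ 0 ∧ a * Φ.σ a ≠ 1) ∨ (∃ c, c ≠ 0 ∧ Φ.π c = 0) ∨ 3 ≤ finrank F P)
    {x : V} (hx : x ∈ P) (hx0 : x ≠ 0) : ∃ g ∈ Φ.supp P ⊓ Φ.EG, g x ≠ x := by
  obtain ⟨s, hs, hs0, hxs⟩ := exists_sing_not_perp P he he0 (hP.exists_ne he he1)
    (hP.exists_ne hx hx0)
  have hsx := Φ.ne_symm hxs
  obtain ⟨s', hs', hs0', hss⟩ := exists_partner hs hs0 ⟨x, hx, hsx⟩
  have hon := (hasOn_supp (Φ := Φ) P).inf (hasOn_EG P)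
  rcases hm with ⟨a, ha, ha'⟩ | ⟨c, hc, hc'⟩ | h3
  · obtain ⟨g, hg, ht⟩ := hc.exists_isTor hs0 hs0' hss ha
    refine ⟨g, ⟨ht.mem_supp hs hs', hg⟩, fun h => ha' ?_⟩
    have := ht.B_left x
    rw [h, map_mul, Φ.invol, mul_comm (Φ.σ a)] at this
    exact mul_right_cancel₀ hsx (by rw [this, one_mul])
  · obtain ⟨g, hg, e1⟩ := hon.lam hs hs0 c hc'
    refine ⟨g, hg, fun h => ?_⟩
    rw [e1, ef] at h
    simp only [smul_zero, add_zero, Φ.bsimp, zero_add, sub_eq_self, smul_eq_zero, mul_eq_zero,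
      Φ.eps_ne, hc, hsx, false_or] at h
    exact hsx (by simp [h])
  · obtain ⟨z, hz, hz0, hz1⟩ := exists_ne_zero_ker [Φ.B s, Φ.B s'] P h3
    simp only [List.mem_cons, List.not_mem_nil, or_false, forall_eq_or_imp, forall_eq] at hz1
    obtain ⟨c, hv⟩ := exists_valid hs0 hz1.1
    obtain ⟨g, hg, e1⟩ := hon s hs z hz c hv
    refine ⟨g, hg, fun h => ?_⟩
    rw [e1, ef, add_sub_assoc, add_eq_left, sub_eq_zero] at h
    have h1 := congrArg (Φ.B s') h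
    simp only [Φ.B_smul_right, hz1.2, mul_zero, B_eq_eps hss] at h1
    rw [(mul_eq_zero.1 h1.symm).resolve_right Φ.eps_ne, zero_smul, smul_eq_zero] at h
    exact h.elim hsx hz0

variable (Φ) in
/-- `K` covers the quotient of the isometry group by the Eichler group. -/
def Cov (K : Subgroup (V ≃ₗ[F] V)) : Prop := ∀ g ∈ Φ.Iso, ∃ k ∈ K, g * k ∈ Φ.EG

theorem Cov.mono {K K' : Subgroup (V ≃ₗ[F] V)} (h : Φ.Cov K) (h' : K ≤ K') : Φ.Cov K' :=
  fun g hg => let ⟨k, hk, e⟩ := h g hg; ⟨k, h' hk, e⟩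

theorem cov_of_le (h : Φ.Iso ≤ Φ.EG) (K : Subgroup (V ≃ₗ[F] V)) : Φ.Cov K :=
  fun g hg => ⟨1, K.one_mem, by simpa using h hg⟩

theorem comm_of_le (h : Φ.Iso ≤ Φ.EG) : Φ.Comm := fun _ hg _ hh =>
  h (Φ.Iso.mul_mem (Φ.Iso.mul_mem (Φ.Iso.mul_mem hg hh) (Φ.Iso.inv_mem hg)) (Φ.Iso.inv_mem hh))

/-! ### Orthogonal decompositions -/

variable (Φ) in
/-- An orthogonal decomposition into pairwise isometric non-degenerate subspaces. -/
structure ODec (D : ι → Submodule F V) : Prop where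
  nd : ∀ i, Φ.ND (D i)
  perp : ∀ i j, i ≠ j → ∀ x ∈ D i, ∀ y ∈ D j, Φ.B x y = 0
  top : iSup D = ⊤
  ne : ∀ i, D i ≠ ⊥
  iso : ∀ i j, ∃ g ∈ Φ.Iso, ∀ x, x ∈ D i ↔ g x ∈ D j

variable (D : ι → Submodule F V)

variable (Φ) in
/-- The stabiliser of the decomposition in the isometry group. -/
abbrev HI : Subgroup (V ≃ₗ[F] V) := dstab D ⊓ Φ.Iso

variable (Φ) in
/-- The stabiliser of the decomposition in the Eichler group. -/
abbrev HE : Subgroup (V ≃ₗ[F] V) := dstab D ⊓ Φ.EG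

variable (Φ) in
/-- Every coset of the Eichler group has a representative fixing the decomposition and `S`. -/
def Cv (S : Set V) : Prop := Φ.Cov (Φ.HI D ⊓ fixing S)

variable {D}

theorem Cv.mono {S S' : Set V} (h : Φ.Cv D S) (h' : S' ⊆ S) : Φ.Cv D S' :=
  Cov.mono h fun _ hg => ⟨hg.1, fun x hx => hg.2 x (h' hx)⟩

theorem Cv.real {S : Set V} (h : Φ.Cv D S) {g : V ≃ₗ[F] V} (hg : g ∈ Φ.HI D) :
    ∃ k ∈ Φ.HE D, ∀ x ∈ S, k x = g x := by
  obtain ⟨k, hk, e⟩ := h g hg.2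
  exact ⟨g * k, ⟨(dstab D).mul_mem hg.1 hk.1.1, e⟩, fun x hx => by rw [mul_app, hk.2 x hx]⟩

theorem HE_le_HI : Φ.HE D ≤ Φ.HI D := inf_le_inf_left _ Φ.EG_le_Iso

namespace ODec

variable [FiniteDimensional F V] (hD : Φ.ODec D)
include hD

/-- The projection onto a block. -/
noncomputable def pr (i : ι) : V →ₗ[F] V :=
  (D i).subtype ∘ₗ (D i).projectionOnto _ (hD.nd i).isCompl

theorem pr_mem (i : ι) (x : V) : hD.pr i x ∈ D i := Subtype.prop _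

theorem pr_of_mem {i : ι} {x : V} (hx : x ∈ D i) : hD.pr i x = x := by
  have := Submodule.projectionOnto_apply_left (hD.nd i).isCompl ⟨x, hx⟩
  exact congrArg Subtype.val this

theorem pr_eq_zero_iff {i : ι} {x : V} : hD.pr i x = 0 ↔ x ∈ Φ.perp (D i) := by
  rw [← Submodule.projectionOnto_apply_eq_zero_iff (hD.nd i).isCompl]
  exact Submodule.coe_eq_zero

theorem pr_pr (i : ι) (x : V) : hD.pr i (hD.pr i x) = hD.pr i x := hD.pr_of_mem (hD.pr_mem i x)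

theorem sub_pr_mem (i : ι) (x : V) : x - hD.pr i x ∈ Φ.perp (D i) :=
  hD.pr_eq_zero_iff.1 (by rw [map_sub, hD.pr_pr, sub_self])

omit [FiniteDimensional F V] in
theorem le_perp {i j : ι} (h : i ≠ j) : D j ≤ Φ.perp (D i) :=
  fun y hy x hx => hD.perp i j h x hx y hy

theorem pr_of_ne {i j : ι} (h : i ≠ j) {x : V} (hx : x ∈ D j) : hD.pr i x = 0 :=
  hD.pr_eq_zero_iff.2 (hD.le_perp h hx)

theorem pr_pr_of_ne {i j : ι} (h : i ≠ j) (x : V) : hD.pr i (hD.pr j x) = 0 :=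
  hD.pr_of_ne h (hD.pr_mem j x)

theorem B_pr {i : ι} {y : V} (hy : y ∈ D i) (x : V) : Φ.B y (hD.pr i x) = Φ.B y x := by
  have := hD.sub_pr_mem i x y hy
  rw [map_sub, sub_eq_zero] at this
  exact this.symm

theorem B_pr_left {i : ι} {y : V} (hy : y ∈ D i) (x : V) : Φ.B (hD.pr i x) y = Φ.B x y := by
  rw [Φ.symm y, hD.B_pr hy, ← Φ.symm]

theorem eq_zero_of_pr {x : V} (h : ∀ i, hD.pr i x = 0) : x = 0 := by
  have : (⊤ : Submodule F V) ≤ LinearMap.ker (Φ.B x) := by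
    rw [← hD.top]
    exact iSup_le fun i y hy => Φ.perp_symm (hD.pr_eq_zero_iff.1 (h i) y hy)
  exact Φ.nondeg x fun y => this trivial

theorem exists_pr_ne {x : V} (h : x ≠ 0) : ∃ i, hD.pr i x ≠ 0 := by
  by_contra hc
  push Not at hc
  exact h (hD.eq_zero_of_pr hc)

theorem mem_of_pr {i : ι} {x : V} (h : ∀ j, j ≠ i → hD.pr j x = 0) : x ∈ D i := by
  have : x - hD.pr i x = 0 := hD.eq_zero_of_pr fun j => by
    by_cases hj : j = i
    · rw [hj, map_sub, hD.pr_pr, sub_self]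
    · rw [map_sub, h j hj, hD.pr_pr_of_ne hj, sub_self]
  rw [sub_eq_zero.1 this]
  exact hD.pr_mem i x

theorem exists_pr_ne_of_notMem {i : ι} {x : V} (h : x ∉ D i) : ∃ j, j ≠ i ∧ hD.pr j x ≠ 0 := by
  by_contra hc
  push Not at hc
  exact h (hD.mem_of_pr hc)

theorem notMem_of_pr {i j : ι} (hij : i ≠ j) {x : V} (hi : hD.pr i x ≠ 0) (hj : hD.pr j x ≠ 0)
    (l : ι) : x ∉ D l := fun h => by
  by_cases h1 : i = l
  · exact hj (hD.pr_of_ne (h1 ▸ hij.symm) h)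
  · exact hi (hD.pr_of_ne h1 h)

theorem exists_two {x : V} [Nonempty ι] (h : ∀ l, x ∉ D l) :
    ∃ i j, i ≠ j ∧ hD.pr i x ≠ 0 ∧ hD.pr j x ≠ 0 := by
  obtain ⟨i, hi⟩ := hD.exists_pr_ne (x := x) fun h0 =>
    h (Classical.arbitrary ι) (h0 ▸ Submodule.zero_mem _)
  obtain ⟨j, h1, h2⟩ := hD.exists_pr_ne_of_notMem (h i)
  exact ⟨i, j, h1.symm, hi, h2⟩

theorem sum_pr [Fintype ι] (x : V) : ∑ i, hD.pr i x = x := by
  classical
  rw [← sub_eq_zero]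
  refine hD.eq_zero_of_pr fun j => ?_
  rw [map_sub, map_sum, Finset.sum_eq_single j (fun i _ hi => hD.pr_pr_of_ne hi.symm x) (by simp),
    hD.pr_pr, sub_self]

theorem induction [Fintype ι] {P : V → Prop} (h0 : P 0) (hadd : ∀ x y, P x → P y → P (x + y))
    (x : V) (h : ∀ i, P (hD.pr i x)) : P x := by
  rw [← hD.sum_pr x]
  exact Finset.sum_induction _ P hadd h0 fun i _ => h i

theorem exists_Q_pr_ne [Fintype ι] {x : V} (hx : Φ.Q x ≠ 0) : ∃ i, Φ.Q (hD.pr i x) ≠ 0 := by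
  classical
  by_contra hc
  push Not at hc
  have : ∀ s : Finset ι, Φ.Q (∑ i ∈ s, hD.pr i x) = 0 := fun s => by
    induction s using Finset.induction_on with
    | empty => simpa using Φ.Q_zero
    | insert a s ha ih =>
      rw [Finset.sum_insert ha, Φ.Q_add_perp, hc, ih, add_zero]
      rw [map_sum]
      exact Finset.sum_eq_zero fun i hi => hD.perp a i (fun h => ha (h ▸ hi)) _ (hD.pr_mem a x) _
        (hD.pr_mem i x)
  exact hx (by rw [← hD.sum_pr x]; exact this _)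

omit [FiniteDimensional F V] in
theorem finrank_eq (i j : ι) : finrank F (D i) = finrank F (D j) := by
  obtain ⟨g, -, hg⟩ := hD.iso i j
  have : (D i).map g.toLinearMap = D j := by
    ext x
    refine ⟨?_, fun hx => ⟨g⁻¹ x, (hg _).2 (by rwa [app_inv_app]), app_inv_app g x⟩⟩
    rintro ⟨y, hy, rfl⟩
    exact (hg y).1 hy
  rw [← this, LinearEquiv.finrank_map_eq]

omit [FiniteDimensional F V] in
theorem exists_ne_zero (i : ι) : ∃ x ∈ D i, x ≠ 0 :=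
  Submodule.exists_mem_ne_zero_of_ne_bot (hD.ne i)

omit [FiniteDimensional F V] in
theorem eq_of_mem {i j : ι} {x : V} (hi : x ∈ D i) (hj : x ∈ D j) (h0 : x ≠ 0) : i = j := by
  by_contra h
  exact h0 (hD.nd i x hi fun y hy => Φ.perp_symm (hD.perp i j h y hy x hj))

theorem mem_dstab [Finite ι] {g : V ≃ₗ[F] V} (h : ∀ i, ∃ j, ∀ x ∈ D i, g x ∈ D j) :
    g ∈ dstab D := by
  choose σ hσ using h
  have h1 : ∀ i v, v ∈ D i ↔ g v ∈ D (σ i) := fun i =>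
    mem_iff_of_mapsTo (hσ i) (hD.finrank_eq _ _).le
  have h2 : Function.Injective σ := fun i j hij => by
    obtain ⟨x, hx, hx0⟩ := hD.exists_ne_zero i
    exact hD.eq_of_mem hx ((h1 j x).2 (hij ▸ hσ i x hx)) hx0
  exact ⟨Equiv.ofBijective σ (Finite.injective_iff_bijective.1 h2), h1⟩

theorem mem_dstab_of_blocks [Finite ι] {g : V ≃ₗ[F] V} (h : ∀ i, ∀ x ∈ D i, ∃ j, g x ∈ D j) :
    g ∈ dstab D := by
  refine hD.mem_dstab fun i => ?_
  obtain ⟨x, hx, hx0⟩ := hD.exists_ne_zero i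
  obtain ⟨j, hj⟩ := h i x hx
  refine ⟨j, fun y hy => ?_⟩
  obtain ⟨l, hl⟩ := h i y hy
  by_contra hc
  have hjl : j ≠ l := fun e => hc (e ▸ hl)
  obtain ⟨m, hm⟩ := h i _ ((D i).add_mem hx hy)
  refine hD.notMem_of_pr hjl ?_ ?_ m hm
  · rw [map_add, map_add, hD.pr_of_mem hj, hD.pr_of_ne hjl hl, add_zero]
    exact g.map_ne_zero_iff.2 hx0
  · rw [map_add, map_add, hD.pr_of_mem hl, hD.pr_of_ne hjl.symm hj, zero_add]
    exact fun h0 => hc (h0 ▸ Submodule.zero_mem _)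

theorem supp_le [Finite ι] {P : Submodule F V} {i : ι} (hP : P ≤ D i) : Φ.supp P ≤ Φ.HI D := by
  intro g hg
  have hg' := supp_mono hP hg
  refine ⟨hD.mem_dstab fun j => ⟨j, fun x hx => ?_⟩, hg.1⟩
  by_cases h : i = j
  · subst h; exact supp_apply hg' hx
  · rwa [supp_fix hg' (hD.le_perp h hx)]

theorem cv_of_supp [Finite ι] {P : Submodule F V} {i : ι} (hP : P ≤ D i) (h : Φ.Cov (Φ.supp P))
    {S : Set V} (hS : ∀ x ∈ S, x ∈ Φ.perp P) : Φ.Cv D S :=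
  h.mono fun _ hg => ⟨hD.supp_le hP hg, fun x hx => supp_fix hg (hS x hx)⟩

theorem hasOn [Finite ι] (i : ι) : Φ.HasOn (Φ.HE D) (D i) :=
  ((hasOn_supp (D i)).mono ((hD.supp_le le_rfl).trans inf_le_left) le_rfl).inf (hasOn_EG _)

theorem pr_apply {g : V ≃ₗ[F] V} (hg : g ∈ Φ.Iso) {i j : ι} (h : ∀ x ∈ D i, g x ∈ D j) (x : V) :
    hD.pr j (g x) = g (hD.pr i x) := by
  have h1 : g (x - hD.pr i x) ∈ Φ.perp (D j) := fun y hy => by
    rw [← Iso.B_inv_left hg]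
    exact hD.sub_pr_mem i x _ ((mem_iff_of_mapsTo h (hD.finrank_eq _ _).le _).2
      (by rwa [app_inv_app]))
  rw [← hD.pr_eq_zero_iff, map_sub, map_sub, hD.pr_of_mem (h _ (hD.pr_mem i x)), sub_eq_zero] at h1
  exact h1

theorem pr_supp {g : V ≃ₗ[F] V} {i j : ι} (hg : g ∈ Φ.supp (D i)) (h : i ≠ j) (x : V) :
    hD.pr j (g x) = hD.pr j x := by
  rw [← sub_eq_zero, ← map_sub]
  exact hD.pr_of_ne h.symm (supp_sub_mem hg x)

variable (Φ D) in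
omit hD [FiniteDimensional F V] in
/-- `s` interchanges the blocks `i` and `j` and fixes the others pointwise. -/
structure _root_.Cfsg.Agent.Class.Max.Fm.IsSwap (s : V ≃ₗ[F] V) (i j : ι) : Prop where
  mem : s ∈ Φ.HI D
  fst : ∀ x ∈ D i, s x ∈ D j
  snd : ∀ x ∈ D j, s x ∈ D i
  fix : ∀ x ∈ Φ.perp (D i), x ∈ Φ.perp (D j) → s x = x
  invol : ∀ x, s (s x) = x

theorem exists_isSwap_of [Finite ι] {i j : ι} (hij : i ≠ j) {ψ : V ≃ₗ[F] V} (hψ : ψ ∈ Φ.Iso)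
    (h : ∀ x ∈ D i, ψ x ∈ D j) : ∃ s, Φ.IsSwap D s i j ∧ ∀ x ∈ D i, s x = ψ x := by
  have h' : ∀ x ∈ D j, ψ⁻¹ x ∈ D i := fun x hx =>
    (mem_iff_of_mapsTo h (hD.finrank_eq _ _).le _).2 (by rwa [app_inv_app])
  let L : V →ₗ[F] V := ψ.toLinearMap ∘ₗ hD.pr i + (ψ⁻¹).toLinearMap ∘ₗ hD.pr j +
    (LinearMap.id - hD.pr i - hD.pr j)
  have hL : ∀ a ∈ D i, ∀ b ∈ D j, ∀ z ∈ Φ.perp (D i), z ∈ Φ.perp (D j) →
      L (a + b + z) = ψ⁻¹ b + ψ a + z := fun a ha b hb z hz hz' => by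
    simp only [L, LinearMap.add_apply, LinearMap.comp_apply, LinearMap.sub_apply, map_add,
      LinearMap.id_apply, hD.pr_of_mem ha, hD.pr_of_mem hb, hD.pr_of_ne hij hb,
      hD.pr_of_ne hij.symm ha, hD.pr_eq_zero_iff.2 hz, hD.pr_eq_zero_iff.2 hz', map_zero,
      LinearEquiv.coe_coe]
    abel
  have hd : ∀ x, ∃ a ∈ D i, ∃ b ∈ D j, ∃ z ∈ Φ.perp (D i), z ∈ Φ.perp (D j) ∧ x = a + b + z :=
    fun x => ⟨_, hD.pr_mem i x, _, hD.pr_mem j x, x - hD.pr i x - hD.pr j x,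
      hD.pr_eq_zero_iff.1 (by simp [hD.pr_pr, hD.pr_pr_of_ne hij]),
      hD.pr_eq_zero_iff.1 (by simp [hD.pr_pr, hD.pr_pr_of_ne hij.symm]), by abel⟩
  have hinv : Function.Involutive L := fun x => by
    obtain ⟨a, ha, b, hb, z, hz, hz', rfl⟩ := hd x
    rw [hL a ha b hb z hz hz', hL _ (h' b hb) _ (h a ha) z hz hz', inv_app_app, app_inv_app]
  have hB : ∀ a ∈ D i, ∀ b ∈ D j, ∀ z ∈ Φ.perp (D i), z ∈ Φ.perp (D j) →
      ∀ a' ∈ D i, ∀ b' ∈ D j, ∀ z' ∈ Φ.perp (D i), z' ∈ Φ.perp (D j) →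
      Φ.B (a + b + z) (a' + b' + z') = Φ.B a a' + Φ.B b b' + Φ.B z z' :=
    fun a ha b hb z hz hz1 a' ha' b' hb' z' hz' hz1' => by
      simp only [Φ.bsimp, hD.perp i j hij a ha b' hb', hD.perp j i hij.symm b hb a' ha', hz' a ha,
        hz1' b hb, Φ.perp_symm (hz a' ha'), Φ.perp_symm (hz1 b' hb')]
      ring
  have hQ : ∀ a ∈ D i, ∀ b ∈ D j, ∀ z ∈ Φ.perp (D i), z ∈ Φ.perp (D j) →
      Φ.Q (a + b + z) = Φ.Q a + Φ.Q b + Φ.Q z := fun a ha b hb z hz hz1 => by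
    rw [Φ.Q_add_perp (by rw [Φ.B_add_left, hz a ha, hz1 b hb, add_zero]),
      Φ.Q_add_perp (hD.perp i j hij a ha b hb)]
  have h1 : ∀ x ∈ D i, L x = ψ x := fun x hx => by
    simpa using hL x hx 0 (D j).zero_mem 0 (Submodule.zero_mem _) (Submodule.zero_mem _)
  have h2 : ∀ x ∈ D j, L x = ψ⁻¹ x := fun x hx => by
    simpa using hL 0 (D i).zero_mem x hx 0 (Submodule.zero_mem _) (Submodule.zero_mem _)
  have h3 : ∀ x ∈ Φ.perp (D i), x ∈ Φ.perp (D j) → L x = x := fun x hx hx' => by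
    simpa using hL 0 (D i).zero_mem 0 (D j).zero_mem x hx hx'
  refine ⟨LinearEquiv.ofInvolutive L hinv, ⟨⟨hD.mem_dstab fun l => ?_, fun x y => ?_, fun x => ?_⟩,
    fun x hx => ?_, fun x hx => ?_, h3, hinv⟩, h1⟩
  · by_cases hi : i = l
    · exact ⟨j, fun x hx => show L x ∈ _ by rw [h1 x (hi ▸ hx)]; exact h x (hi ▸ hx)⟩
    by_cases hj : j = l
    · exact ⟨i, fun x hx => show L x ∈ _ by rw [h2 x (hj ▸ hx)]; exact h' x (hj ▸ hx)⟩
    · exact ⟨l, fun x hx => show L x ∈ _ by rwa [h3 x (hD.le_perp hi hx) (hD.le_perp hj hx)]⟩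
  · obtain ⟨a, ha, b, hb, z, hz, hz1, rfl⟩ := hd x
    obtain ⟨a', ha', b', hb', z', hz', hz1', rfl⟩ := hd y
    change Φ.B (L _) (L _) = _
    rw [hL a ha b hb z hz hz1, hL a' ha' b' hb' z' hz' hz1', hB a ha b hb z hz hz1 a' ha' b' hb' z'
      hz' hz1', hB _ (h' b hb) _ (h a ha) z hz hz1 _ (h' b' hb') _ (h a' ha') z' hz' hz1',
      Iso.B hψ, Iso.B (Φ.Iso.inv_mem hψ), add_comm (Φ.B b b')]
  · obtain ⟨a, ha, b, hb, z, hz, hz1, rfl⟩ := hd x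
    change Φ.Q (L _) = _
    rw [hL a ha b hb z hz hz1, hQ a ha b hb z hz hz1, hQ _ (h' b hb) _ (h a ha) z hz hz1,
      Iso.Q hψ, Iso.Q (Φ.Iso.inv_mem hψ), add_comm (Φ.Q b)]
  · change L x ∈ _
    rw [h1 x hx]; exact h x hx
  · change L x ∈ _
    rw [h2 x hx]; exact h' x hx

theorem exists_isSwap [Finite ι] {i j : ι} (hij : i ≠ j) : ∃ s, Φ.IsSwap D s i j := by
  obtain ⟨ψ, hψ, h⟩ := hD.iso i j
  obtain ⟨s, hs, -⟩ := hD.exists_isSwap_of hij hψ fun x => (h x).1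
  exact ⟨s, hs⟩

theorem exists_isSwap_eq [Finite ι] {i j : ι} (hij : i ≠ j) {x y : V} (hx : x ∈ D i)
    (hy : y ∈ D j) (hx0 : x ≠ 0) (hy0 : y ≠ 0) (hQ : Φ.Q y = Φ.Q x) :
    ∃ s, Φ.IsSwap D s i j ∧ s x = y := by
  obtain ⟨ψ, hψ, h⟩ := hD.iso i j
  obtain ⟨k, hk, e⟩ := (hD.nd j).exists_supp_move ((h x).1 hx) hy (ψ.map_ne_zero_iff.2 hx0) hy0
    (by rw [hQ, Iso.Q hψ])
  obtain ⟨s, hs, e'⟩ := hD.exists_isSwap_of hij (Φ.Iso.mul_mem hk.1 hψ)
    fun z hz => supp_apply hk ((h z).1 hz)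
  exact ⟨s, hs, by rw [e' x hx, mul_app, e]⟩

omit [FiniteDimensional F V] in
theorem exists_sing {i : ι} {e : V} (he : e ∈ D i) (he0 : Φ.Q e = 0) (he1 : e ≠ 0) (j : ι) :
    ∃ s ∈ D j, Φ.Q s = 0 ∧ s ≠ 0 := by
  obtain ⟨g, hg, h⟩ := hD.iso i j
  exact ⟨g e, (h e).1 he, by rw [Iso.Q hg, he0], g.map_ne_zero_iff.2 he1⟩

/-- Recognition: an Eichler transformation with centre in a block and not supported on it. -/
theorem EG_le_of_inA [Fintype ι] (hc : Φ.Comm) (hN : ∀ a : F, ∃ b c, a = b * Φ.σ b - c * Φ.σ c)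
    (hm : ∀ j, (∃ a : F, a ≠ 0 ∧ a * Φ.σ a ≠ 1) ∨ (∃ c, c ≠ 0 ∧ Φ.π c = 0) ∨ 3 ≤ finrank F (D j))
    (hex : ∀ j, (∃ c, c ≠ 0 ∧ Φ.π c = 0) ∨ finrank F (D j) ≠ 2 ∨
      (∀ s ∈ D j, Φ.Q s = 0 → s = 0) ∨ ∀ t₀ t₁ : F, ∃ t, t ≠ 0 ∧ t ≠ t₀ ∧ t ≠ t₁)
    (h1 : Φ.HE D ≤ M) (h2 : M ≤ Φ.Iso) {i : ι} {e w : V} (he : e ∈ D i) (he0 : Φ.Q e = 0)
    (he1 : e ≠ 0) (hcv : ∀ j, j ≠ i → Φ.Cv D (insert e (D j))) (hw : Φ.InA M e w)
    (hw' : w ∉ D i) : Φ.EG ≤ M := by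
  have hon := fun j => (hD.hasOn j).mono h1 le_rfl
  obtain ⟨f, hf, hf0, hef⟩ := exists_partner he he0 ((hD.nd i).exists_ne he he1)
  obtain ⟨j, hj, hwj⟩ := hD.exists_pr_ne_of_notMem hw'
  have hconj : ∀ k ∈ M, k e = e → ∀ x, Φ.InA M e x → Φ.InA M e (k x) := fun k hk hke x hx => by
    have := hx.conj hk (h2 hk)
    rwa [hke] at this
  have hnorm : ∀ x ∈ D j, Φ.InA M e x → ∀ b : F, Φ.InA M e ((b * Φ.σ b) • x) := fun x hx h b => by
    by_cases hb : b = 0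
    · rw [hb, zero_mul, zero_smul]; exact inA_zero he0
    obtain ⟨g, hg, ht⟩ := hc.exists_isTor he0 hf0 hef hb
    have h3 := h.conj (h1 ⟨(hD.supp_le le_rfl (ht.mem_supp he hf)).1, hg⟩) ht.iso
    rw [ht.fst, ht.fix x (hD.perp i j hj.symm e he x hx) (hD.perp i j hj.symm f hf x hx)] at h3
    have := h3.of_smul_left (mul_ne_zero hb (Φ.σ_ne hb))
    rwa [map_mul, Φ.invol, mul_comm] at this
  let A : Submodule F V :=
    { carrier := {x | x ∈ D j ∧ Φ.InA M e x}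
      zero_mem' := ⟨(D j).zero_mem, inA_zero he0⟩
      add_mem' := fun ha hb => ⟨(D j).add_mem ha.1 hb.1, ha.2.add hb.2⟩
      smul_mem' := fun a x hx => ⟨(D j).smul_mem a hx.1, by
        obtain ⟨b, c, rfl⟩ := hN a
        rw [sub_smul]
        exact (hnorm x hx.1 hx.2 b).sub (hnorm x hx.1 hx.2 c)⟩ }
  have hA : D j ≤ A := (hD.nd j).le_of_invariant (fun x hx => hx.1) (fun h => by
      obtain ⟨s, hs, hs0, hs1⟩ := hD.exists_sing he he0 he1 j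
      obtain ⟨g, hg, hg'⟩ := hc.exists_move_ne (hD.nd j) hs hs0 hs1 (hm j) (hD.pr_mem j w) hwj
      have h3 : g w - w ∈ A := ⟨supp_sub_mem hg.1 w, (hconj g (h1 ⟨(hD.supp_le le_rfl hg.1).1, hg.2⟩)
        (supp_fix hg.1 (hD.le_perp hj he)) w hw).sub hw⟩
      rw [h, Submodule.mem_bot, sub_eq_zero] at h3
      exact hg' (by rw [← hD.pr_apply hg.1.1 fun x hx => supp_apply hg.1 hx, h3]))
    (fun s hs w' hw' c hv x hx => ⟨ef_mem c hs hw' hx.1, hconj hv.eich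
      ((hon j s hs w' hw' c hv).mem hv.eich_apply) (ef_apply_of_perp (hD.perp j i hj s hs e he)
      (hD.perp j i hj w' hw' e he)) x hx.2⟩)
    (fun a ha c hc hca x hx hax => by
      have h3 := refl_mem_supp ha hc hca
      obtain ⟨k, hk, ek⟩ := (hcv j hj).real (hD.supp_le le_rfl h3)
      have h4 := hconj k (h1 hk) (by rw [ek e (Or.inl rfl), supp_fix h3 (hD.le_perp hj he)]) x hx.2
      rw [ek x (Or.inr hx.1)] at h4
      have h5 : refl hc hca x ∈ A := ⟨supp_apply h3 hx.1, h4⟩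
      rw [refl_apply, A.sub_mem_iff_right hx] at h5
      exact (A.smul_mem_iff (mul_ne_zero (inv_ne_zero hc) hax)).1 h5) (hex j)
  have hF : Φ.Full M e := (hon i).full he he0 fun y hy =>
    hD.induction (P := Φ.InA M e) (inA_zero he0) (fun _ _ => InA.add) y fun l => by
      by_cases hl : l = i
      · subst hl
        exact (hon l).inA he (hD.pr_mem l y) he0 (by rw [hD.B_pr he, hy])
      by_cases hl' : l = j
      · subst hl'
        exact (hA (hD.pr_mem l y)).2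
      obtain ⟨s, hs⟩ := hD.exists_isSwap hl'
      obtain ⟨k, hk, ek⟩ := (hcv l hl).real hs.mem
      have h3 : k e = e := by
        rw [ek e (Or.inl rfl), hs.fix e (hD.le_perp hl he) (hD.le_perp hj he)]
      have h4 := hconj k⁻¹ (M.inv_mem (h1 hk)) (by rw [← h3, inv_app_app, h3]) _
        (hA (hs.fst _ (hD.pr_mem l y))).2
      rwa [← ek _ (Or.inr (hD.pr_mem l y)), inv_app_app] at h4
  obtain ⟨g, hg, g1, -, g3⟩ := exists_hyp_swap he0 hf0 hef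
  obtain ⟨k, hk, ek⟩ := (hcv j hj).real (hD.supp_le (le_refl (D i))
    ⟨hg, fun z hz => g3 z (hz e he) (hz f hf)⟩)
  have := hF.conj (h1 hk) (HE_le_HI hk).2
  rw [ek e (Or.inl rfl), g1] at this
  exact EG_le_of_full hF this he0 hf0 (by simp [hef])

theorem exists_EG_not_dstab (hd : Φ.d + 2 ≤ finrank F V) {i : ι}
    (hd' : finrank F (D i) + Φ.d ≤ finrank F V) : ∃ g ∈ Φ.EG, g ∉ Φ.HE D := by
  obtain ⟨u, hu, hu0⟩ := hD.exists_ne_zero i
  have := (hD.nd i).finrank_add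
  obtain ⟨s, hs, hs0, hs1⟩ := Φ.iso (Φ.perp (D i)) (by omega)
  have h1 : hD.pr i (u + s) = u := by
    rw [map_add, hD.pr_of_mem hu, hD.pr_eq_zero_iff.2 hs, add_zero]
  obtain ⟨g, hg, e⟩ := move_EG hd hu0 (y := u + s) (fun h => hu0 (by rw [← h1, h, map_zero]))
    (by rw [Φ.Q_add_perp (hs u hu), hs1, add_zero])
  refine ⟨g, hg, fun h => ?_⟩
  obtain ⟨j, hj⟩ := dstab_apply h.1 i
  have h2 := hj u hu
  rw [e] at h2
  by_cases hij : i = j
  · subst hij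
    rw [hD.pr_of_mem h2, add_eq_left] at h1
    exact hs0 h1
  · exact hu0 (h1 ▸ hD.pr_of_ne hij h2)

/-- The symplectic case. -/
theorem isMaximalIn_alt [Fintype ι] (hπ : ∀ c, Φ.π c = 0) (hσ : ∀ a, Φ.σ a = a)
    (hI : Φ.Iso ≤ Φ.EG) (hN : ∀ a : F, ∃ b c, a = b * b - c * c) (hd : Φ.d + 2 ≤ finrank F V)
    {i₀ : ι} (hd' : finrank F (D i₀) + Φ.d ≤ finrank F V)
    (hq : (∃ μ : F, μ ≠ 0 ∧ μ ≠ 1) ∨ 3 ≤ finrank F (D i₀)) : Geo.IsMaximalIn Φ.EG (Φ.HE D) := by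
  refine isMaximalIn_of inf_le_right (hD.exists_EG_not_dstab hd hd') fun M h1 h2 g hg hg' => ?_
  have hQ : ∀ x, Φ.Q x = 0 := fun x => by
    obtain ⟨c, hc⟩ := Φ.range x
    rw [← hc, hπ]
  have h2' := h2.trans Φ.EG_le_Iso
  have hon := fun j => (hD.hasOn j).mono h1 le_rfl
  have key : ∀ i, ∀ e ∈ D i, e ≠ 0 → ∀ w, Φ.InA M e w → w ∉ D i → Φ.EG ≤ M :=
    fun i e he he1 w hw hw' => hD.EG_le_of_inA (comm_of_le hI) (by simpa only [hσ] using hN)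
      (fun _ => Or.inr (Or.inl ⟨1, one_ne_zero, hπ 1⟩)) (fun _ => Or.inl ⟨1, one_ne_zero, hπ 1⟩)
      h1 h2' he (hQ e) he1 (fun _ _ => cov_of_le hI _) hw hw'
  obtain ⟨j, v, hv, hv'⟩ : ∃ j, ∃ v ∈ D j, ∀ l, g v ∉ D l := by
    by_contra hc
    push Not at hc
    exact hg' ⟨hD.mem_dstab_of_blocks hc, h2 hg⟩
  have hT : Φ.HasE M (g v) 0 1 := by
    simpa using ((hon j).lam hv (hQ v) 1 (hπ 1)).conj hg (h2' hg)
  set w := g v
  have : Nonempty ι := ⟨j⟩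
  obtain ⟨i, -, -, hi, -⟩ := hD.exists_two hv'
  have hx := hD.pr_mem i w
  have hv1 : ∀ x, Φ.Valid x 0 1 := fun x => ⟨hQ x, map_zero _, by rw [hπ, hQ]⟩
  rcases hq with ⟨μ, hμ, hμ'⟩ | h3
  · set x := hD.pr i w
    obtain ⟨r, hr, e⟩ : ∃ r ∈ Φ.perp (D i), w = x + r := ⟨_, hD.sub_pr_mem i w, by abel⟩
    obtain ⟨f, hf, hf0, hxf⟩ := exists_partner hx (hQ x) ((hD.nd i).exists_ne hx hi)
    obtain ⟨t, ht⟩ := exists_isTor (hQ x) hf0 hxf hμ
    have h3 := hT.conj (h1 ⟨(hD.supp_le le_rfl (ht.mem_supp hx hf)).1, hI ht.iso⟩) ht.iso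
    rw [e, map_add, ht.fst, ht.fix r (hr x hx) (hr f hf), map_zero] at h3
    rw [e] at hT
    have h4 : ∀ y ∈ D i, Φ.HasE M (y + r) 0 1 → ∀ hv : Φ.Valid y ((-(Φ.ε * 1)) • r) 0,
        (hv1 r).eich * hv.eich ∈ M := fun y hy h hv => by
      have := M.mul_mem (M.inv_mem (((hon i).lam hy (hQ y) 1 (hπ 1)).mem (hv1 y).eich_apply))
        (h.mem (g := (hv1 y).eich * ((hv1 r).eich * hv.eich)) fun v =>
          (ef_add_center (hQ y) (hQ r) (hr y hy) (hπ 1) v).symm)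
      simpa using this
    have v1 : Φ.Valid x ((-(Φ.ε * 1)) • r) 0 := valid_zero (hQ _) (by simp [hr x hx]) (hQ _)
    have v2 := v1.smul_left μ
    have h5 := M.mul_mem (M.inv_mem (h4 x hx hT v1)) (h4 _ ((D i).smul_mem μ hx) h3 v2)
    have v3 := v1.smul μ
    refine key i x hx hi _ ⟨_, v1.neg.add v3, _, h5, fun y => ?_⟩ fun h => ?_
    · rw [← v1.neg.ef_ef v3, mul_inv_rev, mul_assoc, inv_mul_cancel_left, mul_app, v2.eich_apply,
        ef_smul_left, hσ μ]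
      rfl
    · have h6 : ((1 - μ) * Φ.ε) • r ∈ D i := by convert h using 1; module
      rw [(D i).smul_mem_iff (mul_ne_zero (sub_ne_zero.2 hμ'.symm) Φ.eps_ne)] at h6
      exact hv' i (e ▸ (D i).add_mem hx h6)
  · obtain ⟨y, hy, hxy⟩ := (hD.nd i).exists_ne hx hi
    rw [hD.B_pr_left hy] at hxy
    obtain ⟨e, he, he0, he1⟩ := exists_ne_zero_ker [Φ.B w, Φ.B y] (D i)
      (by rw [hD.finrank_eq i i₀]; exact h3)
    simp only [List.mem_cons, List.not_mem_nil, or_false, forall_eq_or_imp, forall_eq] at he1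
    obtain ⟨t, ht, et⟩ := hT
    have h3 := (hon i).inA he hy (hQ e) (Φ.perp_symm he1.2)
    have h4 := h3.conj ht (h2' ht)
    rw [et, et, ef_apply_of_perp he1.1 (by simp)] at h4
    refine key i e he he0 _ (h3.sub h4) fun h => hv' i ?_
    simp only [ef, smul_zero, add_zero, Φ.bsimp, zero_add, one_mul, sub_sub_cancel] at h
    exact ((D i).smul_mem_iff (mul_ne_zero Φ.eps_ne hxy)).1 h

end ODec

end Fm

theorem exists_mul_self_sub [Finite F] (a : F) : ∃ b c, a = b * b - c * c := by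
  by_cases h2 : (2 : F) = 0
  · obtain ⟨b, hb⟩ := exists_sq_of_two_eq_zero h2 a
    exact ⟨b, 0, by rw [hb]; ring⟩
  · exact ⟨(a + 1) / 2, (a - 1) / 2, by field_simp; ring⟩

section Matrices

variable {κ : Type} [Fintype κ] [DecidableEq κ]

theorem mem_decompositionStabilizer_iff_dstab {t : ℕ} (D : Fin t → Submodule F (κ → F))
    (g : GL κ F) : g ∈ Geo.decompositionStabilizer D ↔ glEquiv κ F g ∈ dstab D := by
  rw [mem_decompositionStabilizer_iff]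
  refine exists_congr fun σ => forall_congr' fun i => ⟨fun h v => ?_, fun h => ?_⟩
  · rw [← h]
    exact ⟨fun hv => ⟨v, hv, rfl⟩, fun ⟨u, hu, e⟩ => (glEquiv κ F g).injective e ▸ hu⟩
  · ext x
    refine ⟨?_, fun hx => ⟨(glEquiv κ F g)⁻¹ x, (h _).2 (by rwa [app_inv_app]), app_inv_app _ x⟩⟩
    rintro ⟨y, hy, rfl⟩
    exact (h y).1 hy

theorem dstab_isMaximalIn_of {Φ : Fm F (κ → F)} {G : Subgroup (GL κ F)}
    (hG : ∀ g, g ∈ G ↔ glEquiv κ F g ∈ Φ.EG) {t : ℕ} {D : Fin t → Submodule F (κ → F)}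
    (h : Geo.IsMaximalIn Φ.EG (Φ.HE D)) :
    Geo.IsMaximalIn G (Geo.decompositionStabilizer D ⊓ G) :=
  isMaximalIn_of_equiv (glEquiv κ F) hG (fun g => by
    rw [Subgroup.mem_inf, Subgroup.mem_inf, hG, mem_decompositionStabilizer_iff_dstab]) h

omit [DecidableEq κ] in
theorem oDec_of {Φ : Fm F (κ → F)} {f : (κ → F) → (κ → F) → F}
    (hf : (∀ x y, Φ.B x y = f x y) ∨ ∀ x y, Φ.B x y = f y x) {t k : ℕ}
    {D : Fin t → Submodule F (κ → F)} (hD : Geo.IsNondegenerateMDecomposition f k D)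
    (hiso : ∀ i j, ∃ e : D i ≃ₗ[F] D j, (∀ x y, Φ.B (e x) (e y) = Φ.B x y) ∧
      ∀ x, Φ.Q (e x) = Φ.Q x) : Φ.ODec D where
  nd i := nd_of_on hf (hD.nondegenerate i)
  perp i j h x hx y hy := hf.elim (fun e => (e x y).trans (hD.orthogonal i j h x hx y hy))
    fun e => (e x y).trans (hD.orthogonal j i h.symm y hy x hx)
  top := hD.decomp.iSup_eq_top
  ne i h := by
    have := hD.decomp.finrank_eq i
    rw [h, finrank_bot] at this
    exact hD.decomp.pos.ne this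
  iso i j := by
    obtain ⟨e, h1, h2⟩ := hiso i j
    obtain ⟨g, g1, g2, g3⟩ := Φ.isFormed.witt_inj (D i) ((D j).subtype ∘ₗ e.toLinearMap)
      (Subtype.val_injective.comp e.injective) h1 h2
    exact ⟨g, ⟨g1, g2⟩, mem_iff_of_mapsTo (fun v hv => by rw [g3 ⟨v, hv⟩]; exact Subtype.prop _)
      (by rw [hD.decomp.finrank_eq, hD.decomp.finrank_eq])⟩

theorem sp_dstab_isMaximalIn [Fintype F] {m t k : ℕ} {D : Fin t → Submodule F (Fin m ⊕ Fin m → F)}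
    (hD : Geo.IsNondegenerateMDecomposition (sympForm m F) k D)
    (hex : ¬ (k = 2 ∧ Fintype.card F = 2)) :
    Geo.IsMaximalIn (spGL m F) (Geo.decompositionStabilizer D ⊓ spGL m F) := by
  have hnd := fun i => nd_of_on (Φ := fmSpStd F m) (Or.inl fun _ _ => rfl) (hD.nondegenerate i)
  have hA : ∀ i (x : D i), (fmSpStd F m).B.domRestrict₁₂ (D i) (D i) x x = 0 :=
    fun i x => Sp.form_self x.1
  have hN : ∀ i (x : D i), (∀ y, (fmSpStd F m).B.domRestrict₁₂ (D i) (D i) x y = 0) → x = 0 :=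
    fun i x h => Subtype.ext (hnd i x.1 x.2 fun y hy => h ⟨y, hy⟩)
  have hO : (fmSpStd F m).ODec D := oDec_of (Or.inl fun _ _ => rfl) hD fun i j => by
    obtain ⟨e, he⟩ := Symm2.exists_equiv_of_alt (hA i) (hN i) (hA j) (hN j)
      (by rw [hD.decomp.finrank_eq, hD.decomp.finrank_eq])
    exact ⟨e, he, fun _ => rfl⟩
  have h1 := finrank_of_isMDecomposition hD.decomp
  have h2 := hD.decomp.two_le
  have h3 := hD.decomp.pos
  let i₀ : Fin t := ⟨0, by omega⟩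
  have h4 := Symm2.even_finrank_of_alt (hA i₀) (hN i₀)
  rw [hD.decomp.finrank_eq] at h4
  have h5 : 2 ≤ k := by obtain ⟨r, hr⟩ := h4; omega
  have h6 : 2 * k ≤ t * k := Nat.mul_le_mul_right k h2
  refine dstab_isMaximalIn_of (mem_spGL_iff m) (hO.isMaximalIn_alt (fun _ => rfl) (fun _ => rfl)
    (EG_fmSpStd m).ge exists_mul_self_sub ?_ (i₀ := i₀) ?_ ?_)
  · change 1 + 2 ≤ _
    rw [finrank_fintype_fun_eq_card]; omega
  · change _ + 1 ≤ _
    rw [finrank_fintype_fun_eq_card, hD.decomp.finrank_eq]; omega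
  · rw [hD.decomp.finrank_eq]
    by_cases h : k = 2
    · exact Or.inl (Orth.exists_ne_zero_ne_one_of_card fun h' => hex ⟨h, h'⟩)
    · exact Or.inr (by omega)

end Matrices

end Cfsg.Agent.Class.Max
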