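import Mathlib
import Cfsg.Agent.Class.Max.C2Fm

/-!
Class `C₂` for unitary groups: homologies, and decompositions into blocks of dimension at least 2.
-/

set_option autoImplicit false

namespace Cfsg.Agent.Class.Max

open Module

variable {F V : Type*} [Field F] [AddCommGroup V] [Module F V] {ι : Type*}

/-! ### Counting with traces -/

theorem card_le_two_mul_trace [DecidableEq F] {σ : F →+* F} {β : F} (hβ : β ≠ 0) (S : Finset F)
    (hS : ∀ z ∈ S, z * σ z = 1) {f : F → F} (hf : ∀ z z', f z = f z' →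
      β * z + σ (β * z) = β * z' + σ (β * z')) : S.card ≤ 2 * (S.image f).card := by
  refine Finset.card_le_mul_card_image S 2 fun b hb => ?_
  obtain ⟨z, hz, rfl⟩ := Finset.mem_image.1 hb
  refine (Finset.card_le_card (t := {z, σ (β * z) / β}) fun y hy => ?_).trans Finset.card_le_two
  obtain ⟨h1, h2⟩ := Finset.mem_filter.1 hy
  have h3 := hf _ _ h2
  have h4 := hS z hz
  have h5 := hS y h1
  simp only [map_mul] at h3
  have h6 : (y - z) * (β * y - σ β * σ z) = 0 := by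
    linear_combination y * h3 - σ β * h5 + σ β * h4
  rw [Finset.mem_insert, Finset.mem_singleton, eq_div_iff hβ, map_mul]
  exact (mul_eq_zero.1 h6).imp sub_eq_zero.1 fun h => by linear_combination h

theorem exists_trace_pair [Finite F] {σ : F →+* F} (hσ : ∀ a, σ (σ a) = a)
    (hc : Nat.card {a : F // σ a = a} < Nat.card {z : F // z * σ z = 1})
    {β γ r : F} (hβ : β ≠ 0) (hγ : γ ≠ 0) (hr : σ r = r) (z₀ : F) :
    ∃ z y, z * σ z = 1 ∧ y * σ y = 1 ∧ z ≠ z₀ ∧ β * z + σ (β * z) + (γ * y + σ (γ * y)) = r := by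
  classical
  have := Fintype.ofFinite F
  rw [Nat.subtype_card (Finset.univ.filter fun a : F => σ a = a) (by simp),
    Nat.subtype_card (Finset.univ.filter fun z : F => z * σ z = 1) (by simp)] at hc
  set K := Finset.univ.filter fun a : F => σ a = a
  set U := Finset.univ.filter fun z : F => z * σ z = 1
  have hU : ∀ z ∈ U, z * σ z = 1 := fun z hz => (Finset.mem_filter.1 hz).2
  by_contra hne
  push Not at hne
  have h1 := card_le_two_mul_trace hβ (U.erase z₀) (fun z hz => hU z (Finset.mem_of_mem_erase hz))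
    (f := fun z => β * z + σ (β * z)) fun _ _ h => h
  have h2 := card_le_two_mul_trace hγ U hU (f := fun z => r - (γ * z + σ (γ * z)))
    fun _ _ h => sub_right_injective h
  have h3 : Disjoint ((U.erase z₀).image fun z => β * z + σ (β * z))
      (U.image fun z => r - (γ * z + σ (γ * z))) := by
    rw [Finset.disjoint_left]
    intro x hx hx'
    obtain ⟨s, hs, rfl⟩ := Finset.mem_image.1 hx
    obtain ⟨t, ht, e⟩ := Finset.mem_image.1 hx'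
    exact hne s t (hU s (Finset.mem_of_mem_erase hs)) (hU t ht) (Finset.ne_of_mem_erase hs)
      (by linear_combination -e)
  have h4 : Finset.disjUnion _ _ h3 ⊆ K := fun x hx => by
    rw [Finset.mem_disjUnion, Finset.mem_image, Finset.mem_image] at hx
    rcases hx with ⟨z, -, rfl⟩ | ⟨z, -, rfl⟩ <;>
      simp only [K, Finset.mem_filter, Finset.mem_univ, true_and, map_add, map_sub, hσ, hr] <;> ring
  have h5 := Finset.card_le_card h4
  rw [Finset.card_disjUnion] at h5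
  have h6 := Finset.pred_card_le_card_erase (s := U) (a := z₀)
  omega

theorem det_mul_equiv (g h : V ≃ₗ[F] V) : LinearMap.det ((g * h : V ≃ₗ[F] V) : V →ₗ[F] V) =
    LinearMap.det (g : V →ₗ[F] V) * LinearMap.det (h : V →ₗ[F] V) := by
  rw [← map_mul]; rfl

namespace Fm

variable {Φ : Fm F V} {M N : Subgroup (V ≃ₗ[F] V)}

theorem ND.induction_sing {P : Submodule F V} (hP : Φ.ND P) {e : V} (he : e ∈ P) (he0 : Φ.Q e = 0)
    (he1 : e ≠ 0) {A : V → Prop} (hsub : ∀ x y, A x → A y → A (x - y))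
    (h : ∀ y ∈ P, Φ.Q y = 0 → A y) {z : V} (hz : z ∈ P) : A z := by
  by_cases hz0 : z = 0
  · exact h z hz (hz0 ▸ Φ.Q_zero)
  obtain ⟨s, hs, hs0, hzs⟩ := exists_sing_not_perp P he he0 (hP.exists_ne he he1)
    (hP.exists_ne hz hz0)
  obtain ⟨t, ht⟩ := Φ.exists_singular_add hs0 (Φ.ne_symm hzs)
  simpa using hsub _ _ (h _ (P.add_mem hz (P.smul_mem t hs)) ht)
    (h _ (P.smul_mem t hs) (Φ.Q_smul_zero hs0 t))

theorem ODec.mem_dstab_of_sing [FiniteDimensional F V] [Finite ι] {D : ι → Submodule F V}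
    (hD : Φ.ODec D) {i₀ : ι} {e₀ : V} (he : e₀ ∈ D i₀) (he0 : Φ.Q e₀ = 0) (he1 : e₀ ≠ 0)
    {g : V ≃ₗ[F] V} (hg : g ∈ Φ.Iso) (h : ∀ i, ∀ x ∈ D i, Φ.Q x = 0 → ∃ j, g x ∈ D j) :
    g ∈ dstab D := by
  refine hD.mem_dstab fun i => ?_
  obtain ⟨e, he, he0, he1⟩ := hD.exists_sing he he0 he1 i
  obtain ⟨j, hj⟩ := h i e he he0
  have key : ∀ x, g x ∈ D j → ∀ y ∈ D i, Φ.Q y = 0 → Φ.B x y ≠ 0 → g y ∈ D j :=
    fun x hx y hy hy0 hxy => by
      obtain ⟨l, hl⟩ := h i y hy hy0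
      by_contra hc
      exact hxy (by rw [← Iso.B hg]; exact hD.perp j l (fun e => hc (e ▸ hl)) _ hx _ hl)
  refine ⟨j, fun x hx => (hD.nd i).induction_sing he he0 he1 (A := fun x => g x ∈ D j)
    (fun x y h1 h2 => by rw [map_sub]; exact (D j).sub_mem h1 h2) (fun y hy hy0 => ?_) hx⟩
  by_cases hy1 : y = 0
  · rw [hy1, map_zero]; exact (D j).zero_mem
  by_cases hey : Φ.B e y = 0
  · obtain ⟨s, hs, hs0, h1, h2⟩ := exists_sing_not_perp₂ (D i) he he0 hey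
      ((hD.nd i).exists_ne he he1) ((hD.nd i).exists_ne hy hy1)
    exact key s (key e hj s hs hs0 h1) y hy hy0 (Φ.ne_symm h2)
  · exact key e hj y hy hy0 hey

variable (Φ) in
/-- `Φ` is a unitary space. -/
structure IsU : Prop where
  eps : Φ.ε = 1
  pi : ∀ c, Φ.π c = c + Φ.σ c
  dim : Φ.d = 2
  sl : Φ.Iso ⊓ SLV F V ≤ Φ.EG
  det : ∀ g ∈ Φ.Iso, LinearMap.det (g : V →ₗ[F] V) * Φ.σ (LinearMap.det (g : V →ₗ[F] V)) = 1
  norm : ∀ a, Φ.σ a = a → ∃ b, b * Φ.σ b = a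
  card : Nat.card {a : F // Φ.σ a = a} < Nat.card {z : F // z * Φ.σ z = 1}

variable (Φ) in
open Classical in
/-- The map `x ↦ x + κ B v x • v`. -/
noncomputable def rkm (v : V) (κ : F) : V ≃ₗ[F] V :=
  if h : 1 + κ * Φ.B v v ≠ 0 then
    LinearEquiv.ofLinearMap (LinearMap.transvection (κ • Φ.B v) v)
      (LinearMap.transvection ((-(κ / (1 + κ * Φ.B v v))) • Φ.B v) v)
      (LinearMap.ext fun x => by
        simp only [LinearMap.comp_apply, LinearMap.transvection.apply, LinearMap.smul_apply,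
          map_add, map_smul, smul_eq_mul, LinearMap.id_apply]
        match_scalars
        · rfl
        · field_simp; ring)
      (LinearMap.ext fun x => by
        simp only [LinearMap.comp_apply, LinearMap.transvection.apply, LinearMap.smul_apply,
          map_add, map_smul, smul_eq_mul, LinearMap.id_apply]
        match_scalars
        · rfl
        · field_simp; ring)
  else 1

theorem rkm_apply {v : V} {κ : F} (h : 1 + κ * Φ.B v v ≠ 0) (x : V) :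
    Φ.rkm v κ x = x + (κ * Φ.B v x) • v := by
  rw [rkm, dif_pos h]
  rfl

theorem rkm_det [FiniteDimensional F V] {v : V} {κ : F} (h : 1 + κ * Φ.B v v ≠ 0) :
    LinearMap.det (Φ.rkm v κ : V →ₗ[F] V) = 1 + κ * Φ.B v v := by
  have : (Φ.rkm v κ : V →ₗ[F] V) = LinearMap.transvection (κ • Φ.B v) v :=
    LinearMap.ext fun x => rkm_apply h x
  rw [this, LinearMap.transvection.det]
  rfl

variable (Φ) in
/-- The homology with centre the unit vector `a` and eigenvalue `ζ`. -/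
noncomputable def hm (a : V) (ζ : F) : V ≃ₗ[F] V := Φ.rkm a (ζ - 1)

theorem ne_zero_of_mu {ζ : F} (h : ζ * Φ.σ ζ = 1) : ζ ≠ 0 := fun e => by simp [e] at h

theorem mu_conj {ζ : F} (h : ζ * Φ.σ ζ = 1) : Φ.σ ζ * Φ.σ (Φ.σ ζ) = 1 := by
  rw [Φ.invol, mul_comm, h]

theorem mu_mul {ζ ξ : F} (h : ζ * Φ.σ ζ = 1) (h' : ξ * Φ.σ ξ = 1) : ζ * ξ * Φ.σ (ζ * ξ) = 1 := by
  rw [map_mul]; linear_combination ξ * Φ.σ ξ * h + h'

section Hm

variable {a : V} {ζ ξ : F} (ha : Φ.B a a = 1) (hζ : ζ * Φ.σ ζ = 1)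
include ha hζ

theorem hm_apply (x : V) : Φ.hm a ζ x = x + ((ζ - 1) * Φ.B a x) • a :=
  rkm_apply (by simpa [ha] using ne_zero_of_mu hζ) x

theorem hm_det [FiniteDimensional F V] : LinearMap.det (Φ.hm a ζ : V →ₗ[F] V) = ζ := by
  rw [hm, rkm_det (by simpa [ha] using ne_zero_of_mu hζ), ha]; ring

theorem hm_self : Φ.hm a ζ a = ζ • a := by rw [hm_apply ha hζ, ha]; module

theorem hm_perp {x : V} (h : Φ.B a x = 0) : Φ.hm a ζ x = x := by simp [hm_apply ha hζ, h]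

theorem hm_mul (hξ : ξ * Φ.σ ξ = 1) : Φ.hm a ζ * Φ.hm a ξ = Φ.hm a (ζ * ξ) :=
  LinearEquiv.ext fun x => by
    rw [mul_app, hm_apply ha hζ, hm_apply ha hξ, hm_apply ha (mu_mul hζ hξ)]
    simp only [Φ.bsimp, ha]
    module

omit hζ in
theorem hm_one : Φ.hm a 1 = 1 := LinearEquiv.ext fun x => by
  rw [hm_apply ha (by simp)]; simp

theorem hm_inv : (Φ.hm a ζ)⁻¹ = Φ.hm a (Φ.σ ζ) := by
  rw [inv_eq_iff_mul_eq_one, hm_mul ha hζ (mu_conj hζ), hζ, hm_one ha]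

theorem hm_conj {g : V ≃ₗ[F] V} (hg : g ∈ Φ.Iso) : g * Φ.hm a ζ * g⁻¹ = Φ.hm (g a) ζ :=
  LinearEquiv.ext fun x => by
    rw [mul_app, mul_app, hm_apply ha hζ, hm_apply (by rw [Iso.B hg, ha]) hζ, Iso.B_inv hg, map_add,
      map_smul, app_inv_app]

theorem hm_smul (hξ : ξ * Φ.σ ξ = 1) : Φ.hm (ξ • a) ζ = Φ.hm a ζ :=
  LinearEquiv.ext fun x => by
    rw [hm_apply ha hζ, hm_apply (by simp only [Φ.bsimp, ha]; linear_combination hξ) hζ]
    simp only [Φ.bsimp]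
    match_scalars
    · rfl
    · linear_combination (ζ - 1) * Φ.B a x * hξ

end Hm

namespace IsU

theorem rkm_ne {v : V} {κ : F} (hκ : κ + Φ.σ κ + κ * Φ.σ κ * Φ.B v v = 0) :
    1 + κ * Φ.B v v ≠ 0 := fun e => one_ne_zero (α := F) (by
  linear_combination (1 + Φ.σ κ * Φ.B v v) * e - Φ.B v v * hκ)

variable (h : Φ.IsU)
include h

theorem Q_eq (x : V) : Φ.Q x = Φ.B x x := by
  obtain ⟨c, hc⟩ := Φ.range x
  rw [← Φ.trace c x hc, ← hc, h.pi, h.eps, one_mul]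

theorem symm (x y : V) : Φ.B y x = Φ.σ (Φ.B x y) := by rw [Φ.symm, h.eps, one_mul]

theorem mem_Iso {g : V ≃ₗ[F] V} (hg : ∀ x y, Φ.B (g x) (g y) = Φ.B x y) : g ∈ Φ.Iso :=
  ⟨hg, fun x => by rw [h.Q_eq, h.Q_eq, hg]⟩

theorem mem_EG {g : V ≃ₗ[F] V} (hg : g ∈ Φ.Iso) (h1 : LinearMap.det (g : V →ₗ[F] V) = 1) :
    g ∈ Φ.EG := h.sl ⟨hg, mem_SLV.2 h1⟩

theorem rkm_iso {v : V} {κ : F} (hκ : κ + Φ.σ κ + κ * Φ.σ κ * Φ.B v v = 0) : Φ.rkm v κ ∈ Φ.Iso :=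
  h.mem_Iso fun x y => by
    rw [rkm_apply (rkm_ne hκ), rkm_apply (rkm_ne hκ)]
    simp only [Φ.bsimp, h.symm v x]
    linear_combination Φ.σ (Φ.B v x) * Φ.B v y * hκ

theorem hm_iso {a : V} {ζ : F} (ha : Φ.B a a = 1) (hζ : ζ * Φ.σ ζ = 1) : Φ.hm a ζ ∈ Φ.Iso :=
  h.rkm_iso (by simp only [Φ.bsimp, ha]; linear_combination hζ)

theorem exists_unit {b : V} (hb : Φ.Q b ≠ 0) : ∃ c : F, c ≠ 0 ∧ Φ.B (c • b) (c • b) = 1 := by
  rw [h.Q_eq] at hb
  obtain ⟨c, hc⟩ := h.norm (Φ.B b b)⁻¹ (by rw [map_inv₀, ← h.symm])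
  refine ⟨c, fun e => inv_ne_zero hb (by rw [← hc, e, zero_mul]), ?_⟩
  simp only [Φ.bsimp]
  rw [← mul_assoc, mul_comm (Φ.σ c), hc, inv_mul_cancel₀ hb]

theorem exists_comp [FiniteDimensional F V] {a : V} (ha : Φ.B a a = 1) {g : V ≃ₗ[F] V}
    (hg : g ∈ Φ.Iso) : ∃ ζ, ζ * Φ.σ ζ = 1 ∧ g * Φ.hm a ζ ∈ Φ.EG := by
  have h1 := mu_conj (h.det g hg)
  refine ⟨_, h1, h.mem_EG (Φ.Iso.mul_mem hg (h.hm_iso ha h1)) ?_⟩
  rw [det_mul_equiv, hm_det ha h1, h.det g hg]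

variable [Finite F]

theorem exists_mu : ∃ ζ, ζ * Φ.σ ζ = 1 ∧ Φ.σ ζ ≠ ζ := by
  by_contra hc
  push Not at hc
  exact h.card.not_ge (Nat.card_le_card_of_injective (fun z => ⟨z.1, hc z.1 z.2⟩)
    fun _ _ e => Subtype.ext (Subtype.mk.inj e))

theorem exists_lam : ∃ c, c ≠ 0 ∧ Φ.π c = 0 := by
  obtain ⟨ζ, -, h1⟩ := h.exists_mu
  exact ⟨Φ.σ ζ - ζ, sub_ne_zero.2 h1, by simp [h.pi, Φ.invol]⟩

theorem exists_lam_eq {c : F} (hc : Φ.π c = 0) : ∃ t, c = t - Φ.σ t := by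
  obtain ⟨ζ, -, h1⟩ := h.exists_mu
  have h2 : Φ.σ c = -c := by rw [h.pi] at hc; linear_combination hc
  have h3 := sub_ne_zero.2 h1.symm
  by_cases h4 : ζ + Φ.σ ζ = 0
  · have h5 : (2 : F) ≠ 0 := fun e => h1 (by linear_combination h4 - ζ * e)
    refine ⟨c / 2, ?_⟩
    rw [map_div₀, h2, map_ofNat]
    field_simp
    ring
  · refine ⟨c * ζ / (ζ + Φ.σ ζ), ?_⟩
    simp only [Φ.bsimp, h2, add_comm (Φ.σ ζ)]
    field_simp
    ring

/-- An additive group of scalars closed under the norm one elements is trivial or everything. -/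
theorem forall_of_mu {P : F → Prop} (hadd : ∀ a b, P a → P b → P (a + b))
    (hmu : ∀ z a, z * Φ.σ z = 1 → P a → P (z * a)) {c : F} (hc0 : c ≠ 0) (hc : P c) (x : F) :
    P x := by
  have h1 : ∀ r a, Φ.σ r = r → P a → P (r * a) := fun r a hr ha => by
    obtain ⟨z, y, hz, hy, -, e⟩ := exists_trace_pair Φ.invol h.card one_ne_zero one_ne_zero hr 0
    have := hadd _ _ (hadd _ _ (hmu z a hz ha) (hmu _ a (mu_conj hz) ha))
      (hadd _ _ (hmu y a hy ha) (hmu _ a (mu_conj hy) ha))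
    convert this using 1
    rw [← e]
    simp only [one_mul]
    ring
  obtain ⟨ζ, hζ, h2⟩ := h.exists_mu
  have h3 := sub_ne_zero.2 h2
  have h4 := sub_ne_zero.2 h2.symm
  have := hadd _ _ (h1 ((x / c * Φ.σ ζ - Φ.σ (x / c) * ζ) / (Φ.σ ζ - ζ)) c
    (by simp only [Φ.bsimp]; field_simp; ring) hc)
    (h1 ((Φ.σ (x / c) - x / c) / (Φ.σ ζ - ζ)) _ (by simp only [Φ.bsimp]; field_simp; ring)
      (hmu ζ c hζ hc))
  convert this using 1
  field_simp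
  ring

theorem exists_nonsing [FiniteDimensional F V] {P : Submodule F V} (hP : Φ.ND P) (x : V)
    (h3 : 3 ≤ finrank F P ∨ (P ≠ ⊥ ∧ x ∈ Φ.perp P)) : ∃ b ∈ P, Φ.Q b ≠ 0 ∧ Φ.B x b = 0 := by
  by_contra hc
  push Not at hc
  have h1 : ∀ y ∈ P, Φ.B x y = 0 → ∀ z ∈ P, Φ.B x z = 0 → Φ.B y z = 0 := fun y hy hy' z hz hz' => by
    by_contra hyz
    have h2 : ∀ b ∈ P, Φ.B x b = 0 → Φ.Q b = 0 := fun b hb hb' => not_not.1 fun e => hc b hb e hb'
    have h4 : ∀ c, c + Φ.σ c = 0 := fun c => by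
      have := h2 (y + (c / Φ.B y z) • z) (P.add_mem hy (P.smul_mem _ hz)) (by simp [hy', hz'])
      rwa [Φ.add, h2 y hy hy', Φ.Q_smul_zero (h2 z hz hz'), Φ.B_smul_right,
        div_mul_cancel₀ _ hyz, h.pi, add_zero, zero_add] at this
    obtain ⟨ζ, -, h5⟩ := h.exists_mu
    have h6 := h4 1
    rw [map_one] at h6
    exact h5 (by linear_combination h4 ζ - ζ * h6)
  by_cases hx : x ∈ Φ.perp P
  · have h0 : P ≠ ⊥ := h3.elim (fun h3 e => by rw [e, finrank_bot] at h3; omega) (·.1)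
    obtain ⟨y, hy, hy0⟩ := Submodule.exists_mem_ne_zero_of_ne_bot h0
    exact hy0 (hP y hy fun z hz => h1 y hy (Φ.perp_symm (hx y hy)) z hz (Φ.perp_symm (hx z hz)))
  obtain ⟨u, hu, hu'⟩ : ∃ u ∈ P, Φ.B x u ≠ 0 := by
    by_contra hn
    push Not at hn
    exact hx fun z hz => Φ.perp_symm (hn z hz)
  obtain ⟨y, hy, hy0, hy1⟩ := exists_ne_zero_ker [Φ.B x, Φ.B u] P (h3.resolve_right fun e => hx e.2)
  simp only [List.mem_cons, List.not_mem_nil, or_false, forall_eq_or_imp, forall_eq] at hy1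
  refine hy0 (hP y hy fun z hz => ?_)
  have := h1 y hy hy1.1 (z - (Φ.B x z / Φ.B x u) • u) (P.sub_mem hz (P.smul_mem _ hu))
    (by simp [hu'])
  simpa [Φ.perp_symm hy1.2] using this

variable [FiniteDimensional F V] {D : ι → Submodule F V} (hD : Φ.ODec D)
include hD

omit [Finite F] in
theorem cv [Finite ι] {i : ι} {b : V} (hb : b ∈ D i) (hb0 : Φ.Q b ≠ 0) {S : Set V}
    (hS : ∀ x ∈ S, Φ.B b x = 0) : Φ.Cv D S := fun g hg => by
  obtain ⟨c, -, hc⟩ := h.exists_unit hb0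
  obtain ⟨ζ, hζ, e⟩ := h.exists_comp hc hg
  exact ⟨_, ⟨hD.supp_le le_rfl ⟨h.hm_iso hc hζ, fun x hx => hm_perp hc hζ
    (hx _ ((D i).smul_mem c hb))⟩, fun x hx => hm_perp hc hζ (by simp [hS x hx])⟩, e⟩

omit h [Finite F] in
theorem EG_le_of_inA [Fintype ι] (h1 : Φ.HE D ≤ M) {i j : ι} (hij : j ≠ i) {e y : V}
    (he : e ∈ D i) (he0 : Φ.Q e = 0) (he1 : e ≠ 0) (hy : y ∈ D j) (hy0 : Φ.Q y = 0) (hy1 : y ≠ 0)
    (hcv : Φ.Cv D {e, y}) (hw : Φ.InA M e y) : Φ.EG ≤ M := by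
  have hon := fun j => (hD.hasOn j).mono h1 le_rfl
  have hs : ∀ l, l ≠ i → ∀ z ∈ D l, Φ.Q z = 0 → Φ.InA M e z := fun l hl z hz hz0 => by
    by_cases hz1 : z = 0
    · rw [hz1]; exact inA_zero he0
    obtain ⟨s, hs, s1, s2⟩ : ∃ s ∈ Φ.HI D, s e = e ∧ s y = z := by
      by_cases hjl : j = l
      · subst hjl
        obtain ⟨s, hs, e1⟩ := (hD.nd j).exists_supp_move hy hz hy1 hz1 (by rw [hy0, hz0])
        exact ⟨s, hD.supp_le le_rfl hs, supp_fix hs (hD.le_perp hij he), e1⟩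
      · obtain ⟨s, hs, e1⟩ := hD.exists_isSwap_eq hjl hy hz hy1 hz1 (by rw [hy0, hz0])
        exact ⟨s, hs.mem, hs.fix e (hD.le_perp hij he) (hD.le_perp hl he), e1⟩
    obtain ⟨k, hk, ek⟩ := hcv.real hs
    have := hw.conj (h1 hk) (HE_le_HI hk).2
    rwa [ek e (by simp), ek y (by simp), s1, s2] at this
  have hF : Φ.Full M e := (hon i).full he he0 fun x hx =>
    hD.induction (P := Φ.InA M e) (inA_zero he0) (fun _ _ => InA.add) x fun l => by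
      by_cases hl : l = i
      · subst hl
        exact (hon l).inA he (hD.pr_mem l x) he0 (by rw [hD.B_pr he, hx])
      obtain ⟨s, hs1, hs0, hs2⟩ := hD.exists_sing he he0 he1 l
      exact (hD.nd l).induction_sing hs1 hs0 hs2 (fun _ _ => InA.sub) (hs l hl) (hD.pr_mem l x)
  obtain ⟨f, hf, hf0, hef⟩ := exists_partner he he0 ((hD.nd i).exists_ne he he1)
  obtain ⟨g, hg, g1⟩ := (hD.nd i).exists_supp_move he hf he1 (fun e => by simp [e] at hef)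
    (by rw [hf0, he0])
  obtain ⟨k, hk, ek⟩ := hcv.real (hD.supp_le le_rfl hg)
  have := hF.conj (h1 hk) (HE_le_HI hk).2
  rw [ek e (by simp), g1] at this
  exact EG_le_of_full hF this he0 hf0 (by simp [hef])

/-- Blocks of dimension at least two. -/
theorem isMaximalIn_big [Fintype ι] (hd : 4 ≤ finrank F V) {i₀ : ι}
    (hd' : finrank F (D i₀) + 2 ≤ finrank F V) (hq : 3 ≤ finrank F (D i₀) ∨
      (2 ≤ finrank F (D i₀) ∧ 3 ≤ Fintype.card ι ∧ ∃ c c', Φ.π c = 0 ∧ Φ.π c' = 0 ∧ c ≠ 0 ∧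
        c' ≠ 0 ∧ c ≠ c')) : Geo.IsMaximalIn Φ.EG (Φ.HE D) := by
  classical
  refine isMaximalIn_of inf_le_right (hD.exists_EG_not_dstab (i := i₀) (by rw [h.dim]; omega)
    (by rw [h.dim]; omega)) fun M h1 h2 g hg hg' => ?_
  have h2' := h2.trans Φ.EG_le_Iso
  have hon := fun j => (hD.hasOn j).mono h1 le_rfl
  obtain ⟨e₀, he₀, he₁, he₂⟩ := Φ.iso (D i₀) (by rw [h.dim]; omega)
  obtain ⟨l, v, hv, hv0, hv'⟩ : ∃ j, ∃ v ∈ D j, Φ.Q v = 0 ∧ ∀ l, g v ∉ D l := by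
    by_contra hc
    push Not at hc
    exact hg' ⟨hD.mem_dstab_of_sing he₀ he₂ he₁ (h2' hg) hc, h2 hg⟩
  have conj : ∀ x ∈ M, ∀ w, (∀ c, Φ.π c = 0 → Φ.HasE M w 0 c) →
      ∀ c, Φ.π c = 0 → Φ.HasE M (x w) 0 c := fun x hx w hw c hc => by
    simpa using (hw c hc).conj hx (h2' hx)
  have hT := conj g hg v ((hon l).lam hv hv0)
  have hw0 : Φ.Q (g v) = 0 := by rw [Iso.Q (h2' hg), hv0]
  set w := g v
  have : Nonempty ι := ⟨l⟩
  obtain ⟨i, j, hij, hi, hj⟩ := hD.exists_two hv'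
  have tv : ∀ i, hD.pr i w ≠ 0 → ∃ s ∈ D i, Φ.Q s = 0 ∧ Φ.B w s ≠ 0 ∧ ∀ c, Φ.π c = 0 →
      ∃ t ∈ M, ∀ x, t x = x + (-(c * Φ.B s x)) • s := fun i hi => by
    obtain ⟨e, he, he0, he1⟩ := hD.exists_sing he₀ he₂ he₁ i
    obtain ⟨s, hs, hs0, hs1⟩ := exists_sing_not_perp (D i) he he0 ((hD.nd i).exists_ne he he1)
      ((hD.nd i).exists_ne (hD.pr_mem i w) hi)
    refine ⟨s, hs, hs0, by rwa [hD.B_pr_left hs] at hs1, fun c hc => ?_⟩
    obtain ⟨t, ht, et⟩ := (hon i).lam hs hs0 c hc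
    exact ⟨t, ht, fun x => by simp [et, ef, h.eps, sub_eq_add_neg]⟩
  obtain ⟨c₀, hc₀, hc₀'⟩ := h.exists_lam
  obtain ⟨s, hs, hs0, hs1, hs2⟩ := tv j hj
  obtain ⟨t, ht, et⟩ := hs2 c₀ hc₀'
  have hκ : -(c₀ * Φ.B s w) ≠ 0 := neg_ne_zero.2 (mul_ne_zero hc₀ (Φ.ne_symm hs1))
  have hd₂ := (D j).smul_mem (-(c₀ * Φ.B s w)) hs
  have q₂ := Φ.Q_smul_zero hs0 (-(c₀ * Φ.B s w))
  have b₂ : Φ.B w ((-(c₀ * Φ.B s w)) • s) ≠ 0 := by rw [Φ.B_smul_right]; exact mul_ne_zero hκ hs1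
  have etw := et w
  generalize (-(c₀ * Φ.B s w)) • s = d₂ at hd₂ q₂ b₂ etw
  obtain ⟨k, hk, d₁, hd₁, q₁, n₁, ek, b₁⟩ : ∃ k ∈ M, ∃ d₁ ∈ D i, Φ.Q d₁ = 0 ∧ d₁ ≠ 0 ∧
      k w = w + d₁ ∧ Φ.B w d₁ + Φ.B w d₂ ≠ 0 := by
    rcases hq with h3 | ⟨-, -, c, c', h3, h4, h5, h6, h7⟩
    · rw [← hD.finrank_eq i] at h3
      have h4 := finrank_le_inf_ker (D i) (Φ.B w)
      obtain ⟨d, ⟨hd1, hd2⟩, hd0, hdq⟩ := Φ.iso (D i ⊓ LinearMap.ker (Φ.B w)) (by rw [h.dim]; omega)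
      obtain ⟨μ, hμ, hμ'⟩ : ∃ μ : F, μ ≠ 0 ∧ hD.pr i w + μ • d ≠ 0 := by
        obtain ⟨ζ, hζ, h5⟩ := h.exists_mu
        by_contra hc
        push Not at hc
        have h6 := (hc ζ (ne_zero_of_mu hζ)).trans (hc _ (Φ.σ_ne (ne_zero_of_mu hζ))).symm
        exact h5 (smul_left_injective F hd0 (add_left_cancel h6)).symm
      have hd3 : Φ.B w (μ • d) = 0 := by rw [Φ.B_smul_right, show Φ.B w d = 0 from hd2, mul_zero]
      have hd4 := (D i).smul_mem μ hd1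
      obtain ⟨x, hx, ex⟩ := (hD.nd i).exists_supp_move (hD.pr_mem i w)
        ((D i).add_mem (hD.pr_mem i w) hd4) hi hμ'
        (by rw [Φ.Q_add_perp (by rw [hD.B_pr_left hd4, hd3]), Φ.Q_smul_zero hdq, add_zero])
      obtain ⟨b, hb, hb0, hb1⟩ := h.exists_nonsing (hD.nd i) w (Or.inl h3)
      obtain ⟨k, hk, ek⟩ := (h.cv hD hb hb0 (S := {w}) fun _ e => e ▸ Φ.perp_symm hb1).real
        (hD.supp_le le_rfl hx)
      refine ⟨k, h1 hk, _, hd4, Φ.Q_smul_zero hdq μ, smul_ne_zero hμ hd0, ?_, by rwa [hd3, zero_add]⟩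
      have h5 := supp_fix hx (hD.sub_pr_mem i w)
      rw [map_sub, ex] at h5
      rw [ek w rfl, sub_eq_iff_eq_add.1 h5]
      abel
    · obtain ⟨s', hs', hs0', hs1', hs2'⟩ := tv i hi
      have h8 := Φ.ne_symm hs1'
      obtain ⟨c, h9, h10, h11⟩ : ∃ c, Φ.π c = 0 ∧ c ≠ 0 ∧
          -(c * Φ.B s' w) * Φ.B w s' + Φ.B w d₂ ≠ 0 := by
        by_contra hc
        push Not at hc
        exact h7 (mul_right_cancel₀ (mul_ne_zero h8 hs1')
          (by linear_combination hc c' h4 h6 - hc c h3 h5))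
      obtain ⟨k, hk, ek⟩ := hs2' c h9
      exact ⟨k, hk, _, (D i).smul_mem _ hs', Φ.Q_smul_zero hs0' _, smul_ne_zero
        (neg_ne_zero.2 (mul_ne_zero h10 h8)) fun e => by simp [e] at hs1', ek w,
        by rwa [Φ.B_smul_right]⟩
  have hdd := hD.perp i j hij d₁ hd₁ d₂ hd₂
  have e1 : t (k w) = w + (d₁ + d₂) := by
    rw [ek, map_add, etw, et d₁, hD.perp j i hij.symm s hs d₁ hd₁]; module
  have h3 := conj t ht _ (conj k hk w hT)
  have h4 : Φ.Q (t (k w)) = 0 := by rw [Iso.Q (h2' ht), Iso.Q (h2' hk), hw0]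
  rw [e1] at h3 h4
  rw [← map_add] at b₁
  rw [Φ.add, hw0, Φ.Q_add_perp hdd, q₁, q₂, h.pi] at h4
  have hσ := Φ.σ_ne b₁
  obtain ⟨t', ht', et'⟩ := hT (Φ.B w (d₁ + d₂))⁻¹ (by
    rw [h.pi, map_inv₀]; field_simp; linear_combination h4)
  have h5 := conj t' ht' _ h3 c₀ hc₀'
  have e2 : t' (w + (d₁ + d₂)) = d₁ + d₂ := by
    rw [et', ef, map_add (Φ.B w) w, Φ.B_self hw0, zero_add, h.eps, map_zero, LinearMap.zero_apply,
      zero_add, inv_mul_cancel₀ b₁]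
    module
  rw [e2] at h5
  have h6 := (hasE_add_center q₁ q₂ hdd hc₀' h5 ((hon i).lam hd₁ q₁ c₀ hc₀')).1
    ((hon j).lam hd₂ q₂ c₀ hc₀')
  have h7 := (D j).smul_mem (-(Φ.ε * c₀)) hd₂
  have h8 := Φ.Q_smul_zero q₂ (-(Φ.ε * c₀))
  refine EG_le_of_inA hD h1 hij.symm hd₁ q₁ n₁ h7 h8 (smul_ne_zero
    (neg_ne_zero.2 (mul_ne_zero Φ.eps_ne hc₀)) fun e => by simp [e] at b₂) ?_
    ⟨0, valid_zero q₁ (hD.perp i j hij _ hd₁ _ h7) h8, h6⟩
  obtain ⟨m, hm, h9⟩ : ∃ m, m ≠ j ∧ (3 ≤ finrank F (D m) ∨ (D m ≠ ⊥ ∧ d₁ ∈ Φ.perp (D m))) := by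
    rcases hq with h3 | ⟨-, h3, -⟩
    · exact ⟨i, hij, Or.inl (by rwa [hD.finrank_eq i])⟩
    · obtain ⟨m, -, hm⟩ := Finset.exists_mem_notMem_of_card_lt_card (s := {i, j})
        (t := Finset.univ) (lt_of_le_of_lt Finset.card_le_two h3)
      simp only [Finset.mem_insert, Finset.mem_singleton, not_or] at hm
      exact ⟨m, hm.2, Or.inr ⟨hD.ne m, hD.le_perp hm.1 hd₁⟩⟩
  obtain ⟨b, hb, hb0, hb1⟩ := h.exists_nonsing (hD.nd m) d₁ h9
  refine h.cv hD hb hb0 ?_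
  rintro _ (rfl | rfl)
  exacts [Φ.perp_symm hb1, hD.perp m j hm b hb _ h7]

end IsU

end Fm

end Cfsg.Agent.Class.Max
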