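import Mathlib
import Cfsg.Agent.Class.Max.C2U1
import Cfsg.Agent.Class.Max.C2Mon2

/-!
Class `C₂` for unitary groups: orthonormal frames; overgroups of the full monomial group.
-/

set_option autoImplicit false

namespace Cfsg.Agent.Class.Max

open Module

variable {F V : Type*} [Field F] [AddCommGroup V] [Module F V] {ι : Type*}

variable (F) in
/-- The maps permuting the lines spanned by the members of a family. -/
def mon (u : ι → V) : Subgroup (V ≃ₗ[F] V) where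
  carrier := {g | ∃ σ : Equiv.Perm ι, ∀ i, ∃ c : F, c ≠ 0 ∧ g (u i) = c • u (σ i)}
  mul_mem' {a b} := by
    rintro ⟨σ, hσ⟩ ⟨τ, hτ⟩
    refine ⟨τ.trans σ, fun i => ?_⟩
    obtain ⟨c, hc, e⟩ := hτ i
    obtain ⟨d, hd, e'⟩ := hσ (τ i)
    exact ⟨c * d, mul_ne_zero hc hd, by rw [mul_app, e, map_smul, e', smul_smul]; rfl⟩
  one_mem' := ⟨1, fun _ => ⟨1, one_ne_zero, (one_smul _ _).symm⟩⟩
  inv_mem' {a} := by
    rintro ⟨σ, hσ⟩
    refine ⟨σ.symm, fun i => ?_⟩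
    obtain ⟨c, hc, e⟩ := hσ (σ.symm i)
    refine ⟨c⁻¹, inv_ne_zero hc, a.injective ?_⟩
    rw [app_inv_app, map_smul, e, smul_smul, inv_mul_cancel₀ hc, one_smul, Equiv.apply_symm_apply]

theorem mem_mon_map {u : ι → V} {g x : V ≃ₗ[F] V} :
    x ∈ mon F (fun i => g (u i)) ↔ g⁻¹ * x * g ∈ mon F u :=
  exists_congr fun _ => forall_congr' fun _ => exists_congr fun _ => and_congr_right fun _ => by
    rw [mul_app, mul_app, ← g.injective.eq_iff (a := g⁻¹ _), app_inv_app, map_smul]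

theorem exists_mem_ne_list (S : Finset ι) (l : List ι) (h : l.length < S.card) :
    ∃ m ∈ S, ∀ x ∈ l, m ≠ x := by
  classical
  obtain ⟨m, hm, hm'⟩ := Finset.exists_mem_notMem_of_card_lt_card (s := l.toFinset) (t := S)
    ((List.toFinset_card_le l).trans_lt h)
  exact ⟨m, hm, fun x hx e => hm' (List.mem_toFinset.2 (e ▸ hx))⟩

namespace Fm

variable {Φ : Fm F V} {M N : Subgroup (V ≃ₗ[F] V)} {u w : ι → V}

variable (Φ) in
open Classical in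
/-- The support of a vector. -/
noncomputable def spt [Fintype ι] (u : ι → V) (x : V) : Finset ι :=
  Finset.univ.filter fun i => Φ.B (u i) x ≠ 0

theorem mem_spt [Fintype ι] {x : V} {i : ι} : i ∈ Φ.spt u x ↔ Φ.B (u i) x ≠ 0 := by simp [spt]

variable (Φ) in
/-- An orthonormal basis. -/
structure UFrame (u : ι → V) : Prop where
  one : ∀ i, Φ.B (u i) (u i) = 1
  perp : ∀ i j, i ≠ j → Φ.B (u i) (u j) = 0
  span : ∀ x, (∀ i, Φ.B (u i) x = 0) → x = 0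

variable (Φ) in
/-- The monomial reflection interchanging two members of a frame. -/
noncomputable def sw (u : ι → V) (i j : ι) (ζ : F) : V ≃ₗ[F] V := Φ.rkm (u i - ζ • u j) (-1)

namespace UFrame

variable (hu : Φ.UFrame u)
include hu

theorem ne_zero (i : ι) : u i ≠ 0 := fun e => by simpa [e] using hu.one i

theorem ext {x y : V} (h : ∀ i, Φ.B (u i) x = Φ.B (u i) y) : x = y :=
  sub_eq_zero.1 (hu.span _ fun i => by rw [map_sub, h, sub_self])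

theorem sum [Fintype ι] (x : V) : ∑ i, Φ.B (u i) x • u i = x := hu.ext fun j => by
  rw [map_sum, Finset.sum_eq_single j (fun i _ hi => by simp [hu.perp j i hi.symm]) (by simp)]
  simp [hu.one]

theorem B_eq_sum [Fintype ι] (x y : V) : Φ.B x y = ∑ i, Φ.B (u i) y * Φ.B x (u i) := by
  conv_lhs => rw [← hu.sum y]
  simp [map_sum]

theorem exists_eq_smul [Fintype ι] {x : V} (h0 : x ≠ 0) (h : (Φ.spt u x).card ≤ 1) :
    ∃ j, ∃ c : F, x = c • u j := by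
  obtain ⟨j, hj⟩ : ∃ j, Φ.B (u j) x ≠ 0 := by
    by_contra hc
    push Not at hc
    exact h0 (hu.span x hc)
  refine ⟨j, Φ.B (u j) x, hu.ext fun i => ?_⟩
  by_cases hij : i = j
  · simp [hij, hu.one]
  · rw [Φ.B_smul_right, hu.perp i j hij, mul_zero]
    exact not_not.1 fun e => hij (Finset.card_le_one.1 h i (mem_spt.2 e) j (mem_spt.2 hj))

theorem map {g : V ≃ₗ[F] V} (hg : g ∈ Φ.Iso) : Φ.UFrame fun i => g (u i) where
  one i := by rw [Iso.B hg, hu.one]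
  perp i j h := by rw [Iso.B hg, hu.perp i j h]
  span x h := (g⁻¹).map_eq_zero_iff.1 (hu.span _ fun i => by rw [Iso.B_inv hg, h])

theorem perm (σ : Equiv.Perm ι) : Φ.UFrame fun i => u (σ i) where
  one _ := hu.one _
  perp _ _ h := hu.perp _ _ (σ.injective.ne h)
  span x h := hu.span x fun i => by simpa using h (σ.symm i)

theorem mem_mon [Finite ι] {g : V ≃ₗ[F] V} (h : ∀ i, ∃ j, ∃ c : F, g (u i) = c • u j) :
    g ∈ mon F u := by
  choose σ c hc using h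
  have h0 : ∀ i, c i ≠ 0 := fun i e =>
    hu.ne_zero i (g.map_eq_zero_iff.1 (by rw [hc, e, zero_smul]))
  have h1 : Function.Injective σ := fun i j hij => by
    by_contra hne
    have h2 : c j • u i = c i • u j := g.injective (by
      rw [map_smul, map_smul, hc, hc, hij, smul_comm])
    have h3 := congrArg (Φ.B (u i)) h2
    simp [hu.one, hu.perp i j hne, h0] at h3
  exact ⟨Equiv.ofBijective σ (Finite.injective_iff_bijective.1 h1), fun i => ⟨c i, h0 i, hc i⟩⟩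

theorem hm_mem [Finite ι] (i : ι) {ζ : F} (hζ : ζ * Φ.σ ζ = 1) : Φ.hm (u i) ζ ∈ mon F u :=
  hu.mem_mon fun j => by
    by_cases h : i = j
    · exact ⟨j, ζ, h ▸ hm_self (hu.one i) hζ⟩
    · exact ⟨j, 1, by rw [hm_perp (hu.one i) hζ (hu.perp i j h), one_smul]⟩

theorem B_hm (i j : ι) {ζ : F} (hζ : ζ * Φ.σ ζ = 1) (h : i ≠ j) (x : V) :
    Φ.B (u i) (Φ.hm (u j) ζ x) = Φ.B (u i) x := by
  simp [hm_apply (hu.one j) hζ, hu.perp i j h]

theorem B_hm_self (i : ι) {ζ : F} (hζ : ζ * Φ.σ ζ = 1) (x : V) :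
    Φ.B (u i) (Φ.hm (u i) ζ x) = ζ * Φ.B (u i) x := by
  simp only [hm_apply (hu.one i) hζ, Φ.bsimp, hu.one]; ring

section Sw

variable {i j : ι} (hij : i ≠ j) {ζ : F} (hζ : ζ * Φ.σ ζ = 1)
include hij hζ

theorem B_sw_self : Φ.B (u i - ζ • u j) (u i - ζ • u j) = 2 := by
  simp only [Φ.bsimp, hu.one, hu.perp i j hij, hu.perp j i hij.symm]
  linear_combination hζ

theorem sw_apply (x : V) :
    Φ.sw u i j ζ x = x - (Φ.B (u i) x - Φ.σ ζ * Φ.B (u j) x) • (u i - ζ • u j) := by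
  rw [sw, rkm_apply (by rw [hu.B_sw_self hij hζ]; norm_num)]
  simp only [Φ.bsimp]
  module

theorem sw_det [FiniteDimensional F V] : LinearMap.det (Φ.sw u i j ζ : V →ₗ[F] V) = -1 := by
  rw [sw, rkm_det (by rw [hu.B_sw_self hij hζ]; norm_num), hu.B_sw_self hij hζ]; norm_num

theorem sw_iso (h : Φ.IsU) : Φ.sw u i j ζ ∈ Φ.Iso :=
  h.rkm_iso (by rw [hu.B_sw_self hij hζ]; simp only [Φ.bsimp]; ring)

theorem sw_fst : Φ.sw u i j ζ (u i) = ζ • u j := by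
  simp [hu.sw_apply hij hζ, hu.one, hu.perp j i hij.symm]

theorem sw_snd : Φ.sw u i j ζ (u j) = Φ.σ ζ • u i := by
  rw [hu.sw_apply hij hζ, hu.one, hu.perp i j hij]
  match_scalars
  · linear_combination -hζ
  · ring

theorem sw_perp {x : V} (h1 : Φ.B (u i) x = 0) (h2 : Φ.B (u j) x = 0) : Φ.sw u i j ζ x = x := by
  simp [hu.sw_apply hij hζ, h1, h2]

theorem B_sw {m : ι} (h1 : m ≠ i) (h2 : m ≠ j) (x : V) :
    Φ.B (u m) (Φ.sw u i j ζ x) = Φ.B (u m) x := by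
  simp [hu.sw_apply hij hζ, hu.perp m i h1, hu.perp m j h2]

theorem sw_mem [Finite ι] : Φ.sw u i j ζ ∈ mon F u := hu.mem_mon fun l => by
  by_cases h1 : i = l
  · exact ⟨j, ζ, h1 ▸ hu.sw_fst hij hζ⟩
  by_cases h2 : j = l
  · exact ⟨i, Φ.σ ζ, by rw [← h2, hu.sw_snd hij hζ]⟩
  · exact ⟨l, 1, by rw [hu.sw_perp hij hζ (hu.perp i l h1) (hu.perp j l h2), one_smul]⟩

end Sw

/-- A product of two disjoint monomial reflections with prescribed `B a (x a)`. -/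
theorem exists_sw_sw [Finite F] (h : Φ.IsU) {i j k l : ι} (hij : i ≠ j) (hkl : k ≠ l) (hik : i ≠ k)
    (hil : i ≠ l) (hjk : j ≠ k) (hjl : j ≠ l) {a : V} (hi : Φ.B (u i) a ≠ 0) (hj : Φ.B (u j) a ≠ 0)
    (hk : Φ.B (u k) a ≠ 0) (hl : Φ.B (u l) a ≠ 0) {r : F} (hr : Φ.σ r = r) :
    ∃ ζ ξ, ζ * Φ.σ ζ = 1 ∧ ξ * Φ.σ ξ = 1 ∧ Φ.B a ((Φ.sw u i j ζ * Φ.sw u k l ξ) a) = r ∧
      (Φ.sw u i j ζ * Φ.sw u k l ξ) a ≠ a := by
  obtain ⟨ζ, ξ, hζ, hξ, h1, h2⟩ := exists_trace_pair Φ.invol h.card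
    (mul_ne_zero hi (Φ.σ_ne hj)) (mul_ne_zero hk (Φ.σ_ne hl)) (r := r - Φ.B a a +
      Φ.B (u i) a * Φ.σ (Φ.B (u i) a) + Φ.B (u j) a * Φ.σ (Φ.B (u j) a) +
      Φ.B (u k) a * Φ.σ (Φ.B (u k) a) + Φ.B (u l) a * Φ.σ (Φ.B (u l) a))
    (by simp only [Φ.bsimp, hr, ← h.symm a a]; ring) (Φ.B (u j) a / Φ.B (u i) a)
  refine ⟨ζ, ξ, hζ, hξ, ?_, fun e => h1 ?_⟩
  · simp only [mul_app, hu.sw_apply hij hζ, hu.sw_apply hkl hξ, Φ.bsimp, hu.perp _ _ hik,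
      hu.perp _ _ hil, hu.perp _ _ hjk, hu.perp _ _ hjl, h.symm (u _) a] at h2 ⊢
    linear_combination h2 - Φ.B (u j) a * Φ.σ (Φ.B (u j) a) * hζ -
      Φ.B (u l) a * Φ.σ (Φ.B (u l) a) * hξ
  · have := congrArg (Φ.B (u j)) e
    simp only [mul_app, hu.sw_apply hij hζ, hu.sw_apply hkl hξ, Φ.bsimp, hu.perp _ _ hik,
      hu.perp _ _ hil, hu.perp _ _ hjk, hu.perp _ _ hjl, hu.perp _ _ hij.symm, hu.one] at this
    rw [eq_div_iff hi]
    linear_combination this + Φ.B (u j) a * hζ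

end UFrame

variable (Φ) in
/-- `N` contains all homologies with centre the unit vector `a`. -/
def Pt (N : Subgroup (V ≃ₗ[F] V)) (a : V) : Prop :=
  Φ.B a a = 1 ∧ ∀ ζ, ζ * Φ.σ ζ = 1 → Φ.hm a ζ ∈ N

theorem Pt.map {a : V} (ha : Φ.Pt N a) {g : V ≃ₗ[F] V} (hg : g ∈ N) (hI : g ∈ Φ.Iso) :
    Φ.Pt N (g a) :=
  ⟨by rw [Iso.B hI, ha.1], fun ζ hζ => hm_conj ha.1 hζ hI ▸
    N.mul_mem (N.mul_mem hg (ha.2 ζ hζ)) (N.inv_mem hg)⟩

variable (Φ) in
/-- The homologies with centres `a` and `b` agree modulo `M`. -/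
def Rel (M : Subgroup (V ≃ₗ[F] V)) (a b : V) : Prop :=
  Φ.B a a = 1 ∧ Φ.B b b = 1 ∧ ∀ ζ, ζ * Φ.σ ζ = 1 → Φ.hm a ζ * (Φ.hm b ζ)⁻¹ ∈ M

theorem Rel.symm {a b : V} (h : Φ.Rel M a b) : Φ.Rel M b a :=
  ⟨h.2.1, h.1, fun ζ hζ => by simpa using M.inv_mem (h.2.2 ζ hζ)⟩

theorem Rel.trans {a b c : V} (h : Φ.Rel M a b) (h' : Φ.Rel M b c) : Φ.Rel M a c :=
  ⟨h.1, h'.2.1, fun ζ hζ => by simpa [mul_assoc] using M.mul_mem (h.2.2 ζ hζ) (h'.2.2 ζ hζ)⟩

theorem Rel.conj {a b : V} (h : Φ.Rel M a b) {g : V ≃ₗ[F] V} (hg : g ∈ M) (hI : g ∈ Φ.Iso) :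
    Φ.Rel M (g a) (g b) :=
  ⟨by rw [Iso.B hI, h.1], by rw [Iso.B hI, h.2.1], fun ζ hζ => by
    rw [← hm_conj h.1 hζ hI, ← hm_conj h.2.1 hζ hI]
    simpa [mul_assoc] using M.mul_mem (M.mul_mem hg (h.2.2 ζ hζ)) (M.inv_mem hg)⟩

theorem Rel.smul {a b : V} (h : Φ.Rel M a b) {c : F} (hc : c * Φ.σ c = 1) : Φ.Rel M (c • a) b :=
  ⟨by simp only [Φ.bsimp, h.1]; linear_combination hc, h.2.1, fun ζ hζ => by
    rw [hm_smul h.1 hζ hc]; exact h.2.2 ζ hζ⟩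

theorem Rel.hm {a b : V} (h : Φ.Rel M a b) (hU : Φ.IsU) {ξ : F} (hξ : ξ * Φ.σ ξ = 1) :
    Φ.Rel M (Φ.hm b ξ a) b :=
  ⟨by rw [Iso.B (hU.hm_iso h.2.1 hξ), h.1], h.2.1, fun ζ hζ => by
    have := M.mul_mem (h.symm.2.2 ξ hξ) (h.2.2 _ (mu_mul hξ hζ))
    rw [← hm_mul h.1 hξ hζ, mul_comm ξ, ← hm_mul h.2.1 hζ hξ] at this
    rw [← hm_conj h.1 hζ (hU.hm_iso h.2.1 hξ)]
    simpa [mul_assoc] using this⟩

namespace IsU

variable (h : Φ.IsU)
include h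

theorem exists_map [FiniteDimensional F V] [Fintype ι] (hu : Φ.UFrame u) (hw : Φ.UFrame w) :
    ∃ g ∈ Φ.Iso, ∀ i, g (u i) = w i := by
  let L : V →ₗ[F] V := ∑ i, (Φ.B (u i)).smulRight (w i)
  have hL : ∀ x, L x = ∑ i, Φ.B (u i) x • w i := fun x => by simp [L]
  have h1 : ∀ i x, Φ.B (w i) (L x) = Φ.B (u i) x := fun i x => by
    rw [hL, map_sum, Finset.sum_eq_single i (fun j _ hj => by simp [hw.perp i j hj.symm]) (by simp)]
    simp [hw.one]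
  have hB : ∀ x y, Φ.B (L x) (L y) = Φ.B x y := fun x y => by
    rw [hw.B_eq_sum, hu.B_eq_sum]
    exact Finset.sum_congr rfl fun i _ => by rw [h.symm (w i), h1, h1, ← h.symm]
  refine ⟨LinearEquiv.ofInjectiveEndo L (Φ.isFormed.injective_of_preserves L hB), h.mem_Iso hB,
    fun i => hw.ext fun j => (h1 j _).trans ?_⟩
  by_cases hij : j = i
  · rw [hij, hu.one, hw.one]
  · rw [hu.perp j i hij, hw.perp j i hij]

theorem inA_of_pt {a a' : V} (ha : Φ.Pt N a) (ha' : Φ.Pt N a') (hB : Φ.B a a' = 1) {ζ : F}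
    (hζ : ζ * Φ.σ ζ = 1) : Φ.InA N (a - a') ((ζ - 1) • a) := by
  have hB' : Φ.B a' a = 1 := by rw [h.symm, hB, map_one]
  refine ⟨1 - Φ.σ ζ, ⟨by simp [h.Q_eq, ha.1, ha'.1, hB, hB'], by simp [ha.1, hB'], ?_⟩, _,
    N.mul_mem (ha.2 ζ hζ) (ha'.2 _ (mu_conj hζ)), fun x => ?_⟩
  · simp only [h.pi, h.Q_eq, Φ.bsimp, ha.1]
    linear_combination -hζ
  · simp only [mul_app, hm_apply ha.1 hζ, hm_apply ha'.1 (mu_conj hζ), ef, Φ.bsimp, hB, h.eps]
    match_scalars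
    · rfl
    · ring
    · linear_combination Φ.B a' x * hζ

variable [Finite F]

theorem inA_smul {b v x : V} (hb : Φ.Pt N b) (hbv : Φ.B b v = 0) (hx : Φ.InA N v x)
    (hbx : Φ.B b x ≠ 0) (t : F) : Φ.InA N v (t • b) := by
  have conj : ∀ ζ, ζ * Φ.σ ζ = 1 → ∀ y, Φ.InA N v y → Φ.InA N v (Φ.hm b ζ y) := fun ζ hζ y hy => by
    have := hy.conj (hb.2 ζ hζ) (h.hm_iso hb.1 hζ)
    rwa [hm_perp hb.1 hζ hbv] at this
  obtain ⟨ζ, hζ, h1⟩ := h.exists_mu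
  have h2 := (conj ζ hζ x hx).sub hx
  rw [hm_apply hb.1 hζ, add_sub_cancel_left] at h2
  refine h.forall_of_mu (P := fun t => Φ.InA N v (t • b)) (fun s t hs ht => ?_)
    (fun z s hz hs => ?_) (mul_ne_zero (sub_ne_zero.2 fun e => h1 (by simp [e])) hbx) h2 t
  · rw [add_smul]; exact hs.add ht
  · have := conj z hz _ hs
    rwa [map_smul, hm_self hb.1 hz, smul_smul, mul_comm] at this

variable [FiniteDimensional F V] [Fintype ι] (hu : Φ.UFrame u) (h1 : mon F u ⊓ Φ.Iso ≤ N)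
include hu h1

omit [Finite F] [FiniteDimensional F V] in
theorem pt_frame (i : ι) : Φ.Pt N (u i) :=
  ⟨hu.one i, fun _ hζ => h1 ⟨hu.hm_mem i hζ, h.hm_iso (hu.one i) hζ⟩⟩

omit [FiniteDimensional F V] in
/-- The endgame: an Eichler transformation whose centre has three zero coordinates. -/
theorem EG_le_of_zeros {v x : V} (hv1 : v ≠ 0) {j k l : ι} (hjk : j ≠ k) (hjl : j ≠ l)
    (hkl : k ≠ l) (hj : Φ.B (u j) v = 0) (hk : Φ.B (u k) v = 0) (hl : Φ.B (u l) v = 0)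
    (hx : Φ.InA N v x) (hjx : Φ.B (u j) x ≠ 0) : Φ.EG ≤ N := by
  classical
  have hP := h.pt_frame hu h1
  have o1 : (1 : F) * Φ.σ 1 = 1 := by simp
  have swp : ∀ v i m, Φ.B (u i) v = 0 → Φ.B (u m) v = 0 → (∀ t : F, Φ.InA N v (t • u i)) →
      ∀ t : F, Φ.InA N v (t • u m) := fun v i m hi hm H t => by
    by_cases him : i = m
    · exact him ▸ H t
    have := (H t).conj (h1 ⟨hu.sw_mem him o1, hu.sw_iso him o1 h⟩) (hu.sw_iso him o1 h)
    rwa [hu.sw_perp him o1 hi hm, map_smul, hu.sw_fst him o1, one_smul] at this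
  have lam : ∀ v i, (∀ t : F, Φ.InA N v (t • u i)) → ∀ c, Φ.π c = 0 → Φ.HasE N v 0 c :=
    fun v i H c hc => by
      obtain ⟨t, rfl⟩ := h.exists_lam_eq hc
      simpa [hu.one] using (H 1).comm (H t)
  have hv0 := hx.choose_spec.1.sing
  have Aj := h.inA_smul (hP j) hj hx hjx
  have Al := swp v j l hj hl Aj
  obtain ⟨i, hi⟩ : ∃ i, Φ.B (u i) v ≠ 0 := by
    by_contra hc
    push Not at hc
    exact hv1 (hu.span v hc)
  obtain ⟨ζ, hζ, hζ'⟩ := h.exists_mu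
  have hζ1 : ζ - 1 ≠ 0 := sub_ne_zero.2 fun e => hζ' (by simp [e])
  obtain ⟨κ, hκ⟩ := h.norm (-1) (by simp)
  have hne : ∀ m, Φ.B (u m) v = 0 → i ≠ m := fun m hm e => hi (e ▸ hm)
  have hI := h.hm_iso (hu.one i) hζ
  have A' : ∀ m, Φ.B (u m) v = 0 → ∀ t : F, Φ.InA N (Φ.hm (u i) ζ v) (t • u m) := fun m hm t => by
    have := (swp v j m hj hm Aj t).conj ((hP i).2 ζ hζ) hI
    rwa [map_smul, hm_perp (hu.one i) hζ (hu.perp i m (hne m hm))] at this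
  have hvv : Φ.B (Φ.hm (u i) ζ v) v ≠ 0 := Φ.ne_symm (by
    simp only [hm_apply (hu.one i) hζ, Φ.bsimp, Φ.B_self hv0, zero_add]
    exact mul_ne_zero (mul_ne_zero hζ1 hi) (Φ.ne_symm hi))
  have hv'0 : Φ.Q (Φ.hm (u i) ζ v) = 0 := by rw [Iso.Q hI, hv0]
  have hv'l : Φ.B (Φ.hm (u i) ζ v) (u l) = 0 := by simpa using (A' l hl 1).perp
  generalize Φ.hm (u i) ζ v = v' at A' hvv hv'0 hv'l
  have hs0 : Φ.Q (u j + κ • u k) = 0 := by
    simp only [h.Q_eq, Φ.bsimp, hu.one, hu.perp j k hjk, hu.perp k j hjk.symm]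
    linear_combination hκ
  have a1 := (A' j hj (Φ.B v' v)⁻¹).add (A' k hk ((Φ.B v' v)⁻¹ * κ))
  rw [mul_smul, ← smul_add] at a1
  have w1 := valid_zero hv'0 a1.perp (Φ.Q_smul_zero hs0 _)
  obtain ⟨m₁, hm₁, e₁⟩ := a1.hasE (lam v' j (A' j hj)) w1
  obtain ⟨c, w2, m₂, hm₂, e₂⟩ := Aj 1
  have hm := N.mul_mem hm₂ hm₁
  have hmI := Φ.Iso.mul_mem (w2.mem_Iso e₂) (w1.mem_Iso e₁)
  have e₃ : (m₂ * m₁) v = u j + κ • u k := by
    simp only [mul_app, e₁, e₂, ef, Φ.bsimp, hj, hk, Φ.perp_symm hj, Φ.perp_symm hk, hu.one,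
      hu.perp j k hjk, Φ.B_self hv0, h.eps]
    match_scalars <;> field_simp <;> ring
  have e₄ : (m₂ * m₁) (u l) = u l := by
    rw [mul_app, e₁, e₂, ef_apply_of_perp hv'l (by simp [hu.perp j l hjl, hu.perp k l hkl]),
      ef_apply_of_perp (Φ.perp_symm hl) (by simp [hu.perp j l hjl])]
  have As : ∀ t : F, Φ.InA N (u j + κ • u k) (t • u l) := fun t => by
    have := (Al t).conj hm hmI
    rwa [e₃, map_smul, e₄] at this
  have hF : Φ.Full N (u j + κ • u k) := fun y c hy => by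
    refine InA.hasE ?_ (lam _ l As) hy
    have h3 := hy.perp
    simp only [Φ.bsimp] at h3
    have h4 := hu.sum (y - Φ.B (u j) y • (u j + κ • u k))
    rw [eq_sub_iff_add_eq] at h4
    rw [← h4]
    refine InA.add (Finset.sum_induction _ _ (fun _ _ => InA.add) (inA_zero hs0) fun m _ => ?_)
      (inA_smul_self hs0 _)
    by_cases hmj : m = j
    · convert inA_zero (M := N) hs0
      simp [hmj, hu.one, hu.perp j k hjk]
    by_cases hmk : m = k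
    · convert inA_zero (M := N) hs0
      rw [hmk, smul_eq_zero_iff_left (hu.ne_zero k)]
      simp only [Φ.bsimp, hu.one, hu.perp k j hjk.symm]
      linear_combination Φ.B (u k) y * hκ - κ * h3
    · exact swp _ l m (by simp [hu.perp l j hjl.symm, hu.perp l k hkl.symm])
        (by simp [hu.perp m j hmj, hu.perp m k hmk]) As _
  have hI' := h.hm_iso (hu.one j) hζ
  refine EG_le_of_full hF (hF.conj ((hP j).2 ζ hζ) hI') hs0 (by rw [Iso.Q hI', hs0]) ?_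
  rw [hm_apply (hu.one j) hζ, map_add, Φ.B_self hs0]
  simpa [hu.one, hu.perp j k hjk, hu.perp k j hjk.symm] using hζ1

theorem exists_pt_card_lt (h7 : 7 ≤ Fintype.card ι) {a : V} (ha : Φ.Pt N a)
    (h2 : 2 ≤ (Φ.spt u a).card) (h4 : (Φ.spt u a).card ≤ 4) :
    ∃ b, Φ.Pt N b ∧ (Φ.spt u a).card < (Φ.spt u b).card := by
  classical
  set S := Φ.spt u a
  have mS : ∀ i, i ∈ S ↔ Φ.B (u i) a ≠ 0 := fun i => mem_spt
  obtain ⟨i, hi⟩ := Finset.card_pos.1 (show 0 < S.card by omega)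
  obtain ⟨T, hT, cT⟩ := Finset.exists_subset_card_eq (s := Sᶜ) (n := S.card - 1)
    (by rw [Finset.card_compl]; omega)
  have hT' : ∀ j ∈ T, j ∉ S := fun j hj => Finset.mem_compl.1 (hT hj)
  obtain ⟨σ, hσ⟩ := Equiv.Perm.exists_map_finset_eq S (insert i T)
    (by rw [Finset.card_insert_of_notMem fun e => hT' i e hi]; omega)
  obtain ⟨g, hg, eg⟩ := h.exists_map hu (hu.perm σ)
  have ha' := ha.map (h1 ⟨hu.mem_mon fun j => ⟨σ j, 1, by rw [eg, one_smul]⟩, hg⟩) hg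
  have m' : ∀ j, Φ.B (u j) (g a) ≠ 0 ↔ j ∈ insert i T := fun j => by
    obtain ⟨j, rfl⟩ := σ.surjective j
    rw [← eg, Iso.B hg, ← mS, ← hσ]
    simp
  generalize g a = a' at ha' m'
  obtain ⟨ζ, hζ, hζ'⟩ := h.exists_mu
  have hζ1 : ζ - 1 ≠ 0 := sub_ne_zero.2 fun e => hζ' (by simp [e])
  have hi' := (m' i).2 (Finset.mem_insert_self i T)
  have e1 : Φ.B a' a = Φ.B (u i) a * Φ.σ (Φ.B (u i) a') := by
    rw [hu.B_eq_sum, Finset.sum_eq_single i (fun j _ hj => ?_) (by simp), h.symm (u i)]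
    by_contra hc
    exact hT' j ((Finset.mem_insert.1 ((m' j).1 (Φ.ne_symm (right_ne_zero_of_mul hc)))).resolve_left
      hj) ((mS j).2 (left_ne_zero_of_mul hc))
  obtain ⟨t, ht⟩ := Finset.card_pos.1 (show 0 < T.card by omega)
  refine ⟨_, ha.map (ha'.2 ζ hζ) (h.hm_iso ha'.1 hζ), ?_⟩
  refine lt_of_lt_of_le ?_ (Finset.card_le_card (s := insert t S) fun j hj => ?_)
  · rw [Finset.card_insert_of_notMem (hT' t ht)]; omega
  simp only [mem_spt, hm_apply ha'.1 hζ, Φ.bsimp, e1]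
  rcases Finset.mem_insert.1 hj with rfl | hj
  · rw [not_not.1 fun e => hT' j ht ((mS j).2 e), zero_add]
    exact mul_ne_zero (mul_ne_zero hζ1 (mul_ne_zero ((mS i).1 hi) (Φ.σ_ne hi')))
      ((m' j).2 (Finset.mem_insert_of_mem ht))
  by_cases hji : j = i
  · subst hji
    intro e
    have e2 : 1 + (ζ - 1) * (Φ.σ (Φ.B (u j) a') * Φ.B (u j) a') = 0 :=
      mul_left_cancel₀ ((mS j).1 hi) (by linear_combination e)
    have e3 := congrArg Φ.σ e2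
    simp only [Φ.bsimp] at e3
    exact hζ' (mul_right_cancel₀ (mul_ne_zero (Φ.σ_ne hi') hi') (by linear_combination e3 - e2))
  · rw [not_not.1 fun e => hT' j ((Finset.mem_insert.1 ((m' j).1 e)).resolve_left hji) hj]
    simpa using (mS j).1 hj

/-- A proper overgroup of the full monomial group contains the special unitary group. -/
theorem EG_le_of_mon (h7 : 7 ≤ Fintype.card ι) (h2 : N ≤ Φ.Iso) {g : V ≃ₗ[F] V} (hg : g ∈ N)
    (hg' : g ∉ mon F u) : Φ.EG ≤ N := by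
  classical
  have key : ∀ n ≤ 3, ∃ a, Φ.Pt N a ∧ n + 2 ≤ (Φ.spt u a).card := fun n => by
    induction n with
    | zero =>
      intro _
      by_contra hc
      push Not at hc
      exact hg' (hu.mem_mon fun i => hu.exists_eq_smul (g.map_ne_zero_iff.2 (hu.ne_zero i))
        (Nat.lt_succ_iff.1 (hc _ ((h.pt_frame hu h1 i).map hg (h2 hg)))))
    | succ n ih =>
      intro hn
      obtain ⟨a, ha, h3⟩ := ih (by omega)
      by_cases h4 : (Φ.spt u a).card ≤ 4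
      · obtain ⟨b, hb, h5⟩ := h.exists_pt_card_lt hu h1 h7 ha (by omega) h4
        exact ⟨b, hb, by omega⟩
      · exact ⟨a, ha, by omega⟩
  obtain ⟨a, ha, h5⟩ := key 3 le_rfl
  obtain ⟨i, hi, -⟩ := exists_mem_ne_list (Φ.spt u a) [] (by rw [List.length_nil]; omega)
  obtain ⟨j, hj, j1⟩ := exists_mem_ne_list (Φ.spt u a) [i] (by simp; omega)
  obtain ⟨k, hk, k1⟩ := exists_mem_ne_list (Φ.spt u a) [i, j] (by simp; omega)
  obtain ⟨l, hl, l1⟩ := exists_mem_ne_list (Φ.spt u a) [i, j, k] (by simp; omega)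
  obtain ⟨m, hm, m1⟩ := exists_mem_ne_list (Φ.spt u a) [i, j, k, l] (by simp; omega)
  obtain ⟨p, p1⟩ := exists_ne_list [i, j, k, l, m] (by simp; omega)
  obtain ⟨r, r1⟩ := exists_ne_list [i, j, k, l, m, p] (by simp; omega)
  simp only [List.mem_cons, List.not_mem_nil, or_false, forall_eq_or_imp, forall_eq]
    at j1 k1 l1 m1 p1 r1
  obtain ⟨ζ, ξ, hζ, hξ, e1, e2⟩ := hu.exists_sw_sw h j1.symm l1.2.2.symm k1.1.symm l1.1.symm
    k1.2.symm l1.2.1.symm (mem_spt.1 hi) (mem_spt.1 hj) (mem_spt.1 hk) (mem_spt.1 hl) (map_one _)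
  have hI := Φ.Iso.mul_mem (hu.sw_iso j1.symm hζ h) (hu.sw_iso l1.2.2.symm hξ h)
  have ha' := ha.map (h1 ⟨(mon F u).mul_mem (hu.sw_mem j1.symm hζ) (hu.sw_mem l1.2.2.symm hξ), hI⟩)
    hI
  have h0 : ∀ m, m ≠ i → m ≠ j → m ≠ k → m ≠ l →
      Φ.B (u m) (a - (Φ.sw u i j ζ * Φ.sw u k l ξ) a) = 0 := fun m n1 n2 n3 n4 => by
    rw [map_sub, mul_app, hu.B_sw j1.symm hζ n1 n2, hu.B_sw l1.2.2.symm hξ n3 n4, sub_self]
  obtain ⟨z, hz, hz'⟩ := h.exists_mu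
  refine h.EG_le_of_zeros hu h1 (sub_ne_zero.2 e2.symm) p1.2.2.2.2.symm r1.2.2.2.2.1.symm
    r1.2.2.2.2.2.symm (h0 m m1.1 m1.2.1 m1.2.2.1 m1.2.2.2) (h0 p p1.1 p1.2.1 p1.2.2.1 p1.2.2.2.1)
    (h0 r r1.1 r1.2.1 r1.2.2.1 r1.2.2.2.1) (h.inA_of_pt ha ha' e1 hz) ?_
  rw [Φ.B_smul_right]
  exact mul_ne_zero (sub_ne_zero.2 fun e => hz' (by simp [e])) (mem_spt.1 hm)

omit h1 in
/-- An overgroup with a new element mapping a frame point to a frame point is everything. -/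
theorem EG_le_of_point (h7 : 7 ≤ Fintype.card ι) (h1 : mon F u ⊓ Φ.EG ≤ M) (h2 : M ≤ Φ.EG)
    {g : V ≃ₗ[F] V} (hg : g ∈ M) (hg' : g ∉ mon F u) {i j : ι} {c : F} (hc : g (u i) = c • u j) :
    Φ.EG ≤ M := by
  have h2' := h2.trans Φ.EG_le_Iso
  have he := hu.one i
  have rel : ∀ m ∈ Φ.Iso, ∀ j (c : F), m (u i) = c • u j → Φ.Rel M (m (u i)) (u i) :=
    fun m hm j c e => by
      have h3 := Iso.B hm (u i) (u i)
      simp only [e, Φ.bsimp, hu.one, mul_one] at h3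
      rw [e]
      refine Rel.smul ⟨hu.one j, he, fun ζ hζ => ?_⟩ ((mul_comm c _).trans h3)
      rw [hm_inv he hζ]
      refine h1 ⟨(mon F u).mul_mem (hu.hm_mem j hζ) (hu.hm_mem i (mu_conj hζ)), h.mem_EG
        (Φ.Iso.mul_mem (h.hm_iso (hu.one j) hζ) (h.hm_iso he (mu_conj hζ))) ?_⟩
      rw [det_mul_equiv, hm_det (hu.one j) hζ, hm_det he (mu_conj hζ), hζ]
  let M₀ : Subgroup (V ≃ₗ[F] V) :=
    { carrier := {m | m ∈ M ∧ Φ.Rel M (m (u i)) (u i)}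
      mul_mem' := fun ha hb => ⟨M.mul_mem ha.1 hb.1, (hb.2.conj ha.1 (h2' ha.1)).trans ha.2⟩
      one_mem' := ⟨M.one_mem, he, he, fun _ _ => by simp⟩
      inv_mem' := fun ha => ⟨M.inv_mem ha.1, by
        simpa using (ha.2.conj (M.inv_mem ha.1) (h2' (M.inv_mem ha.1))).symm⟩ }
  have hy : ∀ m ∈ M₀, ∀ ζ, ζ * Φ.σ ζ = 1 → m⁻¹ * Φ.hm (u i) ζ * m * (Φ.hm (u i) ζ)⁻¹ ∈ M₀ :=
    fun m hm ζ hζ => by
      have h3 := (M₀.inv_mem hm).2
      have h4 := hm_conj he hζ (h2' (M.inv_mem hm.1))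
      rw [inv_inv] at h4
      rw [h4]
      refine ⟨h3.2.2 ζ hζ, ?_⟩
      rw [mul_app, hm_inv he hζ, hm_self he (mu_conj hζ), map_smul]
      exact ((h3.symm.hm h hζ).trans h3).smul (mu_conj hζ)
  let N : Subgroup (V ≃ₗ[F] V) :=
    { carrier := {x | ∃ m ∈ M₀, ∃ ζ, ζ * Φ.σ ζ = 1 ∧ x = m * Φ.hm (u i) ζ}
      mul_mem' := by
        rintro _ _ ⟨m, hm, ζ, hζ, rfl⟩ ⟨m', hm', ξ, hξ, rfl⟩
        refine ⟨_, M₀.mul_mem (M₀.mul_mem hm hm') (hy m' hm' ζ hζ), _, mu_mul hζ hξ, ?_⟩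
        rw [← hm_mul he hζ hξ]
        group
      one_mem' := ⟨1, M₀.one_mem, 1, by simp, by rw [hm_one he, mul_one]⟩
      inv_mem' := by
        rintro _ ⟨m, hm, ζ, hζ, rfl⟩
        refine ⟨_, M₀.mul_mem (M₀.inv_mem hm) (hy _ (M₀.inv_mem hm) _ (mu_conj hζ)), _,
          mu_conj hζ, ?_⟩
        rw [← hm_inv he hζ]
        group }
  have h3 : Φ.EG ≤ N := h.EG_le_of_mon hu (fun x hx => by
      obtain ⟨ζ, hζ, h3⟩ := h.exists_comp he hx.2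
      have h4 := (mon F u).mul_mem hx.1 (hu.hm_mem i hζ)
      obtain ⟨c, -, h5⟩ := h4.choose_spec i
      exact ⟨_, ⟨h1 ⟨h4, h3⟩, rel _ (Φ.EG_le_Iso h3) _ c h5⟩, _, mu_conj hζ,
        by rw [← hm_inv he hζ, mul_inv_cancel_right]⟩) h7
    (by rintro _ ⟨m, hm, ζ, hζ, rfl⟩; exact Φ.Iso.mul_mem (h2' hm.1) (h.hm_iso he hζ))
    ⟨g, ⟨hg, rel g (h2' hg) j c hc⟩, 1, by simp, by rw [hm_one he, mul_one]⟩ hg'
  intro x hx
  obtain ⟨m, hm, ζ, hζ, rfl⟩ := h3 hx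
  have h4 := mem_SLV.1 (Φ.EG_le_SLV hx)
  rw [det_mul_equiv, hm_det he hζ, mem_SLV.1 (Φ.EG_le_SLV (h2 hm.1)), one_mul] at h4
  rw [h4, hm_one he, mul_one]
  exact hm.1

end IsU

end Fm

end Cfsg.Agent.Class.Max
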