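import Mathlib
import Cfsg.Agent.Class.FormedSpU
import Cfsg.Agent.Class.Max.C2U2

/-!
Class `C₂` for unitary groups: the stabiliser of an orthonormal frame is maximal.
-/

set_option autoImplicit false

namespace Cfsg.Agent.Class.Max

open Module

variable {F V : Type*} [Field F] [AddCommGroup V] [Module F V] {ι : Type*}

theorem card_le_finrank_of_tri [FiniteDimensional F V] [LinearOrder ι] (W : Submodule F V)
    (I : Finset ι) (f : ι → V) (φ : ι → Dual F V) (hf : ∀ i ∈ I, f i ∈ W)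
    (h1 : ∀ i ∈ I, φ i (f i) ≠ 0) (h2 : ∀ i ∈ I, ∀ j ∈ I, i < j → φ j (f i) = 0) :
    I.card ≤ finrank F W := by
  classical
  have : LinearIndependent F fun i : I => (⟨f i, hf i i.2⟩ : W) := by
    refine LinearIndependent.of_comp W.subtype (Fintype.linearIndependent_iff.2 fun g hg => ?_)
    by_contra hc
    push Not at hc
    obtain ⟨j, hj, hmax⟩ := Finset.exists_max_image (Finset.univ.filter fun i : I => g i ≠ 0) id
      (let ⟨i, hi⟩ := hc; ⟨i, by simpa using hi⟩)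
    have h3 := congrArg (φ j) hg
    rw [map_sum, map_zero, Finset.sum_eq_single j (fun i _ hi => ?_) (by simp)] at h3
    · simp only [map_smul, smul_eq_mul, mul_eq_zero] at h3
      exact h3.elim (Finset.mem_filter.1 hj).2 (h1 j j.2)
    · by_cases h4 : g i = 0
      · simp [h4]
      · simp [h2 i i.2 j j.2 (lt_of_le_of_ne (hmax i (by simpa using h4)) (Subtype.coe_ne_coe.2 hi))]
  simpa using this.fintype_card_le_finrank

namespace Fm

variable {Φ : Fm F V} {M : Subgroup (V ≃ₗ[F] V)} {u w : ι → V} [FiniteDimensional F V] [Fintype ι]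

variable (Φ) in
/-- A diagonal element of determinant one. -/
noncomputable def dd (u : ι → V) (i j : ι) (ζ : F) : V ≃ₗ[F] V :=
  Φ.hm (u i) ζ * Φ.hm (u j) (Φ.σ ζ)

namespace UFrame

variable (hu : Φ.UFrame u)
include hu

omit [FiniteDimensional F V] in
theorem exists_sub (S : Finset ι) : ∃ W : Submodule F V, finrank F W ≤ S.card ∧
    ∀ x, (∀ m ∉ S, Φ.B (u m) x = 0) → x ∈ W := by
  classical
  refine ⟨Submodule.span F (S.image u : Set V), (finrank_span_finset_le_card _).trans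
    Finset.card_image_le, fun x hx => ?_⟩
  rw [← hu.sum x]
  refine Submodule.sum_mem _ fun i _ => ?_
  by_cases hi : i ∈ S
  · exact Submodule.smul_mem _ _ (Submodule.subset_span (by simpa using ⟨i, hi, rfl⟩))
  · rw [hx i hi, zero_smul]; exact Submodule.zero_mem _

omit [FiniteDimensional F V] in
theorem finrank_le : finrank F V ≤ Fintype.card ι := by
  obtain ⟨W, h1, h2⟩ := hu.exists_sub Finset.univ
  rwa [show W = ⊤ from eq_top_iff.2 fun x _ => h2 x (by simp), finrank_top] at h1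

theorem card_le_card (hw : Φ.UFrame w) {K S : Finset ι}
    (h : ∀ k ∈ K, ∀ m ∉ S, Φ.B (u m) (w k) = 0) : K.card ≤ S.card := by
  let _ := LinearOrder.lift' _ (Fintype.equivFin ι).injective
  obtain ⟨W, h1, h2⟩ := hu.exists_sub S
  exact (card_le_finrank_of_tri W K w (fun i => Φ.B (w i)) (fun k hk => h2 _ (h k hk))
    (fun i _ => by simp [hw.one]) fun i _ j _ hij => hw.perp j i hij.ne').trans h1

open Classical in
/-- A monomial map of small rank fixes most frame vectors. -/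
theorem card_moved (hw : Φ.UFrame w) {x : V ≃ₗ[F] V} (hx : x ∈ mon F w) {t : F} {S : Finset ι}
    (h : ∀ m ∉ S, ∀ y, Φ.B (u m) (x y) = t * Φ.B (u m) y) :
    (Finset.univ.filter fun j => x (w j) ≠ t • w j).card ≤ 2 * S.card := by
  obtain ⟨W, h1, h2⟩ := hu.exists_sub S
  obtain ⟨σ, hσ⟩ := hx
  have key : ∀ o : LinearOrder ι, (Finset.univ.filter fun j => x (w j) ≠ t • w j ∧
      o.le j (σ j)).card ≤ S.card := fun o => by
    refine (card_le_finrank_of_tri W _ (fun j => x (w j) - t • w j) (fun j => Φ.B (w (σ j)))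
      (fun j _ => h2 _ fun m hm => by simp [h m hm]) (fun j hj => ?_)
      fun i _ j hj hij => ?_).trans h1
    · obtain ⟨c, hc, e⟩ := hσ j
      by_cases h3 : σ j = j
      · have h4 := (Finset.mem_filter.1 hj).2.1
        rw [e, h3] at h4
        simpa [e, h3, hw.one, sub_eq_zero] using fun e' : c = t => h4 (by rw [e'])
      · simpa [e, hw.one, hw.perp _ _ h3] using hc
    · obtain ⟨c, -, e⟩ := hσ i
      simp [e, hw.perp _ _ (σ.injective.ne hij.ne'),
        hw.perp _ _ (hij.trans_le (Finset.mem_filter.1 hj).2.2).ne']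
  let o := LinearOrder.lift' _ (Fintype.equivFin ι).injective
  have h3 := key o
  have h4 := key (@OrderDual.instLinearOrder ι o)
  refine le_trans (Finset.card_le_card fun j hj => ?_) ((Finset.card_union_le _ _).trans
    ((add_le_add h3 h4).trans (two_mul _).ge))
  simp only [Finset.mem_union, Finset.mem_filter, Finset.mem_univ, true_and] at hj ⊢
  exact (o.le_total j (σ j)).imp (fun h => ⟨hj, h⟩) fun h => ⟨hj, h⟩

theorem exists_fixed (hw : Φ.UFrame w) {x : V ≃ₗ[F] V} (hx : x ∈ mon F w) {t : F} (s l : List ι)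
    (h : ∀ m, (∀ i ∈ s, m ≠ i) → ∀ y, Φ.B (u m) (x y) = t * Φ.B (u m) y)
    (hc : 2 * s.length + l.length < Fintype.card ι) :
    ∃ j, x (w j) = t • w j ∧ ∀ i ∈ l, j ≠ i := by
  classical
  have h1 := hu.card_moved hw hx (S := s.toFinset) fun m hm =>
    h m fun i hi e => hm (List.mem_toFinset.2 (e ▸ hi))
  have h2 := List.toFinset_card_le s
  obtain ⟨j, hj, hj'⟩ := exists_mem_ne_list (Finset.univ.filter fun j => x (w j) ≠ t • w j)ᶜ l
    (by rw [Finset.card_compl]; convert (show _ < Fintype.card ι - _ from ?_); omega)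
  exact ⟨j, by simpa using hj, hj'⟩

section Dd

variable {i j : ι} (hij : i ≠ j) {ζ : F} (hζ : ζ * Φ.σ ζ = 1)
include hij hζ

omit [FiniteDimensional F V] [Fintype ι] in
theorem dd_apply (x : V) : Φ.dd u i j ζ x =
    x + ((ζ - 1) * Φ.B (u i) x) • u i + ((Φ.σ ζ - 1) * Φ.B (u j) x) • u j := by
  rw [dd, mul_app, hm_apply (hu.one i) hζ, hu.B_hm i j (mu_conj hζ) hij,
    hm_apply (hu.one j) (mu_conj hζ)]
  abel

omit hij in
theorem dd_mem (h : Φ.IsU) : Φ.dd u i j ζ ∈ mon F u ⊓ Φ.EG :=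
  ⟨(mon F u).mul_mem (hu.hm_mem i hζ) (hu.hm_mem j (mu_conj hζ)), h.mem_EG
    (Φ.Iso.mul_mem (h.hm_iso (hu.one i) hζ) (h.hm_iso (hu.one j) (mu_conj hζ)))
    (by rw [dd, det_mul_equiv, hm_det (hu.one i) hζ, hm_det (hu.one j) (mu_conj hζ), hζ])⟩

omit [FiniteDimensional F V] [Fintype ι] in
theorem B_dd {m : ι} (h1 : m ≠ i) (h2 : m ≠ j) (x : V) :
    Φ.B (u m) (Φ.dd u i j ζ x) = Φ.B (u m) x := by
  simp [hu.dd_apply hij hζ, hu.perp m i h1, hu.perp m j h2]

omit [FiniteDimensional F V] [Fintype ι] in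
theorem B_dd_fst (x : V) : Φ.B (u i) (Φ.dd u i j ζ x) = ζ * Φ.B (u i) x := by
  simp only [hu.dd_apply hij hζ, Φ.bsimp, hu.one, hu.perp i j hij]; ring

end Dd

end UFrame

variable (Φ) in
/-- `M` contains the stabiliser of the frame and has the frame as a block of imprimitivity. -/
structure Blk (M : Subgroup (V ≃ₗ[F] V)) (u : ι → V) : Prop where
  frame : Φ.UFrame u
  le : mon F u ⊓ Φ.EG ≤ M
  iso : M ≤ Φ.Iso
  pt : ∀ g ∈ M, ∀ i j (c : F), g (u i) = c • u j → g ∈ mon F u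

variable (F) in
/-- Two families without common points. -/
def Dis (u w : ι → V) : Prop := ∀ i j (c : F), w i ≠ c • u j

omit [FiniteDimensional F V] [Fintype ι] in
theorem Dis.symm (h : Dis F u w) (hu : Φ.UFrame u) : Dis F w u := fun i j c e => by
  have hc : c ≠ 0 := fun e' => hu.ne_zero i (by rw [e, e', zero_smul])
  exact h j i c⁻¹ (by rw [e, smul_smul, inv_mul_cancel₀ hc, one_smul])

namespace Blk

omit [FiniteDimensional F V] [Fintype ι] in
theorem map (hu : Φ.Blk M u) {g : V ≃ₗ[F] V} (hg : g ∈ M) : Φ.Blk M fun i => g (u i) where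
  frame := hu.frame.map (hu.iso hg)
  le x hx := by
    have := hu.le ⟨mem_mon_map.1 hx.1, by
      simpa using EG_normal (Φ.Iso.inv_mem (hu.iso hg)) hx.2⟩
    simpa [mul_assoc] using M.mul_mem (M.mul_mem hg this) (M.inv_mem hg)
  iso := hu.iso
  pt x hx i j c e := mem_mon_map.2 (hu.pt _ (M.mul_mem (M.mul_mem (M.inv_mem hg) hx) hg) i j c
    (by rw [mul_app, mul_app, e, map_smul, inv_app_app]))

omit [FiniteDimensional F V] [Fintype ι] in
theorem dis (hu : Φ.Blk M u) {g : V ≃ₗ[F] V} (hg : g ∈ M) (hg' : g ∉ mon F u) :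
    Dis F u fun i => g (u i) := fun i j c e => hg' (hu.pt g hg i j c e)

variable [Finite F] (h : Φ.IsU) (h9 : 9 ≤ Fintype.card ι)
include h h9

theorem two_zeros (hu : Φ.Blk M u) (hw : Φ.Blk M w) (hD : Dis F u w) {i j m : ι} (hij : i ≠ j)
    (h1 : Φ.B (u i) (w m) = 0) (h2 : Φ.B (u j) (w m) = 0) : False := by
  classical
  obtain ⟨ζ, hζ, hζ'⟩ := h.exists_mu
  have hζ1 : ζ - 1 ≠ 0 := sub_ne_zero.2 fun e => hζ' (by simp [e])
  have key : ∀ {u w : ι → V}, Φ.Blk M u → Φ.Blk M w → ∀ {i j m : ι}, i ≠ j →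
      Φ.B (u i) (w m) = 0 → Φ.B (u j) (w m) = 0 →
      Φ.dd u i j ζ ∈ mon F w ∧ (Φ.spt w (u i)).card ≤ 4 := fun {u w} hu hw {i j m} hij h1 h2 => by
    have h3 := hw.pt _ (hu.le (hu.frame.dd_mem (i := i) (j := j) hζ h)) m m 1
      (by simp [hu.frame.dd_apply hij hζ, h1, h2])
    refine ⟨h3, le_trans (Finset.card_le_card fun k hk => ?_) ((hu.frame.card_moved hw.frame h3
      (t := 1) (S := {i, j}) fun m hm y => ?_).trans (Nat.mul_le_mul_left 2 Finset.card_le_two))⟩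
    · simp only [Finset.mem_filter, Finset.mem_univ, true_and, one_smul]
      intro e
      have h4 := hu.frame.B_dd_fst hij hζ (w k)
      rw [e] at h4
      exact mul_ne_zero hζ1 (Φ.ne_symm (mem_spt.1 hk)) (by linear_combination -h4)
    · simp only [Finset.mem_insert, Finset.mem_singleton, not_or] at hm
      rw [hu.frame.B_dd hij hζ hm.1 hm.2, one_mul]
  have h3 := (key hu hw hij h1 h2).2
  have h4 : 5 ≤ (Φ.spt w (u i))ᶜ.card := by rw [Finset.card_compl]; omega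
  have mK : ∀ k ∈ (Φ.spt w (u i))ᶜ, Φ.B (w k) (u i) = 0 := fun k hk =>
    not_not.1 fun e => Finset.mem_compl.1 hk (mem_spt.2 e)
  obtain ⟨k, hk, l, hl, hkl⟩ := Finset.one_lt_card.1 (show 1 < (Φ.spt w (u i))ᶜ.card by omega)
  have h5 := (key hw hu hkl (mK k hk) (mK l hl)).2
  suffices (Φ.spt w (u i))ᶜ.card ≤ (Φ.spt u (w k)).card by omega
  refine hu.frame.card_le_card hw.frame fun l hl p hp => not_not.1 fun hc => ?_
  have h6 : Φ.B (u p) (w k) = 0 := not_not.1 fun e => hp (mem_spt.2 e)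
  have hlk : l ≠ k := fun e => hc (e ▸ h6)
  obtain ⟨σ, hσ⟩ := (key hw hu hlk (mK l hl) (mK k hk)).1
  obtain ⟨c, -, e⟩ := hσ p
  rw [hw.frame.dd_apply hlk hζ, Φ.perp_symm h6, mul_zero, zero_smul, add_zero] at e
  have h7 := mul_ne_zero hζ1 (Φ.ne_symm hc)
  by_cases h8 : σ p = p
  · refine hD l p (((ζ - 1) * Φ.B (w l) (u p))⁻¹ * (c - 1)) ?_
    rw [mul_smul, eq_inv_smul_iff₀ h7, sub_smul, ← h8, ← e, h8]
    module
  · have e2 := congrArg (Φ.B (u p)) e
    simp only [Φ.bsimp, hu.frame.one, hu.frame.perp p _ (Ne.symm h8), h.symm (u p) (w l)] at e2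
    have e3 := congrArg Φ.σ e2
    simp only [Φ.bsimp] at e3
    exact hζ' (mul_right_cancel₀ (mul_ne_zero (Φ.σ_ne hc) hc) (by linear_combination e3 - e2))

theorem not_mem (hu : Φ.Blk M u) (hw : Φ.Blk M w) (hD : Dis F u w) {x : V ≃ₗ[F] V} {t : F}
    (s : List ι) (hs : s.length ≤ 3)
    (h1 : ∀ m, (∀ i ∈ s, m ≠ i) → ∀ y, Φ.B (u m) (x y) = t * Φ.B (u m) y) {n : ι} {t' : F}
    (ht : t' ≠ t) (h2 : ∀ y, Φ.B (u n) (x y) = t' * Φ.B (u n) y) : x ∉ mon F w := fun hx => by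
  obtain ⟨j, hj, -⟩ := hu.frame.exists_fixed hw.frame hx s [] h1 (by simp; omega)
  obtain ⟨k, hk, hk'⟩ := hu.frame.exists_fixed hw.frame hx s [j] h1 (by simp; omega)
  have h3 : ∀ j, x (w j) = t • w j → Φ.B (w j) (u n) = 0 := fun j hj => Φ.perp_symm (by
    have := h2 (w j)
    rw [hj, Φ.B_smul_right] at this
    exact (mul_eq_zero.1 (show (t' - t) * _ = 0 by linear_combination -this)).resolve_left
      (sub_ne_zero.2 ht))
  exact two_zeros h h9 hw hu (hD.symm hu.frame) (hk' j (by simp)) (h3 k hk) (h3 j hj)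

theorem one_zero (hu : Φ.Blk M u) (hw : Φ.Blk M w) (hD : Dis F u w) {n m : ι}
    (h0 : Φ.B (u n) (w m) = 0) : False := by
  classical
  have hf := hu.frame
  by_cases hc : ∃ z, z * Φ.σ z = 1 ∧ z ^ finrank F V ≠ 1
  · obtain ⟨z, hz, hz'⟩ := hc
    have hξ : Φ.σ z ^ finrank F V * Φ.σ (Φ.σ z ^ finrank F V) = 1 := by
      rw [map_pow, ← mul_pow, mu_conj hz, one_pow]
    let s := LinearEquiv.smulOfNeZero F V z (ne_zero_of_mu hz)
    have es : ∀ y, s y = z • y := fun _ => rfl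
    have hx : s * Φ.hm (u n) (Φ.σ z ^ finrank F V) ∈ mon F u ⊓ Φ.EG :=
      ⟨(mon F u).mul_mem (hf.mem_mon fun i => ⟨i, z, rfl⟩) (hf.hm_mem n hξ), h.mem_EG
        (Φ.Iso.mul_mem (h.mem_Iso fun x y => by
          simp only [es, Φ.bsimp]; linear_combination Φ.B x y * hz) (h.hm_iso (hf.one n) hξ)) (by
        rw [det_mul_equiv, hm_det (hf.one n) hξ, show (s : V →ₗ[F] V) = z • LinearMap.id from rfl,
          LinearMap.det_smul, LinearMap.det_id, mul_one, ← mul_pow, hz, one_pow])⟩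
    refine not_mem h h9 hu hw hD (t := z) [n] (by simp) (fun m hm y => ?_) (n := n)
      (t' := z * Φ.σ z ^ finrank F V) (fun e => hz' ?_) (fun y => ?_)
      (hw.pt _ (hu.le hx) m m z (by rw [mul_app, hm_perp (hf.one n) hξ h0, es]))
    · rw [mul_app, es, Φ.B_smul_right, hf.B_hm m n hξ (hm n (by simp))]
    · have := congrArg Φ.σ (mul_left_cancel₀ (ne_zero_of_mu hz) (e.trans (mul_one z).symm))
      simpa only [map_pow, Φ.invol, map_one] using this
    · rw [mul_app, es, Φ.B_smul_right, hf.B_hm_self n hξ, mul_assoc]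
  push Not at hc
  have hne : ∀ i, i ≠ n → Φ.B (u i) (w m) ≠ 0 := fun i hi e => two_zeros h h9 hu hw hD hi e h0
  obtain ⟨i, hi, j, hj, hij, e⟩ : ∃ i ∈ Finset.univ.erase n, ∃ j ∈ Finset.univ.erase n, i ≠ j ∧
      Φ.B (u i) (w m) * Φ.σ (Φ.B (u i) (w m)) = Φ.B (u j) (w m) * Φ.σ (Φ.B (u j) (w m)) := by
    have := Fintype.ofFinite F
    have h1 := h.card
    rw [Nat.subtype_card (Finset.univ.filter fun a : F => Φ.σ a = a) (by simp),
      Nat.subtype_card (Finset.univ.filter fun z : F => z * Φ.σ z = 1) (by simp)] at h1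
    have h2 : 0 < finrank F V := finrank_pos_iff_exists_ne_zero.2 ⟨_, hf.ne_zero n⟩
    have h3 : (Finset.univ.filter fun z : F => z * Φ.σ z = 1).card ≤ finrank F V :=
      (Finset.card_le_card (t := (Polynomial.nthRoots (finrank F V) (1 : F)).toFinset)
        fun z hz => by
          rw [Multiset.mem_toFinset, Polynomial.mem_nthRoots h2]
          exact hc z (Finset.mem_filter.1 hz).2).trans
        ((Multiset.toFinset_card_le _).trans (Polynomial.card_nthRoots _ _))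
    have h4 := hf.finrank_le
    refine Finset.exists_ne_map_eq_of_card_lt_of_maps_to
      (t := (Finset.univ.filter fun a : F => Φ.σ a = a).erase 0) ?_ fun i hi => ?_
    · rw [Finset.card_erase_of_mem (by simp), Finset.card_erase_of_mem (by simp), Finset.card_univ]
      have : 0 < (Finset.univ.filter fun a : F => Φ.σ a = a).card :=
        Finset.card_pos.2 ⟨0, by simp⟩
      omega
    · have := hne i (Finset.ne_of_mem_erase hi)
      simp [this, Φ.invol, mul_comm]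
  have hin := Finset.ne_of_mem_erase hi
  have hjn := Finset.ne_of_mem_erase hj
  have hi0 := hne i hin
  have hi1 := Φ.σ_ne hi0
  obtain ⟨ζ, eζ⟩ : ∃ ζ, Φ.B (u j) (w m) = ζ * Φ.B (u i) (w m) := ⟨_, (div_mul_cancel₀ _ hi0).symm⟩
  have hζ : ζ * Φ.σ ζ = 1 := mul_right_cancel₀ (mul_ne_zero hi0 hi1) (by
    rw [eζ, map_mul] at e; linear_combination -e)
  have hr : Φ.sw u i j ζ (w m) = w m := by
    rw [hf.sw_apply hij hζ, eζ, ← mul_assoc, mul_comm _ ζ, hζ]; simp
  have hI := hf.sw_iso hij hζ h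
  by_cases h2 : (2 : F) = 0
  swap
  · have hξ : (-1 : F) * Φ.σ (-1) = 1 := by simp
    refine not_mem h h9 hu hw hD (t := 1) [i, j, n] (by simp) (fun p hp y => ?_) (n := n) (t' := -1)
      (fun e => h2 (by linear_combination -e)) (fun y => ?_)
      (hw.pt _ (hu.le ⟨(mon F u).mul_mem (hf.sw_mem hij hζ) (hf.hm_mem n hξ), h.mem_EG
        (Φ.Iso.mul_mem hI (h.hm_iso (hf.one n) hξ)) ?_⟩) m m 1 ?_)
    · rw [mul_app, hf.B_sw hij hζ (hp i (by simp)) (hp j (by simp)), hf.B_hm p n hξ (hp n (by simp)),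
        one_mul]
    · rw [mul_app, hf.B_sw hij hζ hin.symm hjn.symm, hf.B_hm_self n hξ]
    · rw [det_mul_equiv, hf.sw_det hij hζ, hm_det (hf.one n) hξ]; ring
    · rw [mul_app, hm_perp (hf.one n) hξ h0, hr, one_smul]
  have hrw := hw.pt _ (hu.le ⟨hf.sw_mem hij hζ, h.mem_EG hI
    (by rw [hf.sw_det hij hζ]; linear_combination -h2)⟩) m m 1 (by rw [hr, one_smul])
  have h3 : ∀ p, (∀ l ∈ [i, j], p ≠ l) → ∀ y, Φ.B (u p) (Φ.sw u i j ζ y) = 1 * Φ.B (u p) y :=
    fun p hp y => by rw [hf.B_sw hij hζ (hp i (by simp)) (hp j (by simp)), one_mul]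
  obtain ⟨k, hk, hk'⟩ := hf.exists_fixed hw.frame hrw [i, j] [m] h3 (by simp; omega)
  obtain ⟨l, hl, hl'⟩ := hf.exists_fixed hw.frame hrw [i, j] [m, k] h3 (by simp; omega)
  obtain ⟨η, hη, hη'⟩ := h.exists_mu
  have hξ := mu_mul (mu_conj hη) (mu_conj hη)
  have hy : Φ.hm (u i) η * Φ.hm (u j) η * Φ.hm (u n) (Φ.σ η * Φ.σ η) ∈ M :=
    hu.le ⟨(mon F u).mul_mem ((mon F u).mul_mem (hf.hm_mem i hη) (hf.hm_mem j hη)) (hf.hm_mem n hξ),
      h.mem_EG (Φ.Iso.mul_mem (Φ.Iso.mul_mem (h.hm_iso (hf.one i) hη) (h.hm_iso (hf.one j) hη))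
        (h.hm_iso (hf.one n) hξ)) (by
        rw [det_mul_equiv, det_mul_equiv, hm_det (hf.one i) hη, hm_det (hf.one j) hη,
          hm_det (hf.one n) hξ]
        linear_combination (η * Φ.σ η + 1) * hη)⟩
  have h4 : ∀ k, Φ.sw u i j ζ (w k) = (1 : F) • w k → k ≠ m →
      Φ.B (w k) ((Φ.hm (u i) η * Φ.hm (u j) η * Φ.hm (u n) (Φ.σ η * Φ.σ η)) (w m)) = 0 :=
    fun k hk hkm => by
      have h5 := congrArg (fun y => Φ.σ (Φ.B (u i) y)) hk
      simp only [hf.sw_apply hij hζ, Φ.bsimp, hf.one, hf.perp i j hij, ← h.symm] at h5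
      rw [mul_app, mul_app, hm_perp (hf.one n) hξ h0, hm_apply (hf.one i) hη, hf.B_hm i j hη hij,
        hm_apply (hf.one j) hη]
      simp only [Φ.bsimp, hw.frame.perp k m hkm, eζ]
      linear_combination (1 - η) * Φ.B (u i) (w m) * h5 +
        (η - 1) * ζ * Φ.B (u i) (w m) * Φ.B (w k) (u j) * h2
  refine two_zeros h h9 hw (hw.map hy) (hw.dis hy (not_mem h h9 hu hw hD (t := 1) [i, j, n]
    (by simp) (fun p hp y => ?_) (n := n) (t' := Φ.σ η * Φ.σ η) (fun e => hη' ?_) fun y => ?_))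
    (hl' k (by simp)) (h4 l hl (hl' m (by simp))) (h4 k hk (hk' m (by simp)))
  · rw [mul_app, mul_app, hf.B_hm p i hη (hp i (by simp)), hf.B_hm p j hη (hp j (by simp)),
      hf.B_hm p n hξ (hp n (by simp)), one_mul]
  · linear_combination η * e - Φ.σ η * hη
  · rw [mul_app, mul_app, hf.B_hm n i hη hin.symm, hf.B_hm n j hη hjn.symm, hf.B_hm_self n hξ]

theorem false_of_dis (hu : Φ.Blk M u) (hw : Φ.Blk M w) (hD : Dis F u w) : False := by
  classical
  have hf := hu.frame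
  have hne : ∀ i k, Φ.B (u i) (w k) ≠ 0 := fun i k => one_zero h h9 hu hw hD
  have key : ∀ y ∈ M, ∀ m, Φ.B (w m) (y (w m)) = 0 → y ∈ mon F w := fun y hy m e =>
    not_not.1 fun hc => one_zero h h9 hw (hw.map hy) (hw.dis hy hc) e
  obtain ⟨i, -⟩ := exists_ne_list ([] : List ι) (by rw [List.length_nil]; omega)
  obtain ⟨j, j1⟩ := exists_ne_list [i] (by simp; omega)
  obtain ⟨k, k1⟩ := exists_ne_list [i, j] (by simp; omega)
  obtain ⟨l, l1⟩ := exists_ne_list [i, j, k] (by simp; omega)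
  simp only [List.mem_cons, List.not_mem_nil, or_false, forall_eq_or_imp, forall_eq] at j1 k1 l1
  have hij := j1.symm
  have hkl := l1.2.2.symm
  obtain ⟨ζ, ξ, hζ, hξ, e1, -⟩ := hf.exists_sw_sw h hij hkl k1.1.symm l1.1.symm
    k1.2.symm l1.2.1.symm (hne i i) (hne j i) (hne k i) (hne l i) (map_zero _)
  obtain ⟨m, hm, -⟩ := hf.exists_fixed hw.frame (key _ (hu.le ⟨(mon F u).mul_mem (hf.sw_mem hij hζ)
    (hf.sw_mem hkl hξ), h.mem_EG (Φ.Iso.mul_mem (hf.sw_iso hij hζ h) (hf.sw_iso hkl hξ h))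
    (by rw [det_mul_equiv, hf.sw_det hij hζ, hf.sw_det hkl hξ]; ring)⟩) i e1) (t := 1)
    [i, j, k, l] [] (fun p hp y => by
      rw [mul_app, hf.B_sw hij hζ (hp i (by simp)) (hp j (by simp)),
        hf.B_sw hkl hξ (hp k (by simp)) (hp l (by simp)), one_mul]) (by simp; omega)
  have h1 := congrArg (Φ.B (u i)) hm
  have h2 := congrArg (Φ.B (u k)) hm
  simp only [mul_app, hf.sw_apply hij hζ, hf.sw_apply hkl hξ, Φ.bsimp, hf.one, hf.perp i j hij,
    hf.perp k l hkl, hf.perp _ _ k1.1, hf.perp _ _ k1.2, hf.perp _ _ k1.1.symm,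
    hf.perp _ _ k1.2.symm, hf.perp _ _ l1.1.symm, hf.perp _ _ l1.2.1.symm] at h1 h2
  have h3 : Φ.B (u i) (w m) = Φ.σ ζ * Φ.B (u j) (w m) := by linear_combination -h1
  have h4 : Φ.B (u k) (w m) = Φ.σ ξ * Φ.B (u l) (w m) := by linear_combination -h2
  have nj := mul_ne_zero (hne j m) (Φ.σ_ne (hne j m))
  have nl := mul_ne_zero (hne l m) (Φ.σ_ne (hne l m))
  obtain ⟨z, y, hz, hy, hz1, e2⟩ := exists_trace_pair Φ.invol h.card nj nl
    (r := 2 * (Φ.B (u j) (w m) * Φ.σ (Φ.B (u j) (w m))) +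
      2 * (Φ.B (u l) (w m) * Φ.σ (Φ.B (u l) (w m))) - 1)
    (by simp only [Φ.bsimp, map_ofNat]; ring) 1
  obtain ⟨p, hp, -⟩ := hf.exists_fixed hw.frame (key _ (hu.le ((mon F u ⊓ Φ.EG).mul_mem
    (hf.dd_mem (i := i) (j := j) hz h) (hf.dd_mem (i := k) (j := l) hy h))) m (by
      simp only [mul_app, hf.dd_apply hij hz, hf.dd_apply hkl hy, Φ.bsimp, hw.frame.one,
        hf.perp _ _ k1.1.symm, hf.perp _ _ k1.2.symm, hf.perp _ _ l1.1.symm,
        hf.perp _ _ l1.2.1.symm, h.symm (u _) (w m), h3, h4] at e2 ⊢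
      linear_combination e2 + (z - 1) * Φ.B (u j) (w m) * Φ.σ (Φ.B (u j) (w m)) * hζ +
        (y - 1) * Φ.B (u l) (w m) * Φ.σ (Φ.B (u l) (w m)) * hξ)) (t := 1)
    [i, j, k, l] [] (fun p hp y => by
      rw [mul_app, hf.B_dd hij hz (hp i (by simp)) (hp j (by simp)),
        hf.B_dd hkl hy (hp k (by simp)) (hp l (by simp)), one_mul]) (by simp; omega)
  have h5 := congrArg (Φ.B (u i)) hp
  rw [mul_app, hf.B_dd_fst hij hz, hf.B_dd hkl hy k1.1.symm l1.1.symm, one_smul] at h5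
  exact hz1 (mul_right_cancel₀ (hne i p) (h5.trans (one_mul _).symm))

end Blk

theorem IsU.EG_le_of_frame [Finite F] (h : Φ.IsU) (h9 : 9 ≤ Fintype.card ι) (hu : Φ.UFrame u)
    (h1 : mon F u ⊓ Φ.EG ≤ M) (h2 : M ≤ Φ.EG) {g : V ≃ₗ[F] V} (hg : g ∈ M) (hg' : g ∉ mon F u) :
    Φ.EG ≤ M := by
  by_contra hc
  have hB : Φ.Blk M u := ⟨hu, h1, h2.trans Φ.EG_le_Iso, fun x hx i j c e => not_not.1 fun hx' =>
    hc (h.EG_le_of_point hu (by omega) h1 h2 hx hx' e)⟩
  exact Blk.false_of_dis h h9 hB (hB.map hg) (hB.dis hg hg')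

theorem IsU.isMaximalIn_one [Finite F] (h : Φ.IsU) {D : ι → Submodule F V} (hD : Φ.ODec D)
    (h9 : 9 ≤ Fintype.card ι) (h1 : ∀ i, finrank F (D i) = 1) (hd : 4 ≤ finrank F V) :
    Geo.IsMaximalIn Φ.EG (Φ.HE D) := by
  have h2 : ∀ i, ∃ a ∈ D i, Φ.B a a = 1 := fun i => by
    obtain ⟨b, hb, hb0, -⟩ := h.exists_nonsing (hD.nd i) 0 (Or.inr ⟨hD.ne i, Submodule.zero_mem _⟩)
    obtain ⟨c, -, hc⟩ := h.exists_unit hb0
    exact ⟨_, (D i).smul_mem c hb, hc⟩
  choose u hu hu1 using h2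
  have h3 : ∀ i, ∀ x ∈ D i, ∃ c : F, x = c • u i := fun i x hx => by
    obtain ⟨c, hc⟩ := (finrank_eq_one_iff_of_nonzero' (⟨u i, hu i⟩ : D i) fun e => by
      simpa [show u i = 0 from congrArg Subtype.val e] using hu1 i).1 (h1 i) ⟨x, hx⟩
    exact ⟨c, (congrArg Subtype.val hc).symm⟩
  have hf : Φ.UFrame u := ⟨hu1, fun i j hij => hD.perp i j hij _ (hu i) _ (hu j), fun x hx =>
    hD.eq_zero_of_pr fun i => hD.pr_eq_zero_iff.2 fun y hy => by
      obtain ⟨c, rfl⟩ := h3 i y hy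
      rw [Φ.B_smul_left, hx, mul_zero]⟩
  have h4 : dstab D = mon F u := le_antisymm (fun g hg => hf.mem_mon fun i =>
      let ⟨j, hj⟩ := dstab_apply hg i; ⟨j, h3 j _ (hj _ (hu i))⟩)
    fun g ⟨σ, hσ⟩ => hD.mem_dstab fun i => ⟨σ i, fun x hx => by
      obtain ⟨c, rfl⟩ := h3 i x hx
      obtain ⟨d, -, e⟩ := hσ i
      rw [map_smul, e]
      exact (D _).smul_mem _ ((D _).smul_mem _ (hu _))⟩
  obtain ⟨i, -⟩ := exists_mem_ne_list (Finset.univ : Finset ι) []
    (by rw [List.length_nil, Finset.card_univ]; omega)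
  refine isMaximalIn_of inf_le_right (hD.exists_EG_not_dstab (i := i) (by rw [h.dim]; omega)
    (by rw [h.dim, h1]; omega)) fun M h5 h6 g hg hg' => ?_
  rw [HE, h4] at h5 hg'
  exact h.EG_le_of_frame h9 hf h5 h6 hg fun e => hg' ⟨e, h6 hg⟩

end Fm

theorem isU_fmUStd [Finite F] (n q : ℕ) [U.UF F q] : (fmUStd F n q).IsU where
  eps := rfl
  pi _ := rfl
  dim := rfl
  sl := (EG_fmUStd n q).ge
  det g hg := by
    obtain ⟨g, rfl⟩ := (glEquiv _ F).surjective g
    rw [glEquiv_toLinearMap, LinearMap.det_toLin']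
    exact U.Pres.det_mul_conj (q := q) fun x y => hg.1 y x
  norm _ ha := U.exists_norm_eq (q := q) ha
  card := by
    change Nat.card {a : F // U.conj F q a = a} < Nat.card {z : F // z * U.conj F q z = 1}
    rw [U.card_fixed, U.card_norm_fiber one_ne_zero (map_one _)]
    omega

theorem u_dstab_isMaximalIn [Fintype F] {n q : ℕ} (hF : Fintype.card F = q ^ 2) {t k : ℕ}
    {D : Fin t → Submodule F (Fin n → F)}
    (hD : Geo.IsNondegenerateMDecomposition (hermForm n F q) k D)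
    (hk : (k = 1 ∧ 9 ≤ n) ∨ (k = 2 ∧ q ≠ 2 ∧ 5 ≤ n) ∨ 3 ≤ k) :
    Geo.IsMaximalIn (GU n F q ⊓ Geo.specialLinear (Fin n) F)
      (Geo.decompositionStabilizer D ⊓ (GU n F q ⊓ Geo.specialLinear (Fin n) F)) := by
  classical
  have := U.UF.of_card hF
  have hU := isU_fmUStd (F := F) n q
  have hnd := fun i => nd_of_on (Φ := fmUStd F n q) (Or.inr fun _ _ => rfl) (hD.nondegenerate i)
  have hb : ∀ i, ∃ b : Basis (Fin k) F (D i), ∀ r s, (fmUStd F n q).B (b r) (b s) =
      if r = s then 1 else 0 := fun i => by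
    rw [← hD.decomp.finrank_eq i]
    exact exists_orthonormal_basis (B := (fmUStd F n q).B.domRestrict₁₂ (D i) (D i))
      (U.conj_ne_id F q) U.conj_conj ⟨fun x y => (hU.symm x.1 y.1).symm⟩
      fun x h => Subtype.ext (hnd i x.1 x.2 fun y hy => h ⟨y, hy⟩)
  have hO : (fmUStd F n q).ODec D := oDec_of (Or.inr fun _ _ => rfl) hD fun i j => by
    obtain ⟨b, hb1⟩ := hb i
    obtain ⟨b', hb2⟩ := hb j
    have h1 := sesq_eq_of_basis b ((fmUStd F n q).B.domRestrict₁₂ (D i) (D i))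
      ((fmUStd F n q).B.domRestrict₁₂ (D j) (D j)) (b.equiv b' (Equiv.refl _)).toLinearMap
      fun r s => by simp [LinearMap.domRestrict₁₂_apply, hb1, hb2]
    exact ⟨b.equiv b' (Equiv.refl _), h1, fun x => h1 x x⟩
  have h1 := finrank_of_isMDecomposition hD.decomp
  have h2 := hD.decomp.two_le
  have h3 := hD.decomp.finrank_eq
  have h6 : 2 * k ≤ t * k := Nat.mul_le_mul_right k h2
  have h7 : finrank F (Fin n → F) = n := by simp
  rw [Fintype.card_fin] at h1
  refine dstab_isMaximalIn_of (mem_SU_iff n q) ?_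
  by_cases hk1 : k = 1
  · subst hk1
    exact hU.isMaximalIn_one hO (by rw [Fintype.card_fin]; omega) h3 (by omega)
  refine hU.isMaximalIn_big hO (by omega) (i₀ := ⟨0, by omega⟩) (by rw [h3]; omega) ?_
  rw [h3, Fintype.card_fin]
  rcases hk with hk | ⟨rfl, hq, hn⟩ | hk
  · omega
  · have h4 := U.card_trace_fiber (F := F) (q := q) (map_zero _)
    have h5 := U.two_le_q F q
    rw [Nat.card_eq_fintype_card] at h4
    obtain ⟨c, hc⟩ := exists_ne_list [(⟨0, by simp⟩ : {t : F // t + U.conj F q t = 0})]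
      (by simp only [List.length_cons, List.length_nil]; omega)
    obtain ⟨c', hc'⟩ := exists_ne_list [⟨0, by simp⟩, c]
      (by simp only [List.length_cons, List.length_nil]; omega)
    simp only [List.mem_cons, List.not_mem_nil, or_false, forall_eq_or_imp, forall_eq] at hc hc'
    exact Or.inr ⟨le_rfl, by omega, c, c', c.2, c'.2, fun e => hc (Subtype.ext e),
      fun e => hc'.1 (Subtype.ext e), fun e => hc'.2 (Subtype.ext e.symm)⟩
  · exact Or.inl hk

end Cfsg.Agent.Class.Max
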