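import Mathlib
import Cfsg.Agent.Class.Max.C2U3

/-!
Class `C₂` for unitary groups: overgroups of the monomial group in small dimensions.
-/

set_option autoImplicit false

namespace Cfsg.Agent.Class.Max

open Module

variable {F V : Type*} [Field F] [AddCommGroup V] [Module F V] {ι : Type*}

namespace Fm

variable {Φ : Fm F V} {M N : Subgroup (V ≃ₗ[F] V)} {u w : ι → V}

namespace UFrame

variable (hu : Φ.UFrame u) {i j : ι} (hij : i ≠ j) {ζ : F} (hζ : ζ * Φ.σ ζ = 1)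
include hu hij hζ

theorem B_sw_fst (x : V) : Φ.B (u i) (Φ.sw u i j ζ x) = Φ.σ ζ * Φ.B (u j) x := by
  simp only [hu.sw_apply hij hζ, Φ.bsimp, hu.one, hu.perp i j hij]; ring

theorem B_sw_snd (x : V) : Φ.B (u j) (Φ.sw u i j ζ x) = ζ * Φ.B (u i) x := by
  simp only [hu.sw_apply hij hζ, Φ.bsimp, hu.one, hu.perp j i hij.symm]
  linear_combination (-Φ.B (u j) x) * hζ

end UFrame

namespace IsU

variable (h : Φ.IsU) [Finite F] [Fintype ι] (hu : Φ.UFrame u) (h1 : mon F u ⊓ Φ.Iso ≤ N)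
include h hu h1

/-- The endgame: an Eichler transformation whose centre has two zero coordinates. -/
theorem EG_le_of_zeros₂ {v x : V} (hv1 : v ≠ 0) {j k : ι} (hjk : j ≠ k)
    (hj : Φ.B (u j) v = 0) (hk : Φ.B (u k) v = 0)
    (hx : Φ.InA N v x) (hjx : Φ.B (u j) x ≠ 0) : Φ.EG ≤ N := by
  classical
  have hP := h.pt_frame hu h1
  have o1 : (1 : F) * Φ.σ 1 = 1 := by simp
  have swp : ∀ v i m, Φ.B (u i) v = 0 → Φ.B (u m) v = 0 → (∀ t : F, Φ.InA N v (t • u i)) →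
      ∀ t : F, Φ.InA N v (t • u m) := fun v i m hi hm H t => by
    by_cases him : i = m
    · exact him ▸ H t
    have := (H t).conj (h1 ⟨hu.sw_mem him o1, hu.sw_iso him o1 h⟩) (hu.sw_iso him o1 h)
    rwa [hu.sw_perp him o1 hi hm, map_smul, hu.sw_fst him o1, one_smul] at this
  have lam : ∀ v i, (∀ t : F, Φ.InA N v (t • u i)) → ∀ c, Φ.π c = 0 → Φ.HasE N v 0 c :=
    fun v i H c hc => by
      obtain ⟨t, rfl⟩ := h.exists_lam_eq hc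
      simpa [hu.one] using (H 1).comm (H t)
  have hv0 := hx.choose_spec.1.sing
  have Aj := h.inA_smul (hP j) hj hx hjx
  obtain ⟨i, hi⟩ : ∃ i, Φ.B (u i) v ≠ 0 := by
    by_contra hc
    push Not at hc
    exact hv1 (hu.span v hc)
  obtain ⟨ζ, hζ, hζ'⟩ := h.exists_mu
  have hζ1 : ζ - 1 ≠ 0 := sub_ne_zero.2 fun e => hζ' (by simp [e])
  obtain ⟨κ, hκ⟩ := h.norm (-1) (by simp)
  have hne : ∀ m, Φ.B (u m) v = 0 → i ≠ m := fun m hm e => hi (e ▸ hm)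
  have hI := h.hm_iso (hu.one i) hζ
  have A' : ∀ m, Φ.B (u m) v = 0 → ∀ t : F, Φ.InA N (Φ.hm (u i) ζ v) (t • u m) := fun m hm t => by
    have := (swp v j m hj hm Aj t).conj ((hP i).2 ζ hζ) hI
    rwa [map_smul, hm_perp (hu.one i) hζ (hu.perp i m (hne m hm))] at this
  have hvv : Φ.B (Φ.hm (u i) ζ v) v ≠ 0 := Φ.ne_symm (by
    simp only [hm_apply (hu.one i) hζ, Φ.bsimp, Φ.B_self hv0, zero_add]
    exact mul_ne_zero (mul_ne_zero hζ1 hi) (Φ.ne_symm hi))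
  have hv'0 : Φ.Q (Φ.hm (u i) ζ v) = 0 := by rw [Iso.Q hI, hv0]
  generalize Φ.hm (u i) ζ v = v' at A' hvv hv'0
  have hs0 : Φ.Q (u j + κ • u k) = 0 := by
    simp only [h.Q_eq, Φ.bsimp, hu.one, hu.perp j k hjk, hu.perp k j hjk.symm]
    linear_combination hκ
  have a1 := (A' j hj (Φ.B v' v)⁻¹).add (A' k hk ((Φ.B v' v)⁻¹ * κ))
  rw [mul_smul, ← smul_add] at a1
  have w1 := valid_zero hv'0 a1.perp (Φ.Q_smul_zero hs0 _)
  obtain ⟨m₁, hm₁, e₁⟩ := a1.hasE (lam v' j (A' j hj)) w1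
  obtain ⟨c, w2, m₂, hm₂, e₂⟩ := Aj 1
  have hm := N.mul_mem hm₂ hm₁
  have hmI := Φ.Iso.mul_mem (w2.mem_Iso e₂) (w1.mem_Iso e₁)
  have e₃ : (m₂ * m₁) v = u j + κ • u k := by
    simp only [mul_app, e₁, e₂, ef, Φ.bsimp, hj, hk, Φ.perp_symm hj, Φ.perp_symm hk, hu.one,
      hu.perp j k hjk, Φ.B_self hv0, h.eps]
    match_scalars <;> field_simp <;> ring
  have mem : ∀ y, Φ.B (u j + κ • u k) y = 0 →
      Φ.B (u k) (y - Φ.B (u j) y • (u j + κ • u k)) = 0 := fun y h3 => by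
    simp only [Φ.bsimp, hu.one, hu.perp k j hjk.symm] at h3 ⊢
    linear_combination Φ.B (u k) y * hκ - κ * h3
  have a2 := (Aj 1).conj hm hmI
  rw [e₃, one_smul] at a2
  obtain ⟨l, hlj, hlk, hl⟩ : ∃ l, l ≠ j ∧ l ≠ k ∧ Φ.B (u l) ((m₂ * m₁) (u j)) ≠ 0 := by
    by_contra hc
    push Not at hc
    have h3 : (m₂ * m₁) (u j) - Φ.B (u j) ((m₂ * m₁) (u j)) • (u j + κ • u k) = 0 :=
      hu.span _ fun l => by
        by_cases hlj : l = j
        · simp [hlj, hu.one, hu.perp j k hjk]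
        by_cases hlk : l = k
        · exact hlk ▸ mem _ a2.perp
        · rw [map_sub, hc l hlj hlk]
          simp [hu.perp l j hlj, hu.perp l k hlk]
    have h4 := Iso.Q hmI (u j)
    rw [sub_eq_zero.1 h3, Φ.Q_smul_zero hs0, h.Q_eq, hu.one] at h4
    exact zero_ne_one h4
  have As := h.inA_smul (hP l) (by simp [hu.perp l j hlj, hu.perp l k hlk]) a2 hl
  have hF : Φ.Full N (u j + κ • u k) := fun y c hy => by
    refine InA.hasE ?_ (lam _ l As) hy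
    have h4 := hu.sum (y - Φ.B (u j) y • (u j + κ • u k))
    rw [eq_sub_iff_add_eq] at h4
    rw [← h4]
    refine InA.add (Finset.sum_induction _ _ (fun _ _ => InA.add) (inA_zero hs0) fun m _ => ?_)
      (inA_smul_self hs0 _)
    by_cases hmj : m = j
    · convert inA_zero (M := N) hs0
      simp [hmj, hu.one, hu.perp j k hjk]
    by_cases hmk : m = k
    · convert inA_zero (M := N) hs0
      rw [hmk, mem y hy.perp, zero_smul]
    · exact swp _ l m (by simp [hu.perp l j hlj, hu.perp l k hlk])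
        (by simp [hu.perp m j hmj, hu.perp m k hmk]) As _
  have hI' := h.hm_iso (hu.one j) hζ
  refine EG_le_of_full hF (hF.conj ((hP j).2 ζ hζ) hI') hs0 (by rw [Iso.Q hI', hs0]) ?_
  rw [hm_apply (hu.one j) hζ, map_add, Φ.B_self hs0]
  simpa [hu.one, hu.perp j k hjk, hu.perp k j hjk.symm] using hζ1

theorem pt_union {a a' : V} (ha : Φ.Pt N a) (ha' : Φ.Pt N a') {m : ι} (h2 : Φ.B (u m) a ≠ 0)
    (h3 : Φ.B (u m) a' ≠ 0) : ∃ b, Φ.Pt N b ∧ Φ.B (u m) b ≠ 0 ∧ ∃ c : F, c ≠ 0 ∧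
      ∀ p, p ≠ m → Φ.B (u p) b = Φ.B (u p) a + c * Φ.B (u p) a' := by
  obtain ⟨z, hz, hz'⟩ := h.exists_mu
  have hz1 : z ≠ 1 := fun e => hz' (by simp [e])
  have hz2 : Φ.σ z ≠ 1 := fun e => hz1 (by rw [← Φ.invol z, e, map_one])
  obtain ⟨ξ, hξ, h4⟩ : ∃ ξ, ξ * Φ.σ ξ = 1 ∧ Φ.B (Φ.hm (u m) ξ a') a ≠ 0 := by
    by_contra hc
    push Not at hc
    have e1 := hc 1 (by simp)
    have e2 := hc z hz
    rw [hm_one (hu.one m)] at e1
    change Φ.B a' a = 0 at e1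
    simp only [hm_apply (hu.one m) hz, Φ.bsimp] at e2
    exact mul_ne_zero (mul_ne_zero (sub_ne_zero.2 hz2) (Φ.σ_ne h3)) h2
      (by linear_combination e2 - e1)
  have ha'' := ha'.map ((h.pt_frame hu h1 m).2 ξ hξ) (h.hm_iso (hu.one m) hξ)
  have e3 : ∀ p, p ≠ m → Φ.B (u p) (Φ.hm (u m) ξ a') = Φ.B (u p) a' := fun p hp =>
    hu.B_hm p m hξ hp _
  have e4 : Φ.B (u m) (Φ.hm (u m) ξ a') ≠ 0 := by
    rw [hu.B_hm_self m hξ]; exact mul_ne_zero (ne_zero_of_mu hξ) h3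
  generalize Φ.hm (u m) ξ a' = a'' at ha'' e3 e4 h4
  obtain ⟨ζ, hζ, hζ1, h5⟩ : ∃ ζ, ζ * Φ.σ ζ = 1 ∧ ζ ≠ 1 ∧ Φ.B (u m) (Φ.hm a'' ζ a) ≠ 0 := by
    by_contra hc
    push Not at hc
    have e1 := hc z hz hz1
    have e2 := hc _ (mu_conj hz) hz2
    simp only [hm_apply ha''.1 hz, hm_apply ha''.1 (mu_conj hz), Φ.bsimp] at e1 e2
    exact mul_ne_zero (mul_ne_zero (sub_ne_zero.2 hz') h4) e4 (by linear_combination e2 - e1)
  exact ⟨_, ha.map (ha''.2 ζ hζ) (h.hm_iso ha''.1 hζ), h5, _,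
    mul_ne_zero (sub_ne_zero.2 hζ1) h4, fun p hp => by
      rw [hm_apply ha''.1 hζ, map_add, Φ.B_smul_right, e3 p hp]⟩

omit [Finite F] in
theorem exists_pt_two (h2 : N ≤ Φ.Iso) {g : V ≃ₗ[F] V} (hg : g ∈ N) (hg' : g ∉ mon F u) :
    ∃ a, Φ.Pt N a ∧ 2 ≤ (Φ.spt u a).card := by
  by_contra hc
  push Not at hc
  exact hg' (hu.mem_mon fun i => hu.exists_eq_smul (g.map_ne_zero_iff.2 (hu.ne_zero i))
    (Nat.lt_succ_iff.1 (hc _ ((h.pt_frame hu h1 i).map hg (h2 hg)))))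

theorem exists_pt_three (h3 : 3 ≤ Fintype.card ι) {a : V} (ha : Φ.Pt N a)
    (h2 : 2 ≤ (Φ.spt u a).card) : ∃ b, Φ.Pt N b ∧ 3 ≤ (Φ.spt u b).card := by
  classical
  by_cases h4 : 3 ≤ (Φ.spt u a).card
  · exact ⟨a, ha, h4⟩
  have o1 : (1 : F) * Φ.σ 1 = 1 := by simp
  obtain ⟨i, hi, m, hm, him⟩ := Finset.one_lt_card.1 (show 1 < (Φ.spt u a).card by omega)
  obtain ⟨p, hp, -⟩ := exists_mem_ne_list (Φ.spt u a)ᶜ [] (by
    rw [Finset.card_compl, List.length_nil]; omega)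
  have hp' : ∀ x ∈ Φ.spt u a, x ≠ p := fun x hx e => Finset.mem_compl.1 hp (e ▸ hx)
  have hp0 : Φ.B (u p) a = 0 := not_not.1 fun e => hp' p (mem_spt.2 e) rfl
  have hI := hu.sw_iso (hp' i hi) o1 h
  obtain ⟨b, hb, b1, c, hc, b2⟩ := h.pt_union hu h1 ha (ha.map (h1 ⟨hu.sw_mem (hp' i hi) o1, hI⟩)
    hI) (mem_spt.1 hm) (by rw [hu.B_sw (hp' i hi) o1 him.symm (hp' m hm)]; exact mem_spt.1 hm)
  refine ⟨b, hb, le_trans (Finset.card_eq_three.2 ⟨i, m, p, him, hp' i hi, hp' m hm, rfl⟩).ge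
    (Finset.card_le_card fun x hx => mem_spt.2 ?_)⟩
  simp only [Finset.mem_insert, Finset.mem_singleton] at hx
  rcases hx with rfl | rfl | rfl
  · simpa [b2 x him, hu.B_sw_fst (hp' x hi) o1, hp0] using mem_spt.1 hi
  · exact b1
  · simpa [b2 x (hp' m hm).symm, hu.B_sw_snd (hp' i hi) o1, hp0, hc] using mem_spt.1 hi

/-- Five coordinates of some homology centre are nonzero. -/
theorem exists_pt_five (h6 : 6 ≤ Fintype.card ι) {a : V} (ha : Φ.Pt N a)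
    (h3 : 3 ≤ (Φ.spt u a).card) : ∃ b, Φ.Pt N b ∧ ∃ l : List ι, l.Nodup ∧ l.length = 5 ∧
      ∀ i ∈ l, Φ.B (u i) b ≠ 0 := by
  classical
  by_cases h4 : 5 ≤ (Φ.spt u a).card
  · obtain ⟨T, hT, cT⟩ := Finset.exists_subset_card_eq h4
    exact ⟨a, ha, T.toList, T.nodup_toList, by rw [Finset.length_toList, cT],
      fun i hi => mem_spt.1 (hT (Finset.mem_toList.1 hi))⟩
  have o1 : (1 : F) * Φ.σ 1 = 1 := by simp
  obtain ⟨i, j, m, hi, hj, hm, hij, him, hjm⟩ := Finset.two_lt_card_iff.1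
    (show 2 < (Φ.spt u a).card by omega)
  obtain ⟨p, hp, r, hr, hpr⟩ := Finset.one_lt_card.1 (show 1 < (Φ.spt u a)ᶜ.card by
    rw [Finset.card_compl]; omega)
  have hp' : ∀ x ∈ Φ.spt u a, x ≠ p := fun x hx e => Finset.mem_compl.1 hp (e ▸ hx)
  have hr' : ∀ x ∈ Φ.spt u a, x ≠ r := fun x hx e => Finset.mem_compl.1 hr (e ▸ hx)
  have hp0 : Φ.B (u p) a = 0 := not_not.1 fun e => hp' p (mem_spt.2 e) rfl
  have hr0 : Φ.B (u r) a = 0 := not_not.1 fun e => hr' r (mem_spt.2 e) rfl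
  have hI := Φ.Iso.mul_mem (hu.sw_iso (hp' i hi) o1 h) (hu.sw_iso (hr' j hj) o1 h)
  obtain ⟨b, hb, b1, c, hc, b2⟩ := h.pt_union hu h1 ha (ha.map (h1 ⟨(mon F u).mul_mem
    (hu.sw_mem (hp' i hi) o1) (hu.sw_mem (hr' j hj) o1), hI⟩) hI) (mem_spt.1 hm) (by
      rw [mul_app, hu.B_sw (hp' i hi) o1 him.symm (hp' m hm), hu.B_sw (hr' j hj) o1 hjm.symm
        (hr' m hm)]
      exact mem_spt.1 hm)
  refine ⟨b, hb, [i, j, m, p, r], by
    simp [hij, him, hjm, hpr, hp' i hi, hp' j hj, hp' m hm, hr' i hi, hr' j hj, hr' m hm], rfl,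
    fun x hx => ?_⟩
  simp only [List.mem_cons, List.not_mem_nil, or_false] at hx
  rcases hx with rfl | rfl | rfl | rfl | rfl
  · simpa [b2 x him, hu.B_sw_fst (hp' x hi) o1, hu.B_sw (hr' j hj) o1 (hp' j hj).symm hpr, hp0]
      using mem_spt.1 hi
  · simpa [b2 x hjm, hu.B_sw (hp' i hi) o1 hij.symm (hp' x hj), hu.B_sw_fst (hr' x hj) o1, hr0]
      using mem_spt.1 hj
  · exact b1
  · simpa [b2 x (hp' m hm).symm, hu.B_sw_snd (hp' i hi) o1, hu.B_sw (hr' j hj) o1 hij (hr' i hi),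
      hp0, hc] using mem_spt.1 hi
  · simpa [b2 x (hr' m hm).symm, hu.B_sw (hp' i hi) o1 (hr' i hi).symm hpr.symm,
      hu.B_sw_snd (hr' j hj) o1, hr0, hc] using mem_spt.1 hj

/-- A proper overgroup of the full monomial group contains the special unitary group. -/
theorem EG_le_of_mon₆ (h6 : 6 ≤ Fintype.card ι) (h2 : N ≤ Φ.Iso) {g : V ≃ₗ[F] V} (hg : g ∈ N)
    (hg' : g ∉ mon F u) : Φ.EG ≤ N := by
  classical
  obtain ⟨a, ha, h3⟩ := h.exists_pt_two hu h1 h2 hg hg'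
  obtain ⟨a, ha, h3⟩ := h.exists_pt_three hu h1 (by omega) ha h3
  obtain ⟨a, ha, L, h4, h5, h7⟩ := h.exists_pt_five hu h1 h6 ha h3
  match L, h5 with
  | [m, i, j, k, l], _ =>
  obtain ⟨p, p1⟩ := exists_ne_list [i, j, k, l, m] (by simp; omega)
  simp only [List.mem_cons, List.not_mem_nil, or_false, forall_eq_or_imp, forall_eq,
    List.nodup_cons, not_or] at p1 h4 h7
  obtain ⟨m1, ⟨hij, hik, hil⟩, ⟨hjk, hjl⟩, hkl, -⟩ := h4
  obtain ⟨ζ, ξ, hζ, hξ, e1, e2⟩ := hu.exists_sw_sw h hij hkl hik hil hjk hjl h7.2.1 h7.2.2.1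
    h7.2.2.2.1 h7.2.2.2.2 (map_one _)
  have hI := Φ.Iso.mul_mem (hu.sw_iso hij hζ h) (hu.sw_iso hkl hξ h)
  have ha' := ha.map (h1 ⟨(mon F u).mul_mem (hu.sw_mem hij hζ) (hu.sw_mem hkl hξ), hI⟩) hI
  have h0 : ∀ m, m ≠ i → m ≠ j → m ≠ k → m ≠ l →
      Φ.B (u m) (a - (Φ.sw u i j ζ * Φ.sw u k l ξ) a) = 0 := fun m n1 n2 n3 n4 => by
    rw [map_sub, mul_app, hu.B_sw hij hζ n1 n2, hu.B_sw hkl hξ n3 n4, sub_self]
  obtain ⟨z, hz, hz'⟩ := h.exists_mu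
  refine h.EG_le_of_zeros₂ hu h1 (sub_ne_zero.2 e2.symm) p1.2.2.2.2.symm
    (h0 m m1.1 m1.2.1 m1.2.2.1 m1.2.2.2) (h0 p p1.1 p1.2.1 p1.2.2.1 p1.2.2.2.1)
    (h.inA_of_pt ha ha' e1 hz) ?_
  rw [Φ.B_smul_right]
  exact mul_ne_zero (sub_ne_zero.2 fun e => hz' (by simp [e])) h7.1

omit h1 [Finite F] in
/-- An overgroup with a new element mapping a frame point to a frame point is everything. -/
theorem EG_le_of_point' [FiniteDimensional F V] (hA : ∀ N : Subgroup (V ≃ₗ[F] V),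
      mon F u ⊓ Φ.Iso ≤ N → N ≤ Φ.Iso → ∀ g ∈ N, g ∉ mon F u → Φ.EG ≤ N)
    (h1 : mon F u ⊓ Φ.EG ≤ M) (h2 : M ≤ Φ.EG)
    {g : V ≃ₗ[F] V} (hg : g ∈ M) (hg' : g ∉ mon F u) {i j : ι} {c : F} (hc : g (u i) = c • u j) :
    Φ.EG ≤ M := by
  have h2' := h2.trans Φ.EG_le_Iso
  have he := hu.one i
  have rel : ∀ m ∈ Φ.Iso, ∀ j (c : F), m (u i) = c • u j → Φ.Rel M (m (u i)) (u i) :=
    fun m hm j c e => by
      have h3 := Iso.B hm (u i) (u i)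
      simp only [e, Φ.bsimp, hu.one, mul_one] at h3
      rw [e]
      refine Rel.smul ⟨hu.one j, he, fun ζ hζ => ?_⟩ ((mul_comm c _).trans h3)
      rw [hm_inv he hζ]
      exact h1 (hu.dd_mem hζ h)
  let M₀ : Subgroup (V ≃ₗ[F] V) :=
    { carrier := {m | m ∈ M ∧ Φ.Rel M (m (u i)) (u i)}
      mul_mem' := fun ha hb => ⟨M.mul_mem ha.1 hb.1, (hb.2.conj ha.1 (h2' ha.1)).trans ha.2⟩
      one_mem' := ⟨M.one_mem, he, he, fun _ _ => by simp⟩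
      inv_mem' := fun ha => ⟨M.inv_mem ha.1, by
        simpa using (ha.2.conj (M.inv_mem ha.1) (h2' (M.inv_mem ha.1))).symm⟩ }
  have hy : ∀ m ∈ M₀, ∀ ζ, ζ * Φ.σ ζ = 1 → m⁻¹ * Φ.hm (u i) ζ * m * (Φ.hm (u i) ζ)⁻¹ ∈ M₀ :=
    fun m hm ζ hζ => by
      have h3 := (M₀.inv_mem hm).2
      have h4 := hm_conj he hζ (h2' (M.inv_mem hm.1))
      rw [inv_inv] at h4
      rw [h4]
      refine ⟨h3.2.2 ζ hζ, ?_⟩
      rw [mul_app, hm_inv he hζ, hm_self he (mu_conj hζ), map_smul]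
      exact ((h3.symm.hm h hζ).trans h3).smul (mu_conj hζ)
  let N : Subgroup (V ≃ₗ[F] V) :=
    { carrier := {x | ∃ m ∈ M₀, ∃ ζ, ζ * Φ.σ ζ = 1 ∧ x = m * Φ.hm (u i) ζ}
      mul_mem' := by
        rintro _ _ ⟨m, hm, ζ, hζ, rfl⟩ ⟨m', hm', ξ, hξ, rfl⟩
        refine ⟨_, M₀.mul_mem (M₀.mul_mem hm hm') (hy m' hm' ζ hζ), _, mu_mul hζ hξ, ?_⟩
        rw [← hm_mul he hζ hξ]
        group
      one_mem' := ⟨1, M₀.one_mem, 1, by simp, by rw [hm_one he, mul_one]⟩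
      inv_mem' := by
        rintro _ ⟨m, hm, ζ, hζ, rfl⟩
        refine ⟨_, M₀.mul_mem (M₀.inv_mem hm) (hy _ (M₀.inv_mem hm) _ (mu_conj hζ)), _,
          mu_conj hζ, ?_⟩
        rw [← hm_inv he hζ]
        group }
  have h3 : Φ.EG ≤ N := hA N (fun x hx => by
      obtain ⟨ζ, hζ, h3⟩ := h.exists_comp he hx.2
      have h4 := (mon F u).mul_mem hx.1 (hu.hm_mem i hζ)
      obtain ⟨c, -, h5⟩ := h4.choose_spec i
      exact ⟨_, ⟨h1 ⟨h4, h3⟩, rel _ (Φ.EG_le_Iso h3) _ c h5⟩, _, mu_conj hζ,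
        by rw [← hm_inv he hζ, mul_inv_cancel_right]⟩)
    (by rintro _ ⟨m, hm, ζ, hζ, rfl⟩; exact Φ.Iso.mul_mem (h2' hm.1) (h.hm_iso he hζ))
    g ⟨g, ⟨hg, rel g (h2' hg) j c hc⟩, 1, by simp, by rw [hm_one he, mul_one]⟩ hg'
  intro x hx
  obtain ⟨m, hm, ζ, hζ, rfl⟩ := h3 hx
  have h4 := mem_SLV.1 (Φ.EG_le_SLV hx)
  rw [det_mul_equiv, hm_det he hζ, mem_SLV.1 (Φ.EG_le_SLV (h2 hm.1)), one_mul] at h4
  rw [h4, hm_one he, mul_one]
  exact hm.1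

end IsU

end Fm

end Cfsg.Agent.Class.Max
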