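import Mathlib
import Cfsg.Agent.Class.Max.C2U4

/-!
Class `C₂` for unitary groups: the stabiliser of an orthonormal frame in dimension at least six.
-/

set_option autoImplicit false

namespace Cfsg.Agent.Class.Max

open Module

variable {F V : Type*} [Field F] [AddCommGroup V] [Module F V] {ι : Type*}

namespace Fm

variable {Φ : Fm F V} {M : Subgroup (V ≃ₗ[F] V)} {u w : ι → V} [FiniteDimensional F V] [Fintype ι]

namespace UFrame

open Classical in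
theorem card_moved_rank (hw : Φ.UFrame w) {x : V ≃ₗ[F] V} (hx : x ∈ mon F w) {t : F}
    (W : Submodule F V) (h : ∀ y, x y - t • y ∈ W) :
    (Finset.univ.filter fun j => x (w j) ≠ t • w j).card ≤ 2 * finrank F W := by
  obtain ⟨σ, hσ⟩ := hx
  have key : ∀ o : LinearOrder ι, (Finset.univ.filter fun j => x (w j) ≠ t • w j ∧
      o.le j (σ j)).card ≤ finrank F W := fun o => by
    refine card_le_finrank_of_tri W _ (fun j => x (w j) - t • w j) (fun j => Φ.B (w (σ j)))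
      (fun j _ => h _) (fun j hj => ?_) fun i _ j hj hij => ?_
    · obtain ⟨c, hc, e⟩ := hσ j
      by_cases h3 : σ j = j
      · have h4 := (Finset.mem_filter.1 hj).2.1
        rw [e, h3] at h4
        simpa [e, h3, hw.one, sub_eq_zero] using fun e' : c = t => h4 (by rw [e'])
      · simpa [e, hw.one, hw.perp _ _ h3] using hc
    · obtain ⟨c, -, e⟩ := hσ i
      simp [e, hw.perp _ _ (σ.injective.ne hij.ne'),
        hw.perp _ _ (hij.trans_le (Finset.mem_filter.1 hj).2.2).ne']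
  let o := LinearOrder.lift' _ (Fintype.equivFin ι).injective
  have h3 := key o
  have h4 := key (@OrderDual.instLinearOrder ι o)
  refine le_trans (Finset.card_le_card fun j hj => ?_) ((Finset.card_union_le _ _).trans
    ((add_le_add h3 h4).trans (two_mul _).ge))
  simp only [Finset.mem_union, Finset.mem_filter, Finset.mem_univ, true_and] at hj ⊢
  exact (o.le_total j (σ j)).imp (fun h => ⟨hj, h⟩) fun h => ⟨hj, h⟩

theorem exists_fixed_rank (hw : Φ.UFrame w) {x : V ≃ₗ[F] V} (hx : x ∈ mon F w) (a b : V)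
    (l : List ι) (h : ∀ y, ∃ α β : F, x y = y + α • a + β • b)
    (hc : 4 + l.length < Fintype.card ι) : ∃ j, x (w j) = w j ∧ ∀ i ∈ l, j ≠ i := by
  classical
  have h1 := hw.card_moved_rank hx (t := 1) (Submodule.span F (({a, b} : Finset V) : Set V))
    fun y => by
      obtain ⟨α, β, e⟩ := h y
      rw [e, one_smul, add_assoc, add_sub_cancel_left]
      exact Submodule.add_mem _ (Submodule.smul_mem _ _ (Submodule.subset_span (by simp)))
        (Submodule.smul_mem _ _ (Submodule.subset_span (by simp)))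
  have h2 : finrank F (Submodule.span F (({a, b} : Finset V) : Set V)) ≤ 2 :=
    (finrank_span_finset_le_card _).trans Finset.card_le_two
  obtain ⟨j, hj, hj'⟩ := exists_mem_ne_list (Finset.univ.filter fun j => x (w j) ≠ (1 : F) • w j)ᶜ l
    (by rw [Finset.card_compl]; convert (show _ < Fintype.card ι - _ from ?_); omega)
  exact ⟨j, by simpa using hj, hj'⟩

omit [FiniteDimensional F V] in
/-- The support of `u i` if a diagonal element is monomial for a second frame. -/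
theorem spt_le_of_dd (hu : Φ.UFrame u) (hw : Φ.UFrame w) {i j : ι} (hij : i ≠ j) {ζ : F}
    (hζ : ζ * Φ.σ ζ = 1) (hζ' : Φ.σ ζ ≠ ζ) (hx : Φ.dd u i j ζ ∈ mon F w) :
    (Φ.spt w (u i)).card ≤ 3 ∧ (1 + ζ + Φ.σ ζ ≠ 0 → (Φ.spt w (u i)).card ≤ 2) := by
  classical
  rcases (Φ.spt w (u i)).eq_empty_or_nonempty with h0 | ⟨k, hk⟩
  · simp [h0]
  obtain ⟨σ, hσ⟩ := hx
  have hζ1 : ζ - 1 ≠ 0 := sub_ne_zero.2 fun e => hζ' (by simp [e])
  have h1 := mul_ne_zero (mul_ne_zero hζ1 (sub_ne_zero.2 hζ'.symm)) (Φ.ne_symm (mem_spt.1 hk))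
  have e1 : Φ.dd u i j ζ (Φ.dd u i j ζ (w k)) - (1 + Φ.σ ζ) • Φ.dd u i j ζ (w k) + Φ.σ ζ • w k =
      ((ζ - 1) * (ζ - Φ.σ ζ) * Φ.B (u i) (w k)) • u i := by
    simp only [hu.dd_apply hij hζ, Φ.bsimp, hu.one, hu.perp i j hij, hu.perp j i hij.symm]
    module
  have e2 : Φ.dd u i j ζ (u i) = ζ • u i := by
    rw [hu.dd_apply hij hζ, hu.one, hu.perp j i hij.symm]; module
  obtain ⟨c₁, hc₁, a1⟩ := hσ k
  obtain ⟨c₂, -, a2⟩ := hσ (σ k)
  obtain ⟨c₃, -, a3⟩ := hσ (σ (σ k))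
  have hs : Φ.spt w (u i) ⊆ {k, σ k, σ (σ k)} := fun m hm => by
    by_contra hc
    simp only [Finset.mem_insert, Finset.mem_singleton, not_or] at hc
    have := congrArg (Φ.B (w m)) e1
    simp only [a1, map_smul, a2, Φ.bsimp, hw.perp _ _ hc.1, hw.perp _ _ hc.2.1,
      hw.perp _ _ hc.2.2] at this
    exact mul_ne_zero h1 (mem_spt.1 hm) (by linear_combination -this)
  refine ⟨(Finset.card_le_card hs).trans Finset.card_le_three, fun h2 => ?_⟩
  refine (Finset.card_le_card hs).trans ?_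
  by_cases h3 : σ k = k
  · simp [h3]
  by_cases h4 : σ (σ k) = k
  · rw [h4, Finset.pair_comm, Finset.insert_eq_of_mem (by simp)]; exact Finset.card_le_two
  have e3 := congrArg (Φ.dd u i j ζ) e1
  rw [map_smul (Φ.dd u i j ζ) _ (u i), e2, smul_comm, ← e1] at e3
  have := congrArg (Φ.B (w (σ k))) e3
  simp only [a1, map_smul, map_add, map_sub, a2, a3, hw.one, hw.perp _ _ h3,
    hw.perp _ _ (σ.injective.ne (Ne.symm h3)), hw.perp _ _ (σ.injective.ne (Ne.symm h4)),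
    smul_eq_mul] at this
  exact absurd (by linear_combination this - c₁ * hζ) (mul_ne_zero h2 hc₁)

end UFrame

variable (Φ ι) in
/-- No vector of a frame is perpendicular to two vectors of a different frame. -/
def Z2 (M : Subgroup (V ≃ₗ[F] V)) : Prop := ∀ u w : ι → V, Φ.Blk M u → Φ.Blk M w → Dis F u w →
  ∀ i j m, i ≠ j → Φ.B (u i) (w m) = 0 → Φ.B (u j) (w m) ≠ 0

variable (Φ ι) in
/-- No vector of a frame is perpendicular to a vector of a different frame. -/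
def Z1 (M : Subgroup (V ≃ₗ[F] V)) : Prop := ∀ u w : ι → V, Φ.Blk M u → Φ.Blk M w → Dis F u w →
  ∀ i m, Φ.B (u i) (w m) ≠ 0

namespace IsU

variable (h : Φ.IsU)
include h

theorem z2 {ζ : F} (hζ : ζ * Φ.σ ζ = 1) (hζ' : Φ.σ ζ ≠ ζ)
    (hn : 7 ≤ Fintype.card ι ∨ 5 ≤ Fintype.card ι ∧ 1 + ζ + Φ.σ ζ ≠ 0) : Φ.Z2 ι M := by
  classical
  intro u w hu hw hD i j m hij h1 h2
  have hζ1 : ζ - 1 ≠ 0 := sub_ne_zero.2 fun e => hζ' (by simp [e])
  have key : ∀ {u w : ι → V}, Φ.Blk M u → Φ.Blk M w → ∀ {i j m : ι}, i ≠ j →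
      Φ.B (u i) (w m) = 0 → Φ.B (u j) (w m) = 0 → Φ.dd u i j ζ ∈ mon F w ∧
      2 * (Φ.spt w (u i)).card < Fintype.card ι ∧ (Φ.spt w (u i)).card + 2 ≤ Fintype.card ι :=
    fun {u w} hu hw {i j m} hij h1 h2 => by
      have h3 := hw.pt _ (hu.le (hu.frame.dd_mem (i := i) (j := j) hζ h)) m m 1
        (by simp [hu.frame.dd_apply hij hζ, h1, h2])
      obtain ⟨h4, h5⟩ := hu.frame.spt_le_of_dd hw.frame hij hζ hζ' h3
      refine ⟨h3, ?_⟩
      rcases hn with hn | ⟨hn, hn'⟩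
      · omega
      · have := h5 hn'; omega
  have h3 := (key hu hw hij h1 h2).2
  have h4 := Finset.card_compl (Φ.spt w (u i))
  have mK : ∀ k ∈ (Φ.spt w (u i))ᶜ, Φ.B (w k) (u i) = 0 := fun k hk =>
    not_not.1 fun e => Finset.mem_compl.1 hk (mem_spt.2 e)
  obtain ⟨k, hk, l, hl, hkl⟩ := Finset.one_lt_card.1 (show 1 < (Φ.spt w (u i))ᶜ.card by omega)
  have h5 := (key hw hu hkl (mK k hk) (mK l hl)).2
  suffices (Φ.spt w (u i))ᶜ.card ≤ (Φ.spt u (w k)).card by omega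
  refine hu.frame.card_le_card hw.frame fun l hl p hp => not_not.1 fun hc => ?_
  have h6 : Φ.B (u p) (w k) = 0 := not_not.1 fun e => hp (mem_spt.2 e)
  have hlk : l ≠ k := fun e => hc (e ▸ h6)
  obtain ⟨σ, hσ⟩ := (key hw hu hlk (mK l hl) (mK k hk)).1
  obtain ⟨c, -, e⟩ := hσ p
  rw [hw.frame.dd_apply hlk hζ, Φ.perp_symm h6, mul_zero, zero_smul, add_zero] at e
  have h7 := mul_ne_zero hζ1 (Φ.ne_symm hc)
  by_cases h8 : σ p = p
  · refine hD l p (((ζ - 1) * Φ.B (w l) (u p))⁻¹ * (c - 1)) ?_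
    rw [mul_smul, eq_inv_smul_iff₀ h7, sub_smul, ← h8, ← e, h8]
    module
  · have e2 := congrArg (Φ.B (u p)) e
    simp only [Φ.bsimp, hu.frame.one, hu.frame.perp p _ (Ne.symm h8), h.symm (u p) (w l)] at e2
    have e3 := congrArg Φ.σ e2
    simp only [Φ.bsimp] at e3
    exact hζ' (mul_right_cancel₀ (mul_ne_zero (Φ.σ_ne hc) hc) (by linear_combination e3 - e2))

theorem z1_of_root (hZ : Φ.Z2 ι M) (h4 : 4 ≤ Fintype.card ι) {z : F} (hz : z * Φ.σ z = 1)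
    (hz' : z ^ finrank F V ≠ 1) : Φ.Z1 ι M := by
  intro u w hu hw hD n m h0
  have hf := hu.frame
  have hξ : Φ.σ z ^ finrank F V * Φ.σ (Φ.σ z ^ finrank F V) = 1 := by
    rw [map_pow, ← mul_pow, mu_conj hz, one_pow]
  let s := LinearEquiv.smulOfNeZero F V z (ne_zero_of_mu hz)
  have es : ∀ y, s y = z • y := fun _ => rfl
  have hx : s * Φ.hm (u n) (Φ.σ z ^ finrank F V) ∈ mon F u ⊓ Φ.EG :=
    ⟨(mon F u).mul_mem (hf.mem_mon fun i => ⟨i, z, rfl⟩) (hf.hm_mem n hξ), h.mem_EG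
      (Φ.Iso.mul_mem (h.mem_Iso fun x y => by
        simp only [es, Φ.bsimp]; linear_combination Φ.B x y * hz) (h.hm_iso (hf.one n) hξ)) (by
      rw [det_mul_equiv, hm_det (hf.one n) hξ, show (s : V →ₗ[F] V) = z • LinearMap.id from rfl,
        LinearMap.det_smul, LinearMap.det_id, mul_one, ← mul_pow, hz, one_pow])⟩
  have hx' := hw.pt _ (hu.le hx) m m z (by rw [mul_app, hm_perp (hf.one n) hξ h0, es])
  have h1 : ∀ m, (∀ i ∈ [n], m ≠ i) → ∀ y, Φ.B (u m) ((s * Φ.hm (u n) (Φ.σ z ^ finrank F V)) y) =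
      z * Φ.B (u m) y := fun m hm y => by
    rw [mul_app, es, Φ.B_smul_right, hf.B_hm m n hξ (hm n (by simp))]
  obtain ⟨j, hj, -⟩ := hf.exists_fixed hw.frame hx' [n] [] h1 (by simp; omega)
  obtain ⟨k, hk, hk'⟩ := hf.exists_fixed hw.frame hx' [n] [j] h1 (by simp; omega)
  have h3 : ∀ j, (s * Φ.hm (u n) (Φ.σ z ^ finrank F V)) (w j) = z • w j → Φ.B (w j) (u n) = 0 :=
    fun j hj => Φ.perp_symm (by
      have := congrArg (Φ.B (u n)) hj
      rw [mul_app, es, Φ.B_smul_right, hf.B_hm_self n hξ, Φ.B_smul_right] at this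
      refine not_not.1 fun e => hz' ?_
      have := congrArg Φ.σ (mul_right_cancel₀ e ((mul_left_cancel₀ (ne_zero_of_mu hz) this).trans
        (one_mul _).symm))
      simpa only [map_pow, Φ.invol, map_one] using this)
  exact hZ w u hw hu (hD.symm hf) k j n (hk' j (by simp)) (h3 k hk) (h3 j hj)

variable [Finite F]

theorem z1_of_odd (hZ : Φ.Z2 ι M) (h6 : 6 ≤ Fintype.card ι) (h2 : (2 : F) ≠ 0) : Φ.Z1 ι M := by
  classical
  by_cases hc : ∃ z, z * Φ.σ z = 1 ∧ z ^ finrank F V ≠ 1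
  · obtain ⟨z, hz, hz'⟩ := hc
    exact h.z1_of_root hZ (by omega) hz hz'
  push Not at hc
  intro u w hu hw hD n m h0
  have hf := hu.frame
  have hne : ∀ i, i ≠ n → Φ.B (u i) (w m) ≠ 0 := fun i hi => hZ u w hu hw hD n i m hi.symm h0
  obtain ⟨i, hi, j, hj, hij, e⟩ : ∃ i ∈ Finset.univ.erase n, ∃ j ∈ Finset.univ.erase n, i ≠ j ∧
      Φ.B (u i) (w m) * Φ.σ (Φ.B (u i) (w m)) = Φ.B (u j) (w m) * Φ.σ (Φ.B (u j) (w m)) := by
    have := Fintype.ofFinite F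
    have h1 := h.card
    rw [Nat.subtype_card (Finset.univ.filter fun a : F => Φ.σ a = a) (by simp),
      Nat.subtype_card (Finset.univ.filter fun z : F => z * Φ.σ z = 1) (by simp)] at h1
    have h2 : 0 < finrank F V := finrank_pos_iff_exists_ne_zero.2 ⟨_, hf.ne_zero n⟩
    have h3 : (Finset.univ.filter fun z : F => z * Φ.σ z = 1).card ≤ finrank F V :=
      (Finset.card_le_card (t := (Polynomial.nthRoots (finrank F V) (1 : F)).toFinset)
        fun z hz => by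
          rw [Multiset.mem_toFinset, Polynomial.mem_nthRoots h2]
          exact hc z (Finset.mem_filter.1 hz).2).trans
        ((Multiset.toFinset_card_le _).trans (Polynomial.card_nthRoots _ _))
    have h4 := hf.finrank_le
    refine Finset.exists_ne_map_eq_of_card_lt_of_maps_to
      (t := (Finset.univ.filter fun a : F => Φ.σ a = a).erase 0) ?_ fun i hi => ?_
    · rw [Finset.card_erase_of_mem (by simp), Finset.card_erase_of_mem (by simp), Finset.card_univ]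
      have : 0 < (Finset.univ.filter fun a : F => Φ.σ a = a).card :=
        Finset.card_pos.2 ⟨0, by simp⟩
      omega
    · have := hne i (Finset.ne_of_mem_erase hi)
      simp [this, Φ.invol, mul_comm]
  have hin := Finset.ne_of_mem_erase hi
  have hjn := Finset.ne_of_mem_erase hj
  have hi0 := hne i hin
  have hi1 := Φ.σ_ne hi0
  obtain ⟨ζ, eζ⟩ : ∃ ζ, Φ.B (u j) (w m) = ζ * Φ.B (u i) (w m) := ⟨_, (div_mul_cancel₀ _ hi0).symm⟩
  have hζ : ζ * Φ.σ ζ = 1 := mul_right_cancel₀ (mul_ne_zero hi0 hi1) (by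
    rw [eζ, map_mul] at e; linear_combination -e)
  have hr : Φ.sw u i j ζ (w m) = w m := by
    rw [hf.sw_apply hij hζ, eζ, ← mul_assoc, mul_comm _ ζ, hζ]; simp
  have hξ : (-1 : F) * Φ.σ (-1) = 1 := by simp
  have hx := hw.pt _ (hu.le ⟨(mon F u).mul_mem (hf.sw_mem hij hζ) (hf.hm_mem n hξ), h.mem_EG
    (Φ.Iso.mul_mem (hf.sw_iso hij hζ h) (h.hm_iso (hf.one n) hξ))
    (by rw [det_mul_equiv, hf.sw_det hij hζ, hm_det (hf.one n) hξ]; ring)⟩) m m 1
    (by rw [mul_app, hm_perp (hf.one n) hξ h0, hr, one_smul])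
  have h1 : ∀ y, ∃ α β : F, (Φ.sw u i j ζ * Φ.hm (u n) (-1)) y =
      y + α • (u i - ζ • u j) + β • u n := fun y => ⟨_, _, by
    rw [mul_app, hf.sw_apply hij hζ, hm_apply (hf.one n) hξ, sub_eq_add_neg, ← neg_smul,
      add_right_comm]⟩
  obtain ⟨k, hk, -⟩ := hw.frame.exists_fixed_rank hx _ _ [] h1 (by simp; omega)
  obtain ⟨l, hl, hl'⟩ := hw.frame.exists_fixed_rank hx _ _ [k] h1 (by simp; omega)
  have h3 : ∀ k, (Φ.sw u i j ζ * Φ.hm (u n) (-1)) (w k) = w k → Φ.B (w k) (u n) = 0 :=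
    fun k hk => Φ.perp_symm (by
      have := congrArg (Φ.B (u n)) hk
      rw [mul_app, hf.B_sw hij hζ hin.symm hjn.symm, hf.B_hm_self n hξ] at this
      exact (mul_eq_zero.1 (show 2 * Φ.B (u n) (w k) = 0 by linear_combination -this)).resolve_left
        h2)
  exact hZ w u hw hu (hD.symm hf) l k n (hl' k (by simp)) (h3 l hl) (h3 k hk)

omit [Finite F] in
theorem exists_sw_sw_mem (hZ : Φ.Z1 ι M) (hu : Φ.Blk M u) (hw : Φ.Blk M w) {i j k l : ι}
    (hij : i ≠ j) (hkl : k ≠ l) {ζ ξ : F} (hζ : ζ * Φ.σ ζ = 1) (hξ : ξ * Φ.σ ξ = 1) {m : ι}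
    (e : Φ.B (w m) ((Φ.sw u i j ζ * Φ.sw u k l ξ) (w m)) = 0) :
    Φ.sw u i j ζ * Φ.sw u k l ξ ∈ mon F w := by
  have hf := hu.frame
  have hy := hu.le ⟨(mon F u).mul_mem (hf.sw_mem hij hζ) (hf.sw_mem hkl hξ),
    h.mem_EG (Φ.Iso.mul_mem (hf.sw_iso hij hζ h) (hf.sw_iso hkl hξ h))
    (by rw [det_mul_equiv, hf.sw_det hij hζ, hf.sw_det hkl hξ]; ring)⟩
  exact not_not.1 fun hc => hZ _ _ hw (hw.map hy) (hw.dis hy hc) m m e

theorem false_of_z1 (hZ : Φ.Z1 ι M) (h6 : 6 ≤ Fintype.card ι) (hu : Φ.Blk M u) (hw : Φ.Blk M w)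
    (hD : Dis F u w) : False := by
  classical
  have hf := hu.frame
  have hne := hZ u w hu hw hD
  have ex : ∀ {i j k l : ι}, i ≠ j → k ≠ l → i ≠ k → i ≠ l → j ≠ k → j ≠ l → ∀ m, ∃ ζ ξ,
      ζ * Φ.σ ζ = 1 ∧ ξ * Φ.σ ξ = 1 ∧ Φ.B (w m) ((Φ.sw u i j ζ * Φ.sw u k l ξ) (w m)) = 0 ∧
      Φ.sw u i j ζ * Φ.sw u k l ξ ∈ mon F w := fun {i j k l} hij hkl hik hil hjk hjl m => by
    obtain ⟨ζ, ξ, hζ, hξ, e, -⟩ := hf.exists_sw_sw h hij hkl hik hil hjk hjl (hne i m) (hne j m)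
      (hne k m) (hne l m) (map_zero _)
    exact ⟨ζ, ξ, hζ, hξ, e, h.exists_sw_sw_mem hZ hu hw hij hkl hζ hξ e⟩
  have C : ∀ x ∈ mon F w, ∀ d : ι → F, (∀ m y, Φ.B (u m) (x y) = d m * Φ.B (u m) y) →
      ∀ {i j k l : ι}, i ≠ j → k ≠ l → i ≠ k → i ≠ l → j ≠ k → j ≠ l → d k = d l → d i = d j :=
    fun x hx d hd {i j k l} hij hkl hik hil hjk hjl e => by
      obtain ⟨ζ, ξ, hζ, hξ, -, hy⟩ := ex hij hkl hik hil hjk hjl i
      have hd' : ∀ m y, d m * Φ.B (u m) (x⁻¹ y) = Φ.B (u m) y := fun m y => by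
        rw [← hd, app_inv_app]
      have hz := (mon F w).mul_mem ((mon F w).mul_mem ((mon F w).mul_mem hx hy)
        ((mon F w).inv_mem hx)) hy
      obtain ⟨p, hp, -⟩ := hf.exists_fixed hw.frame hz (t := 1) [i, j] [] (fun m hm y => by
        have h1 := hm i (by simp)
        have h2 := hm j (by simp)
        simp only [mul_app, hd, hf.B_sw hij hζ h1 h2, one_mul]
        by_cases h3 : m = k
        · subst h3
          rw [hf.B_sw_fst hkl hξ, e, mul_left_comm, hd', hf.B_sw hij hζ hil.symm hjl.symm,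
            hf.B_sw_snd hkl hξ, ← mul_assoc, mul_comm _ ξ, hξ, one_mul]
        by_cases h4 : m = l
        · subst h4
          rw [hf.B_sw_snd hkl hξ, ← e, mul_left_comm, hd', hf.B_sw hij hζ hik.symm hjk.symm,
            hf.B_sw_fst hkl hξ, ← mul_assoc, hξ, one_mul]
        · rw [hf.B_sw hkl hξ h3 h4, hd', hf.B_sw hij hζ h1 h2, hf.B_sw hkl hξ h3 h4])
        (by simp; omega)
      have h1 := congrArg (fun y => d j * Φ.B (u i) y) hp
      simp only [mul_app, hd, hf.B_sw_fst hij hζ, hf.B_sw hkl hξ hjk hjl, one_smul] at h1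
      rw [mul_left_comm, mul_left_comm (d j), hd', hf.B_sw_snd hij hζ, hf.B_sw hkl hξ hik hil] at h1
      exact mul_right_cancel₀ (hne i p) (by linear_combination h1 - d i * Φ.B (u i) (w p) * hζ)
  obtain ⟨i, -⟩ := exists_ne_list ([] : List ι) (by rw [List.length_nil]; omega)
  obtain ⟨j, j1⟩ := exists_ne_list [i] (by simp; omega)
  obtain ⟨k, k1⟩ := exists_ne_list [i, j] (by simp; omega)
  obtain ⟨l, l1⟩ := exists_ne_list [i, j, k] (by simp; omega)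
  obtain ⟨r, r1⟩ := exists_ne_list [i, j, k, l] (by simp; omega)
  obtain ⟨s, s1⟩ := exists_ne_list [i, j, k, l, r] (by simp; omega)
  simp only [List.mem_cons, List.not_mem_nil, or_false, forall_eq_or_imp, forall_eq]
    at j1 k1 l1 r1 s1
  have hij := j1.symm
  have hkl := l1.2.2.symm
  obtain ⟨hik, hjk⟩ := k1
  obtain ⟨hil, hjl, -⟩ := l1
  obtain ⟨ζ, ξ, hζ, hξ, -, hy⟩ := ex hij hkl hik.symm hil.symm hjk.symm hjl.symm i
  obtain ⟨p, hp, -⟩ := hw.frame.exists_fixed_rank hy (u i - ζ • u j) (u k - ξ • u l) []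
    (fun y => ⟨_, _, by
      rw [mul_app, hf.sw_apply hij hζ, hf.sw_apply hkl hξ, sub_eq_add_neg, sub_eq_add_neg y,
        ← neg_smul, ← neg_smul, add_right_comm]⟩) (by simp; omega)
  obtain ⟨ζ', ξ', hζ', hξ', e', hy'⟩ := ex hij hkl hik.symm hil.symm hjk.symm hjl.symm p
  have h0 : ∀ m, m ≠ i → m ≠ j → m ≠ k → m ≠ l → ∀ y, Φ.B (u m) ((Φ.sw u i j ζ * Φ.sw u k l ξ *
      (Φ.sw u i j ζ' * Φ.sw u k l ξ')) y) = 1 * Φ.B (u m) y := fun m n1 n2 n3 n4 y => by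
    simp only [mul_app, hf.B_sw hij hζ n1 n2, hf.B_sw hkl hξ n3 n4, hf.B_sw hij hζ' n1 n2,
      hf.B_sw hkl hξ' n3 n4, one_mul]
  have h1 : ∀ m, ∃ c, ∀ y, Φ.B (u m) ((Φ.sw u i j ζ * Φ.sw u k l ξ *
      (Φ.sw u i j ζ' * Φ.sw u k l ξ')) y) = c * Φ.B (u m) y := fun m => by
    by_cases n1 : m = i
    · exact ⟨Φ.σ ζ * ζ', fun y => by
        simp only [n1, mul_app, hf.B_sw_fst hij hζ, hf.B_sw hkl hξ hjk.symm hjl.symm,
          hf.B_sw_snd hij hζ', hf.B_sw hkl hξ' hik.symm hil.symm, ← mul_assoc]⟩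
    by_cases n2 : m = j
    · exact ⟨ζ * Φ.σ ζ', fun y => by
        simp only [n2, mul_app, hf.B_sw_snd hij hζ, hf.B_sw hkl hξ hik.symm hil.symm,
          hf.B_sw_fst hij hζ', hf.B_sw hkl hξ' hjk.symm hjl.symm, ← mul_assoc]⟩
    by_cases n3 : m = k
    · exact ⟨Φ.σ ξ * ξ', fun y => by
        simp only [n3, mul_app, hf.B_sw hij hζ hik hjk, hf.B_sw_fst hkl hξ, hf.B_sw hij hζ' hil hjl,
          hf.B_sw_snd hkl hξ', ← mul_assoc]⟩
    by_cases n4 : m = l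
    · exact ⟨ξ * Φ.σ ξ', fun y => by
        simp only [n4, mul_app, hf.B_sw hij hζ hil hjl, hf.B_sw_snd hkl hξ, hf.B_sw hij hζ' hik hjk,
          hf.B_sw_fst hkl hξ', ← mul_assoc]⟩
    · exact ⟨1, h0 m n1 n2 n3 n4⟩
  choose d hd using h1
  have h2 : ∀ m, m ≠ i → m ≠ j → m ≠ k → m ≠ l → d m = 1 := fun m n1 n2 n3 n4 => by
    simpa [hf.one] using (hd m (u m)).symm.trans (h0 m n1 n2 n3 n4 (u m))
  have C' := @C _ ((mon F w).mul_mem hy hy') d hd
  have dr := h2 r r1.1 r1.2.1 r1.2.2.1 r1.2.2.2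
  have ds := dr.trans (h2 s s1.1 s1.2.1 s1.2.2.1 s1.2.2.2.1).symm
  have d1 := C' hij s1.2.2.2.2.symm r1.1.symm s1.1.symm r1.2.1.symm s1.2.1.symm ds
  have d2 := C' hik.symm s1.2.2.2.2.symm r1.1.symm s1.1.symm r1.2.2.1.symm s1.2.2.1.symm ds
  have d3 := C' hil.symm s1.2.2.2.2.symm r1.1.symm s1.1.symm r1.2.2.2.symm s1.2.2.2.1.symm ds
  have d4 := (C' r1.1.symm hjk.symm hij hik.symm r1.2.1 r1.2.2.1 (d1.symm.trans d2)).trans dr
  have h3 : ∀ m, d m = 1 := fun m => by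
    by_cases n1 : m = i
    · rw [n1, d4]
    by_cases n2 : m = j
    · rw [n2, ← d1, d4]
    by_cases n3 : m = k
    · rw [n3, ← d2, d4]
    by_cases n4 : m = l
    · rw [n4, ← d3, d4]
    · exact h2 m n1 n2 n3 n4
  have h4 := hf.ext fun m => (hd m (w p)).trans (by rw [h3, one_mul])
  rw [mul_app, ← hp, EmbeddingLike.apply_eq_iff_eq, hp] at h4
  rw [h4, hw.frame.one] at e'
  exact one_ne_zero e'

omit [Finite F] in
theorem isMaximalIn_one' {D : ι → Submodule F V} (hD : Φ.ODec D) (h1 : ∀ i, finrank F (D i) = 1)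
    (hd : 4 ≤ finrank F V) [Finite F] (hA : ∀ u : ι → V, Φ.UFrame u → ∀ N : Subgroup (V ≃ₗ[F] V),
      mon F u ⊓ Φ.Iso ≤ N → N ≤ Φ.Iso → ∀ g ∈ N, g ∉ mon F u → Φ.EG ≤ N)
    (hB : ∀ (M : Subgroup (V ≃ₗ[F] V)) (u w : ι → V), Φ.Blk M u → Φ.Blk M w → ¬ Dis F u w) :
    Geo.IsMaximalIn Φ.EG (Φ.HE D) := by
  have h2 : ∀ i, ∃ a ∈ D i, Φ.B a a = 1 := fun i => by
    obtain ⟨b, hb, hb0, -⟩ := h.exists_nonsing (hD.nd i) 0 (Or.inr ⟨hD.ne i, Submodule.zero_mem _⟩)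
    obtain ⟨c, -, hc⟩ := h.exists_unit hb0
    exact ⟨_, (D i).smul_mem c hb, hc⟩
  choose u hu hu1 using h2
  have h3 : ∀ i, ∀ x ∈ D i, ∃ c : F, x = c • u i := fun i x hx => by
    obtain ⟨c, hc⟩ := (finrank_eq_one_iff_of_nonzero' (⟨u i, hu i⟩ : D i) fun e => by
      simpa [show u i = 0 from congrArg Subtype.val e] using hu1 i).1 (h1 i) ⟨x, hx⟩
    exact ⟨c, (congrArg Subtype.val hc).symm⟩
  have hf : Φ.UFrame u := ⟨hu1, fun i j hij => hD.perp i j hij _ (hu i) _ (hu j), fun x hx =>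
    hD.eq_zero_of_pr fun i => hD.pr_eq_zero_iff.2 fun y hy => by
      obtain ⟨c, rfl⟩ := h3 i y hy
      rw [Φ.B_smul_left, hx, mul_zero]⟩
  have h4 : dstab D = mon F u := le_antisymm (fun g hg => hf.mem_mon fun i =>
      let ⟨j, hj⟩ := dstab_apply hg i; ⟨j, h3 j _ (hj _ (hu i))⟩)
    fun g ⟨σ, hσ⟩ => hD.mem_dstab fun i => ⟨σ i, fun x hx => by
      obtain ⟨c, rfl⟩ := h3 i x hx
      obtain ⟨d, -, e⟩ := hσ i
      rw [map_smul, e]
      exact (D _).smul_mem _ ((D _).smul_mem _ (hu _))⟩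
  have h7 := hf.finrank_le
  obtain ⟨i, -⟩ := exists_mem_ne_list (Finset.univ : Finset ι) []
    (by rw [List.length_nil, Finset.card_univ]; omega)
  refine isMaximalIn_of inf_le_right (hD.exists_EG_not_dstab (i := i) (by rw [h.dim]; omega)
    (by rw [h.dim, h1]; omega)) fun M h5 h6 g hg hg' => ?_
  rw [HE, h4] at h5 hg'
  by_contra hc
  have hg'' : g ∉ mon F u := fun e => hg' ⟨e, h6 hg⟩
  have hb : Φ.Blk M u := ⟨hf, h5, h6.trans Φ.EG_le_Iso, fun x hx i j c e => not_not.1 fun hx' =>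
    hc (h.EG_le_of_point' hf (hA u hf) h5 h6 hx hx' e)⟩
  exact hB M _ _ hb (hb.map hg) (hb.dis hg hg'')

omit [FiniteDimensional F V] [Fintype ι] in
theorem exists_mu_three (hc : 4 ≤ Nat.card {z : F // z * Φ.σ z = 1}) :
    ∃ ζ, ζ * Φ.σ ζ = 1 ∧ Φ.σ ζ ≠ ζ ∧ 1 + ζ + Φ.σ ζ ≠ 0 := by
  classical
  have := Fintype.ofFinite F
  by_contra hn
  push Not at hn
  obtain ⟨ζ, hζ, h1⟩ := h.exists_mu
  have h2 := hn ζ hζ h1
  rw [Nat.card_eq_fintype_card] at hc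
  obtain ⟨⟨ξ, hξ⟩, h3⟩ := exists_ne_list [(⟨1, by simp⟩ : {z : F // z * Φ.σ z = 1}), ⟨ζ, hζ⟩,
    ⟨_, mu_conj hζ⟩] (by simp only [List.length_cons, List.length_nil]; omega)
  simp only [List.mem_cons, List.not_mem_nil, or_false, forall_eq_or_imp, forall_eq, ne_eq,
    Subtype.mk.injEq] at h3
  by_cases h4 : Φ.σ ξ = ξ
  · have h5 := hn (-ζ) (by simpa using hζ) (by simpa using h1)
    rw [h4] at hξ
    rw [map_neg] at h5
    exact h3.1 (sub_eq_zero.1 (pow_eq_zero_iff two_ne_zero |>.1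
      (by linear_combination hξ + (1 - ξ) * (h2 + h5))))
  · exact mul_ne_zero (sub_ne_zero.2 h3.2.1) (sub_ne_zero.2 h3.2.2)
      (by linear_combination ξ * hn ξ hξ h4 - hξ - ξ * h2 + hζ)

theorem isMaximalIn_six {D : ι → Submodule F V} (hD : Φ.ODec D) (h1 : ∀ i, finrank F (D i) = 1)
    (hn : finrank F V = Fintype.card ι) (h6 : Fintype.card ι = 6 ∧
      4 ≤ Nat.card {z : F // z * Φ.σ z = 1} ∨ Fintype.card ι = 8) :
    Geo.IsMaximalIn Φ.EG (Φ.HE D) := by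
  refine h.isMaximalIn_one' hD h1 (by omega) (fun u hu N h2 h3 g hg hg' =>
    h.EG_le_of_mon₆ hu h2 (by omega) h3 hg hg') fun M u w hu hw hD => ?_
  obtain ⟨ζ, hζ, h2, h3⟩ : ∃ ζ, ζ * Φ.σ ζ = 1 ∧ Φ.σ ζ ≠ ζ ∧
      (Fintype.card ι = 8 ∨ Fintype.card ι = 6 ∧ 1 + ζ + Φ.σ ζ ≠ 0) := by
    rcases h6 with ⟨h6, hc⟩ | h6
    · obtain ⟨ζ, hζ, h2, h3⟩ := h.exists_mu_three hc
      exact ⟨ζ, hζ, h2, Or.inr ⟨h6, h3⟩⟩
    · obtain ⟨ζ, hζ, h2⟩ := h.exists_mu
      exact ⟨ζ, hζ, h2, Or.inl h6⟩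
  have hZ : Φ.Z2 ι M := h.z2 hζ h2 (h3.imp (fun e => by omega) fun e => ⟨by omega, e.2⟩)
  refine h.false_of_z1 ?_ (by omega) hu hw hD
  by_cases h4 : (2 : F) = 0
  swap
  · exact h.z1_of_odd hZ (by omega) h4
  refine h.z1_of_root hZ (by omega) hζ fun e => ?_
  have hζ1 : ζ - 1 ≠ 0 := sub_ne_zero.2 fun e => h2 (by simp [e])
  rcases h3 with h3 | ⟨h3, h5⟩
  · rw [hn, h3] at e
    exact pow_ne_zero 8 hζ1 (by
      linear_combination e + (-4 * ζ ^ 7 + 14 * ζ ^ 6 - 28 * ζ ^ 5 + 35 * ζ ^ 4 - 28 * ζ ^ 3 +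
        14 * ζ ^ 2 - 4 * ζ + 1) * h4)
  · rw [hn, h3] at e
    exact pow_ne_zero 2 (mul_ne_zero (mul_ne_zero hζ1 h5) (ne_zero_of_mu hζ)) (by
      linear_combination e + (1 - ζ ^ 3) * h4 + (ζ - 1) ^ 2 * (ζ * Φ.σ ζ + 1 + 2 * ζ + 2 * ζ ^ 2) * hζ)

end IsU

end Fm

theorem u_oDec_of [Fintype F] {n q : ℕ} [U.UF F q] {t k : ℕ}
    {D : Fin t → Submodule F (Fin n → F)}
    (hD : Geo.IsNondegenerateMDecomposition (hermForm n F q) k D) : (fmUStd F n q).ODec D := by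
  classical
  have hU := isU_fmUStd (F := F) n q
  have hnd := fun i => nd_of_on (Φ := fmUStd F n q) (Or.inr fun _ _ => rfl) (hD.nondegenerate i)
  have hb : ∀ i, ∃ b : Basis (Fin k) F (D i), ∀ r s, (fmUStd F n q).B (b r) (b s) =
      if r = s then 1 else 0 := fun i => by
    rw [← hD.decomp.finrank_eq i]
    exact exists_orthonormal_basis (B := (fmUStd F n q).B.domRestrict₁₂ (D i) (D i))
      (U.conj_ne_id F q) U.conj_conj ⟨fun x y => (hU.symm x.1 y.1).symm⟩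
      fun x h => Subtype.ext (hnd i x.1 x.2 fun y hy => h ⟨y, hy⟩)
  refine oDec_of (Or.inr fun _ _ => rfl) hD fun i j => ?_
  obtain ⟨b, hb1⟩ := hb i
  obtain ⟨b', hb2⟩ := hb j
  have h1 := sesq_eq_of_basis b ((fmUStd F n q).B.domRestrict₁₂ (D i) (D i))
    ((fmUStd F n q).B.domRestrict₁₂ (D j) (D j)) (b.equiv b' (Equiv.refl _)).toLinearMap
    fun r s => by simp [LinearMap.domRestrict₁₂_apply, hb1, hb2]
  exact ⟨b.equiv b' (Equiv.refl _), h1, fun x => h1 x x⟩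

/-- The stabiliser of an orthonormal frame in dimensions `6` and `8`. -/
theorem u_dstab_isMaximalIn_one [Fintype F] {n q : ℕ} (hF : Fintype.card F = q ^ 2) {t : ℕ}
    {D : Fin t → Submodule F (Fin n → F)}
    (hD : Geo.IsNondegenerateMDecomposition (hermForm n F q) 1 D)
    (hn : (n = 6 ∧ 3 ≤ q) ∨ n = 8) :
    Geo.IsMaximalIn (GU n F q ⊓ Geo.specialLinear (Fin n) F)
      (Geo.decompositionStabilizer D ⊓ (GU n F q ⊓ Geo.specialLinear (Fin n) F)) := by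
  have := U.UF.of_card hF
  have h1 := finrank_of_isMDecomposition hD.decomp
  rw [Fintype.card_fin, mul_one] at h1
  refine dstab_isMaximalIn_of (mem_SU_iff n q) ((isU_fmUStd n q).isMaximalIn_six (u_oDec_of hD)
    hD.decomp.finrank_eq (by simp [h1]) ?_)
  rw [Fintype.card_fin]
  refine hn.imp (fun e => ⟨by omega, ?_⟩) fun e => by omega
  change 4 ≤ Nat.card {z : F // z * U.conj F q z = 1}
  rw [U.card_norm_fiber one_ne_zero (map_one _)]
  omega

end Cfsg.Agent.Class.Max
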