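import Mathlib
import Cfsg.Agent.Class.Max.Lin

/-!
Tools for overgroups of extension-field and tensor-product subgroups: the maximal intersection
lemma, semilinear groups, points over an extension field, subring lemmas for finite fields.
-/

set_option autoImplicit false
set_option linter.unusedSectionVars false

namespace Cfsg.Agent.Class.Max

open Module

section MaxInt

variable {F V : Type*} [Field F] [AddCommGroup V] [Module F V]

theorem mem_map_iff_inv {g : V ≃ₗ[F] V} {Y : Submodule F V} {y : V} :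
    y ∈ Y.map (g : V →ₗ[F] V) ↔ g⁻¹ y ∈ Y := Submodule.mem_map_equiv Y

variable [FiniteDimensional F V]

theorem exists_notMem_of_notMem_stab {g : V ≃ₗ[F] V} {Y : Submodule F V} (h : g ∉ stab Y) :
    ∃ u ∈ Y, g u ∉ Y := by
  by_contra hc
  push Not at hc
  exact h (mem_stab_of_mapsTo hc)

/-- Among the images of `Y₀` under `X` different from `Y₀`, one meeting `Y₀` in the largest
dimension. -/
theorem exists_maxInt (X : Subgroup (V ≃ₗ[F] V)) (Y₀ : Submodule F V) {g₀ : V ≃ₗ[F] V}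
    (hg₀ : g₀ ∈ X) (hn : g₀ ∉ stab Y₀) {v : V} (hv0 : v ≠ 0) (hv : v ∈ Y₀) (hv' : g₀ v ∈ Y₀) :
    ∃ g ∈ X, ∃ Y : Submodule F V, (∀ y, y ∈ Y ↔ g⁻¹ y ∈ Y₀) ∧ (∃ w, w ≠ 0 ∧ w ∈ Y ∧ w ∈ Y₀) ∧
      (∃ u ∈ Y, u ∉ Y₀) ∧ (∃ u ∈ Y₀, u ∉ Y) ∧
      ∀ t ∈ X, ∀ u ∈ Y, u ∉ Y₀ → (∀ w ∈ Y, w ∈ Y₀ → t w ∈ Y) → t u ∈ Y → ∀ y ∈ Y, t y ∈ Y := by
  obtain ⟨g, ⟨hg, hgn⟩, hmin⟩ := exists_minimalFor_of_wellFoundedLT
    (fun g : V ≃ₗ[F] V => g ∈ X ∧ g ∉ stab Y₀)
    (fun g : V ≃ₗ[F] V => finrank F V - finrank F ↥(Y₀.map (g : V →ₗ[F] V) ⊓ Y₀)) ⟨g₀, hg₀, hn⟩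
  have hmax : ∀ h ∈ X, h ∉ stab Y₀ → finrank F ↥(Y₀.map (h : V →ₗ[F] V) ⊓ Y₀) ≤
      finrank F ↥(Y₀.map (g : V →ₗ[F] V) ⊓ Y₀) := fun h h1 h2 => by
    have e1 := Submodule.finrank_le (Y₀.map (h : V →ₗ[F] V) ⊓ Y₀)
    have e2 := Submodule.finrank_le (Y₀.map (g : V →ₗ[F] V) ⊓ Y₀)
    by_contra hc
    have := hmin (j := h) ⟨h1, h2⟩ (by dsimp only; omega)
    dsimp only at this
    omega
  set Y := Y₀.map (g : V →ₗ[F] V) with hY
  have hm : ∀ y, y ∈ Y ↔ g⁻¹ y ∈ Y₀ := fun y => mem_map_iff_inv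
  refine ⟨g, hg, Y, hm, ?_, ?_, ?_, fun t ht u hu hu' h1 h2 => ?_⟩
  · obtain ⟨w, hw, hw0⟩ := Submodule.exists_mem_ne_zero_of_ne_bot (p := Y ⊓ Y₀) (by
      intro h
      have := hmax g₀ hg₀ hn
      rw [h, finrank_bot, Nat.le_zero, Submodule.finrank_eq_zero] at this
      have h2 : g₀ v ∈ Y₀.map (g₀ : V →ₗ[F] V) ⊓ Y₀ := ⟨⟨v, hv, rfl⟩, hv'⟩
      rw [this] at h2
      exact hv0 (g₀.map_eq_zero_iff.1 h2))
    exact ⟨w, hw0, hw.1, hw.2⟩
  · obtain ⟨u, h1, h2⟩ := exists_notMem_of_notMem_stab hgn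
    exact ⟨g u, ⟨u, h1, rfl⟩, h2⟩
  · obtain ⟨u, h1, h2⟩ := exists_notMem_of_notMem_stab (fun h => hgn ((stab Y₀).inv_mem_iff.1 h))
    exact ⟨u, h1, fun h => h2 ((hm u).1 h)⟩
  · have hs : g⁻¹ * t * g ∈ stab Y₀ := by
      by_contra hc
      have e1 := hmax _ (X.mul_mem (X.mul_mem (X.inv_mem hg) ht) hg) hc
      have e2 : ((Y ⊓ Y₀) ⊔ Submodule.span F {u}).map ((g⁻¹ * t : V ≃ₗ[F] V) : V →ₗ[F] V) ≤
          Y₀.map ((g⁻¹ * t * g : V ≃ₗ[F] V) : V →ₗ[F] V) ⊓ Y₀ := by
        rintro _ ⟨z, hz, rfl⟩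
        have hzY : z ∈ Y := (sup_le inf_le_left ((Submodule.span_singleton_le_iff_mem _ _).2 hu) :
          _ ≤ Y) hz
        refine ⟨⟨g⁻¹ z, (hm z).1 hzY, by simp⟩, (hm _).1 ?_⟩
        obtain ⟨w, hw, y, hy, rfl⟩ := Submodule.mem_sup.1 hz
        obtain ⟨c, rfl⟩ := Submodule.mem_span_singleton.1 hy
        rw [map_add, map_smul]
        exact Y.add_mem (h1 w hw.1 hw.2) (Y.smul_mem c h2)
      have e3 := Submodule.finrank_mono e2
      rw [LinearEquiv.finrank_map_eq] at e3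
      have e4 : Y ⊓ Y₀ < (Y ⊓ Y₀) ⊔ Submodule.span F {u} :=
        SetLike.lt_iff_le_and_exists.2 ⟨le_sup_left, u,
          Submodule.mem_sup_right (Submodule.mem_span_singleton_self u), fun h => hu' h.2⟩
      have := Submodule.finrank_lt_finrank_of_lt e4
      omega
    intro y hy
    have := stab_apply hs ((hm y).1 hy)
    rw [mul_app, mul_app, app_inv_app] at this
    exact (hm _).2 this

end MaxInt

section Fields

variable {F K : Type*} [Field F] [Field K] [Algebra F K]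

/-- A subring of a finite field containing all `(q - 1)`-th powers is everything. -/
theorem subring_eq_top_of_pow [Finite K] (hr : 2 ≤ finrank F K) (S : Subring K)
    (h : ∀ b : K, b ≠ 0 → b ^ (Nat.card F - 1) ∈ S) : S = ⊤ := by
  classical
  have := Fintype.ofFinite K
  have := Finite.of_injective _ (algebraMap F K).injective
  have := Fintype.ofFinite F
  let S' : Subfield K :=
    { S with
      inv_mem' := fun a ha => by
        by_cases h0 : a = 0
        · subst h0; simp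
        · have h1 := FiniteField.pow_card_sub_one_eq_one a h0
          have h2 : 1 < Fintype.card K := Fintype.one_lt_card
          have : a⁻¹ = a ^ (Fintype.card K - 2) := by
            apply inv_eq_of_mul_eq_one_right
            rw [← pow_succ', ← h1]; congr 1; omega
          rw [this]; exact S.pow_mem ha _ }
  by_contra hne
  have e1 : Fintype.card K = Fintype.card S' ^ finrank S' K := Module.card_eq_pow_finrank
  have e2 : Fintype.card K = Fintype.card F ^ finrank F K := Module.card_eq_pow_finrank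
  have h1 : 2 ≤ finrank S' K := by
    have h2 : finrank S' K ≠ 1 := fun h2 => hne (by
      rw [h2, pow_one] at e1
      rw [eq_top_iff]
      intro x _
      obtain ⟨y, hy⟩ := ((Fintype.bijective_iff_injective_and_card (Subtype.val : S' → K)).2
        ⟨Subtype.val_injective, e1.symm⟩).2 x
      exact hy ▸ y.2)
    have := finrank_pos (R := S') (M := K)
    omega
  obtain ⟨b, hb⟩ := IsCyclic.exists_ofOrder_eq_natCard (α := Kˣ)
  have hs : 1 < Fintype.card S' := Fintype.one_lt_card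
  have hq : 1 < Fintype.card F := Fintype.one_lt_card
  have h3 : b ^ ((Fintype.card F - 1) * (Fintype.card S' - 1)) = 1 := by
    have := FiniteField.pow_card_sub_one_eq_one (K := S') ⟨_, h b b.ne_zero⟩
      (fun e => pow_ne_zero _ b.ne_zero (congrArg Subtype.val e))
    have : ((b : K) ^ (Nat.card F - 1)) ^ (Fintype.card S' - 1) = 1 := congrArg Subtype.val this
    rw [Nat.card_eq_fintype_card] at this
    rw [pow_mul]
    exact Units.ext (by simpa using this)
  have h4 := Nat.le_of_dvd (Nat.mul_pos (by omega) (by omega)) (orderOf_dvd_of_pow_eq_one h3)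
  rw [hb, Nat.card_units, Nat.card_eq_fintype_card] at h4
  have h5 : Fintype.card S' ^ 2 ≤ Fintype.card K := e1 ▸ Nat.pow_le_pow_right (by omega) h1
  have h6 : Fintype.card F ^ 2 ≤ Fintype.card K := e2 ▸ Nat.pow_le_pow_right (by omega) hr
  obtain ⟨s, hs'⟩ : ∃ s, Fintype.card S' = s + 1 := ⟨Fintype.card S' - 1, by omega⟩
  obtain ⟨q, hq'⟩ : ∃ q, Fintype.card F = q + 1 := ⟨Fintype.card F - 1, by omega⟩
  rw [hs'] at h4 h5 hs
  rw [hq'] at h4 h6 hq
  simp only [Nat.add_sub_cancel] at h4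
  have : Fintype.card K ≤ q * s + 1 := by omega
  nlinarith [sq_nonneg ((s : ℤ) - q)]

theorem subring_eq_top_of_norm [Finite K] (hr : 2 ≤ finrank F K) (S : Subring K)
    (h : ∀ a : K, Algebra.norm F a = 1 → a ∈ S) : S = ⊤ := by
  have := Finite.of_injective _ (algebraMap F K).injective
  have := Fintype.ofFinite F
  refine subring_eq_top_of_pow hr S fun b hb => h _ ?_
  rw [map_pow, Nat.card_eq_fintype_card]
  exact FiniteField.pow_card_sub_one_eq_one _ (Algebra.norm_ne_zero_iff.2 hb)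

theorem exists_notMem_range (hr : 2 ≤ finrank F K) : ∃ a : K, ∀ c : F, algebraMap F K c ≠ a := by
  by_contra hc
  push Not at hc
  have := (LinearEquiv.ofBijective (Algebra.linearMap F K)
    ⟨(algebraMap F K).injective, hc⟩).finrank_eq
  rw [finrank_self] at this
  omega

theorem exists_mul_eq [FiniteDimensional F K] {α : Dual F K} (hα : α ≠ 0) (β : Dual F K) :
    ∃ k : K, ∀ c, β c = α (c * k) := by
  let f : K →ₗ[F] Dual F K := (LinearMap.mul F K).compr₂ α
  have hf : Function.Injective f := by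
    rw [injective_iff_map_eq_zero]
    intro k hk
    by_contra h0
    refine hα (LinearMap.ext fun c => ?_)
    have := LinearMap.congr_fun hk (k⁻¹ * c)
    simpa [f, h0] using this
  obtain ⟨k, hk⟩ := (LinearMap.injective_iff_surjective_of_finrank_eq_finrank
    (Subspace.dual_finrank_eq).symm).1 hf β
  exact ⟨k, fun c => by rw [← hk, mul_comm]; rfl⟩

theorem eq_zero_of_forall_mul {α : Dual F K} (hα : α ≠ 0) {k : K} (h : ∀ c, α (c * k) = 0) :
    k = 0 := by
  by_contra h0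
  exact hα (LinearMap.ext fun c => by simpa [h0] using h (c * k⁻¹))

theorem exists_mul_eq_one {α : Dual F K} (hα : α ≠ 0) {k : K} (hk : k ≠ 0) (d : F) :
    ∃ c, α (c * k) = d := by
  obtain ⟨c, hc⟩ := DFunLike.ne_iff.1 hα
  refine ⟨(d / α c) • (c * k⁻¹), ?_⟩
  rw [smul_mul_assoc, inv_mul_cancel_right₀ hk, map_smul, smul_eq_mul, div_mul_cancel₀ _ hc]

variable {V : Type*} [AddCommGroup V] [Module F V] [Module K V] [IsScalarTower F K V]

/-- Every `F`-linear functional is the composite of a `K`-linear one with a fixed non-zero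
functional on `K`. -/
theorem exists_dual_lift [FiniteDimensional F K] {α : Dual F K} (hα : α ≠ 0) (φ : Dual F V) :
    ∃ χ : Dual K V, ∀ v, φ v = α (χ v) := by
  choose k hk using fun v : V =>
    exists_mul_eq hα (φ ∘ₗ (LinearMap.toSpanSingleton K V v).restrictScalars F)
  simp only [LinearMap.coe_comp, Function.comp_apply, LinearMap.restrictScalars_apply,
    LinearMap.toSpanSingleton_apply] at hk
  refine ⟨⟨⟨k, fun v w => ?_⟩, fun a v => ?_⟩, fun v => by simpa using hk v 1⟩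
  · refine sub_eq_zero.1 (eq_zero_of_forall_mul hα fun c => ?_)
    rw [mul_sub, mul_add, map_sub, map_add, ← hk, ← hk, ← hk, smul_add, map_add, sub_self]
  · refine sub_eq_zero.1 (eq_zero_of_forall_mul hα fun c => ?_)
    simp only [RingHom.id_apply, smul_eq_mul]
    rw [mul_sub, map_sub, ← mul_assoc, ← hk, ← hk, smul_smul, sub_self]

variable (F K) in
/-- The `K`-span of a vector as an `F`-subspace. -/
def pt (x : V) : Submodule F V := (Submodule.span K {x}).restrictScalars F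

theorem mem_pt {x y : V} : y ∈ pt F K x ↔ ∃ c : K, c • x = y := Submodule.mem_span_singleton

theorem smul_mem_pt (c : K) (x : V) : c • x ∈ pt F K x := mem_pt.2 ⟨c, rfl⟩

theorem self_mem_pt (x : V) : x ∈ pt F K x := mem_pt.2 ⟨1, one_smul _ _⟩

theorem smul_mem_pt_of {x y : V} (c : K) (h : y ∈ pt F K x) : c • y ∈ pt F K x :=
  (Submodule.span K {x}).smul_mem c h

theorem finrank_pt {x : V} (hx : x ≠ 0) : finrank F (pt F K x) = finrank F K :=
  ((LinearEquiv.toSpanNonzeroSingleton K V x hx).restrictScalars F).finrank_eq.symm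

/-- In prime degree, a scalar stabilising a proper non-zero subspace of a point lies in `F`. -/
theorem mem_range_of_smul_mem (hr : (finrank F K).Prime) {x w u : V} {Y : Submodule F V}
    (hw0 : w ≠ 0) (hw : w ∈ Y) (hwx : w ∈ pt F K x) (hu : u ∈ pt F K x) (huY : u ∉ Y) {a : K}
    (ha : ∀ y ∈ Y, y ∈ pt F K x → a • y ∈ Y) : ∃ c : F, algebraMap F K c = a := by
  let S : Subalgebra F K :=
    { carrier := {a | ∀ y ∈ Y, y ∈ pt F K x → a • y ∈ Y}
      mul_mem' := fun {a b} ha hb y hy hy' => by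
        rw [mul_smul]; exact ha _ (hb y hy hy') (smul_mem_pt_of b hy')
      add_mem' := fun {a b} ha hb y hy hy' => by
        rw [add_smul]; exact Y.add_mem (ha y hy hy') (hb y hy hy')
      algebraMap_mem' := fun c y hy _ => by rw [algebraMap_smul]; exact Y.smul_mem c hy }
  rcases (Subalgebra.isSimpleOrder_of_finrank_prime F K hr).eq_bot_or_eq_top S with h | h
  · exact Algebra.mem_bot.1 (h ▸ (ha : a ∈ S))
  · obtain ⟨b, rfl⟩ := mem_pt.1 hwx
    obtain ⟨c, rfl⟩ := mem_pt.1 hu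
    have hb : b ≠ 0 := fun e => hw0 (by rw [e, zero_smul])
    have := (h ▸ Algebra.mem_top : c * b⁻¹ ∈ S) _ hw hwx
    rw [smul_smul, inv_mul_cancel_right₀ hb] at this
    exact absurd this huY

variable (F K V) in
/-- The group of `F`-linear maps that are semilinear over `K`. -/
def GamL : Subgroup (V ≃ₗ[F] V) where
  carrier := {g | (∀ k : K, ∃ k' : K, ∀ v, g (k • v) = k' • g v) ∧
    ∀ k' : K, ∃ k : K, ∀ v, g (k • v) = k' • g v}
  mul_mem' {a b} ha hb := by
    refine ⟨fun k => ?_, fun k => ?_⟩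
    · obtain ⟨k₁, h1⟩ := hb.1 k
      obtain ⟨k₂, h2⟩ := ha.1 k₁
      exact ⟨k₂, fun v => by rw [mul_app, mul_app, h1, h2]⟩
    · obtain ⟨k₁, h1⟩ := ha.2 k
      obtain ⟨k₂, h2⟩ := hb.2 k₁
      exact ⟨k₂, fun v => by rw [mul_app, mul_app, h2, h1]⟩
  one_mem' := ⟨fun k => ⟨k, fun _ => rfl⟩, fun k => ⟨k, fun _ => rfl⟩⟩
  inv_mem' {a} ha := by
    refine ⟨fun k => ?_, fun k => ?_⟩
    · obtain ⟨k₁, h1⟩ := ha.2 k
      exact ⟨k₁, fun v => a.injective (by rw [h1, app_inv_app, app_inv_app])⟩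
    · obtain ⟨k₁, h1⟩ := ha.1 k
      exact ⟨k₁, fun v => a.injective (by rw [h1, app_inv_app, app_inv_app])⟩

theorem mem_GamL_of_linear {g : V ≃ₗ[F] V} (h : ∀ (k : K) v, g (k • v) = k • g v) :
    g ∈ GamL F K V := ⟨fun k => ⟨k, h k⟩, fun k => ⟨k, h k⟩⟩

theorem restrictScalars_mem_GamL (s : V ≃ₗ[K] V) : s.restrictScalars F ∈ GamL F K V :=
  mem_GamL_of_linear fun k v => s.map_smul k v

omit [Algebra F K] [Module F V] [IsScalarTower F K V] in
theorem exists_notMem_span (hm : 2 ≤ finrank K V) (x : V) : ∃ z, z ∉ Submodule.span K {x} := by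
  by_contra hc
  push Not at hc
  have h1 : Submodule.span K {x} = ⊤ := eq_top_iff.2 fun z _ => hc z
  have := finrank_span_le_card (R := K) ({x} : Set V)
  rw [h1, finrank_top] at this
  simp at this
  omega

omit [Algebra F K] [Module F V] [IsScalarTower F K V] in
theorem eq_of_smul_add_smul {x z : V} (hx : x ≠ 0) (hz : z ∉ Submodule.span K {x}) {a b c : K}
    (h : a • x + b • z = c • (x + z)) : a = c ∧ b = c := by
  have h1 : (b - c) • z = (c - a) • x := by
    rw [sub_smul, sub_smul, eq_sub_of_add_eq' h]; module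
  have h2 : b = c := by
    by_contra hne
    have h3 := sub_ne_zero.2 hne
    refine hz (Submodule.mem_span_singleton.2 ⟨(b - c)⁻¹ * (c - a), ?_⟩)
    rw [mul_smul, ← h1, smul_smul, inv_mul_cancel₀ h3, one_smul]
  rw [h2, sub_self, zero_smul, eq_comm, smul_eq_zero, sub_eq_zero] at h1
  exact ⟨(h1.resolve_right hx).symm, h2⟩

omit [Algebra F K] [Module F V] [IsScalarTower F K V] in
/-- An additive map sending each vector of a spanning-type set to a multiple of itself. -/
theorem exists_eq_smul_of_forall (hm : 2 ≤ finrank K V) (f : V →+ V)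
    (h : ∀ v, ∃ c : K, f v = c • v) : ∃ c : K, ∀ v, f v = c • v := by
  choose c hc using h
  have key : ∀ x z, x ≠ 0 → z ∉ Submodule.span K {x} → c x = c z := fun x z hx hz => by
    have := eq_of_smul_add_smul hx hz (a := c x) (b := c z) (c := c (x + z))
      (by rw [← hc, ← hc, ← hc, map_add])
    rw [this.1, this.2]
  obtain ⟨x, hx⟩ := exists_notMem_span hm (0 : V)
  have hx0 : x ≠ 0 := fun e => hx (by rw [e]; exact Submodule.zero_mem _)
  refine ⟨c x, fun v => ?_⟩
  by_cases hv : v = 0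
  · simp [hv]
  by_cases hvx : v ∈ Submodule.span K {x}
  · obtain ⟨z, hz⟩ := exists_notMem_span hm x
    rw [hc, key x z hx0 hz, key v z hv fun h => hz
      ((Submodule.span_singleton_le_iff_mem _ _).2 hvx h)]
  · rw [hc, key x v hx0 hvx]

theorem mem_GamL_of_pt (hm : 2 ≤ finrank K V) {g : V ≃ₗ[F] V}
    (h : ∀ x y, y ∈ pt F K x ↔ g y ∈ pt F K (g x)) : g ∈ GamL F K V := by
  refine ⟨fun k => ?_, fun k => ?_⟩
  · obtain ⟨c, hc⟩ := exists_eq_smul_of_forall hm
      ⟨⟨fun v => g (k • g⁻¹ v), by simp⟩, fun v w => by simp⟩ fun v => by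
        obtain ⟨c, hc⟩ := mem_pt.1 ((h (g⁻¹ v) _).1 (smul_mem_pt k _))
        exact ⟨c, by simpa using hc.symm⟩
    exact ⟨c, fun v => by simpa using hc (g v)⟩
  · obtain ⟨c, hc⟩ := exists_eq_smul_of_forall hm
      ⟨⟨fun v => g⁻¹ (k • g v), by simp⟩, fun v w => by simp⟩ fun v => by
        obtain ⟨c, hc⟩ := mem_pt.1 ((h v (g⁻¹ (k • g v))).2 (by simpa using smul_mem_pt k _))
        exact ⟨c, hc.symm⟩
    exact ⟨c, fun v => by rw [← hc]; simp⟩

end Fields

end Cfsg.Agent.Class.Max
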