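import Mathlib
import Cfsg.Agent.Class.Max.Ext
import Cfsg.Agent.Class.Max.Fm

/-!
Overgroups of `SL_m(K)` in `GL_{mr}(F)`, `[K : F] = r` prime, `m ≥ 2`: maximality of `ΓL_m(K)`.
-/

set_option autoImplicit false
set_option linter.unusedSectionVars false

namespace Cfsg.Agent.Class.Max

open Module

section Ring

variable {F K : Type*} [Field F] [Field K] [Algebra F K]

theorem exists_dual_eq_one {V : Type*} [AddCommGroup V] [Module F V] {k : V} (hk : k ≠ 0) :
    ∃ α : Dual F V, α k = 1 :=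
  let ⟨α, _, h⟩ := exists_dual_one (F := F) ⊥ (u := k) hk; ⟨α, h⟩

theorem exists_ne_zero_one [Finite F] (h : Nat.card F ≠ 2) : ∃ l : F, l ≠ 0 ∧ l ≠ 1 := by
  by_contra hc
  push Not at hc
  exact h (Nat.card_eq_two_iff.2 ⟨0, 1, zero_ne_one, Set.eq_univ_of_forall fun l => by
    by_cases h0 : l = 0 <;> simp [h0, hc l]⟩)

/-- A subring of `End(K)` containing `K` and normalised by the transvections with a given axis
contains a map of rank one. -/
theorem exists_rank_one [Finite K] (R : Subring (Module.End F K))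
    (hK : ∀ a : K, LinearMap.mulLeft F a ∈ R) {α : Dual F K} (hα : α ≠ 0)
    (hτ : ∀ e, α e = 0 → ∀ C ∈ R,
      LinearMap.transvection α e * C * LinearMap.transvection α (-e) ∈ R)
    (hr : 2 ≤ finrank F K) (hq : ¬ (Nat.card F = 2 ∧ finrank F K = 2)) :
    ∃ k : K, k ≠ 0 ∧ α.smulRight k ∈ R := by
  have := Finite.of_injective _ (algebraMap F K).injective
  have hk := finrank_le_inf_ker ⊤ α
  rw [finrank_top, top_inf_eq] at hk
  obtain ⟨e, he, he0⟩ := Submodule.exists_mem_ne_zero_of_ne_bot (p := LinearMap.ker α) (by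
    intro h; rw [h, finrank_bot] at hk; omega)
  rw [LinearMap.mem_ker] at he
  obtain ⟨a, ha⟩ := exists_mul_eq_one hα he0 1
  have hD := fun e he => R.sub_mem (hτ e he _ (hK a)) (hK a)
  by_cases h2 : Nat.card F = 2
  · obtain ⟨e', he', h3⟩ : ∃ e' ∈ LinearMap.ker α, e' ∉ Submodule.span F {e} := by
      by_contra hc
      push Not at hc
      have := (Submodule.finrank_mono hc).trans (finrank_span_le_card ({e} : Set K))
      simp only [Set.toFinset_singleton, Finset.card_singleton] at this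
      exact hq ⟨h2, by omega⟩
    rw [LinearMap.mem_ker] at he'
    refine ⟨e' + α (a * e') • e, fun h => h3 ?_, ?_⟩
    · rw [eq_neg_of_add_eq_zero_left h]
      exact Submodule.neg_mem _ (Submodule.smul_mem _ _ (Submodule.mem_span_singleton_self e))
    · convert R.sub_mem (R.add_mem (hD e he) (hD e' he')) (hD (e + e') (by simp [he, he']))
      ext1 c
      simp only [LinearMap.smulRight_apply, LinearMap.sub_apply, LinearMap.add_apply,
        Module.End.mul_apply, LinearMap.transvection.apply, LinearMap.mulLeft_apply, mul_add,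
        map_add, smul_neg, mul_neg, map_neg, mul_smul_comm, map_smul, ha, smul_eq_mul]
      module
  · obtain ⟨l, hl0, hl1⟩ := exists_ne_zero_one h2
    refine ⟨(l * (l - 1)) • e, smul_ne_zero (mul_ne_zero hl0 (sub_ne_zero.2 hl1)) he0, ?_⟩
    convert R.sub_mem (R.mul_mem (hK (algebraMap F K l)) (hD e he)) (hD (l • e) (by simp [he]))
    ext1 c
    simp only [LinearMap.smulRight_apply, LinearMap.sub_apply, LinearMap.add_apply,
      Module.End.mul_apply, LinearMap.transvection.apply, LinearMap.mulLeft_apply, mul_add,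
      map_add, smul_neg, mul_neg, map_neg, mul_smul_comm, map_smul, ha, smul_eq_mul,
      ← Algebra.smul_def]
    module

end Ring

theorem exists_sub_smul_mem {F V : Type*} [Field F] [AddCommGroup V] [Module F V]
    [FiniteDimensional F V] {Y Y' : Submodule F V} (h : finrank F Y = finrank F Y') {u u' : V}
    (hu : u ∈ Y) (h1 : ∀ y ∈ Y, ∃ c : F, y - c • u ∈ Y') (hu' : u' ∈ Y') (h2 : u' ∉ Y) :
    ∀ y ∈ Y', ∃ c : F, y - c • u' ∈ Y := by
  have e1 : Y ≤ (Y ⊓ Y') ⊔ Submodule.span F {u} := fun y hy => by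
    obtain ⟨c, hc⟩ := h1 y hy
    exact Submodule.mem_sup.2 ⟨_, ⟨Y.sub_mem hy (Y.smul_mem c hu), hc⟩, c • u,
      Submodule.smul_mem _ _ (Submodule.mem_span_singleton_self u), by abel⟩
  have e2 := (Submodule.finrank_mono e1).trans (Submodule.finrank_add_le_finrank_add_finrank _ _)
  have e3 := finrank_span_le_card (R := F) ({u} : Set V)
  simp only [Set.toFinset_singleton, Finset.card_singleton] at e3
  have e4 : Y ⊓ Y' < (Y ⊓ Y') ⊔ Submodule.span F {u'} :=
    SetLike.lt_iff_le_and_exists.2 ⟨le_sup_left, u',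
      Submodule.mem_sup_right (Submodule.mem_span_singleton_self u'), fun h => h2 h.1⟩
  have e5 := Submodule.finrank_lt_finrank_of_lt e4
  have e6 := Submodule.eq_of_le_of_finrank_le (S₁ := (Y ⊓ Y') ⊔ Submodule.span F {u'}) (S₂ := Y')
    (sup_le inf_le_right ((Submodule.span_singleton_le_iff_mem _ _).2 hu')) (by omega)
  intro y hy
  rw [← e6] at hy
  obtain ⟨w, hw, z, hz, rfl⟩ := Submodule.mem_sup.1 hy
  obtain ⟨c, rfl⟩ := Submodule.mem_span_singleton.1 hz
  exact ⟨c, by simpa using hw.1⟩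

theorem exists_dual_zero_one {K V : Type*} [Field K] [AddCommGroup V] [Module K V] {x u : V}
    (h : u ∉ Submodule.span K {x}) : ∃ φ : Dual K V, φ x = 0 ∧ φ u = 1 :=
  let ⟨φ, h1, h2⟩ := exists_dual_one _ h; ⟨φ, h1 x (Submodule.mem_span_singleton_self x), h2⟩

theorem exists_dual_zero_zero_one {K V : Type*} [Field K] [AddCommGroup V] [Module K V]
    {x u z : V} (h : z ∉ Submodule.span K {x, u}) : ∃ φ : Dual K V, φ x = 0 ∧ φ u = 0 ∧ φ z = 1 :=
  let ⟨φ, h1, h2⟩ := exists_dual_one _ h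
  ⟨φ, h1 x (Submodule.subset_span (by simp)), h1 u (Submodule.subset_span (by simp)), h2⟩

theorem finrank_span_pair_le {K V : Type*} [Field K] [AddCommGroup V] [Module K V] (x u : V) :
    finrank K (Submodule.span K {x, u}) ≤ 2 := by
  classical
  have := finrank_span_finset_le_card (R := K) ({x, u} : Finset V)
  rw [Finset.coe_pair] at this
  exact this.trans Finset.card_le_two

theorem exists_notMem_span_pair {K V : Type*} [Field K] [AddCommGroup V] [Module K V]
    (hm : 3 ≤ finrank K V) (x u : V) : ∃ z, z ∉ Submodule.span K {x, u} := by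
  by_contra hc
  push Not at hc
  have h1 : Submodule.span K {x, u} = ⊤ := eq_top_iff.2 fun z _ => hc z
  have := finrank_span_pair_le (K := K) x u
  rw [h1, finrank_top] at this
  omega

variable {F K V : Type*} [Field F] [Field K] [Algebra F K] [AddCommGroup V] [Module F V]
  [Module K V] [IsScalarTower F K V]

variable (K) in
/-- `X` contains the `K`-linear maps `v ↦ v + ψ v • y` whose determinant has norm one. -/
def HasK (X : Subgroup (V ≃ₗ[F] V)) : Prop :=
  ∀ (ψ : Dual K V) (y : V), Algebra.norm F (1 + ψ y) = 1 → ∃ g ∈ X, ∀ v, g v = v + ψ v • y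

variable {X : Subgroup (V ≃ₗ[F] V)}

theorem HasK.tv (h : HasK K X) {ψ : Dual K V} {y : V} (hy : ψ y = 0) :
    ∃ g ∈ X, ∀ v, g v = v + ψ v • y := h ψ y (by simp [hy])

theorem HasK.exists_move (h : HasK K X) (hm : 2 ≤ finrank K V) {x y : V} (hx : x ≠ 0)
    (hy : y ≠ 0) : ∃ g ∈ X, (∀ (k : K) v, g (k • v) = k • g v) ∧ g x = y := by
  have key : ∀ x y : V, x ≠ 0 → y ∉ Submodule.span K {x} →
      ∃ g ∈ X, (∀ (k : K) v, g (k • v) = k • g v) ∧ g x = y := fun x y hx hy => by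
    obtain ⟨φ, h1, h2⟩ := exists_dual_zero_one (K := K) (x := y - x) (u := x) fun hc => by
      obtain ⟨c, hc⟩ := Submodule.mem_span_singleton.1 hc
      have := eq_of_smul_add_smul hx hy (a := -c - 1) (b := c) (c := 0)
        (by rw [zero_smul, ← sub_eq_zero.2 hc]; module)
      rw [this.2] at this
      simp at this
    obtain ⟨g, hg, e⟩ := h.tv h1
    exact ⟨g, hg, fun k v => by simp [e, smul_smul], by simp [e, h2]⟩
  by_cases hxy : y ∈ Submodule.span K {x}
  · obtain ⟨z, hz⟩ := exists_notMem_span hm x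
    obtain ⟨g₁, hg₁, l₁, e₁⟩ := key x z hx hz
    obtain ⟨g₂, hg₂, l₂, e₂⟩ := key y z hy fun h =>
      hz ((Submodule.span_singleton_le_iff_mem _ _).2 hxy h)
    exact ⟨g₂⁻¹ * g₁, X.mul_mem (X.inv_mem hg₂) hg₁, fun k v => g₂.injective (by simp [l₁, l₂]),
      g₂.injective (by simp [e₁, e₂])⟩
  · exact key x y hx hxy

variable (K X) in
/-- The maps `A` with `v ↦ v + A v • x` in `X`, trivial on `K x`. -/
def LL (x : V) : AddSubgroup (V →ₗ[F] K) where
  carrier := {A | (∀ c : K, A (c • x) = 0) ∧ ∃ g ∈ X, ∀ v, g v = v + A v • x}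
  zero_mem' := ⟨fun _ => rfl, 1, X.one_mem, fun v => by simp⟩
  add_mem' := by
    rintro A B ⟨h1, g, hg, e⟩ ⟨h2, t, ht, e'⟩
    refine ⟨fun c => by simp [h1, h2], g * t, X.mul_mem hg ht, fun v => ?_⟩
    rw [mul_app, e, e', map_add, h1, LinearMap.add_apply]; module
  neg_mem' := by
    rintro A ⟨h1, g, hg, e⟩
    refine ⟨fun c => by simp [h1], g⁻¹, X.inv_mem hg, fun v => g.injective ?_⟩
    rw [app_inv_app, e, map_add, h1]; simp

theorem LL_congr {x : V} {A B : V →ₗ[F] K} (h : A ∈ LL K X x) (e : ∀ v, B v = A v) :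
    B ∈ LL K X x := by rwa [show B = A from LinearMap.ext e]

theorem LL_conj {x x' : V} {A : V →ₗ[F] K} (hA : A ∈ LL K X x) {h : V ≃ₗ[F] V} (hh : h ∈ X)
    (τ : K →ₗ[F] K) (h1 : ∀ c, h (c • x) = τ c • x') (h2 : ∀ c : K, h⁻¹ (c • x') ∈ pt F K x) :
    τ ∘ₗ A ∘ₗ (h⁻¹ : V ≃ₗ[F] V).toLinearMap ∈ LL K X x' := by
  obtain ⟨h3, g, hg, e⟩ := hA
  refine ⟨fun c => ?_, h * g * h⁻¹, X.mul_mem (X.mul_mem hh hg) (X.inv_mem hh), fun v => ?_⟩
  · obtain ⟨d, hd⟩ := mem_pt.1 (h2 c)
    change τ (A (h⁻¹ (c • x'))) = 0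
    rw [← hd, h3, map_zero]
  · rw [mul_app, mul_app, e, map_add, h1, app_inv_app]; rfl

theorem HasK.mem_LL (h : HasK K X) {x : V} {ψ : Dual K V} (hx : ψ x = 0) :
    ψ.restrictScalars F ∈ LL K X x := ⟨fun c => by simp [hx], h.tv hx⟩

variable [Finite K]

theorem HasK.smul_mem_LL (h : HasK K X) (hr : 2 ≤ finrank F K) {x : V} (hx : x ≠ 0) (a : K) :
    ∀ A ∈ LL K X x, a • A ∈ LL K X x := by
  let S : Subring K :=
    { carrier := {a | ∀ A ∈ LL K X x, a • A ∈ LL K X x}
      mul_mem' := fun {a b} ha hb A hA => by rw [mul_smul]; exact ha _ (hb A hA)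
      one_mem' := fun A hA => by rwa [one_smul]
      add_mem' := fun {a b} ha hb A hA => by rw [add_smul]; exact add_mem (ha A hA) (hb A hA)
      zero_mem' := fun A _ => by rw [zero_smul]; exact zero_mem _
      neg_mem' := fun {a} ha A hA => LL_congr (neg_mem (ha A hA)) fun v => by simp }
  have : S = ⊤ := subring_eq_top_of_norm hr S fun a ha A hA => by
    obtain ⟨χ, hχ⟩ := exists_dual_eq_one (F := K) hx
    obtain ⟨g, hg, e⟩ := h ((a - 1) • χ) x (by simpa [hχ] using ha)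
    have ha0 : a ≠ 0 := by rintro rfl; simp at ha
    have e1 : ∀ c : K, g (c • x) = (a * c) • x := fun c => by
      rw [e]; simp only [LinearMap.smul_apply, map_smul, hχ, smul_eq_mul]; module
    refine LL_congr (LL_conj hA hg (LinearMap.mulLeft F a) e1 fun c => ?_) fun v => ?_
    · rw [← mul_inv_cancel_left₀ ha0 c, ← e1, inv_app_app]; exact smul_mem_pt _ _
    · change a * A v = a * A (g⁻¹ v)
      conv_lhs => rw [← app_inv_app g v, e, map_add, hA.1, add_zero]
  exact (this ▸ Subring.mem_top a : a ∈ S)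

variable [FiniteDimensional K V]

theorem HasK.le_of_rank_one (h : HasK K X) (hr : 2 ≤ finrank F K) (hm : 2 ≤ finrank K V) {x : V}
    (hx : x ≠ 0) {A : V →ₗ[F] K} (hA : A ∈ LL K X x) (h0 : ∃ v, A v ≠ 0) {k : K}
    (hk : ∀ v, ∃ d : F, A v = d • k) : SLV F V ≤ X := by
  have : FiniteDimensional F V := Module.Finite.trans K V
  obtain ⟨α, hα1⟩ := exists_dual_eq_one (F := F) (one_ne_zero (α := K))
  have hα : α ≠ 0 := fun e => by simp [e] at hα1
  let L : Dual K V → V →ₗ[F] K := fun χ => Algebra.linearMap F K ∘ₗ α ∘ₗ χ.restrictScalars F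
  have hL : ∀ χ v, L χ v = algebraMap F K (α (χ v)) := fun _ _ => rfl
  obtain ⟨v₀, hv₀⟩ := h0
  have hk0 : k ≠ 0 := by
    rintro rfl
    obtain ⟨d, hd⟩ := hk v₀
    exact hv₀ (by simpa using hd)
  obtain ⟨χ₀, hχ₀⟩ := exists_dual_lift hα (α ∘ₗ (k⁻¹ • A))
  have e0 : ∀ v, L χ₀ v = (k⁻¹ • A) v := fun v => by
    obtain ⟨d, hd⟩ := hk v
    rw [hL, ← hχ₀]
    simp [hd, hk0, hα1, Algebra.algebraMap_eq_smul_one]
  have h1 : L χ₀ ∈ LL K X x := LL_congr (h.smul_mem_LL hr hx k⁻¹ A hA) e0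
  have h2 : χ₀ x = 0 := eq_zero_of_forall_mul hα fun c => by
    rw [← smul_eq_mul, ← map_smul, ← hχ₀]; simp [hA.1]
  have h3 : χ₀ v₀ ≠ 0 := fun e => hv₀ (by simpa [hL, e, hk0] using (e0 v₀).symm)
  have step : ∀ (χ ψ : Dual K V) (y : V), ψ x = 0 → Algebra.norm F (1 + ψ y) = 1 →
      L χ ∈ LL K X x → L (χ + χ y • ψ) ∈ LL K X x := fun χ ψ y hψ hn hχ => by
    obtain ⟨g, hg, e⟩ := h ψ y hn
    have e1 : ∀ c : K, g (c • x) = c • x := fun c => by simp [e, hψ]
    refine LL_congr (LL_conj hχ (X.inv_mem hg) LinearMap.id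
      (fun c => g.injective (by simp [e1])) fun c => by simpa [e1] using smul_mem_pt c x) fun v => ?_
    simp [hL, e, mul_comm]
  let S : Subring K :=
    { carrier := {a | ∀ χ : Dual K V, χ x = 0 → L χ ∈ LL K X x → L (a • χ) ∈ LL K X x}
      mul_mem' := fun {a b} ha hb χ h1 h2 => by
        rw [mul_smul]; exact ha _ (by simp [h1]) (hb χ h1 h2)
      one_mem' := fun χ _ h2 => by rwa [one_smul]
      add_mem' := fun {a b} ha hb χ h1 h2 =>
        LL_congr (add_mem (ha χ h1 h2) (hb χ h1 h2)) fun v => by simp [hL, add_mul]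
      zero_mem' := fun χ _ _ => LL_congr (zero_mem _) fun v => by simp [hL]
      neg_mem' := fun {a} ha χ h1 h2 => LL_congr (neg_mem (ha χ h1 h2)) fun v => by simp [hL] }
  have hS : S = ⊤ := subring_eq_top_of_norm hr S fun a ha χ h1 h2 => by
    by_cases hc : χ = 0
    · simpa [hc] using h2
    obtain ⟨y, hy⟩ := DFunLike.ne_iff.1 hc
    have hy' : χ ((χ y)⁻¹ • y) = 1 := by rw [map_smul, smul_eq_mul, inv_mul_cancel₀ hy]
    have := step χ ((a - 1) • χ) ((χ y)⁻¹ • y) (by simp [h1])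
      (by rw [LinearMap.smul_apply, hy']; simpa using ha) h2
    rw [hy', one_smul] at this
    exact LL_congr this fun v => by simp [hL, sub_mul]
  have h4 : ∀ ψ : Dual K V, ψ x = 0 → L ψ ∈ LL K X x := fun ψ hψ => by
    by_cases hc : ∀ y, ψ y = 0 → χ₀ y = 0
    · have h5 : ψ v₀ ≠ 0 := fun e => h3 (hc _ e)
      have : ψ = (ψ v₀ / χ₀ v₀) • χ₀ := LinearMap.ext fun v => by
        have := hc (v - (ψ v / ψ v₀) • v₀) (by simp [h5])
        simp only [map_sub, map_smul, smul_eq_mul, sub_eq_zero] at this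
        simp only [LinearMap.smul_apply, this, smul_eq_mul]
        field_simp
      rw [this]
      exact (hS ▸ Subring.mem_top _ : _ ∈ S) χ₀ h2 h1
    · push Not at hc
      obtain ⟨y, hy, hy'⟩ := hc
      exact LL_congr (sub_mem (step χ₀ ((χ₀ y)⁻¹ • ψ) y (by simp [hψ]) (by simp [hy]) h1) h1)
        fun v => by simp [hL, hy']
  have h5 : ∀ (y : V) (ψ : Dual K V), ψ y = 0 → HasTv X (α ∘ₗ ψ.restrictScalars F) y := by
    intro y ψ hψ
    by_cases hy : y = 0
    · subst hy; exact hasTv_zero_right _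
    obtain ⟨g, hg, l, e⟩ := h.exists_move hm hx hy
    obtain ⟨-, t, ht, e'⟩ := h4 (ψ ∘ₗ ⟨⟨g, g.map_add⟩, l⟩) (by simp [e, hψ])
    refine ⟨g * t * g⁻¹, X.mul_mem (X.mul_mem hg ht) (X.inv_mem hg), fun v => ?_⟩
    simp [e', hL, e]
  refine SLV_le_of_tv fun φ v hφ => ?_
  obtain ⟨χ, hχ⟩ := exists_dual_lift hα φ
  obtain rfl : φ = α ∘ₗ χ.restrictScalars F := LinearMap.ext hχ
  by_cases hc : χ v = 0
  · exact h5 v χ hc
  obtain ⟨z, hz⟩ := exists_notMem_span hm v
  obtain ⟨ψ, hψ1, hψ2⟩ := exists_dual_zero_one hz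
  have := (h5 v ψ hψ1).comm (by simp [hψ1]) (by simp [hc]) hφ
    (h5 (z - (χ z / χ v) • v) χ (by simp [hc]))
  simpa [hψ1, hψ2, hα1] using this

/-- The configuration produced by the maximal intersection lemma. -/
structure Conf (K : Type*) [Field K] [Algebra F K] [Module K V] [IsScalarTower F K V]
    (X : Subgroup (V ≃ₗ[F] V)) (g : V ≃ₗ[F] V) (Y : Submodule F V) (x u : V) : Prop where
  mem : g ∈ X
  ne : x ≠ 0
  iff : ∀ y, y ∈ Y ↔ g⁻¹ y ∈ pt F K x
  xY : x ∈ Y
  uY : u ∈ Y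
  un : u ∉ pt F K x
  ex : ∃ u' ∈ pt F K x, u' ∉ Y
  key : ∀ y ∈ Y, ∃ c : F, y - c • u ∈ pt F K x

theorem pt_eq_of_mem {x w : V} (hw : w ≠ 0) (h : w ∈ pt F K x) : pt F K w = pt F K x := by
  obtain ⟨c, rfl⟩ := mem_pt.1 h
  have hc : c ≠ 0 := fun e => hw (by rw [e, zero_smul])
  rw [pt, pt, Submodule.span_singleton_smul_eq hc.isUnit]

theorem exists_not_pt (hm : 2 ≤ finrank K V) {g : V ≃ₗ[F] V} (hg : g ∉ GamL F K V) :
    ∃ x y, x ≠ 0 ∧ ¬ (y ∈ pt F K x ↔ g y ∈ pt F K (g x)) := by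
  by_contra hc
  push Not at hc
  refine hg (mem_GamL_of_pt hm fun x y => ?_)
  by_cases hx : x = 0
  · subst hx; simp [mem_pt, eq_comm (a := (0 : V))]
  · exact hc x y hx

theorem HasK.exists_conf (h : HasK K X) (hr : (finrank F K).Prime) (hm : 2 ≤ finrank K V)
    (hn : ¬ X ≤ GamL F K V) : ∃ g Y x u, Conf K X g Y x u := by
  have : FiniteDimensional F V := Module.Finite.trans K V
  obtain ⟨g₀, hg₀, hg₀'⟩ := SetLike.not_le_iff_exists.1 hn
  obtain ⟨x, y, hx, hy⟩ := exists_not_pt hm hg₀'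
  obtain ⟨s, hs, l, e⟩ := h.exists_move hm (g₀.map_ne_zero_iff.2 hx) hx
  obtain ⟨g, hg, Y, hY, ⟨w, hw0, hwY, hw⟩, ⟨u, huY, hu⟩, ⟨u', hu', hu'Y⟩, hmax⟩ :=
    exists_maxInt X (pt F K x) (X.mul_mem hs hg₀) (fun hc => hy (by
      rw [hc y, mul_app]
      simp only [mem_pt]
      refine exists_congr fun c => ?_
      rw [← s.injective.eq_iff (a := c • g₀ x), l, e])) hx (self_mem_pt x) (by rw [mul_app, e]; exact self_mem_pt x)
  have k1 : ∀ φ : Dual K V, φ x = 0 → φ u = 1 → ∀ y ∈ Y, ∃ c : F, algebraMap F K c = φ y := by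
    intro φ h1 h2 y hy
    have h3 : ∀ w ∈ pt F K x, φ w = 0 := fun w hw => by
      obtain ⟨c, rfl⟩ := mem_pt.1 hw
      simp [h1]
    refine mem_range_of_smul_mem hr hw0 hwY hw hu' hu'Y fun z hz hz' => ?_
    obtain ⟨t, ht, e⟩ := h.tv (h3 z hz')
    have := hmax t ht u huY hu (fun w hw hw' => by simpa [e, h3 w hw'] using hw)
      (by simpa [e, h2] using Y.add_mem huY hz) y hy
    rw [e] at this
    exact (Y.add_mem_iff_right hy).1 this
  obtain ⟨φ, h1, h2⟩ := exists_dual_zero_one (K := K) hu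
  rw [← pt_eq_of_mem hw0 hw] at hY hu hu'
  refine ⟨g, Y, w, u, hg, hw0, hY, hwY, huY, hu, ⟨u', hu', hu'Y⟩, fun y hy => ?_⟩
  rw [pt_eq_of_mem hw0 hw]
  obtain ⟨c, hc⟩ := k1 φ h1 h2 y hy
  refine ⟨c, by_contra fun hn => ?_⟩
  have h3 : φ (y - c • u) = 0 := by rw [← algebraMap_smul K, map_sub, map_smul, h2, hc]; simp
  obtain ⟨ψ, h4, h5, h6⟩ := exists_dual_zero_zero_one (K := K) (x := x) (u := u) (z := y - c • u)
    fun h => by
      obtain ⟨a, b, e⟩ := Submodule.mem_span_pair.1 h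
      have : b = 0 := by simpa [h1, h2, h3] using congrArg φ e
      exact hn (mem_pt.2 ⟨a, by simpa [this] using e⟩)
  obtain ⟨a, ha⟩ := exists_notMem_range hr.two_le
  obtain ⟨d, hd⟩ := k1 (φ + a • ψ) (by simp [h1, h4]) (by simp [h2, h5]) _
    (Y.sub_mem hy (Y.smul_mem c huY))
  exact ha d (by rw [hd, LinearMap.add_apply, LinearMap.smul_apply, h3, h6]; simp)

variable {g : V ≃ₗ[F] V} {Y : Submodule F V} {x u : V}

theorem Conf.app_mem (C : Conf K X g Y x u) (c : K) : g (c • x) ∈ Y :=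
  (C.iff _).2 (by simpa using smul_mem_pt c x)

theorem Conf.le_of_ne (C : Conf K X g Y x u) (h : HasK K X) (hr : 2 ≤ finrank F K)
    (hm : 2 ≤ finrank K V) (hq : ¬ (Nat.card F = 2 ∧ finrank F K = 2)) : SLV F V ≤ X := by
  obtain ⟨α₁, hα₁⟩ := exists_dual_eq_one (F := F) (one_ne_zero (α := K))
  obtain ⟨φ, h1, h2⟩ := exists_dual_zero_one (K := K) C.un
  have h3 : ∀ w ∈ pt F K x, φ w = 0 := fun w hw => by
    obtain ⟨c, rfl⟩ := mem_pt.1 hw
    simp [h1]
  have h4 : ∀ y ∈ Y, ∀ c : F, y - c • u ∈ pt F K x → φ y = algebraMap F K c := fun y hy c hc => by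
    have := h3 _ hc
    rw [← algebraMap_smul K, map_sub, map_smul, h2, sub_eq_zero] at this
    simpa using this
  let α : Dual F K := α₁ ∘ₗ φ.restrictScalars F ∘ₗ g.toLinearMap ∘ₗ
    (LinearMap.toSpanSingleton K V x).restrictScalars F
  have hα : ∀ c : K, φ (g (c • x)) = algebraMap F K (α c) := fun c => by
    obtain ⟨d, hd⟩ := C.key _ (C.app_mem c)
    change _ = algebraMap F K (α₁ (φ (g (c • x))))
    rw [h4 _ (C.app_mem c) d hd, Algebra.algebraMap_eq_smul_one d, map_smul, hα₁]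
    simp [Algebra.algebraMap_eq_smul_one]
  have hα0 : α ≠ 0 := fun e => by
    obtain ⟨c, hc⟩ := mem_pt.1 ((C.iff u).1 C.uY)
    simpa [hc, h2, e] using hα c
  have hT : ∀ e, α e = 0 → ∃ t ∈ X, (∀ c : K, t (c • x) = LinearMap.transvection α e c • x) ∧
      ∀ c : K, t⁻¹ (c • x) = LinearMap.transvection α (-e) c • x := fun e he => by
    obtain ⟨t, ht, et⟩ := h.tv (ψ := φ) (y := g (e • x)) (by simp [hα, he])
    have e1 : ∀ c : K, (g⁻¹ * t * g) (c • x) = LinearMap.transvection α e c • x := fun c => by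
      rw [mul_app, mul_app, et, hα, algebraMap_smul, map_add, inv_app_app, map_smul g⁻¹ (α c),
        inv_app_app, LinearMap.transvection.apply, add_smul, smul_assoc]
    refine ⟨g⁻¹ * t * g, X.mul_mem (X.mul_mem (X.inv_mem C.mem) ht) C.mem, e1,
      fun c => (g⁻¹ * t * g).injective ?_⟩
    rw [app_inv_app, e1]
    simp [LinearMap.transvection.apply, he]
  let R : Subring (Module.End F K) :=
    { carrier := {D | ∀ A ∈ LL K X x, D ∘ₗ A ∈ LL K X x}
      mul_mem' := fun {a b} ha hb A hA => ha _ (hb A hA)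
      one_mem' := fun A hA => hA
      add_mem' := fun {a b} ha hb A hA => LL_congr (add_mem (ha A hA) (hb A hA)) fun v => rfl
      zero_mem' := fun A _ => LL_congr (zero_mem _) fun v => rfl
      neg_mem' := fun {a} ha A hA => LL_congr (neg_mem (ha A hA)) fun v => rfl }
  obtain ⟨k, hk, hkR⟩ := exists_rank_one R (fun a A hA => h.smul_mem_LL hr C.ne a A hA) hα0
    (fun e he D hD A hA => by
      obtain ⟨t, ht, e1, e2⟩ := hT e he
      have a1 := LL_conj hA (X.inv_mem ht) _ e2 fun c => by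
        rw [inv_inv, e1]; exact smul_mem_pt _ _
      refine LL_congr (LL_conj (hD _ a1) ht _ e1 fun c => by rw [e2]; exact smul_mem_pt _ _)
        fun v => ?_
      simp) hr hq
  obtain ⟨c, hc⟩ := DFunLike.ne_iff.1 hα0
  exact h.le_of_rank_one hr hm C.ne (hkR _ (h.mem_LL h1)) ⟨c • u, by simpa [h2, hk] using hc⟩
    (k := k) fun v => ⟨_, rfl⟩

theorem Conf.le_of_three (C : Conf K X g Y x u) (h : HasK K X) (hr : 2 ≤ finrank F K)
    (hm : 3 ≤ finrank K V) : SLV F V ≤ X := by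
  have : FiniteDimensional F V := Module.Finite.trans K V
  obtain ⟨z, hz⟩ := exists_notMem_span_pair hm x u
  obtain ⟨φ, h1, h2, h3⟩ := exists_dual_zero_zero_one hz
  obtain ⟨t, ht, et⟩ := h.tv h1
  have h4 : ∀ y ∈ Y, φ y = 0 := fun y hy => by
    obtain ⟨c, hc⟩ := C.key y hy
    obtain ⟨d, hd⟩ := mem_pt.1 hc
    rw [eq_add_of_sub_eq hd.symm, ← algebraMap_smul K]; simp [h1, h2]
  obtain ⟨u', hu', hu'Y⟩ := C.ex
  obtain ⟨ψ, h5, h6⟩ := exists_dual_zero_one (K := K) (x := x) (u := g⁻¹ u')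
    fun hc => hu'Y ((C.iff _).2 hc)
  have h7 := exists_sub_smul_mem (Y := Y) (Y' := pt F K x) (by
    rw [show Y = (pt F K x).map (g : V →ₗ[F] V) from Submodule.ext fun y => by
      rw [C.iff, mem_map_iff_inv], LinearEquiv.finrank_map_eq]) C.uY C.key hu' hu'Y
  have e1 : ∀ c : K, (g⁻¹ * t * g) (c • x) = c • x := fun c => by
    rw [mul_app, mul_app, et, h4 _ (C.app_mem c)]; simp
  have a1 := sub_mem (LL_conj (h.mem_LL h5)
    (X.inv_mem (X.mul_mem (X.mul_mem (X.inv_mem C.mem) ht) C.mem)) LinearMap.id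
    (fun c => (g⁻¹ * t * g).injective (by rw [app_inv_app]; exact (e1 c).symm))
    fun c => by rw [inv_inv, e1]; exact smul_mem_pt _ _) (h.mem_LL h5)
  obtain ⟨c₀, hc₀⟩ := mem_pt.1 hu'
  refine h.le_of_rank_one hr (by omega) C.ne a1 ⟨g⁻¹ (c₀ • z), ?_⟩ (k := 1) fun v => ?_
  · simp [et, h3, hc₀, show ψ (g.symm u') = 1 from h6]
  · obtain ⟨d, hd⟩ := h7 _ (smul_mem_pt (φ (g v)) x)
    obtain ⟨c, hc⟩ := mem_pt.1 ((C.iff _).1 hd)
    refine ⟨d, ?_⟩
    have := congrArg ψ hc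
    rw [map_sub, map_smul ψ, map_smul g⁻¹ d, ← algebraMap_smul K d, map_sub, map_smul ψ, h5, h6,
      smul_zero, smul_eq_mul] at this
    simp only [inv_inv, LinearMap.sub_apply, LinearMap.comp_apply, LinearEquiv.coe_coe, mul_app, et,
      map_add, inv_app_app, LinearMap.restrictScalars_apply, LinearMap.id_apply]
    rw [Algebra.smul_def]
    linear_combination -this

theorem mem_pt_of_dual (hm : finrank K V = 2) (hx : x ≠ 0) {ψ : Dual K V} (h1 : ψ x = 0)
    (h2 : ∃ z, ψ z ≠ 0) {v : V} (hv : ψ v = 0) : v ∈ pt F K x := by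
  by_contra hc
  obtain ⟨z, hz⟩ := h2
  have h3 : Submodule.span K {x} < LinearMap.ker ψ := SetLike.lt_iff_le_and_exists.2
    ⟨(Submodule.span_singleton_le_iff_mem _ _).2 h1, v, hv, hc⟩
  have h4 : LinearMap.ker ψ < ⊤ := SetLike.lt_iff_le_and_exists.2 ⟨le_top, z, trivial, hz⟩
  have e1 := Submodule.finrank_lt_finrank_of_lt h3
  have e2 := Submodule.finrank_lt_finrank_of_lt h4
  rw [finrank_span_singleton hx] at e1
  rw [finrank_top] at e2
  omega

theorem exists_add_smul (hr : finrank F K = 2) {k : K} (hk : ∀ c : F, algebraMap F K c ≠ k)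
    (a : K) : ∃ c d : F, a = algebraMap F K c + d • k := by
  have h1 : LinearIndependent F ![(1 : K), k] := by
    rw [LinearIndependent.pair_iff' one_ne_zero]
    intro c hc
    exact hk c (by rw [Algebra.algebraMap_eq_smul_one, hc])
  have h2 := h1.span_eq_top_of_card_eq_finrank' (by simp [hr])
  obtain ⟨c, d, e⟩ := Submodule.mem_span_pair.1 (show a ∈ Submodule.span F {1, k} by
    rw [show ({1, k} : Set K) = Set.range ![(1 : K), k] by simp [Set.pair_comm], h2]; trivial)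
  exact ⟨c, d, by rw [Algebra.algebraMap_eq_smul_one, e]⟩

theorem HasK.le_of_not_linear (h : HasK K X) (hr : finrank F K = 2) (hm : finrank K V = 2)
    (hx : x ≠ 0) {A : V →ₗ[F] K} (hA : A ∈ LL K X x) (hn : ∃ (k : K) (v : V), A (k • v) ≠ k * A v) :
    SLV F V ≤ X := by
  obtain ⟨z, hz⟩ := exists_notMem_span hm.ge x
  obtain ⟨ψ, h1, h2⟩ := exists_dual_zero_one hz
  obtain ⟨k, hk⟩ := exists_notMem_range hr.ge
  have hB := sub_mem hA (h.mem_LL (ψ := A z • ψ) (by simp [h1]))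
  refine h.le_of_rank_one hr.ge hm.ge hx hB ?_ (k := A (k • z) - A z * k) fun v => ?_
  · by_contra hc
    push Not at hc
    obtain ⟨k, v, hv⟩ := hn
    simp only [LinearMap.sub_apply, LinearMap.restrictScalars_apply, LinearMap.smul_apply,
      smul_eq_mul, sub_eq_zero] at hc
    exact hv (by rw [hc, hc v, map_smul, smul_eq_mul]; ring)
  · obtain ⟨a, ha⟩ := mem_pt.1 (mem_pt_of_dual (F := F) hm hx h1 ⟨z, by simp [h2]⟩
      (v := v - ψ v • z) (by simp [h2]))
    obtain ⟨c, d, e⟩ := exists_add_smul hr hk (ψ v)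
    refine ⟨d, ?_⟩
    have e1 : A v = c • A z + d • A (k • z) := by
      conv_lhs => rw [eq_add_of_sub_eq ha.symm, e, map_add, hA.1, add_smul, algebraMap_smul,
        smul_assoc, map_add, map_smul, map_smul, zero_add]
    simp only [LinearMap.sub_apply, LinearMap.restrictScalars_apply, LinearMap.smul_apply,
      smul_eq_mul, e1, e, Algebra.smul_def]
    ring

theorem Conf.le_of_four (C : Conf K X g Y x u) (h : HasK K X) (hq : Nat.card F = 2)
    (hr : finrank F K = 2) (hm : finrank K V = 2) (hG : GamL F K V ≤ X) : SLV F V ≤ X := by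
  by_contra hcon
  have H : ∀ y, y ≠ 0 → ∀ A ∈ LL K X y, ∀ (k : K) v, A (k • v) = k * A v := fun y hy A hA => by
    by_contra hc
    push Not at hc
    exact hcon (h.le_of_not_linear hr hm hy hA hc)
  have hF : ∀ c : F, c = 0 ∨ c = 1 := fun c => by
    obtain ⟨y, -, hy⟩ := (Nat.card_eq_two_iff' (0 : F)).1 hq
    by_cases h0 : c = 0
    · exact Or.inl h0
    · exact Or.inr ((hy c h0).trans (hy 1 one_ne_zero).symm)
  have two : (2 : K) = 0 := by
    rcases hF 2 with h2 | h2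
    · rw [← map_ofNat (algebraMap F K) 2, h2, map_zero]
    · exact absurd (by linear_combination h2) (one_ne_zero (α := F))
  have h4 : ∀ a : K, a ^ 4 = a := fun a => by
    have := Finite.of_injective _ (algebraMap F K).injective
    have := Fintype.ofFinite K
    have := Fintype.ofFinite F
    rw [← FiniteField.pow_card a, ← pow_mul, mul_comm, pow_mul, FiniteField.pow_card,
      Module.card_eq_pow_finrank (K := F), hr, ← Nat.card_eq_fintype_card, hq]
    rfl
  obtain ⟨φ₀, a1, a2⟩ := exists_dual_zero_one (K := K) C.un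
  obtain ⟨φ₁, b1, b2⟩ := exists_dual_zero_one (K := K) (x := u) (u := x) fun hc => by
    obtain ⟨c, hc⟩ := Submodule.mem_span_singleton.1 hc
    have : c = 0 := by simpa [a1, a2] using congrArg φ₀ hc
    exact C.ne (by rw [← hc, this, zero_smul])
  have hpt : ∀ v, φ₀ v = 0 → v ∈ pt F K x := fun v =>
    mem_pt_of_dual hm C.ne a1 ⟨u, by simp [a2]⟩
  have hpt' : ∀ v ∈ pt F K x, φ₁ v • x = v := fun v hv => by
    obtain ⟨c, rfl⟩ := mem_pt.1 hv
    simp [b2]
  have dec : ∀ v, v = φ₁ v • x + φ₀ v • u := fun v => by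
    have := hpt' _ (hpt (v - φ₀ v • u) (by simp [a2]))
    rw [map_sub, map_smul, b1, smul_zero, sub_zero] at this
    rw [this]; abel
  have hext : ∀ v w, φ₁ v = φ₁ w → φ₀ v = φ₀ w → v = w := fun v w h1 h2 => by
    rw [dec v, dec w, h1, h2]
  -- the semilinear involution
  let b : V →ₗ[F] V :=
    { toFun := fun v => φ₁ v ^ 2 • x + φ₀ v ^ 2 • u
      map_add' := fun v w => hext _ _
        (by simp only [map_add, map_smul, b1, b2, smul_eq_mul]
            linear_combination (φ₁ v * φ₁ w) * two)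
        (by simp only [map_add, map_smul, a1, a2, smul_eq_mul]
            linear_combination (φ₀ v * φ₀ w) * two)
      map_smul' := fun c v => by rcases hF c with rfl | rfl <;> simp }
  have hb : ∀ v, b v = φ₁ v ^ 2 • x + φ₀ v ^ 2 • u := fun _ => rfl
  let β : V ≃ₗ[F] V := LinearEquiv.ofInvolutive b fun v => hext _ _
    (by simp [hb, b1, b2, ← pow_mul, h4]) (by simp [hb, a1, a2, ← pow_mul, h4])
  have hβ : ∀ v, β v = φ₁ v ^ 2 • x + φ₀ v ^ 2 • u := fun _ => rfl
  have hβ' : ∀ (k : K) v, β (k • v) = k ^ 2 • β v := fun k v => by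
    simp [hβ, mul_pow, smul_smul]
  have hβX : β ∈ X := hG ⟨fun k => ⟨_, hβ' k⟩, fun k => ⟨k ^ 2, fun v => by
    rw [hβ', ← pow_mul, h4]⟩⟩
  have hsq : ∀ a : K, a ^ 2 = a → a = 0 ∨ a = 1 := fun a ha => by
    have : a * (a - 1) = 0 := by linear_combination ha
    rcases mul_eq_zero.1 this with h | h
    exacts [Or.inl h, Or.inr (sub_eq_zero.1 h)]
  have hY1 : ∀ v, β v = v → v ∈ Y := fun v hv => by
    have e1 : φ₁ v ^ 2 = φ₁ v := by simpa [hβ, b1, b2] using congrArg φ₁ hv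
    have e2 : φ₀ v ^ 2 = φ₀ v := by simpa [hβ, a1, a2] using congrArg φ₀ hv
    rw [dec v]
    refine Y.add_mem ?_ ?_
    · rcases hsq _ e1 with h | h <;> simp [h, C.xY]
    · rcases hsq _ e2 with h | h <;> simp [h, C.uY]
  have hY2 : ∀ y ∈ Y, β y = y := fun y hy => by
    obtain ⟨c, hc⟩ := C.key y hy
    obtain ⟨u', hu', hu'Y⟩ := C.ex
    obtain ⟨a, ha⟩ := mem_pt.1 hc
    obtain ⟨k, rfl⟩ := mem_pt.1 hu'
    have haY : a • x ∈ Y := ha ▸ Y.sub_mem hy (Y.smul_mem c C.uY)
    obtain ⟨d, hd⟩ : ∃ d : F, algebraMap F K d = a := by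
      by_contra hn
      push Not at hn
      obtain ⟨d₁, d₂, rfl⟩ := exists_add_smul hr hn k
      refine hu'Y ?_
      rw [add_smul, algebraMap_smul, smul_assoc]
      exact Y.add_mem (Y.smul_mem _ C.xY) (Y.smul_mem _ haY)
    rw [eq_add_of_sub_eq ha.symm, ← hd, algebraMap_smul, map_add, map_smul, map_smul, hβ, hβ]
    simp [a1, a2, b1, b2]
  -- the element of order three
  obtain ⟨t₁, ht₁, e₁⟩ := h.tv a1
  obtain ⟨t₂, ht₂, e₂⟩ := h.tv b1
  have hd1 : ∀ v, φ₁ (t₂ (t₁ v)) = φ₁ v + φ₀ v := fun v => by simp [e₁, e₂, b1, b2]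
  have hd0 : ∀ v, φ₀ (t₂ (t₁ v)) = φ₁ v := fun v => by
    simp only [e₁, e₂, map_add, map_smul, a1, a2, b1, b2, smul_eq_mul]
    linear_combination φ₀ v * two
  have hdβ : ∀ v, t₂ (t₁ (β v)) = β (t₂ (t₁ v)) := fun v => hext _ _
    (by rw [hd1]; simp only [hβ, map_add, map_smul, a1, a2, b1, b2, smul_eq_mul, hd1, hd0]
        linear_combination (-φ₀ v * φ₁ v) * two)
    (by rw [hd0]; simp only [hβ, map_add, map_smul, a1, a2, b1, b2, smul_eq_mul, hd1, hd0]; ring)
  set d := g⁻¹ * (t₂ * t₁) * g with hd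
  have hdX : d ∈ X := X.mul_mem (X.mul_mem (X.inv_mem C.mem) (X.mul_mem ht₂ ht₁)) C.mem
  have hgd : ∀ v, g (d v) = t₂ (t₁ (g v)) := fun v => by simp [hd]
  have hdd : ∀ v, d (d v) = d v + v := fun v => g.injective (hext _ _
    (by rw [map_add, map_add, hgd, hgd, hd1, hd1, hd0])
    (by rw [map_add, map_add, hgd, hgd, hd0, hd1, hd0]))
  have hdp : ∀ v ∈ pt F K x, d v ∈ pt F K x := fun v hv => by
    have : g (d v) ∈ Y := hY1 _ (by rw [hgd, ← hdβ, hY2 _ ((C.iff _).2 (by simpa using hv))])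
    simpa using (C.iff _).1 this
  obtain ⟨c, hc⟩ := mem_pt.1 (hdp x (self_mem_pt x))
  have hcF : ∀ l : F, algebraMap F K l ≠ c := fun l hl => by
    have := hdd x
    rw [← hc, ← hl, algebraMap_smul, map_smul, ← hc, ← hl, algebraMap_smul] at this
    rcases hF l with rfl | rfl
    · exact C.ne (by simpa using this.symm)
    · exact C.ne (by simpa using this)
  have hc0 : c ≠ 0 := fun e => hcF 0 (by simp [e])
  have hc2 : c ^ 2 = c + 1 := by
    have h1 : c - 1 ≠ 0 := fun e => hcF 1 (by rw [map_one, ← sub_eq_zero.1 e])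
    have : c * (c - 1) * (c ^ 2 + c + 1) = 0 := by linear_combination h4 c
    have := (mul_eq_zero.1 this).resolve_left (mul_ne_zero hc0 h1)
    linear_combination this - (c + 1) * two
  have lin : ∀ (f : V ≃ₗ[F] V) (y y' : V), f y = y' → f (c • y) = c • y' →
      ∀ a : K, f (a • y) = a • y' := fun f y y' h1 h2 a => by
    obtain ⟨l₁, l₂, rfl⟩ := exists_add_smul hr hcF a
    simp only [add_smul, algebraMap_smul, smul_assoc, map_add, map_smul, h1, h2]
  have hdx : ∀ a : K, d (a • x) = a • c • x := lin d x _ hc.symm (by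
    rw [hc, hdd, ← hc, smul_smul, ← pow_two, hc2, add_smul, one_smul])
  -- the conjugate of the involution
  have hA : ∀ v, g⁻¹ (β (g v)) - v ∈ pt F K x := fun v => by
    have : β (g v) - g v ∈ Y := hY1 _ (hext _ _
      (by simp only [hβ, map_add, map_sub, map_smul, a1, a2, b1, b2, smul_eq_mul]
          linear_combination h4 (φ₁ (g v)) + (φ₁ (g v) - φ₁ (g v) ^ 3) * two)
      (by simp only [hβ, map_add, map_sub, map_smul, a1, a2, b1, b2, smul_eq_mul]
          linear_combination h4 (φ₀ (g v)) + (φ₀ (g v) - φ₀ (g v) ^ 3) * two))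
    simpa using (C.iff _).1 this
  have mk : ∀ f ∈ X, (∀ v, f v - v ∈ pt F K x) → (∀ a : K, f (a • x) = a • x) →
      ∃ ψ : Dual K V, ψ x = 0 ∧ ∀ v, f v = v + ψ v • x := fun f hf h1 h2 => by
    have h3 : φ₁.restrictScalars F ∘ₗ (f.toLinearMap - LinearMap.id) ∈ LL K X x :=
      ⟨fun a => by simp [h2], f, hf, fun v => by
        change _ = v + φ₁ (f v - v) • x
        rw [hpt' _ (h1 v)]; abel⟩
    refine ⟨⟨⟨φ₁.restrictScalars F ∘ₗ (f.toLinearMap - LinearMap.id), map_add _⟩, H x C.ne _ h3⟩,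
      by have := h3.1 1; rwa [one_smul] at this, fun v => ?_⟩
    change _ = v + φ₁ (f v - v) • x
    rw [hpt' _ (h1 v)]; abel
  obtain ⟨ψ, hψ, eψ⟩ := mk (g⁻¹ * β * g) (X.mul_mem (X.mul_mem (X.inv_mem C.mem) hβX) C.mem) hA
    fun a => by rw [mul_app, mul_app, hY2 _ (C.app_mem a), inv_app_app]
  have hψ0 : ∃ z, ψ z ≠ 0 := ⟨g⁻¹ (c • x), fun e => by
    have := eψ (g⁻¹ (c • x))
    rw [e, zero_smul, add_zero, mul_app, mul_app, app_inv_app, g⁻¹.injective.eq_iff] at this
    have : c ^ 2 = c := by simpa [hβ, a1, b2] using congrArg φ₁ this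
    exact one_ne_zero (α := K) (by linear_combination this - hc2)⟩
  have hS : (LinearEquiv.smulOfNeZero K V c⁻¹ (inv_ne_zero hc0)).restrictScalars F * d ∈ X :=
    X.mul_mem (hG (restrictScalars_mem_GamL _)) hdX
  obtain ⟨χ, hχ, eχ⟩ := mk _ hS (fun v => by
      change c⁻¹ • d v - v ∈ _
      refine mem_pt_of_dual hm C.ne hψ hψ0 ?_
      have e1 : (g⁻¹ * β * g) (d v) = d ((g⁻¹ * β * g) v) := g.injective (by simp [hgd, hdβ])
      rw [eψ, eψ, map_add, hdx, add_right_inj, smul_smul] at e1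
      rw [map_sub, map_smul, smul_left_injective K C.ne e1, smul_eq_mul]
      field_simp; ring)
    fun a => by
      change c⁻¹ • d (a • x) = _
      rw [hdx, smul_comm a, inv_smul_smul₀ hc0]
  have hdc : ∀ v, d v = c • v := fun v => by
    have e1 : ∀ v, d v = c • (v + χ v • x) := fun v => by
      rw [← eχ]; exact (smul_inv_smul₀ hc0 _).symm
    have e2 := congrArg φ₁ (hdd v)
    rw [e1, e1] at e2
    simp only [map_add, map_smul, hχ, b2, smul_eq_mul] at e2
    have : c * χ v = 0 := by linear_combination -e2 + φ₁ v * hc2 + c * c * χ v * two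
    rw [e1, (mul_eq_zero.1 this).resolve_left hc0, zero_smul, add_zero]
  -- an eigenvector
  have hgc : ∀ v, g (c • g⁻¹ v) = t₂ (t₁ v) := fun v => by rw [← hdc, hgd, app_inv_app]
  have hy : ∀ a : K, g⁻¹ (a • (x + c ^ 2 • u)) = a • g⁻¹ (x + c ^ 2 • u) :=
    lin g⁻¹ _ _ rfl (g.injective (by
      rw [app_inv_app, hgc]
      refine hext _ _ ?_ ?_
      · rw [hd1]; simp only [map_add, map_smul, a1, a2, b1, b2, smul_eq_mul]
        linear_combination -hc2 - two
      · rw [hd0]; simp only [map_add, map_smul, a1, a2, b1, b2, smul_eq_mul]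
        linear_combination (c + 1) * hc2 + c * two))
  obtain ⟨t, ht, et⟩ := h.tv (ψ := φ₀ - c ^ 2 • φ₁) (y := x + c ^ 2 • u) (by simp [a1, a2, b1, b2])
  have hL : (φ₀ - c ^ 2 • φ₁).restrictScalars F ∘ₗ g.toLinearMap ∈
      LL K X (g⁻¹ (x + c ^ 2 • u)) :=
    ⟨fun a => by rw [← hy]; simp [a1, a2, b1, b2, mul_comm], g⁻¹ * t * g,
      X.mul_mem (X.mul_mem (X.inv_mem C.mem) ht) C.mem, fun v => by
        rw [mul_app, mul_app, et, map_add, inv_app_app, hy]; rfl⟩
  have := H _ (fun e => C.ne (by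
    simpa [b1, b2] using congrArg φ₁ (g⁻¹.map_eq_zero_iff.1 e))) _ hL c (g⁻¹ u)
  simp only [LinearMap.comp_apply, LinearEquiv.coe_coe, hgc, app_inv_app,
    LinearMap.restrictScalars_apply, LinearMap.sub_apply, LinearMap.smul_apply, hd0, hd1, a2, b1,
    smul_eq_mul] at this
  exact one_ne_zero (α := K) (by linear_combination this - hc2 + (c ^ 2) * two)

/-- Overgroups of the extension field subgroup. -/
theorem HasK.SLV_le (h : HasK K X) (hr : (finrank F K).Prime) (hm : 2 ≤ finrank K V)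
    (hG : Nat.card F = 2 → GamL F K V ≤ X) (hn : ¬ X ≤ GamL F K V) : SLV F V ≤ X := by
  obtain ⟨g, Y, x, u, C⟩ := h.exists_conf hr hm hn
  by_cases hq : Nat.card F = 2 ∧ finrank F K = 2
  · rcases hm.eq_or_lt with h2 | h2
    · exact C.le_of_four h hq.1 hq.2 h2.symm (hG hq.1)
    · exact C.le_of_three h hr.two_le h2
  · exact C.le_of_ne h hr.two_le hm hq

theorem exists_dil (ψ : Dual K V) (y : V) (h : 1 + ψ y ≠ 0) :
    ∃ g ∈ GamL F K V, LinearMap.det (g : V →ₗ[F] V) = Algebra.norm F (1 + ψ y) ∧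
      ∀ v, g v = v + ψ v • y := by
  refine ⟨(LinearEquiv.dilatransvection h.isUnit).restrictScalars F, restrictScalars_mem_GamL _,
    ?_, fun v => LinearEquiv.dilatransvection.apply (h := h.isUnit)⟩
  conv_rhs => rw [← LinearMap.transvection.det, ← LinearMap.det_restrictScalars]
  rfl

theorem hasK_GamL_inf : HasK K (GamL F K V ⊓ SLV F V) := fun ψ y h => by
  obtain ⟨g, h1, h2, h3⟩ := exists_dil (F := F) ψ y fun e => by simp [e] at h
  exact ⟨g, ⟨h1, mem_SLV.2 (h2.trans h)⟩, h3⟩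

theorem exists_SLV_notMem_GamL (hr : 2 ≤ finrank F K) (hm : 2 ≤ finrank K V) :
    ∃ g ∈ SLV F V, g ∉ GamL F K V := by
  have : FiniteDimensional F V := Module.Finite.trans K V
  obtain ⟨x, hx⟩ := exists_notMem_span hm (0 : V)
  have hx0 : x ≠ 0 := fun e => hx (by rw [e]; exact Submodule.zero_mem _)
  obtain ⟨z, hz⟩ := exists_notMem_span hm x
  obtain ⟨k, hk⟩ := exists_notMem_range hr
  obtain ⟨g, hg, h1, v, hv, h2⟩ := exists_SLV_fix_not_stab (W := Submodule.span F {x})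
    (E := pt F K x) (SetLike.lt_iff_le_and_exists.2
      ⟨(Submodule.span_singleton_le_iff_mem _ _).2 (self_mem_pt x), k • x, smul_mem_pt _ _,
        fun h => by
          obtain ⟨c, hc⟩ := Submodule.mem_span_singleton.1 h
          rw [← algebraMap_smul K] at hc
          exact hk c (smul_left_injective K hx0 hc)⟩)
    (fun h => hz (show z ∈ pt F K x by rw [h]; trivial))
  refine ⟨g, hg, fun h => h2 ?_⟩
  obtain ⟨c, rfl⟩ := mem_pt.1 hv
  obtain ⟨c', hc'⟩ := h.1 c
  rw [hc', h1 x (Submodule.mem_span_singleton_self x)]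
  exact smul_mem_pt _ _

theorem GamL_isMaximalIn_SLV (hr : (finrank F K).Prime) (hm : 2 ≤ finrank K V) :
    Geo.IsMaximalIn (SLV F V) (GamL F K V ⊓ SLV F V) := by
  refine isMaximalIn_of inf_le_right ?_ fun M h1 h2 g hg hg' => ?_
  · obtain ⟨g, h1, h2⟩ := exists_SLV_notMem_GamL hr.two_le hm
    exact ⟨g, h1, fun h => h2 h.1⟩
  · refine HasK.SLV_le (fun ψ y h => ?_) hr hm (fun hq s hs => h1 ⟨hs, ?_⟩)
      fun h => hg' ⟨h hg, h2 hg⟩
    · obtain ⟨s, hs, e⟩ := hasK_GamL_inf ψ y h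
      exact ⟨s, h1 hs, e⟩
    · obtain ⟨y, -, hy⟩ := (Nat.card_eq_two_iff' (0 : F)).1 hq
      refine mem_SLV.2 ?_
      rw [← LinearEquiv.coe_det]
      exact (hy _ (Units.ne_zero _)).trans (hy 1 one_ne_zero).symm

theorem GamL_isMaximalIn_top (hr : (finrank F K).Prime) (hm : 2 ≤ finrank K V) :
    Geo.IsMaximalIn ⊤ (GamL F K V) := by
  refine isMaximalIn_of le_top ?_ fun M h1 _ g hg hg' s _ => ?_
  · obtain ⟨g, -, h2⟩ := exists_SLV_notMem_GamL hr.two_le hm
    exact ⟨g, trivial, h2⟩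
  · have h3 : SLV F V ≤ M := HasK.SLV_le (fun ψ y h => by
      obtain ⟨s, hs, e⟩ := hasK_GamL_inf ψ y h
      exact ⟨s, h1 hs.1, e⟩) hr hm (fun _ => h1) fun h => hg' (h hg)
    obtain ⟨a, ha⟩ := FiniteField.norm_surjective F K (LinearEquiv.det s : F)
    obtain ⟨x, hx⟩ := exists_notMem_span hm (0 : V)
    obtain ⟨-, φ, -, hφ⟩ : True ∧ _ := ⟨trivial, exists_dual_zero_one hx⟩
    obtain ⟨t, ht, h4, -⟩ := exists_dil (F := F) ((a - 1) • φ) x (by
      intro e
      have : a = 0 := by simpa [hφ] using e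
      rw [this, Algebra.norm_zero] at ha
      exact Units.ne_zero _ ha.symm)
    have : s * t⁻¹ ∈ SLV F V := by
      rw [SLV, MonoidHom.mem_ker, map_mul, map_inv, mul_inv_eq_one, Units.ext_iff, ← ha,
        LinearEquiv.coe_det, h4]
      simp [hφ]
    simpa using M.mul_mem (h3 this) (h1 ht)

/-! ### The bridge to matrices -/

section Bridge

open Matrix

variable {ι : Type} [Fintype ι] [DecidableEq ι]

theorem isField_of [Nonempty ι] {K : Subalgebra F (Matrix ι ι F)} {d : ℕ}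
    (hK : Geo.IsFieldSubalgebra d K) : IsField K :=
  { exists_pair_ne := ⟨0, 1, zero_ne_one⟩
    mul_comm := fun x y => Subtype.ext (hK.comm _ x.2 _ y.2)
    mul_inv_cancel := fun {x} hx => by
      obtain ⟨y, hy, hxy⟩ := hK.inv x x.2 fun h => hx (Subtype.ext h)
      exact ⟨⟨y, hy⟩, Subtype.ext hxy⟩ }

theorem mem_subalgebraNormalizer_iff (K : Subalgebra F (Matrix ι ι F)) (g : GL ι F) :
    g ∈ Geo.subalgebraNormalizer K ↔
      (∀ k : K, ∃ k' : K, ∀ v, glEquiv ι F g (k • v) = k' • glEquiv ι F g v) ∧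
        ∀ k' : K, ∃ k : K, ∀ v, glEquiv ι F g (k • v) = k' • glEquiv ι F g v := by
  have key : ∀ k k' : Matrix ι ι F, (∀ v, glEquiv ι F g (k *ᵥ v) = k' *ᵥ glEquiv ι F g v) ↔
      (g : Matrix ι ι F) * k * ((g⁻¹ : GL ι F) : Matrix ι ι F) = k' := fun k k' => by
    simp only [glEquiv_apply, mulVec_mulVec]
    rw [← Matrix.ext_iff_mulVec, Units.mul_inv_eq_iff_eq_mul]
  constructor
  · intro h
    refine ⟨fun k => ⟨⟨_, (h k).1 k.2⟩, (key _ _).2 rfl⟩, fun k => ?_⟩
    have e : (g : Matrix ι ι F) * (((g⁻¹ : GL ι F) : Matrix ι ι F) * k * g) *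
        ((g⁻¹ : GL ι F) : Matrix ι ι F) = k := by simp [mul_assoc]
    exact ⟨⟨_, (h _).2 (e.symm ▸ k.2)⟩, (key _ _).2 e⟩
  · rintro ⟨h1, h2⟩ k
    constructor
    · intro hk
      obtain ⟨k', hk'⟩ := h1 ⟨k, hk⟩
      exact (key _ _).1 hk' ▸ k'.2
    · intro hk
      obtain ⟨k', hk'⟩ := h2 ⟨_, hk⟩
      have := (key _ _).1 hk'
      simp only [Units.mul_left_inj, Units.mul_right_inj] at this
      exact this ▸ k'.2

theorem subalgebraNormalizer_isMaximalIn [Finite F] {r : ℕ} (hr : r.Prime) (hlt : r < Fintype.card ι)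
    {K : Subalgebra F (Matrix ι ι F)} (hK : Geo.IsFieldSubalgebra r K) :
    IsCoatom (Geo.subalgebraNormalizer K) ∧
      Geo.IsMaximalIn (Geo.specialLinear ι F)
        (Geo.subalgebraNormalizer K ⊓ Geo.specialLinear ι F) := by
  have : Nonempty ι := Fintype.card_pos_iff.1 (by omega)
  let := (isField_of hK).toField
  have : FiniteDimensional K (ι → F) := Module.Finite.of_finite
  have h1 := Module.finrank_mul_finrank F K (ι → F)
  rw [hK.finrank_eq, Module.finrank_fintype_fun_eq_card] at h1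
  have hm : 2 ≤ finrank K (ι → F) := by
    by_contra hc
    have : r * finrank K (ι → F) ≤ r * 1 := Nat.mul_le_mul_left _ (by omega)
    omega
  have hr' : (finrank F K).Prime := hK.finrank_eq ▸ hr
  constructor
  · have := isMaximalIn_of_equiv (glEquiv ι F) (K := ⊤) (fun _ => Iff.rfl)
      (mem_subalgebraNormalizer_iff K) (GamL_isMaximalIn_top hr' hm)
    exact ⟨this.1.ne, fun M hM => (this.2 M hM.le le_top).resolve_left hM.ne'⟩
  · exact isMaximalIn_of_equiv (glEquiv ι F) (H' := GamL F K (ι → F) ⊓ SLV F _)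
      mem_specialLinear_iff (fun g => and_congr (mem_subalgebraNormalizer_iff K g) (mem_specialLinear_iff g))
      (GamL_isMaximalIn_SLV hr' hm)

end Bridge

end Cfsg.Agent.Class.Max
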