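import Mathlib
import Cfsg.Agent.Class.Max.Lin
import Cfsg.Agent.Class.Asch.Comm

/-!
Subfield structures: the Frobenius map attached to a basis, the subfield groups as the maps
commuting with it up to scalars; opposite unipotent elements on a plane.
-/

set_option autoImplicit false

namespace Cfsg.Agent.Class.Max

open Module

variable {F V : Type*} [Field F] [AddCommGroup V] [Module F V]

/-- A subfield of prime index in a finite field, with its Frobenius automorphism. -/
structure IsFrob (θ₀ : F ≃+* F) (F₀ : Subfield F) : Prop where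
  fix : ∀ c, θ₀ c = c ↔ c ∈ F₀
  max : ∀ R : Subring F, (∀ c ∈ F₀, c ∈ R) → (∀ c ∈ R, c ∈ F₀) ∨ ∀ c, c ∈ R
  ne : ∃ c, c ∉ F₀
  comm : ∀ (σ : F →+* F) c, θ₀ (σ c) = σ (θ₀ c)

theorem exists_isFrob [Fintype F] (F₀ : Subfield F) {r : ℕ} (hr : r.Prime)
    (hcard : Fintype.card F = Nat.card F₀ ^ r) :
    ∃ θ₀ : F ≃+* F, IsFrob θ₀ F₀ ∧ ∀ c, θ₀ c = c ^ Nat.card F₀ := by
  classical
  have : Fintype F₀ := Fintype.ofFinite _
  have hrk : finrank F₀ F = r := by
    have h2 := Module.natCard_eq_pow_finrank (K := F₀) (V := F)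
    rw [Nat.card_eq_fintype_card (α := F), hcard] at h2
    exact (Nat.pow_right_injective (Finite.one_lt_card (α := F₀)) h2).symm
  let φ := FiniteField.frobeniusAlgEquivOfAlgebraic F₀ F
  have hφ : ∀ c, φ.toRingEquiv c = c ^ Nat.card F₀ := fun c => by
    rw [Nat.card_eq_fintype_card]; rfl
  refine ⟨φ.toRingEquiv, ⟨fun c => ?_, fun R hR => ?_, ?_, fun σ c => by rw [hφ, hφ, map_pow]⟩, hφ⟩
  · obtain ⟨L, h1, h2⟩ := Asch.exists_intermediateField (F := F₀) (K := F) (one_dvd _)
    rw [IntermediateField.finrank_eq_one_iff] at h1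
    rw [hφ, Nat.card_eq_fintype_card, ← pow_one (Fintype.card F₀), ← h2, h1,
      IntermediateField.mem_bot]
    exact ⟨fun ⟨x, hx⟩ => hx ▸ x.2, fun h => ⟨⟨c, h⟩, rfl⟩⟩
  · let S : Subalgebra F₀ F := { R with algebraMap_mem' := fun c => hR c.1 c.2 }
    rcases (Subalgebra.isSimpleOrder_of_finrank_prime F₀ F (hrk ▸ hr)).eq_bot_or_eq_top S with h | h
    · refine Or.inl fun c hc => ?_
      have : c ∈ S := hc
      rw [h, Algebra.mem_bot] at this
      obtain ⟨x, rfl⟩ := this
      exact x.2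
    · exact Or.inr fun c => (show c ∈ S by rw [h]; trivial)
  · by_contra hc
    push Not at hc
    have h1 : Nat.card F₀ = Nat.card F :=
      Nat.card_congr (Equiv.subtypeUnivEquiv hc)
    rw [← Nat.card_eq_fintype_card, h1] at hcard
    have := Nat.pow_right_injective (Finite.one_lt_card (α := F)) ((pow_one _).trans hcard)
    exact hr.one_lt.ne this

/-! ### Two opposite unipotent elements on a plane -/

theorem pow_apply_of_unip {x : V ≃ₗ[F] V} {a b : F} {u w : V} {α : F} (hu : x u = u)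
    (hw : x w = w + α • u) (n : ℕ) :
    (x ^ n) (a • u + b • w) = a • u + b • w + ((n : F) * b * α) • u := by
  induction n with
  | zero => simp
  | succ n ih =>
    rw [pow_succ', mul_app, ih]
    simp only [map_add, map_smul, hu, hw]
    push_cast
    module

theorem card_modEq_of_unip [Finite F] {p : ℕ} [Fact p.Prime] [CharP F p] {x : V ≃ₗ[F] V}
    {u w : V} {α : F} (hu : x u = u) (hw : x w = w + α • u) (O : Set V)
    (h1 : ∀ v ∈ O, ∃ a b : F, v = a • u + b • w) (h2 : ∀ v ∈ O, x v ∈ O) :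
    Nat.card O ≡ Nat.card {v : O // x v = v} [MOD p] := by
  classical
  have : Finite O := by
    have : O ⊆ Set.range fun ab : F × F => ab.1 • u + ab.2 • w := fun v hv => by
      obtain ⟨a, b, rfl⟩ := h1 v hv
      exact ⟨(a, b), rfl⟩
    exact (Set.finite_range _).subset this
  have := Fintype.ofFinite O
  let f : Function.End O := fun v => ⟨x v, h2 v v.2⟩
  have hf : ∀ n (v : O), ((f ^ n) v : V) = (x ^ n) v := fun n => by
    induction n with
    | zero => exact fun _ => rfl
    | succ n ih => exact fun v => by rw [pow_succ, pow_succ]; exact ih (f v)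
  have h3 := Equiv.Perm.card_fixedPoints_modEq (f := f) (p := p) (n := 1) (by
    funext v
    apply Subtype.ext
    obtain ⟨a, b, h⟩ := h1 v v.2
    rw [hf, pow_one, h, pow_apply_of_unip hu hw, CharP.cast_eq_zero]
    simp [← h]
    rfl)
  rw [← Nat.card_eq_fintype_card, ← Nat.card_eq_fintype_card] at h3
  refine h3.trans ?_
  rw [Nat.card_congr (Equiv.subtypeEquivRight (q := fun v : O => x v = v) fun v => ?_)]
  exact Subtype.ext_iff

/-- Two opposite unipotent elements on a plane: their centres are conjugate. -/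
theorem exists_move_plane [Finite F] {S : Subgroup (V ≃ₗ[F] V)} {x x' : V ≃ₗ[F] V} (hx : x ∈ S)
    (hx' : x' ∈ S) {u w : V} {α β : F} (hα : α ≠ 0) (hβ : β ≠ 0) (hu : x u = u)
    (hw : x w = w + α • u) (hw' : x' w = w) (hu' : x' u = u + β • w)
    (hind : ∀ a b : F, a • u + b • w = 0 → a = 0 ∧ b = 0) :
    ∃ s ∈ S, ∃ δ : F, δ ≠ 0 ∧ s u = δ • w := by
  by_contra hc
  push Not at hc
  obtain ⟨p, hp⟩ := CharP.exists F
  have : Fact p.Prime := ⟨CharP.char_is_prime F p⟩
  let O : Set V := {v | (∃ a b : F, v = a • u + b • w) ∧ ∃ s ∈ S, ∃ c : F, v = c • s u}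
  have hO : ∀ y ∈ S, (∀ a b : F, ∃ a' b' : F, y (a • u + b • w) = a' • u + b' • w) →
      ∀ v ∈ O, y v ∈ O := by
    rintro y hy h v ⟨⟨a, b, rfl⟩, s, hs, c, e⟩
    exact ⟨h a b, y * s, S.mul_mem hy hs, c, by rw [e, map_smul, mul_app]⟩
  have h1 := card_modEq_of_unip (p := p) hu hw O (fun v hv => hv.1) (hO x hx fun a b =>
    ⟨a + b * α, b, by simp only [map_add, map_smul, hu, hw]; module⟩)
  have h2 := card_modEq_of_unip (p := p) hw' hu' O (fun v hv => by
    obtain ⟨a, b, rfl⟩ := hv.1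
    exact ⟨b, a, add_comm _ _⟩) (hO x' hx' fun a b =>
    ⟨a, b + a * β, by simp only [map_add, map_smul, hu', hw']; module⟩)
  have hu0 : u ≠ 0 := fun h => one_ne_zero (hind 1 0 (by simp [h])).1
  have hw0 : w ≠ 0 := fun h => one_ne_zero (hind 0 1 (by simp [h])).2
  have h3 : Nat.card {v : O // x v = v} = Nat.card F := by
    symm
    refine Nat.card_eq_of_bijective (fun c => ⟨⟨c • u, ⟨c, 0, by simp⟩, 1, S.one_mem, c, rfl⟩,
      by simp [hu]⟩) ⟨fun a b h => smul_left_injective F hu0 (congrArg (·.1.1) h), ?_⟩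
    rintro ⟨⟨_, ⟨a, b, rfl⟩, h⟩, h'⟩
    simp only [map_add, map_smul, hu, hw, smul_add, smul_smul, add_right_inj, add_eq_left,
      smul_eq_zero, mul_eq_zero, hα, hu0, or_false] at h'
    subst h'
    exact ⟨a, by simp⟩
  have h4 : Nat.card {v : O // x' v = v} = 1 := by
    rw [Nat.card_eq_one_iff_exists]
    refine ⟨⟨⟨0, ⟨0, 0, by simp⟩, 1, S.one_mem, 0, by simp⟩, by simp⟩, ?_⟩
    rintro ⟨⟨_, ⟨a, b, rfl⟩, s, hs, c, e⟩, h'⟩
    simp only [map_add, map_smul, hu', hw', smul_add, smul_smul, add_left_inj, add_eq_left,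
      smul_eq_zero, mul_eq_zero, hβ, hw0, or_false] at h'
    subst h'
    have : b = 0 := by
      by_contra hb
      rw [zero_smul, zero_add] at e
      have hc0 : c ≠ 0 := by rintro rfl; exact hw0 (by simpa [hb] using e)
      exact hc s hs (c⁻¹ * b) (mul_ne_zero (inv_ne_zero hc0) hb)
        (by rw [mul_smul, e, smul_smul, inv_mul_cancel₀ hc0, one_smul])
    subst this
    simp
  rw [h3] at h1
  rw [h4] at h2
  have h5 : p ∣ Nat.card F := by
    have := Fintype.ofFinite F
    rw [Nat.card_eq_fintype_card, ← CharP.cast_eq_zero_iff F p]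
    exact FiniteField.cast_card_eq_zero F
  have h6 := (h2.symm.trans h1).trans (Nat.modEq_zero_iff_dvd.2 h5)
  exact (Fact.out : p.Prime).one_lt.ne' (Nat.dvd_one.1 (Nat.modEq_zero_iff_dvd.1 h6))

/-! ### The Frobenius map of a basis -/

section Frob

variable {θ₀ : F ≃+* F}

/-- The maps commuting with a semilinear map up to a scalar. -/
def Nfrob (θ : V →ₛₗ[(θ₀ : F →+* F)] V) : Subgroup (V ≃ₗ[F] V) where
  carrier := {g | ∃ κ : F, κ ≠ 0 ∧ ∀ v, θ (g v) = κ • g (θ v)}
  mul_mem' := by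
    rintro a b ⟨κ, hκ, h⟩ ⟨κ', hκ', h'⟩
    exact ⟨κ * κ', mul_ne_zero hκ hκ', fun v => by
      rw [mul_app, h, h', map_smul, smul_smul, mul_app]⟩
  one_mem' := ⟨1, one_ne_zero, fun v => by simp⟩
  inv_mem' := by
    rintro a ⟨κ, hκ, h⟩
    refine ⟨κ⁻¹, inv_ne_zero hκ, fun v => a.injective ?_⟩
    have := h (a⁻¹ v)
    rw [app_inv_app] at this
    rw [map_smul, app_inv_app, this, smul_smul, inv_mul_cancel₀ hκ, one_smul]

/-- A linear form composed with a semilinear map. -/
def dualFrob (θ : V →ₛₗ[(θ₀ : F →+* F)] V) (φ : Dual F V) : Dual F V where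
  toFun v := θ₀.symm (φ (θ v))
  map_add' x y := by simp
  map_smul' c x := by simp

theorem dualFrob_eq_zero {θ : V →ₛₗ[(θ₀ : F →+* F)] V} {φ : Dual F V} {v : V} :
    dualFrob θ φ v = 0 ↔ φ (θ v) = 0 := by
  change θ₀.symm _ = 0 ↔ _
  simp

/-- An element fixing both `v` and `θ v ≠ 0` commutes with `θ`. -/
theorem Nfrob.comm {θ : V →ₛₗ[(θ₀ : F →+* F)] V} {g : V ≃ₗ[F] V} (hg : g ∈ Nfrob θ) {v : V}
    (h0 : θ v ≠ 0) (h1 : g v = v) (h2 : g (θ v) = θ v) (x : V) : θ (g x) = g (θ x) := by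
  obtain ⟨κ, -, h⟩ := hg
  have h3 := h v
  rw [h1, h2] at h3
  have : κ = 1 := smul_left_injective F h0 (by simpa using h3.symm)
  rw [h, this, one_smul]

theorem mem_Nfrob_of_span {θ : V →ₛₗ[(θ₀ : F →+* F)] V} {S : Set V}
    (hS : Submodule.span F S = ⊤) (hθ : ∀ v ∈ S, θ v = v) {g : V ≃ₗ[F] V} {μ : F} (hμ : μ ≠ 0)
    (h : ∀ v ∈ S, θ (μ • g v) = μ • g v) : g ∈ Nfrob θ := by
  have h0 : θ₀ μ ≠ 0 := (map_ne_zero θ₀).2 hμ
  refine ⟨μ / θ₀ μ, div_ne_zero hμ h0, fun v => ?_⟩
  have hv : v ∈ Submodule.span F S := hS ▸ trivial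
  induction hv using Submodule.span_induction with
  | mem x hx =>
    apply smul_right_injective V h0
    have := h x hx
    rw [map_smulₛₗ] at this
    simp only [smul_smul, mul_div_cancel₀ _ h0, hθ x hx]
    exact this
  | zero => simp
  | add x y _ _ hx hy => simp only [map_add, hx, hy, smul_add]
  | smul a x _ hx => simp only [map_smul, map_smulₛₗ, hx]; exact smul_comm _ _ _

variable {ι : Type} [Fintype ι]

variable (θ₀) in
/-- The Frobenius map attached to a basis. -/
noncomputable def frob (b : Basis ι F V) : V →ₛₗ[(θ₀ : F →+* F)] V where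
  toFun v := ∑ i, θ₀ (b.repr v i) • b i
  map_add' x y := by simp [add_smul, Finset.sum_add_distrib]
  map_smul' c x := by simp [Finset.smul_sum, mul_smul]

theorem repr_frob (b : Basis ι F V) (v : V) (i : ι) : b.repr (frob θ₀ b v) i = θ₀ (b.repr v i) :=
  congrFun (b.repr_sum_self fun i => θ₀ (b.repr v i)) i

theorem frob_eq_iff (b : Basis ι F V) {v : V} :
    frob θ₀ b v = v ↔ ∀ i, θ₀ (b.repr v i) = b.repr v i := by
  rw [b.ext_elem_iff]
  simp only [repr_frob]

theorem frob_basis (b : Basis ι F V) (i : ι) : frob θ₀ b (b i) = b i := by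
  classical
  rw [frob_eq_iff]
  intro j
  rw [b.repr_self, Finsupp.single_apply]
  split_ifs <;> simp

theorem frob_eq_zero (b : Basis ι F V) {v : V} : frob θ₀ b v = 0 ↔ v = 0 := by
  refine ⟨fun h => b.ext_elem fun i => ?_, fun h => by rw [h, map_zero]⟩
  have := repr_frob (θ₀ := θ₀) b v i
  rw [h] at this
  simpa using this.symm

/-- A point stable under the Frobenius map is spanned by a rational vector. -/
theorem exists_smul_frob_eq (b : Basis ι F V) {v : V} {κ : F} (hv : v ≠ 0)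
    (h : frob θ₀ b v = κ • v) : ∃ c : F, c ≠ 0 ∧ frob θ₀ b (c • v) = c • v := by
  obtain ⟨i, hi⟩ : ∃ i, b.repr v i ≠ 0 := by
    by_contra hc
    push Not at hc
    exact hv (b.ext_elem fun i => by simp [hc i])
  have h1 := congrArg (b.repr · i) h
  simp only [repr_frob, map_smul, Finsupp.smul_apply, smul_eq_mul] at h1
  refine ⟨(b.repr v i)⁻¹, inv_ne_zero hi, ?_⟩
  rw [map_smulₛₗ, h, smul_smul]
  congr 1
  have h2 : θ₀ (b.repr v i) ≠ 0 := (map_ne_zero θ₀).2 hi
  have h3 : κ ≠ 0 := left_ne_zero_of_mul (h1 ▸ h2)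
  simp only [RingHom.coe_coe, map_inv₀, h1]
  field_simp

theorem mem_Nfrob_of_basis (b : Basis ι F V) {g : V ≃ₗ[F] V} {μ : F} (hμ : μ ≠ 0)
    (h : ∀ i, frob θ₀ b (μ • g (b i)) = μ • g (b i)) : g ∈ Nfrob (frob θ₀ b) :=
  mem_Nfrob_of_span b.span_eq (by rintro _ ⟨i, rfl⟩; exact frob_basis b i) hμ
    (by rintro _ ⟨i, rfl⟩; exact h i)

end Frob

section Matrices

open Matrix

variable {ι : Type} [Fintype ι] [DecidableEq ι]

/-- The basis formed by the columns of an invertible matrix. -/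
noncomputable def colBasis (P : GL ι F) : Basis ι F (ι → F) := (Pi.basisFun F ι).map (glEquiv ι F P)

theorem colBasis_repr (P : GL ι F) (v : ι → F) (i : ι) :
    (colBasis P).repr v i = (glEquiv ι F P⁻¹ v) i := by
  simp [colBasis]

theorem colBasis_apply (P : GL ι F) (i : ι) : colBasis P i = glEquiv ι F P (Pi.single i 1) := by
  simp [colBasis]

theorem repr_glEquiv_colBasis (P g : GL ι F) (i j : ι) :
    (colBasis P).repr (glEquiv ι F g (colBasis P j)) i = (P⁻¹ * g * P : GL ι F) i j := by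
  rw [colBasis_repr, colBasis_apply, ← mul_app, ← mul_app, ← map_mul, ← map_mul, glEquiv_apply]
  simp

theorem mem_subfieldSubgroup_iff [Nonempty ι] {θ₀ : F ≃+* F} {F₀ : Subfield F}
    (hθ : ∀ c, θ₀ c = c ↔ c ∈ F₀) (P g : GL ι F) :
    g ∈ Geo.subfieldSubgroup F₀ P ↔ glEquiv ι F g ∈ Nfrob (frob θ₀ (colBasis P)) := by
  constructor
  · rintro ⟨k, hk, rfl⟩
    have : (GeneralLinearGroup.map (F₀.subtype : F₀ →+* F)).range ⊔ Geo.scalars ι F ≤
        (Nfrob (frob θ₀ (colBasis P))).comap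
          ((glEquiv ι F).toMonoidHom.comp (MulAut.conj P).toMonoidHom) := by
      refine sup_le ?_ fun k hk => ?_
      · rintro _ ⟨k, rfl⟩
        refine mem_Nfrob_of_basis _ one_ne_zero fun j => ?_
        rw [one_smul, frob_eq_iff]
        intro i
        change θ₀ ((colBasis P).repr (glEquiv ι F (P * _ * P⁻¹) _) i) =
          (colBasis P).repr (glEquiv ι F (P * _ * P⁻¹) _) i
        rw [repr_glEquiv_colBasis, hθ]
        simp only [mul_assoc, inv_mul_cancel, mul_one, inv_mul_cancel_left]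
        exact (k i j).2
      · obtain ⟨c, hc⟩ := (Geo.mem_scalars_iff k).1 hk
        refine mem_Nfrob_of_basis _ (inv_ne_zero c.ne_zero) fun j => ?_
        have : glEquiv ι F (P * k * P⁻¹) (colBasis P j) = (c : F) • colBasis P j := by
          rw [map_mul, map_mul, mul_app, mul_app, glEquiv_apply k, hc, smul_mulVec, one_mulVec,
            map_smul, map_inv, app_inv_app]
        change frob θ₀ _ (_ • glEquiv ι F (P * k * P⁻¹) _) = _ • glEquiv ι F (P * k * P⁻¹) _
        rw [this, smul_smul, inv_mul_cancel₀ c.ne_zero, one_smul, frob_basis]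
    exact this hk
  · rintro ⟨κ, -, h⟩
    set k : GL ι F := P⁻¹ * g * P with hk
    obtain ⟨j₀⟩ := ‹Nonempty ι›
    obtain ⟨c, hc0, hc⟩ := exists_smul_frob_eq (θ₀ := θ₀) (colBasis P)
      (v := glEquiv ι F g (colBasis P j₀)) (κ := κ) (by simpa using (colBasis P).ne_zero j₀)
      (by rw [h, frob_basis])
    have h1 : θ₀ c * κ = c := by
      rw [map_smulₛₗ, h, frob_basis, smul_smul] at hc
      exact smul_left_injective F (by simpa using (colBasis P).ne_zero j₀) hc
    have h2 : ∀ i j, c * k i j ∈ F₀ := fun i j => by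
      have := congrArg ((colBasis P).repr · i) (h (colBasis P j))
      simp only [repr_frob, frob_basis, map_smul, Finsupp.smul_apply, repr_glEquiv_colBasis,
        smul_eq_mul] at this
      rw [← hθ, map_mul, this, ← mul_assoc, h1]
    let A : Matrix ι ι F₀ := fun i j => ⟨c * k i j, h2 i j⟩
    have hA : F₀.subtype.mapMatrix A = c • (k : Matrix ι ι F) := rfl
    have hdet : A.det ≠ 0 := by
      rw [← map_ne_zero F₀.subtype, RingHom.map_det, hA, det_smul]
      exact mul_ne_zero (pow_ne_zero _ hc0) k.det_ne_zero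
    let z : GL ι F := Units.map (Matrix.scalar ι : F →+* Matrix ι ι F).toMonoidHom
      (Units.mk0 c hc0)⁻¹
    refine ⟨z * GeneralLinearGroup.map (F₀.subtype : F₀ →+* F) (GeneralLinearGroup.mkOfDetNeZero A
      hdet), Subgroup.mul_mem _ (Subgroup.mem_sup_right ⟨_, rfl⟩)
      (Subgroup.mem_sup_left ⟨_, rfl⟩), ?_⟩
    have : z * GeneralLinearGroup.map (F₀.subtype : F₀ →+* F) (GeneralLinearGroup.mkOfDetNeZero A
        hdet) = k := by
      apply Units.ext
      change Matrix.scalar ι c⁻¹ * F₀.subtype.mapMatrix A = _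
      rw [hA, Matrix.scalar_apply, ← smul_one_eq_diagonal, Matrix.smul_mul, Matrix.one_mul,
        smul_smul, inv_mul_cancel₀ hc0, one_smul]
    rw [this, hk]
    simp [mul_assoc]

end Matrices

end Cfsg.Agent.Class.Max
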