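import Mathlib
import Cfsg.Agent.Class.Max.FmHyp
import Cfsg.Agent.Class.Max.Frob
import Cfsg.Agent.Class.Max.C8Sp

/-!
Class `C₅` for formed spaces: rational structures.
-/

set_option autoImplicit false

namespace Cfsg.Agent.Class.Max

open Module

variable {F V : Type*} [Field F] [AddCommGroup V] [Module F V]

namespace Fm

section Pair

variable {Φ : Fm F V}

variable (Φ) in
/-- Two independent perpendicular singular vectors. -/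
structure Pair (e z : V) : Prop where
  q₁ : Φ.Q e = 0
  q₂ : Φ.Q z = 0
  perp : Φ.B e z = 0
  ne : e ≠ 0
  ind : ∃ y, Φ.B e y = 0 ∧ Φ.B z y ≠ 0

theorem Pair.valid {e z : V} (h : Φ.Pair e z) (a : F) : Φ.Valid e (a • z) 0 :=
  valid_zero h.q₁ (by rw [map_smul, h.perp, smul_zero]) (Φ.Q_smul_zero h.q₂ a)

theorem HasE.comm_fix {M : Subgroup (V ≃ₗ[F] V)} {e w : V} {c : F} (hv : Φ.Valid e w c)
    (h : Φ.HasE M e w c) {g : V ≃ₗ[F] V} (hg : g ∈ M) (hI : g ∈ Φ.Iso) (hge : g e = e) :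
    Φ.Valid e (g w - w) (Φ.B (w - g w) w) ∧ Φ.HasE M e (g w - w) (Φ.B (w - g w) w) := by
  have h1 := h.conj hg hI
  have h2 := hv.map hI
  rw [hge] at h1 h2
  refine ⟨⟨hv.sing, by rw [map_sub, h2.perp, hv.perp, sub_zero], ?_⟩, by simpa using h1.sub h2 hv h⟩
  rw [Φ.Q_sub, ← h2.norm, ← hv.norm, Φ.B_sub_left, ← Φ.trace c w hv.norm, map_sub, map_add,
    Φ.π_conj]

variable [FiniteDimensional F V]

theorem Pair.symm {e z : V} (h : Φ.Pair e z) : Φ.Pair z e := by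
  obtain ⟨y, h1, h2⟩ := h.ind
  refine ⟨h.q₂, h.q₁, Φ.perp_symm h.perp, fun h0 => h2 (by simp [h0]), ?_⟩
  by_contra hc
  push Not at hc
  obtain ⟨c, rfl⟩ := Φ.exists_smul_of_perp hc
  rw [Φ.B_smul_left, mul_eq_zero, Φ.σ_eq_zero] at h1
  exact h.ne (by rw [h1.resolve_right h2, zero_smul])

theorem Pair.exists_hyp (hd : Φ.d + 4 ≤ finrank F V) {e z : V} (h : Φ.Pair e z) :
    ∃ s s', Φ.Q s = 0 ∧ Φ.Q s' = 0 ∧ Φ.B s s' = 1 ∧ Φ.B e s = 0 ∧ Φ.B e s' = 0 ∧ Φ.B z s = 0 ∧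
      Φ.B z s' = 0 := by
  obtain ⟨y, h1, h2⟩ := h.ind
  obtain ⟨s, hs, hs0, hz, hy, y', hy', hsy⟩ := big_perp (e := e) hd z y
  have h3 : ∃ v ∈ LinearMap.ker (Φ.B e) ⊓ LinearMap.ker (Φ.B z), Φ.B s v ≠ 0 :=
    ⟨y' - (Φ.B z y' / Φ.B z y) • y, ⟨by simp [h1, show Φ.B e y' = 0 from hy'], by simp [h2]⟩,
      by simpa [Φ.perp_symm hy] using hsy⟩
  obtain ⟨s', hs', q, h4⟩ := exists_partner (U := LinearMap.ker (Φ.B e) ⊓ LinearMap.ker (Φ.B z))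
    ⟨hs, hz⟩ hs0 h3
  exact ⟨s, s', hs0, q, h4, hs, hs'.1, hz, hs'.2⟩

theorem exists_pair (hd : Φ.d + 4 ≤ finrank F V) {e : V} (he : Φ.Q e = 0) (h0 : e ≠ 0) :
    ∃ z, Φ.Pair e z := by
  obtain ⟨s, hs, hs0, -, -, y, hy, h⟩ := big_perp (e := e) hd 0 0
  exact ⟨s, he, hs0, hs, h0, y, hy, h⟩

theorem Pair.move (hd : Φ.d + 4 ≤ finrank F V) {e z e' z' : V} (h : Φ.Pair e z)
    (h' : Φ.Pair e' z') : ∃ g ∈ Φ.EG, g e = e' ∧ g z = z' := by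
  obtain ⟨g, hg, e1⟩ := move_EG (by omega) h.ne h'.ne (h'.q₁.trans h.q₁.symm)
  have hI := Φ.EG_le_Iso hg
  obtain ⟨y, h1, h2⟩ := h.ind
  obtain ⟨k, ⟨hk, hk'⟩, e2⟩ := (big_perp (e := e') hd).move_sing ((hasOn_EG _).inf
    (hasOn_fixing (S := {e'}) fun y hy z hz => by rw [hz]; exact Φ.perp_symm hy))
    (x := g z) (y := z') (by rw [LinearMap.mem_ker, ← e1, Iso.B hI, h.perp]) h'.perp
    (by rw [Iso.Q hI, h.q₂]) h'.q₂
    ⟨g y, by rw [LinearMap.mem_ker, ← e1, Iso.B hI, h1], by rwa [Iso.B hI]⟩ h'.ind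
  exact ⟨k * g, Φ.EG.mul_mem hk hg, by rw [mul_app, e1, hk' _ rfl], by rw [mul_app, e2]⟩

end Pair

variable {F₀ : Subfield F} {V₀ : Type*} [AddCommGroup V₀] [Module F₀ V₀] {θ₀ : F ≃+* F}

/-- A rational structure on a formed space. -/
structure Sub (Φ : Fm F V) (Φ₀ : Fm F₀ V₀) (θ : V →ₛₗ[(θ₀ : F →+* F)] V)
    (j : V₀ →ₛₗ[F₀.subtype] V) : Prop where
  frob : IsFrob θ₀ F₀
  fix : ∀ v, θ v = v ↔ ∃ x, j x = v
  span : Submodule.span F (Set.range j) = ⊤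
  hσ : ∀ a : F₀, Φ.σ a = Φ₀.σ a
  hε : Φ.ε = Φ₀.ε
  hB : ∀ x y, Φ.B (j x) (j y) = Φ₀.B x y
  hv : ∀ (c : F₀) x, Φ.π c = Φ.Q (j x) ↔ Φ₀.π c = Φ₀.Q x
  hΛ : ∀ c, Φ.π c = 0 → ∃ β a, ∃ c₀ : F₀, Φ₀.π c₀ = 0 ∧ c = β - Φ.ε * Φ.σ β + a * Φ.σ a * c₀

variable {Φ : Fm F V} {Φ₀ : Fm F₀ V₀} {θ : V →ₛₗ[(θ₀ : F →+* F)] V} {j : V₀ →ₛₗ[F₀.subtype] V}
variable {M : Subgroup (V ≃ₗ[F] V)}

theorem j_smul (j : V₀ →ₛₗ[F₀.subtype] V) (c : F₀) (x : V₀) : j (c • x) = (c : F) • j x :=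
  map_smulₛₗ j c x

theorem θ_smul (θ : V →ₛₗ[(θ₀ : F →+* F)] V) (c : F) (x : V) : θ (c • x) = θ₀ c • θ x :=
  map_smulₛₗ θ c x

namespace Sub

variable (hS : Sub Φ Φ₀ θ j)
include hS

theorem θ_j (x : V₀) : θ (j x) = j x := (hS.fix _).2 ⟨x, rfl⟩

theorem θ₀_coe (c : F₀) : θ₀ c = c := (hS.frob.fix _).2 c.2

theorem induction {P : V → Prop} (h1 : ∀ (a : F) x, P (a • j x))
    (h2 : ∀ x y, P x → P y → P (x + y)) (v : V) : P v := by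
  have hv : v ∈ Submodule.span F (Set.range j) := hS.span ▸ trivial
  suffices ∀ a : F, P (a • v) by simpa using this 1
  induction hv using Submodule.span_induction with
  | mem x hx => obtain ⟨x, rfl⟩ := hx; exact fun a => h1 a x
  | zero => intro a; simpa using h1 0 0
  | add x y _ _ hx hy => intro a; rw [smul_add]; exact h2 _ _ (hx a) (hy a)
  | smul c x _ hx => intro a; rw [smul_smul]; exact hx _

theorem perp_induction {e : V₀} (he : e ≠ 0) {P : V → Prop}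
    (h1 : ∀ (a : F) y, Φ₀.B e y = 0 → P (a • j y)) (h2 : ∀ x y, P x → P y → P (x + y))
    {v : V} (hv : Φ.B (j e) v = 0) : P v := by
  obtain ⟨f, hf⟩ : ∃ f, Φ₀.B e f = 1 :=
    let ⟨y, hy⟩ := Φ₀.exists_B_ne he; ⟨(Φ₀.B e y)⁻¹ • y, by simp [hy]⟩
  have := hS.induction (P := fun v => P (v - Φ.B (j e) v • j f)) (fun a x => by
    convert h1 a (x - Φ₀.B e x • f) (by simp [hf]) using 1
    rw [map_sub, j_smul, Φ.B_smul_right, hS.hB]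
    module) (fun x y hx hy => by
    convert h2 _ _ hx hy using 1
    rw [map_add]
    module) v
  simpa [hv] using this

theorem θB (x y : V) : Φ.B (θ x) (θ y) = θ₀ (Φ.B x y) := by
  induction x using hS.induction with
  | h2 x x' h h' => simp only [map_add, LinearMap.add_apply, h, h']
  | h1 a x =>
    induction y using hS.induction with
    | h2 y y' h h' => simp only [map_add, h, h']
    | h1 b y =>
      simp only [θ_smul, hS.θ_j, Φ.bsimp, hS.hB, map_mul, hS.θ₀_coe, hS.frob.comm]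

theorem B_j_θ (x : V₀) (y : V) : Φ.B (j x) (θ y) = θ₀ (Φ.B (j x) y) := by
  rw [← hS.θB, hS.θ_j]

theorem θ_ne {v : V} (hv : v ≠ 0) : θ v ≠ 0 := fun h => by
  obtain ⟨y, hy⟩ := Φ.exists_B_ne hv
  have := hS.θB v y
  rw [h, map_zero, LinearMap.zero_apply, eq_comm, map_eq_zero] at this
  exact hy this

theorem j_ne {x : V₀} (hx : x ≠ 0) : j x ≠ 0 := fun h => by
  obtain ⟨y, hy⟩ := Φ₀.exists_B_ne hx
  have := hS.hB x y
  rw [h, map_zero, LinearMap.zero_apply, eq_comm] at this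
  exact hy (by exact_mod_cast this)

theorem B_eq_zero {x y : V₀} : Φ.B (j x) (j y) = 0 ↔ Φ₀.B x y = 0 := by
  rw [hS.hB]; exact_mod_cast Iff.rfl

theorem Q_eq_zero {x : V₀} : Φ.Q (j x) = 0 ↔ Φ₀.Q x = 0 := by
  have := hS.hv 0 x
  rwa [ZeroMemClass.coe_zero, map_zero, map_zero, eq_comm, @eq_comm _ 0] at this

theorem valid_iff {e w : V₀} {c : F₀} : Φ.Valid (j e) (j w) c ↔ Φ₀.Valid e w c :=
  ⟨fun h => ⟨hS.Q_eq_zero.1 h.sing, hS.B_eq_zero.1 h.perp, (hS.hv _ _).1 h.norm⟩,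
    fun h => ⟨hS.Q_eq_zero.2 h.sing, hS.B_eq_zero.2 h.perp, (hS.hv _ _).2 h.norm⟩⟩

theorem exists_B_j_ne {v : V} (hv : v ≠ 0) : ∃ y, Φ.B (j y) v ≠ 0 := by
  by_contra hc
  push Not at hc
  refine hv (Φ.nondeg v fun x => Φ.perp_symm ?_)
  induction x using hS.induction with
  | h1 a x => simp [hc]
  | h2 x y hx hy => simp [hx, hy]

theorem exists_rat {v : V} {κ : F} (hv : v ≠ 0) (h : θ v = κ • v) : ∃ x, ∃ c : F, v = c • j x := by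
  obtain ⟨y, hy⟩ := hS.exists_B_j_ne hv
  have h1 := hS.B_j_θ y v
  rw [h, Φ.B_smul_right] at h1
  have h2 : κ ≠ 0 := left_ne_zero_of_mul (h1 ▸ (map_ne_zero θ₀).2 hy)
  obtain ⟨x, hx⟩ := (hS.fix ((Φ.B (j y) v)⁻¹ • v)).1 (by
    rw [θ_smul, h, smul_smul, map_inv₀, ← h1]
    congr 1
    field_simp)
  exact ⟨x, Φ.B (j y) v, by rw [hx, smul_smul, mul_inv_cancel₀ hy, one_smul]⟩

theorem ef_j (e w : V₀) (c : F₀) (x : V₀) : Φ.ef (j e) (j w) c (j x) = j (Φ₀.ef e w c x) := by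
  simp only [ef, map_sub, map_add, j_smul, hS.hB, hS.hε]
  push_cast
  rfl

theorem mem_Nfrob {g : V ≃ₗ[F] V} {μ : F} (hμ : μ ≠ 0) (h : ∀ x, ∃ y, j y = μ • g (j x)) :
    g ∈ Nfrob θ :=
  mem_Nfrob_of_span hS.span (by rintro _ ⟨x, rfl⟩; exact hS.θ_j x) hμ
    (by rintro _ ⟨x, rfl⟩; exact (hS.fix _).2 (h x))

theorem hasE {e w : V₀} {c : F₀} (h : Φ₀.Valid e w c) :
    Φ.HasE (Nfrob θ ⊓ Φ.EG) (j e) (j w) c :=
  have hv := hS.valid_iff.2 h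
  ⟨hv.eich, ⟨hS.mem_Nfrob one_ne_zero fun x => ⟨_, by rw [one_smul, hv.eich_apply, hS.ef_j]⟩,
    hv.eich_mem⟩, hv.eich_apply⟩

theorem hasE_zero {e w : V₀} (h : Φ₀.Valid e w 0) : Φ.HasE (Nfrob θ ⊓ Φ.EG) (j e) (j w) 0 :=
  hS.hasE h

theorem lift {g₀ : V₀ ≃ₗ[F₀] V₀} (h : g₀ ∈ Φ₀.EG) :
    ∃ g ∈ Nfrob θ ⊓ Φ.EG, ∀ x, g (j x) = j (g₀ x) := by
  let N : Subgroup (V₀ ≃ₗ[F₀] V₀) :=
    { carrier := {g₀ | ∃ g ∈ Nfrob θ ⊓ Φ.EG, ∀ x, g (j x) = j (g₀ x)}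
      mul_mem' := by
        rintro a b ⟨g, hg, e⟩ ⟨g', hg', e'⟩
        exact ⟨g * g', mul_mem hg hg', fun x => by rw [mul_app, e', e, mul_app]⟩
      one_mem' := ⟨1, one_mem _, fun _ => rfl⟩
      inv_mem' := by
        rintro a ⟨g, hg, e⟩
        exact ⟨g⁻¹, inv_mem hg, fun x => g.injective (by rw [app_inv_app, e, app_inv_app])⟩ }
  refine (EG_le (M := N) fun e w c hv => ⟨hv.eich, ?_, hv.eich_apply⟩) h
  obtain ⟨g, hg, e1⟩ := hS.hasE hv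
  exact ⟨g, hg, fun x => by rw [e1, hS.ef_j, hv.eich_apply]⟩

theorem pair {e z : V₀} (h : Φ₀.Pair e z) : Φ.Pair (j e) (j z) :=
  ⟨hS.Q_eq_zero.2 h.q₁, hS.Q_eq_zero.2 h.q₂, hS.B_eq_zero.2 h.perp, hS.j_ne h.ne,
    let ⟨y, h1, h2⟩ := h.ind; ⟨j y, hS.B_eq_zero.2 h1, hS.B_eq_zero.not.2 h2⟩⟩

end Sub

variable (Φ Φ₀ j M) in
/-- The only Siegel transformations in `M` attached to rational pairs are the rational ones. -/
def RatE : Prop := ∀ e z (a : F), Φ₀.Pair e z → Φ.HasE M (j e) (a • j z) 0 → a ∈ F₀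

namespace Sub

variable [FiniteDimensional F V] [FiniteDimensional F₀ V₀] (hS : Sub Φ Φ₀ θ j)
  (hd : Φ₀.d + 4 ≤ finrank F₀ V₀) (hH : Nfrob θ ⊓ Φ.EG ≤ M)
include hS hd hH

omit [FiniteDimensional F V] in
theorem full_of (h : ∀ e z (a : F), Φ₀.Pair e z → Φ.HasE M (j e) (a • j z) 0) {e : V₀}
    (he : Φ₀.Q e = 0) (h0 : e ≠ 0) : Φ.Full M (j e) := by
  have he' := hS.Q_eq_zero.2 he
  obtain ⟨z, hz⟩ := exists_pair hd he h0
  have h1 : ∀ w, Φ.B (j e) w = 0 → Φ.InA M (j e) w := fun w hw => by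
    refine hS.perp_induction h0 (fun a y hy => ?_) (fun _ _ => InA.add) hw
    let A : AddSubgroup V₀ :=
      { carrier := {y | Φ.InA M (j e) (a • j y)}
        zero_mem' := by simpa using inA_zero he'
        add_mem' := fun {x y} hx hy => by simpa [smul_add] using InA.add hx hy
        neg_mem' := fun {x} hx => by simpa using InA.neg hx }
    refine le_of_sing (Y := LinearMap.ker (Φ₀.B e)) hz.perp hz.q₂ hz.ind A
      (fun s hs hs0 hs1 => ?_) y hy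
    have : Φ₀.Pair e s := ⟨he, hs0, hs, h0, hs1⟩
    exact ⟨0, (hS.pair this).valid a, h e s a this⟩
  refine fun w c hv => (h1 w hv.perp).hasE (fun c hc => ?_) hv
  obtain ⟨β, a, c₀, hc₀, rfl⟩ := hS.hΛ c hc
  obtain ⟨s, s', hs, hs', hss', hes, hes', -, -⟩ := hz.exists_hyp hd
  have b1 : Φ.B (j s) (j s') = 1 := by rw [hS.hB, hss']; rfl
  have h2 := (h1 (j s) (hS.B_eq_zero.2 hes)).comm (h1 (β • j s') (by simp [hS.B_eq_zero.2 hes']))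
  rw [Φ.symm (j s) (β • j s'), Φ.B_smul_right, b1, mul_one] at h2
  have hc₀' : Φ.π c₀ = 0 := by
    rw [(hS.hv c₀ 0).2 (by rw [hc₀, Φ₀.Q_zero]), map_zero, Φ.Q_zero]
  have hse := Φ.perp_symm (hS.B_eq_zero.2 hes)
  have h3 : Φ.HasE M (j s) 0 c₀ := by
    simpa using (hS.hasE (e := s) (w := 0) ⟨hs, map_zero _, by rw [hc₀, Φ₀.Q_zero]⟩).mono hH
  have p1 : Φ₀.Pair e s' := ⟨he, hs', hes', h0, s, hes, Φ₀.ne_symm (by simp [hss'])⟩
  have p2 : Φ₀.Pair e s := ⟨he, hs, hes, h0, s', hes', by simp [hss']⟩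
  have h4 : Φ.HasE M (j s + a • j e) 0 c₀ := by
    obtain ⟨g, hg, e1⟩ := h e s' (-Φ.σ a) p1
    have := h3.conj hg (((hS.pair p1).valid _).mem_Iso e1)
    rw [map_zero, e1, ef_apply_of_perp' (hS.B_eq_zero.2 hes), Φ.B_smul_left, B_eq_eps b1] at this
    convert this using 1
    simp only [Φ.bsimp]
    match_scalars
    · rfl
    · linear_combination -a * Φ.eps_sq
  have h5 := (hasE_add_center (hS.Q_eq_zero.2 hs) (Φ.Q_smul_zero he' a) (by simp [hse]) hc₀' h4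
    h3).2 (by rw [smul_smul]; exact h s e _ p2.symm)
  rw [hasE_smul_left, smul_zero] at h5
  have := h2.add ⟨he', map_zero _, by rw [Φ.π_sub_conj, Φ.Q_zero]⟩
    ⟨he', map_zero _, by rw [Φ.π_norm, hc₀', mul_zero, Φ.Q_zero]⟩ h5
  simpa using this

omit [FiniteDimensional F V] in
theorem EG_le_or_ratE : Φ.EG ≤ M ∨ Φ.RatE Φ₀ j M := by
  have h0 : ∀ (c : F₀) e z, Φ₀.Pair e z → Φ.HasE M (j e) ((c : F) • j z) 0 := fun c e z h => by
    rw [← j_smul]; exact (hS.hasE_zero (h.valid c)).mono hH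
  let R : Subring F :=
    { carrier := {a | ∀ e z, Φ₀.Pair e z → Φ.HasE M (j e) (a • j z) 0}
      mul_mem' := fun {a b} ha hb e z h => by
        obtain ⟨s, s', hs, hs', hss', hes, hes', hzs, hzs'⟩ := h.exists_hyp hd
        have p1 : Φ₀.Pair e s' := ⟨h.q₁, hs', hes', h.ne, s, hes, Φ₀.ne_symm (by simp [hss'])⟩
        have p2 : Φ₀.Pair z s := ⟨h.q₂, hs, hzs, h.symm.ne, s', hzs', by simp [hss']⟩
        obtain ⟨g, hg, e1⟩ := ha s z p2.symm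
        have hI := ((hS.pair p2.symm).valid a).mem_Iso e1
        have hv := (hS.pair p1).valid b
        have h1 : g (j e) = j e := by
          rw [e1, ef_apply_of_perp (Φ.perp_symm (hS.B_eq_zero.2 hes))
            (by simp [Φ.perp_symm (hS.B_eq_zero.2 h.perp)])]
        have h2 : g (b • j s') = b • j s' + (a * b) • j z := by
          rw [e1, ef]
          simp only [Φ.bsimp, hS.hB, hss', hzs', OneMemClass.coe_one, ZeroMemClass.coe_zero]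
          module
        have h3 := ((hb e s' p1).conj hg hI).sub (hv.map hI) (h1.symm ▸ hv) (by rw [h1]; exact hb e s' p1)
        rw [h1, h2] at h3
        simpa [hS.hB, hzs'] using h3
      one_mem' := h0 1
      add_mem' := fun {a b} ha hb e z h => by
        have := (ha e z h).add ((hS.pair h).valid a) ((hS.pair h).valid b) (hb e z h)
        simpa [add_smul, Φ.B_self (hS.pair h).q₂] using this
      zero_mem' := h0 0
      neg_mem' := fun {a} ha e z h => by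
        simpa using (ha e z h).neg ((hS.pair h).valid a) }
  rcases hS.frob.max R (fun c hc => h0 ⟨c, hc⟩) with h | h
  · refine Or.inr fun e z a hp ha => h a fun e' z' hp' => ?_
    obtain ⟨g₀, hg₀, e1, e2⟩ := hp.move hd hp'
    obtain ⟨g, hg, e3⟩ := hS.lift hg₀
    have := ha.conj (hH hg) (Φ.EG_le_Iso hg.2)
    rwa [map_smul, e3, e3, e1, e2] at this
  · obtain ⟨e, f, he, hf, hef⟩ := exists_hyp (Φ := Φ₀) (by omega)
    have hef' : Φ₀.B e f ≠ 0 := by simp [hef]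
    exact Or.inl (EG_le_of_full
      (hS.full_of hd hH (fun e z a => h a e z) he fun h => hef' (by simp [h]))
      (hS.full_of hd hH (fun e z a => h a e z) hf fun h => hef' (by simp [h]))
      (hS.Q_eq_zero.2 he) (hS.Q_eq_zero.2 hf) (hS.B_eq_zero.not.2 hef'))

variable (hM : M ≤ Φ.EG) (hR : Φ.RatE Φ₀ j M)
include hM hR

omit hM in
theorem rat_of_inA {e : V₀} (h0 : e ≠ 0) {w : V} (h : Φ.InA M (j e) w) :
    ∃ z, ∃ t : F, w = j z + t • j e := by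
  obtain ⟨c, hv, h⟩ := h
  have he := hS.Q_eq_zero.1 hv.sing
  have key : ∀ s z, Φ₀.Pair s z → Φ₀.B e s = 0 → Φ₀.B e z = 0 → ∃ g ∈ M, g ∈ Φ.Iso ∧
      g (j e) = j e ∧ ∀ w, g w - w = Φ.B (j s) w • j z - (Φ.ε * Φ.B (j z) w) • j s := by
    intro s z hp h1 h2
    have hv : Φ₀.Valid s z 0 := valid_zero hp.q₁ hp.perp hp.q₂
    obtain ⟨g, hg, e1⟩ := hS.hasE_zero hv
    refine ⟨g, hH hg, Φ.EG_le_Iso hg.2, ?_, fun w => ?_⟩
    · rw [e1, ef_apply_of_perp (Φ.perp_symm (hS.B_eq_zero.2 h1)) (Φ.perp_symm (hS.B_eq_zero.2 h2))]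
    · rw [e1, ef]; module
  obtain ⟨z₀, hz₀⟩ := exists_pair hd he h0
  let A : AddSubgroup V₀ :=
    { carrier := {y | θ₀ (Φ.B (j y) w) = Φ.B (j y) w}
      zero_mem' := by simp
      add_mem' := fun {x y} hx hy => by
        simp only [Set.mem_ofPred_eq, map_add, LinearMap.add_apply] at hx hy ⊢
        rw [hx, hy]
      neg_mem' := fun {x} hx => by simpa using hx }
  have h1 := le_of_sing (Y := LinearMap.ker (Φ₀.B e)) hz₀.perp hz₀.q₂ hz₀.ind A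
    fun s hs hs0 hs1 => by
      have hp : Φ₀.Pair e s := ⟨he, hs0, hs, h0, hs1⟩
      obtain ⟨z', z, hz', hz, hzz, h1, h2, h3, h4⟩ := hp.exists_hyp hd
      have p1 : Φ₀.Pair s z := ⟨hs0, hz, h4, hp.symm.ne, z', h3, Φ₀.ne_symm (by simp [hzz])⟩
      have p2 : Φ₀.Pair s z' := ⟨hs0, hz', h3, hp.symm.ne, z, h4, by simp [hzz]⟩
      obtain ⟨g₁, hg₁, hI₁, e₁, e₁'⟩ := key s z p1 hs h2
      obtain ⟨g₂, hg₂, hI₂, e₂, e₂'⟩ := key z' s p2.symm h1 hs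
      obtain ⟨hv₁, k₁⟩ := h.comm_fix hv hg₁ hI₁ e₁
      have k₂ := (k₁.comm_fix hv₁ hg₂ hI₂ e₂).2
      rw [← neg_sub (g₂ _), e₂', e₁'] at k₂
      simp only [Φ.bsimp, hS.hB, hzz, Φ₀.perp_symm h3, h4, Φ₀.B_self hs0, OneMemClass.coe_one,
        ZeroMemClass.coe_zero, mul_zero, mul_one, sub_zero, zero_smul, neg_zero] at k₂
      exact (hS.frob.fix _).2 (hR e s _ hp k₂)
  obtain ⟨t, ht⟩ := Φ.exists_smul_of_perp (e := j e) (v := θ w - w) fun y hy => Φ.perp_symm (by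
    refine hS.perp_induction h0 (P := fun y => Φ.B y (θ w - w) = 0) (fun a y hy => ?_)
      (fun x y hx hy => by simp only [Φ.B_add_left, hx, hy, add_zero]) hy
    rw [Φ.B_smul_left, map_sub, hS.B_j_θ, h1 y hy, sub_self, mul_zero])
  obtain ⟨f, hf⟩ : ∃ f, Φ.B (j f) (j e) = 1 :=
    let ⟨y, hy⟩ := Φ₀.exists_B_ne h0
    ⟨_, by rw [hS.hB, B_normalize' hy]; rfl⟩
  have h2 := congrArg (Φ.B (j f)) ht
  rw [map_sub, hS.B_j_θ, Φ.B_smul_right, hf, mul_one] at h2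
  obtain ⟨z, hz⟩ := (hS.fix (w - Φ.B (j f) w • j e)).1 (by
    rw [map_sub, θ_smul, hS.θ_j, eq_add_of_sub_eq ht, ← h2]; module)
  exact ⟨z, Φ.B (j f) w, by rw [hz, sub_add_cancel]⟩

omit hM [FiniteDimensional F V] in
theorem rat_of_center {e : V₀} (he : Φ₀.Q e = 0) (h0 : e ≠ 0) {c : F} (hc : Φ.π c = 0)
    (h : Φ.HasE M (j e) 0 c) : c ∈ F₀ := by
  obtain ⟨s, hp⟩ := exists_pair hd he h0
  have key : ∀ x, x ≠ 0 → Φ₀.Q x = 0 → Φ.HasE M (j x) 0 c := fun x hx hx' => by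
    obtain ⟨g₀, hg₀, e1⟩ := move_EG (by omega) h0 hx (hx'.trans he.symm)
    obtain ⟨g, hg, e2⟩ := hS.lift hg₀
    have := h.conj (hH hg) (Φ.EG_le_Iso hg.2)
    rwa [e2, e1, map_zero] at this
  obtain ⟨y, h1, h2⟩ := hp.ind
  have h3 := key (e + s) (fun h => h2 (by simpa [h1] using congrArg (Φ₀.B · y) h))
    (by rw [Φ₀.Q_add_perp hp.perp, he, hp.q₂, add_zero])
  rw [map_add] at h3
  have h4 := hR e s _ hp ((hasE_add_center (hS.pair hp).q₁ (hS.pair hp).q₂ (hS.pair hp).perp hc h3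
    h).1 (key s hp.symm.ne hp.q₂))
  have h5 := F₀.neg_mem (F₀.mul_mem Φ₀.ε.2 h4)
  rwa [← hS.hε, mul_neg, neg_neg, ← mul_assoc, Φ.eps_sq, one_mul] at h5

omit hM in
theorem eich_mem_Nfrob {e : V₀} (h0 : e ≠ 0) {w : V} {c : F} (hv : Φ.Valid (j e) w c)
    (h : hv.eich ∈ M) : hv.eich ∈ Nfrob θ := by
  have h' : Φ.HasE M (j e) w c := ⟨_, h, hv.eich_apply⟩
  obtain ⟨z, t, rfl⟩ := hS.rat_of_inA hd hH hR h0 ⟨c, hv, h'⟩
  have he := hS.Q_eq_zero.1 hv.sing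
  have hz : Φ.B (j e) (j z) = 0 := by simpa [Φ.B_self hv.sing] using hv.perp
  obtain ⟨c₀, hv₀⟩ := exists_valid he (hS.B_eq_zero.1 hz)
  have hv₁ : Φ.Valid (j e) (j z) (c + Φ.σ t - Φ.ε * t) := ⟨hv.sing, hz, by
    have := Φ.π_conj (Φ.σ t)
    rw [Φ.invol] at this
    rw [map_sub, map_add, this, hv.norm, Φ.Q_add_perp (by simp [Φ.perp_symm hz]),
      Φ.Q_smul_zero hv.sing]
    ring⟩
  simp only [HasE, ef_add_smul] at h'
  have hv₀' := hS.valid_iff.2 hv₀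
  have h1 := HasE.sub hv₁ hv₀' h' ((hS.hasE hv₀).mono hH)
  simp only [sub_self, Φ.bsimp, add_zero] at h1
  have h2 := F₀.add_mem (hS.rat_of_center hd hH hR he h0 (by
    rw [map_sub, hv₁.norm, hv₀'.norm, sub_self]) h1) c₀.2
  rw [sub_add_cancel] at h2
  exact ((hS.hasE (c := ⟨_, h2⟩) (hS.valid_iff.1 hv₁)).mem fun x => by
    rw [hv.eich_apply, ef_add_smul]).1

theorem mem_Nfrob_of_smul {e : V₀} (he : Φ₀.Q e = 0) (h0 : e ≠ 0) {h : V ≃ₗ[F] V} (hh : h ∈ M)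
    {l : F} (hl : h (j e) = l • j e) : h ∈ Nfrob θ := by
  have hI := Φ.EG_le_Iso (hM hh)
  have he' := hS.Q_eq_zero.2 he
  have hl0 : l ≠ 0 := by
    rintro rfl
    exact hS.j_ne h0 (by simpa using hl)
  obtain ⟨f, -, hf, hef⟩ := exists_partner (U := ⊤) trivial he
    (let ⟨y, hy⟩ := Φ₀.exists_B_ne h0; ⟨y, trivial, hy⟩)
  have hef' : Φ.B (j e) (j f) = 1 := by rw [hS.hB, hef]; rfl
  have hB : ∀ x, Φ.B (j e) (Φ.σ l • h x) = Φ.B (j e) x := fun x => by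
    rw [← Iso.B hI (j e) x, hl, Φ.B_smul_left, Φ.B_smul_right]
  obtain ⟨f', hf'⟩ : ∃ f', Φ.σ l • h (j f) = f' := ⟨_, rfl⟩
  obtain ⟨c, hv, hc⟩ := exists_ef_eq (x := j f) (y := f') he' (by simp [hef']) (hf' ▸ hB _)
    (by rw [← hf', Φ.Q_smul_zero (by rw [Iso.Q hI, hS.Q_eq_zero.2 hf]), hS.Q_eq_zero.2 hf])
  have hE := Φ.Iso.inv_mem (hv.mem_Iso hv.eich_apply)
  set k := hv.eich⁻¹ * h with hk
  have hkI : k ∈ Φ.Iso := Φ.Iso.mul_mem hE hI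
  have hkf : Φ.σ l • k (j f) = j f := by
    rw [hk, mul_app, ← map_smul, hf']
    exact hv.eich.injective (by rw [app_inv_app, hv.eich_apply, hc])
  have hke : k (j e) = l • j e := by
    rw [hk, mul_app, hl, map_smul]
    congr 1
    exact hv.neg.ef_self
  have h1 : ∀ y, Φ₀.B e y = 0 → Φ₀.B f y = 0 → ∃ z, j z = Φ.σ l • k (j y) := fun y h1 h2 => by
    obtain ⟨c', hv'⟩ := exists_valid he h1
    have h3 := InA.conj ⟨_, hS.valid_iff.2 hv', (hS.hasE hv').mono hH⟩ hh hI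
    rw [hl] at h3
    obtain ⟨z, t, h4⟩ := hS.rat_of_inA hd hH hR h0 (h3.of_smul_left hl0)
    obtain ⟨t', h5⟩ : ∃ t' : F, Φ.σ l • k (j y) = j z + t' • j e := by
      rw [hk, mul_app, ← map_smul]
      change ∃ t' : F, Φ.ef _ _ _ _ = _
      rw [ef_apply_of_perp' (h3.of_smul_left hl0).perp, h4]
      exact ⟨_, by rw [add_sub_assoc, ← sub_smul]⟩
    have h6 : Φ.B (j f) (Φ.σ l • k (j y)) = 0 := by
      rw [← hkf, Φ.B_smul_left, Φ.B_smul_right, Iso.B hkI, hS.B_eq_zero.2 h2, mul_zero, mul_zero]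
    refine ⟨z - (Φ₀.ε * Φ₀.B f z) • e, ?_⟩
    rw [h5, map_add, Φ.B_smul_right, B_eq_eps hef', hS.hB] at h6
    rw [h5, map_sub, j_smul, sub_eq_add_neg, ← neg_smul]
    congr 2
    push_cast
    rw [← hS.hε]
    linear_combination -Φ.ε * h6 + t' * Φ.eps_sq
  have h2 : Φ.σ l * l ∈ F₀ := by
    obtain ⟨y, hy, y', hy', -, -, hyy⟩ := (Φ₀.nd_top.inf_hyp trivial trivial he hf hef).exists_hyp
      (by have := finrank_le_inf_ker₂ ⊤ (Φ₀.B e) (Φ₀.B f); rw [finrank_top] at this; omega)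
    obtain ⟨z, hz⟩ := h1 y hy.1.2 hy.2
    obtain ⟨z', hz'⟩ := h1 y' hy'.1.2 hy'.2
    have := hS.hB z z'
    rw [hz, hz', Φ.B_smul_left, Φ.B_smul_right, Iso.B hkI, hS.hB, hyy, Φ.invol] at this
    rw [mul_comm, show l * Φ.σ l = Φ₀.B z z' by simpa using this]
    exact (Φ₀.B z z').2
  have h3 : k ∈ Nfrob θ := hS.mem_Nfrob (Φ.σ_ne hl0) fun x => by
    obtain ⟨z, hz⟩ := h1 _ (sub_mem_ker_hyp he hf hef x).1 (sub_mem_ker_hyp he hf hef x).2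
    refine ⟨z + Φ₀.B e x • f + (Φ₀.ε * Φ₀.B f x * ⟨_, h2⟩) • e, ?_⟩
    simp only [map_add, map_sub, j_smul, hz, map_smul, smul_sub, hke]
    rw [smul_comm (Φ.σ l) _ (k (j f)), hkf]
    push_cast
    module
  have h4 : hv.eich ∈ M := by
    simpa [hk] using M.mul_mem hh (M.inv_mem (hH ⟨h3, Φ.EG.mul_mem (Φ.EG.inv_mem hv.eich_mem)
      (hM hh)⟩))
  simpa [hk] using (Nfrob θ).mul_mem (hS.eich_mem_Nfrob hd hH hR h0 hv h4) h3

theorem mem_Nfrob_of_rat {u u' : V₀} (hu : Φ₀.Q u = 0) (h0 : u ≠ 0) {g : V ≃ₗ[F] V} (hg : g ∈ M)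
    {l : F} (hl : g (j u) = l • j u') : g ∈ Nfrob θ := by
  have h1 : l • j u' ≠ 0 := hl ▸ g.map_ne_zero_iff.2 (hS.j_ne h0)
  have hl0 : l ≠ 0 := left_ne_zero_of_smul h1
  have h2 : Φ₀.Q u' = 0 := by
    have := Φ.Q_smul_zero ((Iso.Q (Φ.EG_le_Iso (hM hg)) (j u)).trans (hS.Q_eq_zero.2 hu)) l⁻¹
    rwa [hl, smul_smul, inv_mul_cancel₀ hl0, one_smul, hS.Q_eq_zero] at this
  obtain ⟨k₀, hk₀, e1⟩ := move_EG (Φ := Φ₀) (x := u') (by omega) (fun h => h1 (by simp [h])) h0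
    (hu.trans h2.symm)
  obtain ⟨k, hk, e2⟩ := hS.lift hk₀
  have := hS.mem_Nfrob_of_smul hd hH hM hR hu h0 (M.mul_mem (hH hk) hg) (l := l)
    (by rw [mul_app, hl, map_smul, e2, e1])
  exact ((Nfrob θ).mul_mem_cancel_left hk.1).1 this

theorem comm_of_fix {u : V₀} (hu : Φ₀.Q u = 0) (h0 : u ≠ 0) {g : V ≃ₗ[F] V} (hg : g ∈ M)
    (h : g (j u) = j u) (x : V) : θ (g x) = g (θ x) :=
  Nfrob.comm (hS.mem_Nfrob_of_rat hd hH hM hR hu h0 hg (l := 1) (by rw [h, one_smul]))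
    (by rw [hS.θ_j]; exact hS.j_ne h0) h (by rw [hS.θ_j, h]) x

/-- Reduction to Siegel transformations fixing a rational singular vector. -/
theorem le_Nfrob_of_siegel (h : ∀ a b, Φ.Valid a b 0 → Φ.Q b = 0 → Φ.HasE M a b 0 →
    ∃ u, u ≠ 0 ∧ Φ₀.Q u = 0 ∧ Φ.ef a b 0 (j u) = j u) : M ≤ Nfrob θ := fun g hg => by
  have hI := Φ.EG_le_Iso (hM hg)
  obtain ⟨e, -, h0, he⟩ := Φ₀.iso ⊤ (by rw [finrank_top]; omega)
  obtain ⟨z, hz⟩ := exists_pair hd he h0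
  obtain ⟨s, s', hs, hs', hss, hes, hes', -, -⟩ := hz.exists_hyp hd
  have key : ∀ s s', Φ₀.Q s = 0 → Φ₀.B s s' ≠ 0 → Φ₀.B e s = 0 → Φ₀.B e s' = 0 →
      ∃ α β : F, θ (g (j e)) = α • g (j e) + β • g (j s) := fun s s' hs hss hes hes' => by
    have hv₀ : Φ₀.Valid e s 0 := valid_zero he hes hs
    have hv : Φ.Valid (g (j e)) (g (j s)) 0 := (hS.valid_iff.2 hv₀).map hI
    have h1 := ((hS.hasE_zero hv₀).mono hH).conj hg hI
    obtain ⟨u, hu0, hu, h2⟩ := h _ _ hv (by rw [Iso.Q hI, hS.Q_eq_zero.2 hs]) h1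
    obtain ⟨x, hx, e1⟩ := h1
    have h3 := hS.comm_of_fix hd hH hM hR hu hu0 hx (by rw [e1, h2]) (g (j s'))
    rw [e1, e1, ef_apply_of_perp' (by rw [Iso.B hI, hS.B_eq_zero.2 hes']), Iso.B hI, map_sub,
      θ_smul, ef, add_sub_assoc, sub_eq_add_neg, add_right_inj, neg_eq_iff_eq_neg] at h3
    have h4 : θ₀ (Φ.ε * Φ.B (j s) (j s')) ≠ 0 :=
      (map_ne_zero θ₀).2 (mul_ne_zero Φ.eps_ne (hS.B_eq_zero.not.2 hss))
    rw [← eq_inv_smul_iff₀ h4, neg_sub, smul_sub, smul_smul, smul_smul, sub_eq_add_neg,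
      ← neg_smul] at h3
    exact ⟨_, _, h3⟩
  obtain ⟨α, β, h1⟩ := key s s' hs (by simp [hss]) hes hes'
  obtain ⟨α', β', h2⟩ := key s' s hs' (Φ₀.ne_symm (by simp [hss])) hes' hes
  have h3 := congrArg (Φ.B (g (j s))) (h1.symm.trans h2)
  simp only [Φ.bsimp, Iso.B hI, hS.hB, hss, Φ₀.B_self hs, Φ₀.perp_symm hes, OneMemClass.coe_one,
    ZeroMemClass.coe_zero, mul_zero, mul_one, zero_add] at h3
  rw [← h3, zero_smul, add_zero] at h2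
  obtain ⟨x, c, h4⟩ := hS.exists_rat (g.map_ne_zero_iff.2 (hS.j_ne h0)) h2
  exact hS.mem_Nfrob_of_rat hd hH hM hR he h0 hg h4

/-- The case of transvections. -/
theorem le_Nfrob_of_tv [Finite F] (h5 : 5 ≤ finrank F V) {c₀ : F₀} (hc₀ : c₀ ≠ 0)
    (hπ : Φ₀.π c₀ = 0) : M ≤ Nfrob θ := fun g hg => by
  have hI := Φ.EG_le_Iso (hM hg)
  obtain ⟨e, -, h0, he⟩ := Φ₀.iso ⊤ (by rw [finrank_top]; omega)
  obtain ⟨z, hz⟩ := exists_pair hd he h0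
  have hc : Φ.ε * c₀ ≠ 0 := mul_ne_zero Φ.eps_ne (by exact_mod_cast hc₀)
  have tv : ∀ a x, Φ.ef a 0 c₀ x = x + (-(Φ.ε * c₀) * Φ.B a x) • a := fun a x => by
    simp only [ef, Φ.bsimp]; module
  have h1 : ∀ u, Φ₀.Q u = 0 → Φ.HasE M (j u) 0 c₀ := fun u hu => by
    simpa using (hS.hasE (e := u) (w := 0) ⟨hu, map_zero _, by rw [hπ, Φ₀.Q_zero]⟩).mono hH
  obtain ⟨x, hx, e1⟩ := (h1 e he).conj hg hI
  have ha0 : g (j e) ≠ 0 := g.map_ne_zero_iff.2 (hS.j_ne h0)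
  have ha : Φ.B (g (j e)) (g (j e)) = 0 := by rw [Iso.B hI, hS.B_eq_zero, Φ₀.B_self he]
  suffices ∃ u, u ≠ 0 ∧ Φ₀.Q u = 0 ∧ Φ.B (g (j e)) (j u) = 0 by
    obtain ⟨u, hu0, hu, h2⟩ := this
    obtain ⟨y, hy⟩ := hS.exists_B_j_ne ha0
    have h3 := hS.comm_of_fix hd hH hM hR hu hu0 hx (by simp [e1, tv, h2]) (j y)
    rw [hS.θ_j, e1, map_zero, tv, map_add, hS.θ_j, add_right_inj] at h3
    obtain ⟨w, hw⟩ := (hS.fix _).1 h3
    exact hS.mem_Nfrob_of_rat hd hH hM hR he h0 hg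
      ((eq_inv_smul_iff₀ (mul_ne_zero (neg_ne_zero.2 hc) (Φ.ne_symm hy))).2 hw.symm)
  rw [map_zero] at e1
  generalize g (j e) = a at *
  by_contra hcon
  push Not at hcon
  let S := M ⊓ fixing {v | Φ.B (j e) v = 0 ∧ Φ.B (j z) v = 0 ∧ Φ.B a v = 0}
  have key : ∀ u, u ≠ 0 → Φ₀.Q u = 0 → (∀ v, Φ.B (j e) v = 0 → Φ.B (j z) v = 0 → Φ.B (j u) v = 0) →
      ∃ s ∈ S, ∃ δ : F, δ ≠ 0 ∧ s (j u) = δ • a := fun u hu0 hu h => by
    obtain ⟨t, ht, e2⟩ := h1 u hu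
    have h2 := hcon u hu0 hu
    have h3 : Φ.B (j u) (j u) = 0 := by rw [hS.B_eq_zero, Φ₀.B_self hu]
    refine exists_move_plane (S := S) (x := t) (x' := x)
      ⟨ht, fun v hv => by simp [e2, tv, h v hv.1 hv.2.1]⟩ ⟨hx, fun v hv => by simp [e1, tv, hv.2.2]⟩
      (mul_ne_zero (neg_ne_zero.2 hc) (Φ.ne_symm h2)) (mul_ne_zero (neg_ne_zero.2 hc) h2)
      (by simp [e2, tv, h3]) (by rw [e2, tv]) (by simp [e1, tv, ha]) (by rw [e1, tv])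
      fun α β h4 => ?_
    have h5 := congrArg (Φ.B a) h4
    have h6 := congrArg (Φ.B (j u)) h4
    simp only [Φ.bsimp, ha, h3, mul_zero, add_zero, zero_add, mul_eq_zero, h2, Φ.ne_symm h2,
      or_false] at h5 h6
    exact ⟨h5, h6⟩
  obtain ⟨s₁, hs₁, δ₁, hδ₁, e₁⟩ := key e h0 he fun _ h _ => h
  obtain ⟨s₂, hs₂, δ₂, -, e₂⟩ := key z hz.symm.ne hz.q₂ fun _ _ h => h
  have hy : s₁⁻¹ * s₂ ∈ S := S.mul_mem (S.inv_mem hs₁) hs₂
  have e₃ : (s₁⁻¹ * s₂) (j z) = (δ₂ / δ₁) • j e := s₁.injective (by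
    rw [mul_app, app_inv_app, e₂, map_smul, e₁, smul_smul, div_mul_cancel₀ _ hδ₁])
  have hN := hS.mem_Nfrob_of_rat hd hH hM hR hz.q₂ hz.symm.ne hy.1 e₃
  obtain ⟨v, -, hv0, hv⟩ := exists_ne_zero_ker
    [Φ.B (j e), Φ.B (j z), Φ.B a, dualFrob θ (Φ.B a)] ⊤ (by rw [finrank_top]; exact h5)
  simp only [List.mem_cons, List.not_mem_nil, or_false, forall_eq_or_imp, forall_eq,
    dualFrob_eq_zero] at hv
  have h4 := Nfrob.comm hN (hS.θ_ne hv0) (hy.2 v ⟨hv.1, hv.2.1, hv.2.2.1⟩)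
    (hy.2 _ ⟨by rw [hS.B_j_θ, hv.1, map_zero], by rw [hS.B_j_θ, hv.2.1, map_zero], hv.2.2.2⟩) (j e)
  have hχ := hcon z hz.symm.ne hz.q₂
  have hp := hS.pair hz
  have h6 := hy.2 (j e - (Φ.B a (j e) / Φ.B a (j z)) • j z)
    ⟨by simp [hp.perp, Φ.B_self hp.q₁], by simp [hp.symm.perp, Φ.B_self hp.q₂], by simp [hχ]⟩
  rw [map_sub, map_smul, e₃, sub_eq_iff_eq_add] at h6
  obtain ⟨y, hy1, hy2⟩ := hz.ind
  obtain ⟨y', hy1', hy2'⟩ := hz.symm.ind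
  have h7 := congrArg (Φ.B (j y)) h4
  rw [hS.B_j_θ, hS.θ_j, h6] at h7
  simp only [Φ.bsimp, hS.hB, Φ₀.perp_symm hy1, map_neg, map_mul, hS.θ₀_coe,
    ZeroMemClass.coe_zero, mul_zero, zero_sub, add_zero, neg_inj] at h7
  have h8 := (hS.frob.fix _).1 (mul_right_cancel₀ (by exact_mod_cast Φ₀.ne_symm hy2) h7)
  refine hcon (e - (⟨_, h8⟩ : F₀) • z) (fun h => hy2' ?_) ?_ (by simp [hχ])
  · simpa [hy1'] using congrArg (Φ₀.B · y') h
  · rw [Φ₀.Q_sub, he, Φ₀.Q_smul_zero hz.q₂]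
    simp [hz.perp]

/-- The case of a quadratic extension. -/
theorem le_Nfrob_of_sq (h2 : ∀ v, θ (θ v) = v) : M ≤ Nfrob θ :=
  hS.le_Nfrob_of_siegel hd hH hM hR fun a b _ _ _ => by
    obtain ⟨δ, hδ⟩ := hS.frob.ne
    have key : ∀ a, ∃ x y, ∀ u, Φ₀.B u x = 0 → Φ₀.B u y = 0 → Φ.B a (j u) = 0 := fun a => by
      obtain ⟨x, hx⟩ := (hS.fix (a + θ a)).1 (by rw [map_add, h2, add_comm])
      obtain ⟨y, hy⟩ := (hS.fix (δ • a + θ (δ • a))).1 (by rw [map_add, h2, add_comm])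
      refine ⟨x, y, fun u h3 h4 => Φ.perp_symm ?_⟩
      rw [← hS.B_eq_zero, hx, map_add, hS.B_j_θ] at h3
      rw [← hS.B_eq_zero, hy, map_add, hS.B_j_θ, Φ.B_smul_right, map_mul] at h4
      have h5 : (δ - θ₀ δ) * Φ.B (j u) a = 0 := by linear_combination h4 - θ₀ δ * h3
      exact (mul_eq_zero.1 h5).resolve_left fun h =>
        hδ ((hS.frob.fix δ).1 (sub_eq_zero.1 h).symm)
    obtain ⟨x, y, h3⟩ := key a
    obtain ⟨x', y', h4⟩ := key b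
    obtain ⟨u, -, hu0, hu, h⟩ := Φ₀.exists_sing_ker [Φ₀.B x, Φ₀.B y, Φ₀.B x', Φ₀.B y'] ⊤
      (by rw [finrank_top]; exact hd)
    simp only [List.mem_cons, List.not_mem_nil, or_false, forall_eq_or_imp, forall_eq] at h
    exact ⟨u, hu0, hu, ef_apply_of_perp (h3 u (Φ₀.perp_symm h.1) (Φ₀.perp_symm h.2.1))
      (h4 u (Φ₀.perp_symm h.2.2.1) (Φ₀.perp_symm h.2.2.2))⟩

/-- The orthogonal case. -/
theorem le_Nfrob_of_orth [Finite F] (h8 : 8 ≤ finrank F V) (hσ : ∀ a, Φ.σ a = a) (hε : Φ.ε = 1) :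
    M ≤ Nfrob θ := by
  refine hS.le_Nfrob_of_siegel hd hH hM hR fun a₀ b₀ hv₀ hb₀ hE₀ => ?_
  by_contra hcon
  push Not at hcon
  obtain ⟨e, -, h0, he⟩ := Φ₀.iso ⊤ (by rw [finrank_top]; omega)
  obtain ⟨f, -, e₂, -, f₂, -, e₃, -, f₃, -, H⟩ :=
    Φ₀.nd_top.exists_hyp3 (by rwa [finrank_top]) trivial h0 he
  have sym : ∀ x y, Φ.B y x = Φ.B x y := fun x y => by rw [Φ.symm, hσ, hε, one_mul]
  have sg : ∀ a b x, Φ.ef a b 0 x = x + Φ.B a x • b - Φ.B b x • a := fun a b x => by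
    simp [ef, hε]
  obtain ⟨a, b, ha, hb, hab, hae, hbe, hef⟩ : ∃ a b, Φ.Q a = 0 ∧ Φ.Q b = 0 ∧ Φ.B a b = 0 ∧
      Φ.B a (j e) ≠ 0 ∧ Φ.B b (j e) = 0 ∧ ∀ x, Φ.ef a₀ b₀ 0 x = Φ.ef a b 0 x := by
    by_cases h1 : Φ.B a₀ (j e) = 0
    · refine ⟨b₀, -a₀, hb₀, by rw [Φ.Q_neg, hv₀.sing], by simp [Φ.perp_symm hv₀.perp], fun h2 =>
        hcon e h0 he (ef_apply_of_perp h1 h2), by simp [h1], fun x => ?_⟩
      simp only [sg, Φ.bsimp]; module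
    · refine ⟨a₀, b₀ + (-(Φ.B b₀ (j e) / Φ.B a₀ (j e))) • a₀, hv₀.sing, ?_,
        by simp [hv₀.perp, Φ.B_self hv₀.sing], h1, by simp [hσ, h1], fun x => ?_⟩
      · rw [Φ.Q_add_perp (by simp [Φ.perp_symm hv₀.perp]), hb₀, Φ.Q_smul_zero hv₀.sing, add_zero]
      · rw [ef_add_smul, hσ, hε]; congr 1; ring
  simp only [HasE, hef] at hE₀ hcon
  clear hef hv₀ hb₀
  obtain ⟨x, hx, ex⟩ := hE₀
  have hb0 : b ≠ 0 := by
    rintro rfl
    exact hcon e h0 he (ef_zero _ _)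
  have hee := Φ.B_self (hS.Q_eq_zero.2 he)
  -- the corrected vectors
  let τ : V₀ → F := fun w => -(Φ.B a (j w) / Φ.B a (j e))
  let ω : V₀ → V := fun w => j w + τ w • j e
  have ωa : ∀ w, Φ.B a (ω w) = 0 := fun w => by simp [ω, τ, hae]
  have ωb : ∀ w, Φ.B b (ω w) = Φ.B b (j w) := fun w => by simp [ω, hbe]
  have ωe : ∀ w, Φ₀.B e w = 0 → Φ.B (j e) (ω w) = 0 := fun w h => by
    simp [ω, hee, hS.B_eq_zero.2 h]
  have ωQ : ∀ w, Φ₀.B e w = 0 → Φ₀.Q w = 0 → Φ.Q (ω w) = 0 := fun w h h' => by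
    rw [Φ.Q_add_perp (by simp [Φ.perp_symm (hS.B_eq_zero.2 h)]), hS.Q_eq_zero.2 h',
      Φ.Q_smul_zero (hS.Q_eq_zero.2 he), add_zero]
  have ωE : ∀ w, Φ₀.B e w = 0 → Φ₀.Q w = 0 → Φ.HasE M (j e) (ω w) 0 := fun w h h' => by
    have := (hS.hasE_zero (valid_zero he h h')).mono hH
    simpa only [HasE, ω, ef_add_smul, hσ, hε, one_mul, zero_add, sub_self] using this
  -- the perpendicular case
  have perp : ∀ w y, Φ₀.B e w = 0 → Φ₀.Q w = 0 → Φ₀.B e y = 0 → Φ₀.B w y ≠ 0 → Φ.B b (j w) = 0 →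
      ∃ κ : F, b = κ • ω w := fun w y h1 h2 hy hy' h3 => by
    obtain ⟨t, ht, et⟩ := ωE w h1 h2
    have hI := (valid_zero (hS.Q_eq_zero.2 he) (ωe w h1) (ωQ w h1 h2)).mem_Iso et
    have h4 := HasE.conj ⟨x, hx, ex⟩ ht hI
    have h5 : Φ.B (ω w) b = 0 := by rw [sym, ωb, h3]
    rw [et, et, ef_apply_of_perp (Φ.perp_symm hbe) h5, sg, Φ.perp_symm (ωa w), zero_smul,
      sub_zero] at h4
    obtain ⟨t', ht', et'⟩ := h4.sub_left ha hb hab (by simp [ωa]) (by simp [ωb, h3]) ⟨x, hx, ex⟩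
    have h6 := hS.comm_of_fix hd hH hM hR he h0 ht'
      (by rw [et', ef_apply_of_perp (by simp [Φ.perp_symm (ωe w h1)]) hbe]) (j y)
    rw [hS.θ_j, et', sg, add_sub_assoc, map_add, hS.θ_j, add_right_inj] at h6
    obtain ⟨u, hu⟩ := (hS.fix _).1 h6
    have h7 : Φ.B (Φ.B (j e) a • ω w) (j y) ≠ 0 := by
      simpa [ω, hσ, hS.B_eq_zero.2 hy, Φ.ne_symm hae] using hS.B_eq_zero.not.2 hy'
    by_cases hu0 : u = 0
    · rw [hu0, map_zero, eq_comm, sub_eq_zero, ← eq_inv_smul_iff₀ h7, smul_smul, smul_smul] at hu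
      exact ⟨_, hu⟩
    · refine (hcon u hu0 (hS.Q_eq_zero.1 ?_) (ef_apply_of_perp ?_ ?_)).elim
      · rw [hu, Φ.Q_sub, Φ.Q_smul_zero hb, smul_smul, Φ.Q_smul_zero (ωQ w h1 h2)]
        simp [ωb, h3]
      · simp [hu, hab, ωa]
      · simp [hu, Φ.B_self hb, ωb, h3]
  have hB : ∀ x y, Φ.B (j x) (j y) = Φ₀.B x y := hS.hB
  have ε₀ : Φ₀.ε = 1 := by exact_mod_cast hS.hε.symm.trans hε
  -- a rational vector perpendicular to `b`
  obtain ⟨α, β, hαβ, h1⟩ : ∃ α β : F₀, (α ≠ 0 ∨ β ≠ 0) ∧ Φ.B b (j (α • e₂ + β • e₃)) = 0 := by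
    by_cases h2 : Φ.B b (j e₂) = 0
    · exact ⟨1, 0, Or.inl one_ne_zero, by simpa using h2⟩
    by_cases h3 : Φ.B b (j e₃) = 0
    · exact ⟨0, 1, Or.inr one_ne_zero, by simpa using h3⟩
    let S := M ⊓ Φ.Iso ⊓ fixing {v | Φ.B (j e) v = 0 ∧ Φ.B (j e₂) v = 0 ∧ Φ.B (j e₃) v = 0 ∧
      Φ.B a v = 0 ∧ Φ.B b v = 0}
    have key : ∀ w, Φ₀.B e w = 0 → Φ₀.Q w = 0 → Φ.B b (j w) ≠ 0 →
        (∀ v, Φ.B (j e₂) v = 0 → Φ.B (j e₃) v = 0 → Φ.B (j w) v = 0) →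
        ∃ s ∈ S, ∃ δ γ : F, δ ≠ 0 ∧ γ ≠ 0 ∧ s (j e) = δ • b ∧ s (ω w) = γ • a := by
      intro w h1 h2 h3 h4
      obtain ⟨t, ht, et⟩ := ωE w h1 h2
      have hI := (valid_zero (hS.Q_eq_zero.2 he) (ωe w h1) (ωQ w h1 h2)).mem_Iso et
      have h5 : Φ.B (ω w) b ≠ 0 := by rwa [sym, ωb]
      have h6 := Φ.B_self (ωQ w h1 h2)
      have m1 : ω w ∈ Submodule.span F {ω w, a} := Submodule.subset_span (by simp)
      have m2 : a ∈ Submodule.span F {ω w, a} := Submodule.subset_span (by simp)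
      obtain ⟨s, ⟨hs, hs'⟩, δ, hδ, e1⟩ := exists_move_plane
        (S := S ⊓ stab (Submodule.span F {ω w, a})) (x := t) (x' := x) (u := j e) (w := b)
        ⟨⟨⟨ht, hI⟩, fun v hv => by
            rw [et, ef_apply_of_perp hv.1 (by simp [ω, hv.1, h4 v hv.2.1 hv.2.2.1])]⟩,
          mem_stab_span_pair (by rwa [et, ef_apply_of_perp (ωe w h1) h6]) (by
            rw [et, sg, Φ.perp_symm (ωa w), zero_smul, sub_zero]
            exact add_mem m2 (Submodule.smul_mem _ _ m1))⟩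
        ⟨⟨⟨hx, (valid_zero ha hab hb).mem_Iso ex⟩, fun v hv => by
            rw [ex, ef_apply_of_perp hv.2.2.2.1 hv.2.2.2.2]⟩,
          mem_stab_span_pair (by
            rw [ex, ef_apply_of_perp' (ωa w)]
            exact sub_mem m1 (Submodule.smul_mem _ _ m2))
            (by rwa [ex, ef_apply_of_perp (Φ.B_self ha) (Φ.perp_symm hab)])⟩
        (neg_ne_zero.2 h5) hae
        (by rw [et, ef_apply_of_perp hee (Φ.perp_symm (ωe w h1))])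
        (by rw [et, sg, Φ.perp_symm hbe, zero_smul, add_zero, sub_eq_add_neg, neg_smul])
        (by rw [ex, ef_apply_of_perp hab (Φ.B_self hb)])
        (by rw [ex, sg, hbe, zero_smul, sub_zero]) fun α β h => by
          have h7 := congrArg (Φ.B a) h
          simp only [Φ.bsimp, hab, mul_zero, add_zero, mul_eq_zero, hae, or_false] at h7
          subst h7
          exact ⟨rfl, by simpa [hb0] using h⟩
      obtain ⟨p, γ, e2⟩ := Submodule.mem_span_pair.1 (stab_apply hs' m1)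
      have h7 := Iso.B hs.1.2 (j e) (ω w)
      rw [e1, ← e2, ωe w h1] at h7
      simp only [Φ.bsimp, hσ, ωb, Φ.perp_symm hab, mul_zero, add_zero, mul_eq_zero, hδ, h3,
        false_or, or_false] at h7
      rw [h7, zero_smul, zero_add] at e2
      refine ⟨s, hs, δ, γ, hδ, fun h => h5 ?_, e1, e2.symm⟩
      rw [h, zero_smul, eq_comm, s.map_eq_zero_iff] at e2
      simp [e2]
    obtain ⟨s₁, hs₁, δ₁, γ₁, hδ₁, hγ₁, d₁, c₁⟩ := key e₂ H.ee₁₂ H.q₂ h2 fun _ h _ => h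
    obtain ⟨s₂, hs₂, δ₂, γ₂, -, -, d₂, c₂⟩ := key e₃ H.ee₁₃ H.q₃ h3 fun _ _ h => h
    have hy : s₁⁻¹ * s₂ ∈ S := S.mul_mem (S.inv_mem hs₁) hs₂
    have d₃ : (s₁⁻¹ * s₂) (j e) = (δ₂ / δ₁) • j e := s₁.injective (by
      rw [mul_app, app_inv_app, d₂, map_smul, d₁, smul_smul, div_mul_cancel₀ _ hδ₁])
    have c₃ : (s₁⁻¹ * s₂) (ω e₃) = (γ₂ / γ₁) • ω e₂ := s₁.injective (by
      rw [mul_app, app_inv_app, c₂, map_smul, c₁, smul_smul, div_mul_cancel₀ _ hγ₁])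
    have hN := hS.mem_Nfrob_of_rat hd hH hM hR he h0 hy.1.1 d₃
    obtain ⟨v, -, hv0, hv⟩ := exists_ne_zero_ker [Φ.B (j e), Φ.B (j e₂), Φ.B (j e₃), Φ.B a, Φ.B b,
      dualFrob θ (Φ.B a), dualFrob θ (Φ.B b)] ⊤ (by rw [finrank_top]; exact h8)
    simp only [List.mem_cons, List.not_mem_nil, or_false, forall_eq_or_imp, forall_eq,
      dualFrob_eq_zero] at hv
    obtain ⟨v1, v2, v3, v4, v5, v6, v7⟩ := hv
    have h4 := Nfrob.comm hN (hS.θ_ne hv0) (hy.2 v ⟨v1, v2, v3, v4, v5⟩)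
      (hy.2 _ ⟨by rw [hS.B_j_θ, v1, map_zero], by rw [hS.B_j_θ, v2, map_zero],
        by rw [hS.B_j_θ, v3, map_zero], v6, v7⟩) (j e₂)
    have h6 := hy.2 (ω e₂ - (Φ.B b (j e₂) / Φ.B b (j e₃)) • ω e₃)
      ⟨by simp [ω, hB, H.simp], by simp [ω, hB, H.simp], by simp [ω, hB, H.simp], by simp [ωa],
        by simp [ωb, h3]⟩
    rw [map_sub, map_smul, c₃, sub_eq_iff_eq_add, map_add, map_smul, d₃, ← eq_sub_iff_add_eq] at h6
    have h7 := congrArg (Φ.B (j f₃)) h4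
    rw [hS.B_j_θ, hS.θ_j, h6] at h7
    simp only [ω, Φ.bsimp, hB, H.simp, ε₀, map_neg, OneMemClass.coe_one, ZeroMemClass.coe_zero,
      mul_zero, mul_one, zero_sub, add_zero, sub_zero, neg_inj] at h7
    exact ⟨1, -⟨_, (hS.frob.fix _).1 h7⟩, Or.inl one_ne_zero, by simp [h3]⟩
  obtain ⟨κ, h2⟩ : ∃ κ : F, b = κ • ω (α • e₂ + β • e₃) := by
    have q : Φ₀.Q (α • e₂ + β • e₃) = 0 := by
      rw [Φ₀.Q_add_perp (by simp [H.simp]), Φ₀.Q_smul_zero H.q₂, Φ₀.Q_smul_zero H.q₃, add_zero]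
    rcases hαβ with h | h
    · exact perp _ f₂ (by simp [H.simp]) q H.ef₁₂ (by simp [H.simp, h]) h1
    · exact perp _ f₃ (by simp [H.simp]) q H.ef₁₃ (by simp [H.simp, h]) h1
  obtain ⟨κ₂, h3⟩ := perp e₂ f₂ H.ee₁₂ H.q₂ H.ef₁₂ (by simp [H.simp])
    (by rw [h2]; simp [ω, hB, H.simp])
  obtain ⟨κ₃, h4⟩ := perp e₃ f₃ H.ee₁₃ H.q₃ H.ef₁₃ (by simp [H.simp])
    (by rw [h2]; simp [ω, hB, H.simp])
  have h5 := congrArg (Φ.B (j f₂)) (h3.symm.trans h4)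
  simp only [ω, Φ.bsimp, hB, H.simp, ε₀, OneMemClass.coe_one, ZeroMemClass.coe_zero, mul_zero,
    mul_one, add_zero] at h5
  exact hb0 (by rw [h3, h5, zero_smul])

omit hH hM hR [FiniteDimensional F V] in
theorem isMaximalIn_of_le
    (h : ∀ M, Nfrob θ ⊓ Φ.EG ≤ M → M ≤ Φ.EG → Φ.RatE Φ₀ j M → M ≤ Nfrob θ) :
    Geo.IsMaximalIn Φ.EG (Nfrob θ ⊓ Φ.EG) := by
  refine isMaximalIn_of inf_le_right ?_ fun M hH hM g hg hg' =>
    (hS.EG_le_or_ratE hd hH).resolve_right fun hR => hg' ⟨h M hH hM hR hg, hM hg⟩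
  obtain ⟨e, -, h0, he⟩ := Φ₀.iso ⊤ (by rw [finrank_top]; omega)
  obtain ⟨z, hz⟩ := exists_pair hd he h0
  obtain ⟨y, h1, h2⟩ := hz.ind
  obtain ⟨y', h1', h2'⟩ := hz.symm.ind
  obtain ⟨a, ha⟩ := hS.frob.ne
  have hv := (hS.pair hz).valid a
  refine ⟨hv.eich, hv.eich_mem, fun h => ha ?_⟩
  have h3 := Nfrob.comm h.1 (v := j e) (by rw [hS.θ_j]; exact hS.j_ne h0) hv.ef_self
    (by rw [hS.θ_j]; exact hv.ef_self) (j y')
  have h4 := congrArg (Φ.B (j y)) h3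
  rw [hS.B_j_θ, hS.θ_j, hv.eich_apply, ef] at h4
  simp only [Φ.bsimp, hS.hB, Φ₀.perp_symm h1, h1', map_add, map_mul, hS.θ₀_coe,
    ZeroMemClass.coe_zero, mul_zero, sub_zero, add_right_inj] at h4
  have h5 : (Φ₀.B e y' : F) ≠ 0 := by exact_mod_cast h2'
  have h6 : (Φ₀.B y z : F) ≠ 0 := by exact_mod_cast Φ₀.ne_symm h2
  exact (hS.frob.fix a).1 (mul_right_cancel₀ h6 (mul_left_cancel₀ h5 h4))

end Sub

end Fm

end Cfsg.Agent.Class.Max
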