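import Mathlib
import Cfsg.Agent.Class.Max.C3Lin
import Cfsg.Agent.Class.Max.C5Fm
import Cfsg.Agent.Class.Max.C8Sp
import Cfsg.Agent.Class.Max.C8

/-!
Formed spaces over `F` obtained from formed spaces over an extension field `K` by a linear
functional `T : K → F`: basic tools for the maximality of extension field subgroups.
-/

set_option autoImplicit false
set_option linter.unusedSectionVars false

namespace Cfsg.Agent.Class.Max

open Module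

namespace Fm

section Unip

variable {F V : Type*} [Field F] [AddCommGroup V] [Module F V] [FiniteDimensional F V]
  {Φ : Fm F V} {M : Subgroup (V ≃ₗ[F] V)}

/-- The unipotent radical of the stabiliser of a totally singular subspace is generated by
Eichler transformations. -/
theorem mem_of_unip {E Y : Submodule F V} (hEY : E ≤ Y) (hE : ∀ b ∈ E, Φ.Q b = 0)
    (hY : ∀ b ∈ E, ∀ w ∈ Y, Φ.B b w = 0)
    (hM : ∀ b ∈ E, ∀ w ∈ Y, ∀ c, Φ.Valid b w c → Φ.HasE M b w c) (n : ℕ) :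
    ∀ E₁ : Submodule F V, finrank F E₁ = n → E₁ ≤ E → ∀ u ∈ Φ.Iso, (∀ x, u x - x ∈ Y) →
      (∀ v ∈ Φ.perp E₁, u v - v ∈ E₁) → u ∈ M := by
  induction n with
  | zero =>
    intro E₁ h1 _ u _ _ h4
    rw [Submodule.finrank_eq_zero] at h1
    subst h1
    have : u = 1 := LinearEquiv.ext fun v => sub_eq_zero.1 (h4 v fun x hx => by
      rw [(Submodule.mem_bot F).1 hx]; simp)
    rw [this]; exact M.one_mem
  | succ n ih =>
    intro E₁ h1 h2 u hu h3 h4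
    obtain ⟨b, hb, hb0⟩ := Submodule.exists_mem_ne_zero_of_ne_bot (p := E₁) (by
      rintro rfl; simp at h1)
    obtain ⟨y, hy⟩ := Φ.exists_B_ne hb0
    set x := (Φ.B b y)⁻¹ • y
    have hx : Φ.B b x = 1 := by rw [Φ.B_smul_right, inv_mul_cancel₀ hy]
    have hxb : Φ.B x b ≠ 0 := Φ.ne_symm (by rw [hx]; exact one_ne_zero)
    set E' := E₁ ⊓ LinearMap.ker (Φ.B x) with hE'
    have hn : finrank F E' = n := by
      have e1 : finrank F E₁ ≤ finrank F E' + 1 := finrank_le_inf_ker E₁ (Φ.B x)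
      have e2 : E' < E₁ := SetLike.lt_iff_le_and_exists.2 ⟨inf_le_left, b, hb, fun h => hxb h.2⟩
      have := Submodule.finrank_lt_finrank_of_lt e2
      omega
    have hbx : Φ.B b (u x) = Φ.B b x := by
      have := hY b (h2 hb) _ (h3 x)
      rwa [map_sub, sub_eq_zero] at this
    obtain ⟨c, hv, hc⟩ := exists_ef_eq (hE b (h2 hb)) (by rw [hx]; exact one_ne_zero) hbx
      (Iso.Q hu x)
    rw [hx, inv_one, one_smul] at hv hc
    obtain ⟨t, ht, et⟩ := hM b (h2 hb) _ (h3 x) c hv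
    have htI : t ∈ Φ.Iso := hv.mem_Iso et
    have hI : t⁻¹ * u ∈ Φ.Iso := Φ.Iso.mul_mem (Φ.Iso.inv_mem htI) hu
    have hfix : (t⁻¹ * u) x = x := t.injective (by rw [mul_app, app_inv_app, et, hc])
    have hti : ∀ z, t⁻¹ z = Φ.ef b (-(u x - x)) (Φ.ε * Φ.σ c) z := fun z =>
      t.injective (by rw [app_inv_app, et, hv.ef_ef_neg])
    have key : t⁻¹ * u ∈ M := by
      refine ih E' hn (inf_le_left.trans h2) _ hI (fun z => ?_) fun v hv' => ?_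
      · rw [mul_app, hti, ef]
        have := Y.sub_mem (Y.add_mem (h3 z) (Y.smul_mem (Φ.B b (u z)) (Y.neg_mem (h3 x))))
          (Y.smul_mem (Φ.ε * (Φ.B (-(u x - x)) (u z) + Φ.ε * Φ.σ c * Φ.B b (u z))) (hEY (h2 hb)))
        convert this using 1
        abel
      · set v₀ := v - Φ.B b v • x with hv₀
        have p1 : v₀ ∈ Φ.perp E₁ := fun z hz => by
          have hz' : z - (Φ.B x z / Φ.B x b) • b ∈ E' := ⟨E₁.sub_mem hz (E₁.smul_mem _ hb), by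
            change Φ.B x _ = 0
            rw [map_sub, Φ.B_smul_right, div_mul_cancel₀ _ hxb, sub_self]⟩
          have q1 := hv' _ hz'
          have q2 : Φ.B (z - (Φ.B x z / Φ.B x b) • b) x = 0 := Φ.perp_symm hz'.2
          rw [Φ.B_sub_left, Φ.B_smul_left] at q1 q2
          rw [hv₀, map_sub, Φ.B_smul_right]
          linear_combination q1 - Φ.B b v * q2 - Φ.σ (Φ.B x z / Φ.B x b) * Φ.B b v * hx
        have p2 : (t⁻¹ * u) v - v = (t⁻¹ * u) v₀ - v₀ := by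
          rw [hv₀, map_sub, map_smul, hfix]; abel
        have p3 : Φ.B b (u v₀) = 0 := by
          have := hY b (h2 hb) _ (h3 v₀)
          rwa [map_sub, p1 b hb, sub_zero] at this
        rw [p2]
        refine Submodule.mem_inf.2 ⟨?_, ?_⟩
        · rw [mul_app, hti, ef_apply_of_perp' p3]
          convert E₁.sub_mem (h4 v₀ p1) (E₁.smul_mem (Φ.ε * Φ.B (-(u x - x)) (u v₀)) hb) using 1
          abel
        · change Φ.B x _ = 0
          rw [map_sub, sub_eq_zero]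
          conv_lhs => rw [← hfix]
          exact Iso.B hI x v₀
    simpa using M.mul_mem ht key

end Unip

section Pts

variable {K V : Type*} [Field K] [AddCommGroup V] [Module K V] [FiniteDimensional K V]
  {Ψ : Fm K V}

theorem exists_perp_pair (h3 : 3 ≤ finrank K V) (e f : V) :
    ∃ w, w ≠ 0 ∧ Ψ.B e w = 0 ∧ Ψ.B f w = 0 := by
  obtain ⟨w, -, h0, h⟩ := exists_ne_zero_ker [Ψ.B e, Ψ.B f] (⊤ : Submodule K V)
    (by simp; omega)
  exact ⟨w, h0, h _ (by simp), h _ (by simp)⟩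

/-- Two vectors with non-zero product in the perpendicular of a hyperbolic pair. -/
theorem exists_perp_pair_B (h3 : 3 ≤ finrank K V) {e f : V} (he : Ψ.Q e = 0) (hf : Ψ.Q f = 0)
    (hef : Ψ.B e f ≠ 0) (β : K) :
    ∃ w w', Ψ.B e w = 0 ∧ Ψ.B f w = 0 ∧ Ψ.B e w' = 0 ∧ Ψ.B f w' = 0 ∧ Ψ.B w w' = β := by
  obtain ⟨w, h0, h1, h2⟩ := exists_perp_pair (Ψ := Ψ) h3 e f
  obtain ⟨y, hy⟩ := Ψ.exists_B_ne h0
  have hfe := Ψ.ne_symm hef
  refine ⟨w, (β / Ψ.B w y) • (y - (Ψ.B e y / Ψ.B e f) • f - (Ψ.B f y / Ψ.B f e) • e), h1, h2,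
    ?_, ?_, ?_⟩
  · simp [Ψ.B_self he, hef]
  · simp [Ψ.B_self hf, hfe]
  · simp [Ψ.perp_symm h1, Ψ.perp_symm h2, hy]

variable (Ψ) in
/-- There are at least three singular points. -/
def Rk : Prop := 3 ≤ finrank K V ∨ ∃ c, c ≠ 0 ∧ Ψ.π c = 0

theorem Rk.exists_valid (h : Ψ.Rk) {e f : V} (he : Ψ.Q e = 0) (hf : Ψ.Q f = 0)
    (hef : Ψ.B e f ≠ 0) : ∃ w c, c ≠ 0 ∧ Ψ.Valid e w c ∧ Ψ.B f w = 0 := by
  by_cases hΛ : ∃ c, c ≠ 0 ∧ Ψ.π c = 0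
  · obtain ⟨c, h1, h2⟩ := hΛ
    exact ⟨0, c, h1, ⟨he, map_zero _, by rw [h2, Ψ.Q_zero]⟩, map_zero _⟩
  obtain ⟨w, w', h1, h2, h3, h4, h5⟩ := exists_perp_pair_B (h.resolve_right hΛ) he hf hef 1
  have key : ∀ z, Ψ.B e z = 0 → Ψ.B f z = 0 → Ψ.Q z ≠ 0 →
      ∃ w c, c ≠ 0 ∧ Ψ.Valid e w c ∧ Ψ.B f w = 0 := fun z z1 z2 z3 => by
    obtain ⟨c, hc⟩ := Fm.exists_valid he z1
    exact ⟨z, c, fun h0 => z3 (by rw [← hc.norm, h0, map_zero]), hc, z2⟩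
  by_cases q1 : Ψ.Q w = 0
  · by_cases q2 : Ψ.Q w' = 0
    · refine key (w + w') (by simp [h1, h3]) (by simp [h2, h4]) fun h0 => hΛ ⟨1, one_ne_zero, ?_⟩
      rwa [Ψ.add, q1, q2, h5, zero_add, zero_add] at h0
    · exact key w' h3 h4 q2
  · exact key w h1 h2 q1

theorem Rk.exists_sing_not_perp (h : Ψ.Rk) {e e' : V} (he : Ψ.Q e = 0) (he' : Ψ.Q e' = 0)
    (h0 : e ≠ 0) (h0' : e' ≠ 0) : ∃ s, Ψ.Q s = 0 ∧ Ψ.B s e ≠ 0 ∧ Ψ.B s e' ≠ 0 := by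
  by_cases hb : Ψ.B e e' = 0
  · obtain ⟨y, hy⟩ := Ψ.exists_B_ne h0
    obtain ⟨y', hy'⟩ := Ψ.exists_B_ne h0'
    obtain ⟨s, -, h1, h2, h3⟩ := exists_sing_not_perp₂ ⊤ trivial he hb ⟨y, trivial, hy⟩
      ⟨y', trivial, hy'⟩
    exact ⟨s, h1, Ψ.ne_symm h2, Ψ.ne_symm h3⟩
  · obtain ⟨w, c, hc, hv, hw⟩ := h.exists_valid he he' hb
    refine ⟨Ψ.ef e w c e', by rw [hv.Q_ef, he'], Ψ.ne_symm (by rwa [hv.B_ef]), Ψ.ne_symm ?_⟩
    simp only [ef, map_add, map_sub, map_smul, Ψ.B_self he', hw, Ψ.perp_symm hw, smul_eq_mul]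
    simp [Ψ.eps_ne, hc, hb, Ψ.ne_symm hb]

/-- The group generated by the Eichler maps is transitive on the singular points. -/
theorem Rk.move_pt (h : Ψ.Rk) {e e' : V} (he : Ψ.Q e = 0) (he' : Ψ.Q e' = 0)
    (h0 : e ≠ 0) (h0' : e' ≠ 0) : ∃ g ∈ Ψ.EG, ∃ a : K, a ≠ 0 ∧ g e = a • e' := by
  obtain ⟨s, hs, h1, h2⟩ := h.exists_sing_not_perp he he' h0 h0'
  obtain ⟨c, hv, hc⟩ := exists_ef_eq (y := (Ψ.B s e / Ψ.B s e') • e') hs h1
    (by rw [Ψ.B_smul_right, div_mul_cancel₀ _ h2]) (by rw [Ψ.Q_smul_zero he', he])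
  exact ⟨hv.eich, hv.eich_mem, _, div_ne_zero h1 h2, hc⟩

theorem exists_partner' {e : V} (he : Ψ.Q e = 0) (h0 : e ≠ 0) : ∃ f, Ψ.Q f = 0 ∧ Ψ.B e f = 1 := by
  obtain ⟨y, hy⟩ := Ψ.exists_B_ne h0
  obtain ⟨f, -, h⟩ := exists_partner (U := ⊤) trivial he ⟨y, trivial, hy⟩
  exact ⟨f, h⟩

/-- An additive map sending singular vectors to multiples of themselves is a scalar. -/
theorem exists_eq_smul_of_sing (h3 : 3 ≤ finrank K V) {a₀ : K} (ha₀ : a₀ ≠ 0) (ha₁ : a₀ ≠ 1)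
    {e : V} (he : Ψ.Q e = 0) (h0 : e ≠ 0) (φ : V →+ V)
    (h : ∀ v, Ψ.Q v = 0 → ∃ c : K, φ v = c • v) : ∃ c : K, ∀ v, φ v = c • v := by
  obtain ⟨f, hf, hef⟩ := exists_partner' he h0
  have hfe : Ψ.B f e = Ψ.ε := B_eq_eps hef
  -- one half of the argument, symmetric in `e` and `f`
  have half : ∀ e f w w' : V, Ψ.Q e = 0 → Ψ.Q f = 0 → Ψ.B f e ≠ 0 → Ψ.B f w = 0 →
      Ψ.B w' e = 0 → Ψ.B w' f = 0 → Ψ.B w' w = 1 →
      (∀ a : K, φ (a • e) = Ψ.B w' (φ w) • a • e) ∧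
        ∃ b : K, φ (e + w + b • f) = Ψ.B w' (φ w) • (e + w + b • f) := by
    intro e f w w' he hf hfe hfw h1 h2 h4
    have k1 : ∀ a : K, a ≠ 0 → (∃ b : K, φ (a • e + w + b • f) =
        Ψ.B w' (φ w) • (a • e + w + b • f)) ∧
        φ (a • e) = Ψ.B w' (φ w) • a • e - (Ψ.B f (φ w) / Ψ.B f e) • e := fun a ha => by
      obtain ⟨b, hb⟩ := Ψ.exists_singular_add (y := a • e + w) hf (by simp [hfw, ha, hfe])
      obtain ⟨c, hc⟩ := h _ hb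
      obtain ⟨c₁, hc₁⟩ := h _ (Ψ.Q_smul_zero he a)
      obtain ⟨c₂, hc₂⟩ := h _ (Ψ.Q_smul_zero hf b)
      have e1 : φ w = c • (a • e + w + b • f) - c₁ • a • e - c₂ • b • f := by
        rw [← hc, ← hc₁, ← hc₂, map_add, map_add]; abel
      have e2 : Ψ.B w' (φ w) = c := by rw [e1]; simp [h1, h2, h4]
      have e3 : Ψ.B f (φ w) / Ψ.B f e = (c - c₁) * a := by
        rw [e1, div_eq_iff hfe]; simp [hfw, Ψ.B_self hf]; ring
      refine ⟨⟨b, by rw [e2, hc]⟩, ?_⟩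
      rw [e2, e3, hc₁]; module
    have k2 : (Ψ.B f (φ w) / Ψ.B f e) • e = 0 := by
      have e1 := (k1 1 one_ne_zero).2
      have e2 := (k1 (a₀ - 1) (sub_ne_zero.2 ha₁)).2
      have e3 := (k1 a₀ ha₀).2
      have : φ (a₀ • e) = φ ((1 : K) • e) + φ ((a₀ - 1) • e) := by
        rw [← map_add]; congr 1; module
      rw [e1, e2, e3] at this
      linear_combination (norm := module) this
    refine ⟨fun a => ?_, by simpa using (k1 1 one_ne_zero).1⟩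
    by_cases ha : a = 0
    · simp [ha]
    · rw [(k1 a ha).2, k2, sub_zero]
  obtain ⟨c, hc⟩ := h e he
  have main : ∀ w, w ≠ 0 → Ψ.B e w = 0 → Ψ.B f w = 0 →
      (∀ a : K, φ (a • e) = c • a • e) ∧ (∀ a : K, φ (a • f) = c • a • f) ∧ φ w = c • w := by
    intro w hw0 hew hfw
    obtain ⟨y, hy⟩ := Ψ.exists_B_ne hw0
    obtain ⟨p1, p2⟩ := sub_mem_ker_hyp he hf hef y
    set y' := y - Ψ.B e y • f - (Ψ.ε * Ψ.B f y) • e
    have p3 : Ψ.B w y' ≠ 0 := by simpa [y', Ψ.perp_symm hew, Ψ.perp_symm hfw] using hy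
    have q1 : Ψ.B ((Ψ.ε * (Ψ.B w y')⁻¹) • y') e = 0 := by
      rw [Ψ.B_smul_left, Ψ.perp_symm p1, mul_zero]
    have q2 : Ψ.B ((Ψ.ε * (Ψ.B w y')⁻¹) • y') f = 0 := by
      rw [Ψ.B_smul_left, Ψ.perp_symm p2, mul_zero]
    obtain ⟨r1, b, r2⟩ := half e f w _ he hf (hfe ▸ Ψ.eps_ne) hfw q1 q2 (B_normalize' p3)
    obtain ⟨r3, -⟩ := half f e w _ hf he (hef ▸ one_ne_zero) hew q2 q1 (B_normalize' p3)
    have : Ψ.B ((Ψ.ε * (Ψ.B w y')⁻¹) • y') (φ w) = c := by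
      have := r1 1
      rw [one_smul, hc] at this
      exact (smul_left_injective K h0 this).symm
    rw [this] at r1 r2 r3
    refine ⟨r1, r3, ?_⟩
    rw [map_add, map_add, r3, hc] at r2
    linear_combination (norm := module) r2
  obtain ⟨w, hw0, hew, hfw⟩ := exists_perp_pair (Ψ := Ψ) h3 e f
  obtain ⟨m1, m2, -⟩ := main w hw0 hew hfw
  refine ⟨c, fun v => ?_⟩
  obtain ⟨p1, p2⟩ := sub_mem_ker_hyp he hf hef v
  set v' := v - Ψ.B e v • f - (Ψ.ε * Ψ.B f v) • e with hv'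
  have : v = v' + Ψ.B e v • f + (Ψ.ε * Ψ.B f v) • e := by rw [hv']; abel
  have m3 : φ v' = c • v' := by
    by_cases h : v' = 0
    · simp [h]
    · exact (main v' h p1 p2).2.2
  rw [this, map_add, map_add, m1, m2, m3]
  module

end Pts

end Fm

variable {F K V : Type*} [Field F] [Field K] [Algebra F K] [AddCommGroup V] [Module F V]
  [Module K V] [IsScalarTower F K V]

variable (F) in
/-- A `K`-linear automorphism as an `F`-linear automorphism. -/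
def res : (V ≃ₗ[K] V) →* (V ≃ₗ[F] V) where
  toFun g := g.restrictScalars F
  map_one' := rfl
  map_mul' _ _ := rfl

theorem res_apply (g : V ≃ₗ[K] V) (x : V) : res F g x = g x := rfl

theorem res_mem_GamL (g : V ≃ₗ[K] V) : res F g ∈ GamL F K V := restrictScalars_mem_GamL g

theorem notMem_GamL (hr : 2 ≤ finrank F K) {g : V ≃ₗ[F] V} {e v : V} (h0 : e ≠ 0)
    (h1 : ∀ k : K, g (k • e) = k • e) {t : F} (ht : t ≠ 0) (h2 : g v = v + t • e)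
    (h3 : ∀ k : K, ∃ t' : F, g (k • v) = k • v + t' • e) : g ∉ GamL F K V := fun h => by
  obtain ⟨k, hk⟩ := exists_notMem_range hr
  obtain ⟨k', hk'⟩ := h.1 k
  have e1 := hk' e
  rw [h1, show g e = e by simpa using h1 1] at e1
  obtain rfl := smul_left_injective K h0 e1
  obtain ⟨t', ht'⟩ := h3 k
  rw [hk', h2, smul_add, add_right_inj, ← algebraMap_smul K t, ← algebraMap_smul K t',
    smul_smul] at ht'
  refine hk (t' / t) ?_
  rw [map_div₀, div_eq_iff ((map_ne_zero _).2 ht)]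
  exact (smul_left_injective K h0 ht').symm

namespace Fm

/-- The form `Φ` over `F` is obtained from the form `Ψ` over `K` by the functional `T`. -/
structure Tr (Φ : Fm F V) (Ψ : Fm K V) (T : Dual F K) : Prop where
  B : ∀ x y, Φ.B x y = T (Ψ.B x y)
  ne : T ≠ 0
  Q : ∀ x y, Ψ.Q x = Ψ.Q y → Φ.Q x = Φ.Q y
  sing : ∀ x, Ψ.B x x = 0 → Ψ.Q x = 0
  prime : (finrank F K).Prime

variable (Φ : Fm F V) (Ψ : Fm K V) in
/-- `M` contains an Eichler map at `e` for every `w` perpendicular to `e` over `K`. -/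
def PA (M : Subgroup (V ≃ₗ[F] V)) (e : V) : Prop := ∀ w, Ψ.B e w = 0 → Φ.InA M e w

variable (K) in
/-- `g` maps the `K`-point of `e` into a `K`-point. -/
def Pm (g : V ≃ₗ[F] V) (e : V) : Prop := ∀ k : K, g (k • e) ∈ pt F K (g e)

variable {Φ : Fm F V} {Ψ : Fm K V} {T : Dual F K} {M : Subgroup (V ≃ₗ[F] V)}

namespace Tr

variable (h : Tr Φ Ψ T)
include h

theorem two_le : 2 ≤ finrank F K := h.prime.two_le

theorem B_zero {x y : V} (hb : Ψ.B x y = 0) : Φ.B x y = 0 := by rw [h.B, hb, map_zero]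

theorem perp_of {x y : V} (hb : ∀ k : K, Φ.B x (k • y) = 0) : Ψ.B x y = 0 :=
  eq_zero_of_forall_mul h.ne fun k => by rw [← Ψ.B_smul_right, ← h.B, hb]

theorem perp_of' {x y : V} (hb : ∀ k : K, Φ.B (k • x) y = 0) : Ψ.B x y = 0 :=
  Ψ.perp_symm (h.perp_of fun k => Φ.perp_symm (hb k))

theorem Q_zero {x : V} (hx : Ψ.Q x = 0) : Φ.Q x = 0 := by
  rw [h.Q x 0 (by rw [hx, Ψ.Q_zero]), Φ.Q_zero]

theorem B_pt {e b v : V} (hb : b ∈ pt F K e) (hv : Ψ.B e v = 0) : Ψ.B b v = 0 := by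
  obtain ⟨k, rfl⟩ := mem_pt.1 hb
  rw [Ψ.B_smul_left, hv, mul_zero]

theorem Q_pt {e b : V} (he : Ψ.Q e = 0) (hb : b ∈ pt F K e) : Ψ.Q b = 0 := by
  obtain ⟨k, rfl⟩ := mem_pt.1 hb
  exact Ψ.Q_smul_zero he k

theorem B_pt_self {e b : V} (he : Ψ.Q e = 0) (hb : b ∈ pt F K e) : Ψ.B e b = 0 :=
  Ψ.perp_symm (h.B_pt hb (Ψ.B_self he))

theorem mem_perp_pt {e v : V} : v ∈ Φ.perp (pt F K e) ↔ Ψ.B e v = 0 :=
  ⟨fun hv => h.perp_of' fun k => hv _ (smul_mem_pt k e), fun hv _ hb => h.B_zero (h.B_pt hb hv)⟩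

theorem exists_T (d : F) : ∃ c, T c = d := by simpa using exists_mul_eq_one h.ne one_ne_zero d

theorem res_Iso {g : V ≃ₗ[K] V} (hg : g ∈ Ψ.Iso) : res F g ∈ Φ.Iso :=
  ⟨fun x y => by rw [h.B, h.B, res_apply, res_apply, hg.1], fun x => h.Q _ _ (hg.2 x)⟩

theorem B_of_linear {g : V ≃ₗ[F] V} (hg : g ∈ Φ.Iso) {x y : V}
    (hy : ∀ k : K, g (k • y) = k • g y) : Ψ.B (g x) (g y) = Ψ.B x y :=
  sub_eq_zero.1 (eq_zero_of_forall_mul h.ne fun k => by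
    rw [mul_sub, map_sub, ← Ψ.B_smul_right, ← Ψ.B_smul_right, ← hy, ← h.B, ← h.B, hg.1, sub_self])

variable [Finite V] [Finite K]

theorem exists_ne_zero_one : ∃ a : K, a ≠ 0 ∧ a ≠ 1 := by
  obtain ⟨a, ha⟩ := exists_notMem_range h.two_le
  exact ⟨a, fun e => ha 0 (by simp [e]), fun e => ha 1 (by simp [e])⟩

/-- An isometry moving vectors only inside the perpendicular `v` of a point lies in the point. -/
theorem mem_pt_of_perp {e v : V} (hv : ∀ y, Ψ.B e y = 0 → Φ.B v y = 0) : v ∈ pt F K e := by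
  rw [← Φ.perp_perp (pt F K e)]
  exact fun y hy => Φ.perp_symm (hv y (h.mem_perp_pt.1 hy))

theorem eich_mem_EG {e w : V} {c : K} (hv : Ψ.Valid e w c) : res F hv.eich ∈ Φ.EG := by
  refine mem_of_unip (E := pt F K e) (Y := Φ.perp (pt F K e))
    (fun b hb => h.mem_perp_pt.2 (h.B_pt_self hv.sing hb))
    (fun b hb => h.Q_zero (h.Q_pt hv.sing hb)) (fun b hb w hw => hw b hb)
    (fun b _ w _ c hc => hc.hasE) _ _ rfl le_rfl _ (h.res_Iso (hv.mem_Iso hv.eich_apply))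
    (fun x => h.mem_perp_pt.2 ?_) fun v hv' => ?_
  · rw [res_apply, hv.eich_apply, map_sub, hv.B_ef, sub_self]
  · rw [res_apply, hv.eich_apply, ef_apply_of_perp' (h.mem_perp_pt.1 hv'), sub_sub_cancel_left,
      ← neg_smul]
    exact smul_mem_pt _ _

theorem res_EG {g : V ≃ₗ[K] V} (hg : g ∈ Ψ.EG) : res F g ∈ GamL F K V ⊓ Φ.EG := by
  refine ⟨res_mem_GamL g, ?_⟩
  have : Ψ.EG ≤ Φ.EG.comap (res F) :=
    EG_le fun e w c hv => ⟨hv.eich, h.eich_mem_EG hv, hv.eich_apply⟩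
  exact this hg

theorem exists_eich (hH : GamL F K V ⊓ Φ.EG ≤ M) {e w : V} {c : K} (hv : Ψ.Valid e w c) :
    ∃ t ∈ M, t ∈ Φ.Iso ∧ ∀ x, t x = Ψ.ef e w c x :=
  ⟨res F hv.eich, hH (h.res_EG hv.eich_mem), h.res_Iso (hv.mem_Iso hv.eich_apply), fun _ => rfl⟩

theorem exists_perp_pair_B (h3 : 3 ≤ finrank K V) {e f : V} (he : Ψ.Q e = 0) (hf : Ψ.Q f = 0)
    (hef : Ψ.B e f ≠ 0) (β : F) :
    ∃ w w', Ψ.B e w = 0 ∧ Ψ.B f w = 0 ∧ Ψ.B e w' = 0 ∧ Ψ.B f w' = 0 ∧ Φ.B w w' = β := by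
  obtain ⟨c, hc⟩ := h.exists_T β
  obtain ⟨w, w', h1, h2, h4, h5, h6⟩ := Fm.exists_perp_pair_B h3 he hf hef c
  exact ⟨w, w', h1, h2, h4, h5, by rw [h.B, h6, hc]⟩

theorem PA.center (h3 : 3 ≤ finrank K V) {e : V} (he : Ψ.Q e = 0) (h0 : e ≠ 0)
    (hP : PA Φ Ψ M e) (t : F) : Φ.HasE M e 0 (Φ.σ t - Φ.ε * t) := by
  obtain ⟨f, hf, hef⟩ := exists_partner' he h0
  obtain ⟨w, w', h1, -, h2, -, h4⟩ := h.exists_perp_pair_B h3 he hf (hef ▸ one_ne_zero) (Φ.σ t)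
  have := (hP w h1).comm (hP w' h2)
  rwa [Φ.symm w w', h4, Φ.invol] at this

theorem full_of_PA (h3 : 3 ≤ finrank K V) (hM : M ≤ Φ.Iso) (hP : ∀ s, Ψ.Q s = 0 → PA Φ Ψ M s)
    {e : V} (he : Ψ.Q e = 0) (h0 : e ≠ 0) (hΛ : ∀ c, Φ.π c = 0 → Φ.HasE M e 0 c) :
    Φ.Full M e := by
  intro w c hv
  refine InA.hasE ?_ hΛ hv
  obtain ⟨f, hf, hef⟩ := exists_partner' he h0
  obtain ⟨y, w', h1, h2, h4, h5, h6⟩ := h.exists_perp_pair_B h3 he hf (hef ▸ one_ne_zero) (-Φ.ε)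
  set a := Ψ.B e w with ha
  obtain ⟨c', hv', t, ht, et⟩ := hP (a • f) (Ψ.Q_smul_zero hf a) y
    (by rw [Ψ.B_smul_left, h2, mul_zero])
  have e0 : Φ.B e (a • f) = 0 := by rw [h.B, Ψ.B_smul_right, hef, mul_one, ha, ← h.B, hv.perp]
  have e1 : t e = e := by
    rw [et, ef_apply_of_perp (Φ.perp_symm e0) (Φ.perp_symm (h.B_zero h1))]
  have e2 : t w' = w' + a • f := by
    rw [et, ef_apply_of_perp' (h.B_zero (by rw [Ψ.B_smul_left, h5, mul_zero])), h6,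
      mul_neg, Φ.eps_sq]
    simp
  have e3 := (hP e he w' h4).conj ht (hM ht)
  rw [e1, e2] at e3
  have e4 := (e3.sub (hP e he w' h4)).add (hP e he (w - a • f) (by simp [hef, ha]))
  simpa using e4

theorem EG_le_of_PA (h3 : 3 ≤ finrank K V) (hM : M ≤ Φ.Iso) (hP : ∀ s, Ψ.Q s = 0 → PA Φ Ψ M s)
    {e : V} (he : Ψ.Q e = 0) (h0 : e ≠ 0)
    (hΛ : ∀ s, Ψ.Q s = 0 → s ≠ 0 → ∀ c, Φ.π c = 0 → Φ.HasE M s 0 c) : Φ.EG ≤ M := by
  obtain ⟨f, hf, hef⟩ := exists_partner' he h0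
  obtain ⟨a, ha⟩ := h.exists_T 1
  have e0 : Φ.B e (a • f) ≠ 0 := by rw [h.B, Ψ.B_smul_right, hef, mul_one, ha]; exact one_ne_zero
  have e1 : a • f ≠ 0 := fun e => e0 (by rw [e, map_zero])
  have e2 := Ψ.Q_smul_zero hf a
  exact EG_le_of_full (h.full_of_PA h3 hM hP he h0 (hΛ _ he h0))
    (h.full_of_PA h3 hM hP e2 e1 (hΛ _ e2 e1)) (h.Q_zero he) (h.Q_zero e2) e0

theorem EG_le_of_PA' (h3 : 3 ≤ finrank K V) (hM : M ≤ Φ.Iso) (hP : ∀ s, Ψ.Q s = 0 → PA Φ Ψ M s)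
    {e : V} (he : Ψ.Q e = 0) (h0 : e ≠ 0) (hΛ : ∀ c, Φ.π c = 0 → ∃ t, c = Φ.σ t - Φ.ε * t) :
    Φ.EG ≤ M :=
  h.EG_le_of_PA h3 hM hP he h0 fun s hs hs0 c hc => by
    obtain ⟨t, rfl⟩ := hΛ c hc
    exact PA.center h h3 hs hs0 (hP s hs) t

theorem exists_not_GamL (h3 : 3 ≤ finrank K V ∨ ∃ c, c ≠ 0 ∧ Φ.π c = 0) {e : V} (he : Ψ.Q e = 0)
    (h0 : e ≠ 0) : ∃ g ∈ Φ.EG, g ∉ GamL F K V := by
  obtain ⟨f, hf, hef⟩ := exists_partner' he h0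
  rcases h3 with h3 | ⟨c, hc, hc'⟩
  · obtain ⟨w, v, h1, -, h2, -, h4⟩ := h.exists_perp_pair_B h3 he hf (hef ▸ one_ne_zero) 1
    obtain ⟨c, hv⟩ := exists_valid (h.Q_zero he) (h.B_zero h1)
    refine ⟨hv.eich, hv.eich_mem, notMem_GamL h.two_le h0 (v := v) (t := -Φ.ε) (fun k => ?_)
      (neg_ne_zero.2 Φ.eps_ne) ?_ fun k => ⟨-(Φ.ε * Φ.B w (k • v)), ?_⟩⟩
    · exact ef_apply_of_perp (h.B_zero (by simp [Ψ.B_self he]))
        (h.B_zero (by simp [Ψ.perp_symm h1]))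
    · rw [hv.eich_apply, ef_apply_of_perp' (h.B_zero h2), h4, mul_one, neg_smul, sub_eq_add_neg]
    · rw [hv.eich_apply, ef_apply_of_perp' (h.B_zero (by simp [h2])), neg_smul, sub_eq_add_neg]
  · have hv : Φ.Valid e 0 c := ⟨h.Q_zero he, map_zero _, by rw [hc', Φ.Q_zero]⟩
    obtain ⟨a, ha⟩ := h.exists_T 1
    refine ⟨hv.eich, hv.eich_mem, notMem_GamL h.two_le h0 (v := a • f) (t := -(Φ.ε * c))
      (fun k => ?_) (neg_ne_zero.2 (mul_ne_zero Φ.eps_ne hc)) ?_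
      fun k => ⟨-(Φ.ε * (c * Φ.B e (k • a • f))), ?_⟩⟩
    · exact ef_apply_of_perp (h.B_zero (by simp [Ψ.B_self he])) (by simp)
    · simp [hv.eich_apply, ef, h.B e, hef, ha, sub_eq_add_neg]
    · simp [hv.eich_apply, ef, sub_eq_add_neg]

theorem sing_of_pm {g : V ≃ₗ[F] V} (hg : g ∈ Φ.Iso) {e : V} (he : Ψ.Q e = 0) (hp : Pm K g e) :
    Ψ.Q (g e) = 0 := by
  by_cases h0 : e = 0
  · rw [h0, map_zero, Ψ.Q_zero]
  have : (pt F K e).map (g : V →ₗ[F] V) = pt F K (g e) := by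
    refine Submodule.eq_of_le_of_finrank_le ?_ ?_
    · rintro _ ⟨b, hb, rfl⟩
      obtain ⟨k, rfl⟩ := mem_pt.1 hb
      exact hp k
    · rw [LinearEquiv.finrank_map_eq, finrank_pt h0, finrank_pt (g.map_ne_zero_iff.2 h0)]
  refine h.sing _ (h.perp_of fun k => ?_)
  obtain ⟨b, hb, e'⟩ : k • g e ∈ (pt F K e).map (g : V →ₗ[F] V) := this ▸ smul_mem_pt k _
  rw [← e', LinearEquiv.coe_coe, hg.1]
  exact h.B_zero (h.B_pt_self he hb)

theorem le_GamL_of_pm (h3 : 3 ≤ finrank K V) {e : V} (he : Ψ.Q e = 0) (h0 : e ≠ 0)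
    (hM : M ≤ Φ.Iso) (hp : ∀ g ∈ M, ∀ s, Ψ.Q s = 0 → Pm K g s) : M ≤ GamL F K V := by
  obtain ⟨a, ha0, ha1⟩ := h.exists_ne_zero_one
  have key : ∀ g ∈ M, ∀ k : K, ∃ c : K, ∀ v, g (k • g⁻¹ v) = c • v := fun g hg k =>
    exists_eq_smul_of_sing h3 ha0 ha1 he h0 ⟨⟨fun v => g (k • g⁻¹ v), by simp⟩, fun v w => by simp⟩
      fun v hv => by
        have hi := M.inv_mem hg
        obtain ⟨c, hc⟩ := mem_pt.1 (hp g hg _ (h.sing_of_pm (hM hi) hv (hp _ hi v hv)) k)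
        exact ⟨c, by simpa using hc.symm⟩
  intro g hg
  refine ⟨fun k => ?_, fun k => ?_⟩
  · obtain ⟨c, hc⟩ := key g hg k
    exact ⟨c, fun v => by simpa using hc (g v)⟩
  · obtain ⟨c, hc⟩ := key _ (M.inv_mem hg) k
    exact ⟨c, fun v => by rw [← hc]; simp⟩

theorem isMaximalIn_of_pm (h3 : 3 ≤ finrank K V) {e : V} (he : Ψ.Q e = 0) (h0 : e ≠ 0)
    (key : ∀ M, GamL F K V ⊓ Φ.EG ≤ M → M ≤ Φ.EG → ¬ Φ.EG ≤ M →
      ∀ g ∈ M, ∀ s, Ψ.Q s = 0 → Pm K g s) :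
    Geo.IsMaximalIn Φ.EG (GamL F K V ⊓ Φ.EG) := by
  refine isMaximalIn_of inf_le_right ?_ fun M h1 h2 g hg hg' => ?_
  · obtain ⟨g, h1, h2⟩ := h.exists_not_GamL (Or.inl h3) he h0
    exact ⟨g, h1, fun h => h2 h.1⟩
  · by_contra hc
    exact hg' ⟨h.le_GamL_of_pm h3 he h0 (h2.trans Φ.EG_le_Iso) (key M h1 h2 hc) hg, h2 hg⟩

end Tr

end Fm

end Cfsg.Agent.Class.Max
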