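import Mathlib
import Cfsg.Agent.Class.Max.C3Lin
import Cfsg.Agent.Class.Asch.Tensor2
import Cfsg.Agent.Class.Asch.Proper

/-!
Tensor decompositions `V = U ⊗ W`: pure tensors, contractions, the group `GL(U) ∘ GL(W)`.
-/

set_option autoImplicit false
set_option linter.unusedSectionVars false

namespace Cfsg.Agent.Class.Max

open Module
open scoped TensorProduct

section Unip

variable {F V : Type*} [Field F] [AddCommGroup V] [Module F V]

/-- `1 + A` for `A` of square zero. -/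
def unip (A : V →ₗ[F] V) (h : ∀ v, A (A v) = 0) : V ≃ₗ[F] V :=
  { (LinearMap.id + A : V →ₗ[F] V) with
    invFun := fun v => v - A v
    left_inv := fun v => by simp [h]
    right_inv := fun v => by simp [h] }

theorem unip_apply (A : V →ₗ[F] V) (h : ∀ v, A (A v) = 0) (v : V) : unip A h v = v + A v := rfl

theorem inv_apply_of_unip {g : V ≃ₗ[F] V} {A : V →ₗ[F] V} (h : ∀ v, A (A v) = 0)
    (e : ∀ v, g v = v + A v) (v : V) : g⁻¹ v = v - A v :=
  g.injective (by rw [app_inv_app, e, map_sub, h]; abel)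

theorem mem_SLV_of_sq [FiniteDimensional F V] {g : V ≃ₗ[F] V} {A : V →ₗ[F] V}
    (h : ∀ v, A (A v) = 0) (e : ∀ v, g v = v + A v) : g ∈ SLV F V := by
  have h1 : IsNilpotent (-A : Module.End F V) :=
    IsNilpotent.neg ⟨2, LinearMap.ext fun v => by simp [pow_two, h]⟩
  have h2 := LinearMap.eval_charpoly (-A : Module.End F V) 1
  rw [h1.charpoly_eq_X_pow_finrank] at h2
  rw [mem_SLV, show (g : V →ₗ[F] V) = algebraMap F (Module.End F V) 1 - -A from
    LinearMap.ext fun v => by simp [e], ← h2]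
  simp

theorem exists_smul_of_comm {A : V →ₗ[F] V} (h : ∀ v, ∃ c : F, A v = c • v) :
    ∃ c : F, ∀ v, A v = c • v := by
  obtain ⟨c, hc⟩ := LinearMap.exists_eq_smul_id_of_forall_notLinearIndependent (f := A) fun v hv => by
    obtain ⟨c, hc⟩ := h v
    have := (LinearIndependent.pair_iff.1 hv) c (-1) (by simp [hc])
    simpa using this.2
  exact ⟨c, fun v => by simp [hc]⟩

theorem exists_not_eigen {A : V →ₗ[F] V} (h : ¬ ∃ c : F, ∀ v, A v = c • v) :
    ∃ v, A v ∉ Submodule.span F {v} := by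
  by_contra hc
  push Not at hc
  refine h (exists_smul_of_comm fun v => ?_)
  obtain ⟨c, hc⟩ := Submodule.mem_span_singleton.1 (hc v)
  exact ⟨c, hc.symm⟩

end Unip

/-- A tensor decomposition of `V`. -/
structure Tn (F U W V : Type*) [Field F] [AddCommGroup U] [Module F U] [AddCommGroup W]
    [Module F W] [AddCommGroup V] [Module F V] where
  e : U ⊗[F] W ≃ₗ[F] V

namespace Tn

variable {F U W V : Type*} [Field F] [AddCommGroup U] [Module F U] [AddCommGroup W]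
  [Module F W] [AddCommGroup V] [Module F V] (T : Tn F U W V)

/-- Pure tensors. -/
def tm : U →ₗ[F] W →ₗ[F] V := (TensorProduct.mk F U W).compr₂ T.e.toLinearMap

theorem tm_apply (u : U) (w : W) : T.tm u w = T.e (u ⊗ₜ w) := rfl

/-- The decomposition with the factors interchanged. -/
def swap : Tn F W U V := ⟨(TensorProduct.comm F W U).trans T.e⟩

@[simp] theorem swap_tm (w : W) (u : U) : T.swap.tm w u = T.tm u w := rfl

theorem induction {p : V → Prop} (h0 : p 0) (ht : ∀ u w, p (T.tm u w))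
    (ha : ∀ x y, p x → p y → p (x + y)) (v : V) : p v := by
  obtain ⟨t, rfl⟩ := T.e.surjective v
  induction t using TensorProduct.induction_on with
  | zero => rwa [map_zero]
  | tmul u w => exact ht u w
  | add x y hx hy => rw [map_add]; exact ha _ _ hx hy

theorem ext {X : Type*} [AddCommGroup X] [Module F X] {f g : V →ₗ[F] X}
    (h : ∀ u w, f (T.tm u w) = g (T.tm u w)) (v : V) : f v = g v :=
  T.induction (p := fun v => f v = g v) (by simp) h
    (fun x y hx hy => by rw [map_add, map_add, hx, hy]) v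

/-- The linear map given by a bilinear map. -/
def lift {X : Type*} [AddCommGroup X] [Module F X] (f : U →ₗ[F] W →ₗ[F] X) : V →ₗ[F] X :=
  TensorProduct.lift f ∘ₗ T.e.symm.toLinearMap

@[simp] theorem lift_tm {X : Type*} [AddCommGroup X] [Module F X] (f : U →ₗ[F] W →ₗ[F] X)
    (u : U) (w : W) : T.lift f (T.tm u w) = f u w := by simp [lift, tm_apply]

/-- `a ⊗ b`. -/
def krL (a : U →ₗ[F] U) (b : W →ₗ[F] W) : V →ₗ[F] V := T.lift (T.tm.compl₁₂ a b)

@[simp] theorem krL_tm (a : U →ₗ[F] U) (b : W →ₗ[F] W) (u : U) (w : W) :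
    T.krL a b (T.tm u w) = T.tm (a u) (b w) := by simp [krL]

/-- `a ⊗ b` for invertible maps. -/
def kr (a : U ≃ₗ[F] U) (b : W ≃ₗ[F] W) : V ≃ₗ[F] V :=
  T.e.symm.trans ((TensorProduct.congr a b).trans T.e)

@[simp] theorem kr_tm (a : U ≃ₗ[F] U) (b : W ≃ₗ[F] W) (u : U) (w : W) :
    T.kr a b (T.tm u w) = T.tm (a u) (b w) := by simp [kr, tm_apply]

theorem ext' {f g : V ≃ₗ[F] V} (h : ∀ u w, f (T.tm u w) = g (T.tm u w)) : f = g :=
  LinearEquiv.ext (T.ext (f := f.toLinearMap) (g := g.toLinearMap) h)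

theorem kr_mul (a a' : U ≃ₗ[F] U) (b b' : W ≃ₗ[F] W) :
    T.kr (a * a') (b * b') = T.kr a b * T.kr a' b' := T.ext' fun u w => by simp [mul_app]

theorem kr_one : T.kr 1 1 = 1 := T.ext' fun u w => by simp [one_app]

theorem kr_inv (a : U ≃ₗ[F] U) (b : W ≃ₗ[F] W) : (T.kr a b)⁻¹ = T.kr a⁻¹ b⁻¹ :=
  inv_eq_of_mul_eq_one_right (by rw [← kr_mul, mul_inv_cancel, mul_inv_cancel, kr_one])

theorem swap_kr (a : U ≃ₗ[F] U) (b : W ≃ₗ[F] W) : T.swap.kr b a = T.kr a b :=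
  T.ext' fun u w => by rw [← swap_tm, kr_tm, swap_tm, swap_tm, kr_tm]

/-- `b ↦ 1 ⊗ b`. -/
def krR : (W ≃ₗ[F] W) →* (V ≃ₗ[F] V) where
  toFun b := T.kr 1 b
  map_one' := T.kr_one
  map_mul' b b' := by rw [← kr_mul, mul_one]

@[simp] theorem krR_tm (b : W ≃ₗ[F] W) (u : U) (w : W) :
    T.krR b (T.tm u w) = T.tm u (b w) := T.kr_tm 1 b u w

/-- `GL(U) ∘ GL(W)`. -/
def NG : Subgroup (V ≃ₗ[F] V) where
  carrier := {g | ∃ a b, g = T.kr a b}
  one_mem' := ⟨1, 1, T.kr_one.symm⟩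
  mul_mem' := by
    rintro _ _ ⟨a, b, rfl⟩ ⟨a', b', rfl⟩
    exact ⟨_, _, (T.kr_mul _ _ _ _).symm⟩
  inv_mem' := by
    rintro _ ⟨a, b, rfl⟩
    exact ⟨_, _, T.kr_inv a b⟩

theorem kr_mem (a : U ≃ₗ[F] U) (b : W ≃ₗ[F] W) : T.kr a b ∈ T.NG := ⟨a, b, rfl⟩

theorem krR_mem (b : W ≃ₗ[F] W) : T.krR b ∈ T.NG := ⟨1, b, rfl⟩

theorem swap_NG : T.swap.NG = T.NG := by
  ext g
  exact ⟨fun ⟨b, a, h⟩ => ⟨a, b, h.trans (T.swap_kr a b)⟩,
    fun ⟨a, b, h⟩ => ⟨b, a, h.trans (T.swap_kr a b).symm⟩⟩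

/-- Contraction of the second factor. -/
def cR : Dual F W →ₗ[F] V →ₗ[F] U where
  toFun φ := T.lift ((LinearMap.lsmul F U).flip.compl₂ φ)
  map_add' φ ψ := LinearMap.ext (T.ext fun u w => by simp [add_smul])
  map_smul' c φ := LinearMap.ext (T.ext fun u w => by simp [mul_smul])

@[simp] theorem cR_tm (φ : Dual F W) (u : U) (w : W) : T.cR φ (T.tm u w) = φ w • u := by
  simp [cR]

/-- Contraction of the first factor. -/
def cL : Dual F U →ₗ[F] V →ₗ[F] W := T.swap.cR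

@[simp] theorem cL_tm (α : Dual F U) (u : U) (w : W) : T.cL α (T.tm u w) = α u • w :=
  T.swap.cR_tm α w u

theorem cL_cR (α : Dual F U) (φ : Dual F W) (v : V) : φ (T.cL α v) = α (T.cR φ v) :=
  T.ext (f := φ ∘ₗ T.cL α) (g := α ∘ₗ T.cR φ) (fun u w => by simp [mul_comm]) v

theorem cR_krL (φ : Dual F W) (a : U →ₗ[F] U) (b : W →ₗ[F] W) (v : V) :
    T.cR φ (T.krL a b v) = a (T.cR (φ ∘ₗ b) v) :=
  T.ext (f := T.cR φ ∘ₗ T.krL a b) (g := a ∘ₗ T.cR (φ ∘ₗ b)) (fun u w => by simp) v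

theorem cR_kr (φ : Dual F W) (a : U ≃ₗ[F] U) (b : W ≃ₗ[F] W) (v : V) :
    T.cR φ (T.kr a b v) = a (T.cR (φ ∘ₗ b.toLinearMap) v) :=
  T.ext (f := T.cR φ ∘ₗ (T.kr a b).toLinearMap) (g := a.toLinearMap ∘ₗ T.cR (φ ∘ₗ b.toLinearMap))
    (fun u w => by simp) v

theorem cR_krR (φ : Dual F W) (b : W ≃ₗ[F] W) (v : V) :
    T.cR φ (T.krR b v) = T.cR (φ ∘ₗ b.toLinearMap) v := T.cR_kr φ 1 b v

theorem left_inj {w : W} (hw : w ≠ 0) {u u' : U} (h : T.tm u w = T.tm u' w) : u = u' := by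
  obtain ⟨φ, hφ⟩ := exists_dual_eq_one (F := F) hw
  simpa [hφ] using congrArg (T.cR φ) h

theorem right_inj {u : U} (hu : u ≠ 0) {w w' : W} (h : T.tm u w = T.tm u w') : w = w' :=
  T.swap.left_inj hu h

theorem tm_ne_zero {u : U} {w : W} (hu : u ≠ 0) (hw : w ≠ 0) : T.tm u w ≠ 0 := fun h =>
  hu (T.left_inj hw (by simpa using h))

theorem eq_zero_of_cR [FiniteDimensional F W] {v : V} (h : ∀ φ, T.cR φ v = 0) : v = 0 := by
  let b := Module.finBasis F W
  have := T.ext (f := LinearMap.id) (g := ∑ j, T.tm.flip (b j) ∘ₗ T.cR (b.coord j))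
    (fun u w => by
      conv_lhs => rw [← b.sum_repr w, LinearMap.id_apply, map_sum]
      simp) v
  simpa [h] using this

theorem eq_of_cR [FiniteDimensional F W] {v v' : V} (h : ∀ φ, T.cR φ v = T.cR φ v') : v = v' :=
  sub_eq_zero.1 (T.eq_zero_of_cR fun φ => by rw [map_sub, h, sub_self])

/-- `U ⊗ Y`. -/
def ts (Y : Submodule F W) : Submodule F V := Submodule.map₂ T.tm ⊤ Y

theorem tm_mem_ts {Y : Submodule F W} (u : U) {y : W} (hy : y ∈ Y) : T.tm u y ∈ T.ts Y :=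
  Submodule.apply_mem_map₂ _ trivial hy

theorem ts_le {Y : Submodule F W} {X : Submodule F V} (h : ∀ u, ∀ y ∈ Y, T.tm u y ∈ X) :
    T.ts Y ≤ X := Submodule.map₂_le.2 fun u _ y hy => h u y hy

theorem ts_mono {Y Y' : Submodule F W} (h : Y ≤ Y') : T.ts Y ≤ T.ts Y' :=
  T.ts_le fun u _ hy => T.tm_mem_ts u (h hy)

theorem eq_zero_on_ts {X : Type*} [AddCommGroup X] [Module F X] {Y : Submodule F W}
    {f : V →ₗ[F] X} (h : ∀ u, ∀ y ∈ Y, f (T.tm u y) = 0) {v : V} (hv : v ∈ T.ts Y) : f v = 0 :=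
  T.ts_le (X := LinearMap.ker f) h hv

theorem krL_mem_ts {Y : Submodule F W} (a : U →ₗ[F] U) {b : W →ₗ[F] W} (hb : ∀ w, b w ∈ Y)
    (v : V) : T.krL a b v ∈ T.ts Y :=
  T.induction (p := fun v => T.krL a b v ∈ T.ts Y) (by simp)
    (fun u w => by rw [krL_tm]; exact T.tm_mem_ts _ (hb w))
    (fun x y hx hy => by rw [map_add]; exact add_mem hx hy) v

theorem mem_ts_iff [FiniteDimensional F W] {Y : Submodule F W} {v : V} :
    v ∈ T.ts Y ↔ ∀ φ : Dual F W, (∀ y ∈ Y, φ y = 0) → T.cR φ v = 0 := by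
  refine ⟨fun hv φ hφ => T.eq_zero_on_ts (fun u y hy => by simp [hφ y hy]) hv, fun h => ?_⟩
  obtain ⟨Z, hZ⟩ := Y.exists_isCompl
  let p : W →ₗ[F] W := Y.subtype ∘ₗ Y.projectionOnto Z hZ
  have : v = T.krL LinearMap.id p v := T.eq_of_cR fun φ => by
    have := h (φ - φ ∘ₗ p) fun y hy => by
      simp [p, Submodule.projectionOnto_apply_left hZ ⟨y, hy⟩]
    rw [map_sub, LinearMap.sub_apply, sub_eq_zero] at this
    rw [cR_krL, this, LinearMap.id_apply]
  rw [this]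
  exact T.krL_mem_ts _ (fun w => Subtype.prop _) v

theorem mem_of_tm_mem_ts {Y : Submodule F W} {u : U} (hu : u ≠ 0) {w : W}
    (h : T.tm u w ∈ T.ts Y) : w ∈ Y := by
  obtain ⟨α, hα⟩ := exists_dual_eq_one (F := F) hu
  have : T.ts Y ≤ Y.comap (T.cL α) := T.ts_le fun u y hy => by
    simpa using Y.smul_mem _ hy
  simpa [hα] using this h

theorem kr_mem_ts {Y Y' : Submodule F W} (a : U ≃ₗ[F] U) {b : W ≃ₗ[F] W}
    (hb : ∀ y ∈ Y, b y ∈ Y') {v : V} (hv : v ∈ T.ts Y) : T.kr a b v ∈ T.ts Y' :=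
  T.ts_le (X := (T.ts Y').comap (T.kr a b).toLinearMap)
    (fun u y hy => by simpa using T.tm_mem_ts _ (hb y hy)) hv

/-- `U ⊗ w`. -/
def sp (w : W) : Submodule F V := LinearMap.range (T.tm.flip w)

theorem mem_sp {w : W} {v : V} : v ∈ T.sp w ↔ ∃ u, T.tm u w = v := Iff.rfl

theorem tm_mem_sp (u : U) (w : W) : T.tm u w ∈ T.sp w := ⟨u, rfl⟩

theorem sp_eq_ts (w : W) : T.sp w = T.ts (Submodule.span F {w}) := by
  refine le_antisymm ?_ (T.ts_le fun u y hy => ?_)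
  · rintro _ ⟨u, rfl⟩
    exact T.tm_mem_ts u (Submodule.mem_span_singleton_self w)
  · obtain ⟨c, rfl⟩ := Submodule.mem_span_singleton.1 hy
    exact ⟨c • u, by simp⟩

theorem mem_sp_iff [FiniteDimensional F W] {w : W} {v : V} :
    v ∈ T.sp w ↔ ∀ φ : Dual F W, φ w = 0 → T.cR φ v = 0 := by
  rw [sp_eq_ts, mem_ts_iff]
  refine forall_congr' fun φ => imp_congr_left ⟨fun h => h w (Submodule.mem_span_singleton_self w),
    fun h y hy => ?_⟩
  obtain ⟨c, rfl⟩ := Submodule.mem_span_singleton.1 hy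
  simp [h]

theorem finrank_sp {w : W} (hw : w ≠ 0) : finrank F (T.sp w) = finrank F U :=
  LinearMap.finrank_range_of_inj fun _ _ h => T.left_inj hw h

theorem sp_smul {c : F} (hc : c ≠ 0) (w : W) : T.sp (c • w) = T.sp w := by
  rw [sp_eq_ts, sp_eq_ts, Submodule.span_singleton_smul_eq hc.isUnit]

theorem sp_eq_of_mem {w w' : W} {v : V} (hv0 : v ≠ 0) (h : v ∈ T.sp w) (h' : v ∈ T.sp w') :
    T.sp w = T.sp w' := by
  obtain ⟨u, rfl⟩ := h
  have hu : u ≠ 0 := fun e => hv0 (by simp [e])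
  rw [sp_eq_ts] at h'
  obtain ⟨c, rfl⟩ := Submodule.mem_span_singleton.1 (T.mem_of_tm_mem_ts hu h')
  exact T.sp_smul (fun e => hv0 (by simp [e])) w'

theorem map_kr_sp (a : U ≃ₗ[F] U) (b : W ≃ₗ[F] W) (w : W) :
    (T.sp w).map (T.kr a b).toLinearMap = T.sp (b w) := by
  ext v
  constructor
  · rintro ⟨_, ⟨u, rfl⟩, rfl⟩
    exact ⟨a u, (T.kr_tm a b u w).symm⟩
  · rintro ⟨u, rfl⟩
    exact ⟨_, ⟨a⁻¹ u, rfl⟩, (T.kr_tm a b _ w).trans (by simp)⟩

/-- The action on `U ⊗ w` of an element stabilising it. -/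
theorem exists_left [FiniteDimensional F U] {h : V ≃ₗ[F] V} {w : W} (hw : w ≠ 0)
    (hE : ∀ v ∈ T.sp w, h v ∈ T.sp w) : ∃ a : U ≃ₗ[F] U, ∀ u, h (T.tm u w) = T.tm (a u) w := by
  obtain ⟨φ, hφ⟩ := exists_dual_eq_one (F := F) hw
  let a : U →ₗ[F] U := T.cR φ ∘ₗ h.toLinearMap ∘ₗ T.tm.flip w
  have e : ∀ u, h (T.tm u w) = T.tm (a u) w := fun u => by
    obtain ⟨u', hu'⟩ := hE _ (T.tm_mem_sp u w)
    change T.tm u' w = _ at hu'
    change _ = T.tm (T.cR φ (h (T.tm u w))) w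
    rw [← hu', cR_tm, hφ, one_smul]
  refine ⟨LinearEquiv.ofInjectiveEndo a fun u u' huu => T.left_inj hw (h.injective ?_), e⟩
  rw [e, e, huu]

/-- An element `a ⊗ d` with `a` not a scalar moves `V` by at least the dimension of `W`. -/
theorem finrank_le_of_not_smul [FiniteDimensional F V] {a : U ≃ₗ[F] U} {d : W ≃ₗ[F] W}
    (ha : ¬ ∃ c : F, ∀ u, a u = c • u) {L : Submodule F V} (hL : ∀ v, T.kr a d v - v ∈ L) :
    finrank F W ≤ finrank F L := by
  obtain ⟨u, hu⟩ := exists_not_eigen (A := a.toLinearMap) ha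
  obtain ⟨α, h1, h2⟩ := exists_dual_zero_one hu
  have : L.map (T.cL α) = ⊤ := eq_top_iff.2 fun w _ =>
    ⟨_, hL (T.tm u (d⁻¹ w)), by simp [h1, show α (a u) = 1 from h2]⟩
  have h3 := Submodule.finrank_map_le (T.cL α) L
  rwa [this, finrank_top] at h3

theorem exists_krR_of_smul {a : U ≃ₗ[F] U} (d : W ≃ₗ[F] W) (hU : ∃ u : U, u ≠ 0)
    (ha : ∃ c : F, ∀ u, a u = c • u) : ∃ d', T.kr a d = T.krR d' := by
  obtain ⟨c, hc⟩ := ha
  obtain ⟨u, hu⟩ := hU
  have hc0 : c ≠ 0 := fun e => hu (a.injective (by simp [hc, e]))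
  exact ⟨d * LinearEquiv.smulOfNeZero F W c hc0, T.ext' fun u w => by simp [hc, mul_app]⟩

/-- Criterion for membership in `GL(U) ∘ GL(W)`. -/
theorem mem_NG_of [FiniteDimensional F W] {h : V ≃ₗ[F] V} (a : U ≃ₗ[F] U) (hU : ∃ u : U, u ≠ 0)
    (hc : ∀ (φ : Dual F W) (w : W), ∃ c : F, ∀ u, T.cR φ (h (T.tm u w)) = c • a u) :
    h ∈ T.NG := by
  obtain ⟨u₀, hu₀⟩ := hU
  obtain ⟨α, hα⟩ := exists_dual_eq_one (F := F) (a.map_ne_zero_iff.2 hu₀)
  let d : W →ₗ[F] W := T.cL α ∘ₗ h.toLinearMap ∘ₗ T.tm u₀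
  have e : ∀ u w, h (T.tm u w) = T.tm (a u) (d w) := fun u w => T.eq_of_cR fun φ => by
    obtain ⟨c, hc⟩ := hc φ w
    have : φ (d w) = c := by
      change φ (T.cL α (h (T.tm u₀ w))) = c
      rw [cL_cR, hc, map_smul, hα, smul_eq_mul, mul_one]
    rw [hc, cR_tm, this]
  refine ⟨a, LinearEquiv.ofInjectiveEndo d fun w w' hw => T.right_inj hu₀ (h.injective ?_),
    T.ext' fun u w => ?_⟩
  · rw [e, e, hw]
  · rw [e, kr_tm]; rfl

end Tn

/-! ### The tensor decomposition of a coordinate space -/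

section Bridge

open Cfsg.Agent.Class.Asch
open scoped Matrix

variable {ι : Type} [Fintype ι] [DecidableEq ι] {F : Type*} [Field F] {k l : ℕ}

/-- The tensor decomposition attached to `e` and `P`. -/
noncomputable def tnOf (e : ι ≃ Fin k × Fin l) (P : GL ι F) :
    Tn F (Fin k → F) (Fin l → F) (ι → F) :=
  ⟨((Pi.basisFun F (Fin k)).tensorProduct (Pi.basisFun F (Fin l))).equivFun.trans (trL e P)⟩

theorem tnOf_tm (e : ι ≃ Fin k × Fin l) (P : GL ι F) (x : Fin k → F) (y : Fin l → F) :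
    (tnOf e P).tm x y = (P : Matrix ι ι F) *ᵥ (tens x y ∘ e) := by
  change trV e P _ = trV e P _
  congr 1
  ext ⟨i, j⟩
  simp [tens, mul_comm]

theorem mem_tensorProductSubgroup_iff_NG (e : ι ≃ Fin k × Fin l) (P g : GL ι F) :
    g ∈ Geo.tensorProductSubgroup k l e P ↔ glEquiv ι F g ∈ (tnOf e P).NG := by
  have key : ∀ a b, glEquiv ι F (trGL e P (kronGL a b)) =
      (tnOf e P).kr (glEquiv _ F a) (glEquiv _ F b) := fun a b =>
    (tnOf e P).ext' fun x y => by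
      rw [Tn.kr_tm, tnOf_tm, tnOf_tm, glEquiv_apply, glEquiv_apply, glEquiv_apply, coe_trGL,
        ← kron_mulVec_tens]
      exact tr_mulVec e P _ _
  rw [mem_tensorProductSubgroup_iff]
  constructor
  · rintro ⟨a, b, rfl⟩
    exact ⟨_, _, key a b⟩
  · rintro ⟨a, b, h⟩
    obtain ⟨a, rfl⟩ := (glEquiv _ F).surjective a
    obtain ⟨b, rfl⟩ := (glEquiv _ F).surjective b
    exact ⟨a, b, (glEquiv ι F).injective (h.trans (key a b).symm)⟩

end Bridge

end Cfsg.Agent.Class.Max
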