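import Mathlib
import Cfsg.Agent.Class.Max.Tens

/-!
Overgroups of `SL(U) ∘ SL(W)` in `SL(U ⊗ W)`: maximality of the tensor product subgroup.
-/

set_option autoImplicit false
set_option linter.unusedSectionVars false

namespace Cfsg.Agent.Class.Max

open Module

section General

variable {F V : Type*} [Field F] [AddCommGroup V] [Module F V]

/-- `M` contains `1 + A`. -/
def HasU (M : Subgroup (V ≃ₗ[F] V)) (A : V →ₗ[F] V) : Prop := ∃ g ∈ M, ∀ v, g v = v + A v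

variable {M : Subgroup (V ≃ₗ[F] V)} {A B : V →ₗ[F] V}

theorem HasU.congr (h : HasU M A) (e : ∀ v, A v = B v) : HasU M B := by
  rwa [← show A = B from LinearMap.ext e]

theorem hasU_zero : HasU M 0 := ⟨1, M.one_mem, fun v => by simp [one_app]⟩

theorem HasU.mul (h : HasU M A) (h' : HasU M B) : HasU M (A + B + A ∘ₗ B) := by
  obtain ⟨g, hg, e⟩ := h
  obtain ⟨t, ht, e'⟩ := h'
  refine ⟨g * t, M.mul_mem hg ht, fun v => ?_⟩
  simp only [mul_app, e, e', map_add, LinearMap.add_apply, LinearMap.comp_apply]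
  abel

theorem HasU.add (h : HasU M A) (h' : HasU M B) (h0 : ∀ v, A (B v) = 0) : HasU M (A + B) :=
  (h.mul h').congr fun v => by simp [h0]

theorem HasU.neg (h : HasU M A) (h0 : ∀ v, A (A v) = 0) : HasU M (-A) := by
  obtain ⟨g, hg, e⟩ := h
  exact ⟨g⁻¹, M.inv_mem hg, fun v => by rw [inv_apply_of_unip h0 e, sub_eq_add_neg]; rfl⟩

theorem HasU.sub (h : HasU M A) (h' : HasU M B) (h0 : ∀ v, A (B v) = 0) (h1 : ∀ v, B (B v) = 0) :
    HasU M (A - B) :=
  (h.add (h'.neg h1) fun v => by simp [h0]).congr fun v => by simp [sub_eq_add_neg]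

theorem HasU.conj (h : HasU M A) {g : V ≃ₗ[F] V} (hg : g ∈ M) :
    HasU M (g.toLinearMap ∘ₗ A ∘ₗ (g⁻¹ : V ≃ₗ[F] V).toLinearMap) := by
  obtain ⟨t, ht, e⟩ := h
  refine ⟨g * t * g⁻¹, M.mul_mem (M.mul_mem hg ht) (M.inv_mem hg), fun v => ?_⟩
  rw [mul_app, mul_app, e, map_add, app_inv_app]
  rfl

theorem HasU.conj' (h : HasU M A) {g : V ≃ₗ[F] V} (hg : g ∈ M) (e : ∀ v, g (A v) = B (g v)) :
    HasU M B := (h.conj hg).congr fun v => by
  change g (A (g⁻¹ v)) = _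
  rw [e, app_inv_app]

/-- The commutator of `1 + A` and `1 + B`. -/
theorem HasU.comm (h : HasU M A) (h' : HasU M B) (hA : ∀ v, A (A v) = 0) (hB : ∀ v, B (B v) = 0)
    (h1 : ∀ v, A (B (A v)) = 0) (h2 : ∀ v, B (A (B v)) = 0) : HasU M (A ∘ₗ B - B ∘ₗ A) :=
  (((h.mul h').mul (h.neg hA)).mul (h'.neg hB)).congr fun v => by
    simp only [LinearMap.add_apply, LinearMap.comp_apply, LinearMap.neg_apply, map_add, map_neg,
      LinearMap.sub_apply, hA, hB, h1, h2, map_zero]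
    abel

theorem exists_SLV_move [FiniteDimensional F V] (hV : 2 ≤ finrank F V) {x y : V} (hx : x ≠ 0)
    (hy : y ≠ 0) : ∃ g ∈ SLV F V, g x = y := by
  obtain ⟨g, hg, -, e⟩ := HasK.exists_move (F := F) (K := F) (X := SLV F V)
    (fun ψ y h => hasTv_SLV (by simpa using h)) hV hx hy
  exact ⟨g, hg, e⟩

theorem exists_dual_vanish (hV : 3 ≤ finrank F V) (x y : V) :
    ∃ (φ : Dual F V) (z : V), φ x = 0 ∧ φ y = 0 ∧ φ z = 1 :=
  let ⟨z, hz⟩ := exists_notMem_span_pair hV x y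
  let ⟨φ, h⟩ := exists_dual_zero_zero_one hz
  ⟨φ, z, h⟩

theorem exists_one_zero {φ ψ : Dual F V} {x : V} (h1 : φ x = 0) (h2 : ψ x ≠ 0) {y : V}
    (h3 : φ y ≠ 0) : ∃ z, φ z = 1 ∧ ψ z = 0 :=
  ⟨(φ y)⁻¹ • (y - (ψ y / ψ x) • x), by simp [h1, h3], by simp [h2]⟩

/-- A subalgebra of `End U` normalised by all transvections consists of scalars or contains all
maps of rank one. -/
theorem rank_one_mem [Finite F] [FiniteDimensional F V] (R : Submodule F (V →ₗ[F] V))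
    (hmul : ∀ b ∈ R, ∀ c ∈ R, b ∘ₗ c ∈ R)
    (hc : ∀ (v : V) (β : Dual F V), β v = 0 → ∀ b ∈ R,
      β.smulRight v ∘ₗ b - b ∘ₗ β.smulRight v - β (b v) • β.smulRight v ∈ R)
    (hq : ¬ (Nat.card F = 2 ∧ finrank F V = 2)) (h2 : 2 ≤ finrank F V)
    {b : V →ₗ[F] V} (hb : b ∈ R) (hb' : ¬ ∃ c : F, ∀ v, b v = c • v) (x : V) (φ : Dual F V) :
    φ.smulRight x ∈ R := by
  have cg : ∀ {A B : V →ₗ[F] V}, A ∈ R → (∀ v, B v = A v) → B ∈ R := fun h e => by
    rwa [LinearMap.ext e]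
  have lam : Nat.card F ≠ 2 → ∀ b ∈ R, ∀ (v : V) (β : Dual F V), β v = 0 → β (b v) ≠ 0 →
      β.smulRight v ∈ R := fun h b hb v β h1 h3 => by
    obtain ⟨l, l0, l1⟩ := exists_ne_zero_one h
    refine cg (R.smul_mem ((l * l - l) * β (b v))⁻¹ (R.sub_mem (R.smul_mem l (hc v β h1 b hb))
      (hc (l • v) β (by simp [h1]) b hb))) fun y => ?_
    have : l - 1 ≠ 0 := sub_ne_zero.2 l1
    have : l * l - l ≠ 0 := by rw [show l * l - l = l * (l - 1) by ring]; exact mul_ne_zero l0 this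
    simp only [LinearMap.smul_apply, LinearMap.sub_apply, LinearMap.comp_apply,
      LinearMap.smulRight_apply, map_smul, smul_eq_mul]
    match_scalars <;> field_simp <;> ring
  have r1 : ∀ {u v : V} {α : Dual F V}, α.smulRight u ∈ R → α v = 0 →
      u ∉ Submodule.span F {v} → α.smulRight v ∈ R := fun {u v α} h h1 h3 => by
    obtain ⟨β, h4, h5⟩ := exists_dual_zero_one h3
    exact cg (hc v β h4 _ h) fun y => by simp [h1, h5]
  have r2 : ∀ {u v : V} {α β : Dual F V}, α.smulRight u ∈ R → β u = 0 → α v = 1 → β v = 0 →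
      β.smulRight u ∈ R := fun {u v α β} h h1 h3 h4 =>
    cg (R.neg_mem (hc v β h4 _ h)) fun y => by simp [h1, h3]
  have h3 : Nat.card F = 2 → 3 ≤ finrank F V := fun h => by
    by_contra hc
    exact hq ⟨h, by omega⟩
  obtain ⟨u, hu⟩ := exists_not_eigen hb'
  have hu0 : u ≠ 0 := fun e => hu (by simp [e])
  obtain ⟨γ, g1, g2⟩ := exists_dual_zero_one hu
  obtain ⟨α, a1, a2, y, a3⟩ : ∃ α : Dual F V, α u = 0 ∧ α.smulRight u ∈ R ∧ ∃ y, α y ≠ 0 := by
    by_cases h : Nat.card F = 2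
    · obtain ⟨α, z, e1, e2, e3⟩ := exists_dual_vanish (h3 h) u (b u)
      exact ⟨α, e1, cg (R.neg_mem (hc u γ g1 _ (hc u α e1 b hb))) fun y => by
        simp [e1, e2, g1, g2], z, by simp [e3]⟩
    · exact ⟨γ, g1, lam h b hb u γ g1 (by simp [g2]), b u, by simp [g2]⟩
  have step : ∀ (u v : V) (α β : Dual F V), α u = 0 → α.smulRight u ∈ R → β v = 0 → β u ≠ 0 →
      α v ≠ 0 → β.smulRight v ∈ R := fun u v α β e1 e2 e3 e4 e5 => by
    by_cases h : Nat.card F = 2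
    · obtain ⟨δ, z, d1, d2, d3⟩ := exists_dual_vanish (h3 h) u v
      have f1 : δ.smulRight u ∈ R := r2 (v := (α v)⁻¹ • v) e2 d1 (by simp [e5]) (by simp [d2])
      have f2 : δ.smulRight v ∈ R := r1 f1 d2 fun hc => by
        obtain ⟨c, rfl⟩ := Submodule.mem_span_singleton.1 hc
        simp [e3] at e4
      obtain ⟨z', z1, z2⟩ := exists_one_zero d1 e4 (y := z) (by simp [d3])
      exact r2 f2 e3 z1 z2
    · exact lam h _ e2 v β e3 (by simp [e4, e5])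
  have left : ∀ (u y : V) (α : Dual F V), u ≠ 0 → α u = 0 → α.smulRight u ∈ R → α y ≠ 0 →
      (∀ v, α.smulRight v ∈ R) ∧ ∀ β : Dual F V, β.smulRight u ∈ R := fun u y α e0 e1 e2 e3 => by
    have k1 : ∀ v, α v ≠ 0 → α.smulRight v ∈ R := fun v hv => by
      obtain ⟨β, b1, b2⟩ := exists_dual_zero_one (K := F) (x := v) (u := u) fun hc => by
        obtain ⟨c, rfl⟩ := Submodule.mem_span_singleton.1 hc
        exact e0 (by rw [show c = 0 by simpa [hv] using e1, zero_smul])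
      exact cg (hmul _ (step u v α β e1 e2 b1 (by simp [b2]) hv) _ e2) fun y => by simp [b2]
    have k2 : ∀ β : Dual F V, β u ≠ 0 → β.smulRight u ∈ R := fun β hβ => by
      obtain ⟨v, v1, v2⟩ := exists_one_zero e1 hβ e3
      exact cg (hmul _ e2 _ (step u v α β e1 e2 v2 hβ (by simp [v1]))) fun y => by simp [v1]
    obtain ⟨β₀, hβ₀⟩ := exists_dual_eq_one (F := F) e0
    refine ⟨fun v => ?_, fun β => ?_⟩
    · by_cases hv : α v = 0
      · exact cg (R.sub_mem (k1 (v + y) (by simp [hv, e3])) (k1 y e3)) fun z => by simp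
      · exact k1 v hv
    · by_cases hβ : β u = 0
      · exact cg (R.sub_mem (k2 (β + β₀) (by simp [hβ, hβ₀])) (k2 β₀ (by simp [hβ₀])))
          fun z => by simp [add_smul]
      · exact k2 β hβ
  obtain ⟨β, b1, b2⟩ := exists_dual_zero_one (K := F) (x := y) (u := u) fun hc => by
    obtain ⟨c, rfl⟩ := Submodule.mem_span_singleton.1 hc
    exact hu0 (by rw [show c = 0 by simpa [a3] using a1, zero_smul])
  have hy0 : y ≠ 0 := fun e => a3 (by simp [e])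
  have f1 := (left y u β hy0 b1 (step u y α β a1 a2 b1 (by simp [b2]) a3) (by simp [b2])).2 φ
  refine cg (R.smul_mem (α y)⁻¹ (hmul _ ((left u y α hu0 a1 a2 a3).1 x) _ f1)) fun z => ?_
  simp only [LinearMap.smul_apply, LinearMap.comp_apply, LinearMap.smulRight_apply, map_smul,
    smul_eq_mul]
  match_scalars
  field_simp

end General

namespace Tn

variable {F U W V : Type*} [Field F] [AddCommGroup U] [Module F U] [AddCommGroup W]
  [Module F W] [AddCommGroup V] [Module F V] (T : Tn F U W V)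

/-- `b ⊗ (φ · w)`. -/
def xl (b : U →ₗ[F] U) (w : W) (φ : Dual F W) : V →ₗ[F] V := T.tm.flip w ∘ₗ b ∘ₗ T.cR φ

theorem xl_apply (b : U →ₗ[F] U) (w : W) (φ : Dual F W) (v : V) :
    T.xl b w φ v = T.tm (b (T.cR φ v)) w := rfl

theorem krR_apply_of_tv {τ : W ≃ₗ[F] W} {φ : Dual F W} {w : W} (e : ∀ x, τ x = x + φ x • w)
    (v : V) : T.krR τ v = v + T.tm (T.cR φ v) w :=
  T.ext (f := (T.krR τ).toLinearMap) (g := LinearMap.id + T.xl LinearMap.id w φ)
    (fun u x => by simp [xl_apply, e]) v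

variable [FiniteDimensional F U] [FiniteDimensional F W] [FiniteDimensional F V]

theorem krR_mem_SLV {τ : W ≃ₗ[F] W} (hτ : τ ∈ SLV F W) : T.krR τ ∈ SLV F V :=
  SLV_le_of_tv (M := (SLV F V).comap T.krR) (fun φ w h => by
    obtain ⟨t, -, e⟩ := hasTv_SLV h
    exact ⟨t, mem_SLV_of_sq (A := T.xl LinearMap.id w φ) (fun v => by simp [xl_apply, h])
      (T.krR_apply_of_tv e), e⟩) hτ

variable {T} {M : Subgroup (V ≃ₗ[F] V)}

theorem krR_mem_of (hH : T.NG ⊓ SLV F V ≤ M) {τ : W ≃ₗ[F] W} (hτ : τ ∈ SLV F W) : T.krR τ ∈ M :=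
  hH ⟨T.krR_mem τ, T.krR_mem_SLV hτ⟩

theorem hasU_id (hH : T.NG ⊓ SLV F V ≤ M) {w : W} {φ : Dual F W} (h : φ w = 0) :
    HasU M (T.xl LinearMap.id w φ) := by
  obtain ⟨t, ht, e⟩ := hasTv_SLV h
  exact ⟨_, krR_mem_of hH ht, T.krR_apply_of_tv e⟩

theorem hasU_comm {b c : U →ₗ[F] U} {w w' : W} {φ φ' : Dual F W} (h : HasU M (T.xl b w φ))
    (h' : HasU M (T.xl c w' φ')) (e1 : φ w = 0) (e2 : φ' w' = 0) (e3 : φ' w = 0)
    (e4 : φ w' = 1) : HasU M (T.xl (b ∘ₗ c) w φ') :=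
  (h.comm h' (fun v => by simp [xl_apply, e1]) (fun v => by simp [xl_apply, e2])
    (fun v => by simp [xl_apply, e3]) (fun v => by simp [xl_apply, e3])).congr fun v => by
    simp [xl_apply, e3, e4]

theorem hasU_all (hH : T.NG ⊓ SLV F V ≤ M) (h3 : 3 ≤ finrank F W) {b : U →ₗ[F] U} {w : W}
    (hw : w ≠ 0) {φ : Dual F W} (e1 : φ w = 0) {y : W} (hy : φ y ≠ 0) (h : HasU M (T.xl b w φ))
    (w' : W) (φ' : Dual F W) (e2 : φ' w' = 0) : HasU M (T.xl b w' φ') := by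
  have k1 : ∀ (w : W) (φ : Dual F W) (y : W), φ w = 0 → φ y ≠ 0 → HasU M (T.xl b w φ) →
      ∀ φ' : Dual F W, φ' w = 0 → HasU M (T.xl b w φ') := fun w φ y e1 hy h φ' e2 => by
    have k : ∀ ψ : Dual F W, ψ w = 0 → (∃ z, φ z = 0 ∧ ψ z ≠ 0) → HasU M (T.xl b w ψ) :=
      fun ψ e3 ⟨z, z1, z2⟩ => by
        obtain ⟨z', z3, z4⟩ := exists_one_zero z1 z2 hy
        simpa using hasU_comm h (hasU_id hH z4) e1 z4 e3 z3
    by_cases hz : ∃ z, φ z = 0 ∧ φ' z ≠ 0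
    · exact k φ' e2 hz
    · push Not at hz
      obtain ⟨ψ, z, p1, p2, p3⟩ := exists_dual_vanish h3 w y
      have p4 : φ (z - (φ z / φ y) • y) = 0 := by simp [hy]
      have f1 := k (φ' + ψ) (by simp [e2, p1]) ⟨_, p4, by
        rw [LinearMap.add_apply, hz _ p4]; simp [p2, p3]⟩
      have f2 := k ψ p1 ⟨_, p4, by simp [p2, p3]⟩
      exact (f1.sub f2 (fun v => by simp [xl_apply, e2, p1])
        (fun v => by simp [xl_apply, p1])).congr fun v => by simp [xl_apply]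
  by_cases hc : w ∈ Submodule.span F {w'}
  · obtain ⟨c, rfl⟩ := Submodule.mem_span_singleton.1 hc
    have hc0 : c ≠ 0 := fun e => hw (by simp [e])
    exact (k1 _ φ y e1 hy h (c⁻¹ • φ') (by simp [e2])).congr fun v => by
      simp [xl_apply, smul_smul, hc0]
  · obtain ⟨ψ, z, p1, p2, p3⟩ := exists_dual_vanish h3 w w'
    obtain ⟨χ, q1, q2⟩ := exists_dual_zero_one hc
    exact k1 w' ψ z p2 (by simp [p3])
      (by simpa using hasU_comm (hasU_id hH q1) (k1 w φ y e1 hy h ψ p1) q1 p1 p2 q2) φ' e2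

theorem SLV_le_of_not_smul [Finite F] (hH : T.NG ⊓ SLV F V ≤ M) (h2 : 2 ≤ finrank F U)
    (h3 : 3 ≤ finrank F W) (hq : ¬ (Nat.card F = 2 ∧ finrank F U = 2)) {b : U →ₗ[F] U}
    (hb : ∀ w (φ : Dual F W), φ w = 0 → HasU M (T.xl b w φ)) (hb' : ¬ ∃ c : F, ∀ v, b v = c • v) :
    SLV F V ≤ M := by
  let R : Submodule F (U →ₗ[F] U) :=
    { carrier := {b | ∀ w (φ : Dual F W), φ w = 0 → HasU M (T.xl b w φ)}
      zero_mem' := fun w φ _ => hasU_zero.congr fun v => by simp [xl_apply]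
      add_mem' := fun {a b} ha hb w φ h => ((ha w φ h).add (hb w φ h) fun v => by
        simp [xl_apply, h]).congr fun v => by simp [xl_apply]
      smul_mem' := fun c a ha w φ h => (ha (c • w) φ (by simp [h])).congr fun v => by
        simp [xl_apply] }
  have key := rank_one_mem R (fun b hb c hc w φ h => by
      by_cases hφ : ∃ y, φ y ≠ 0
      · obtain ⟨y, hy⟩ := hφ
        obtain ⟨ψ, z, p1, p2, p3⟩ := exists_dual_vanish h3 w y
        exact hasU_comm (w' := z - (φ z / φ y) • y) (hb w ψ p1) (hc _ φ (by simp [hy])) p1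
          (by simp [hy]) h (by simp [p2, p3])
      · push Not at hφ
        exact hasU_zero.congr fun v => by simp [xl_apply, show φ = 0 from LinearMap.ext hφ])
    (fun v β h b hb => by
      obtain ⟨t, ht, e⟩ := hasTv_SLV h
      have e' := inv_apply_of_unip (A := β.smulRight v) (fun x => by simp [h]) e
      have h1 : T.kr t 1 ∈ M := hH ⟨T.kr_mem t 1, T.swap_kr t 1 ▸ T.swap.krR_mem_SLV ht⟩
      have h2 : t.toLinearMap ∘ₗ b ∘ₗ (t⁻¹ : U ≃ₗ[F] U).toLinearMap ∈ R := fun w φ hφ =>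
        (hb w φ hφ).conj' h1 (T.ext (f := (T.kr t 1).toLinearMap ∘ₗ T.xl b w φ)
          (g := T.xl _ w φ ∘ₗ (T.kr t 1).toLinearMap) fun u x => by simp [xl_apply])
      convert R.sub_mem h2 hb using 1
      ext x
      change _ = t (b (t⁻¹ x)) - b x
      simp only [e, e', LinearMap.smul_apply, LinearMap.sub_apply, LinearMap.comp_apply,
        LinearMap.smulRight_apply, map_smul, smul_eq_mul, map_sub]
      module) hq h2 hb hb'
  have tv : ∀ (u : U) (α : Dual F U) (w : W) (φ : Dual F W), φ w = 0 →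
      HasTv M (α ∘ₗ T.cR φ) (T.tm u w) := fun u α w φ h => by
    obtain ⟨g, hg, e⟩ := key u α w φ h
    exact ⟨g, hg, fun x => by simp [e, xl_apply]⟩
  let bU := Module.finBasis F U
  let bW := Module.finBasis F W
  have e1 : ∀ p, (bU.tensorProduct bW).map T.e p = T.tm (bU p.1) (bW p.2) := fun p => by
    simp [tm_apply, Basis.tensorProduct_apply']
  have e2 : ∀ p, ((bU.tensorProduct bW).map T.e).coord p = bU.coord p.1 ∘ₗ T.cR (bW.coord p.2) :=
    fun ⟨i, j⟩ => LinearMap.ext (T.ext fun u w => by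
      rw [LinearMap.comp_apply, cR_tm, tm_apply]; simp)
  refine SLV_le_of_basis ((bU.tensorProduct bW).map T.e) fun i j hij c => ?_
  rw [e1, e2, ← LinearMap.smul_apply, ← map_smul]
  by_cases h : i.2 = j.2
  · have h' : i.1 ≠ j.1 := fun e => hij (Prod.ext e h)
    have : Nontrivial (Fin (finrank F W)) := Fin.nontrivial_iff_two_le.2 (by omega)
    obtain ⟨l, hl⟩ := exists_ne j.2
    have := HasTv.comm (by simp [h, hl]) (by simp [hl.symm]) (by simp [h'])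
      (tv (c • bU i.1) (bU.coord j.1) (bW i.2) (bW.coord l) (by simp [h, hl.symm]))
      (tv (bU j.1) (bU.coord j.1) (bW l) (bW.coord j.2) (by simp [hl]))
    simpa using this
  · exact tv _ _ _ _ (by simp [h])

/-- The elements of `M` in the unipotent radical of the stabiliser of `U ⊗ w`. -/
theorem exists_cR_of_not_le [Finite F] (hH : T.NG ⊓ SLV F V ≤ M) (h2 : 2 ≤ finrank F U)
    (h3 : 3 ≤ finrank F W) (hq : ¬ (Nat.card F = 2 ∧ finrank F U = 2)) (hM : ¬ SLV F V ≤ M)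
    {w : W} (hw : w ≠ 0) {x : V ≃ₗ[F] V} (hx : x ∈ M) (h1 : ∀ u, x (T.tm u w) = T.tm u w)
    (h4 : ∀ v, x v - v ∈ T.sp w) :
    ∃ φ : Dual F W, φ w = 0 ∧ ∀ v, x v = v + T.tm (T.cR φ v) w := by
  obtain ⟨φ₀, hφ₀⟩ := exists_dual_eq_one (F := F) hw
  let A : V →ₗ[F] U := T.cR φ₀ ∘ₗ (x.toLinearMap - LinearMap.id)
  have eA : ∀ v, x v = v + T.tm (A v) w := fun v => by
    obtain ⟨u, hu⟩ := h4 v
    change T.tm u w = _ at hu
    change _ = v + T.tm (T.cR φ₀ (x v - v)) w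
    rw [← hu, cR_tm, hφ₀, one_smul, hu, add_sub_cancel]
  have A0 : ∀ u, A (T.tm u w) = 0 := fun u => by simp [A, h1]
  have key : ∀ y, ∃ c : F, ∀ u, A (T.tm u y) = c • u := fun y => by
    by_contra hc
    obtain ⟨ψ, z, p1, p2, p3⟩ := exists_dual_vanish h3 w y
    have f1 : HasU M (T.tm.flip w ∘ₗ A) := ⟨x, hx, eA⟩
    have f2 := (f1.comm (hasU_id hH p2) (fun v => by simp [A0]) (fun v => by simp [xl_apply, p2])
      (fun v => by simp [xl_apply, p1]) (fun v => by simp [xl_apply, p1])).congr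
      (B := T.xl (A ∘ₗ T.tm.flip y) w ψ) fun v => by simp [xl_apply, p1]
    exact hM (SLV_le_of_not_smul hH h2 h3 hq
      (hasU_all hH h3 hw p1 (y := z) (by simp [p3]) f2) hc)
  obtain ⟨u₀, hu₀⟩ := exists_notMem_span h2 (0 : U)
  obtain ⟨α, -, hα⟩ := exists_dual_zero_one hu₀
  refine ⟨α ∘ₗ A ∘ₗ T.tm u₀, by simp [A0], fun v => ?_⟩
  rw [eA, T.ext (f := A) (g := T.cR (α ∘ₗ A ∘ₗ T.tm u₀)) (fun u y => ?_) v]
  obtain ⟨c, hc⟩ := key y
  simp [hc, hα]

/-- The stabiliser of `U ⊗ w` in `M`. -/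
theorem mem_NG_of_stab [Finite F] (hH : T.NG ⊓ SLV F V ≤ M) (hG : M ≤ SLV F V)
    (h2 : 2 ≤ finrank F U) (h3 : 3 ≤ finrank F W) (hq : ¬ (Nat.card F = 2 ∧ finrank F U = 2))
    (hM : ¬ SLV F V ≤ M) {w : W} (hw : w ≠ 0) {h : V ≃ₗ[F] V} (hh : h ∈ M)
    (hE : ∀ v ∈ T.sp w, h v ∈ T.sp w) : h ∈ T.NG := by
  obtain ⟨a, ha⟩ := T.exists_left hw hE
  have hS := mem_stab_of_mapsTo hE
  have k1 : ∀ φ : Dual F W, φ w = 0 → ∃ ψ : Dual F W, ∀ v, T.cR φ (h v) = a (T.cR ψ v) :=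
    fun φ hφ => by
      obtain ⟨x, hx, e⟩ := (hasU_id hH hφ).conj (M.inv_mem hh)
      have e' : ∀ v, x v = v + h⁻¹ (T.tm (T.cR φ (h v)) w) := e
      obtain ⟨ψ, -, p⟩ := exists_cR_of_not_le hH h2 h3 hq hM hw hx
        (fun u => by simp [e', ha, hφ]) fun v => by
          rw [e', add_sub_cancel_left]
          exact stab_apply ((stab _).inv_mem hS) (T.tm_mem_sp _ _)
      refine ⟨ψ, fun v => T.left_inj hw ?_⟩
      rw [← ha, ← add_left_cancel ((e' v).symm.trans (p v)), app_inv_app]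
  obtain ⟨u₀, hu₀⟩ := exists_notMem_span h2 (0 : U)
  have hu0 : u₀ ≠ 0 := fun e => hu₀ (by simp [e])
  obtain ⟨α, hα⟩ := exists_dual_eq_one (F := F) (a.map_ne_zero_iff.2 hu0)
  let d : W →ₗ[F] W := T.cL α ∘ₗ h.toLinearMap ∘ₗ T.tm u₀
  have k2 : ∀ u y, h (T.tm u y) - T.tm (a u) (d y) ∈ T.sp w := fun u y =>
    T.mem_sp_iff.2 fun φ hφ => by
      obtain ⟨ψ, hψ⟩ := k1 φ hφ
      have : φ (d y) = ψ y := by
        change φ (T.cL α (h (T.tm u₀ y))) = _
        rw [cL_cR, hψ]; simp [hα]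
      rw [map_sub, hψ, cR_tm, cR_tm, this, map_smul, sub_self]
  have dw : d w = w := by simp [d, ha, hα]
  have hd : Function.Injective d := (injective_iff_map_eq_zero d).2 fun y hy => by
    have := k2 u₀ y
    rw [hy, map_zero, sub_zero, ← hS, sp_eq_ts] at this
    obtain ⟨c, rfl⟩ := Submodule.mem_span_singleton.1 (T.mem_of_tm_mem_ts hu0 this)
    rwa [map_smul, dw] at hy
  let n := T.kr a (LinearEquiv.ofInjectiveEndo d hd)
  have en : ∀ u y, n (T.tm u y) = T.tm (a u) (d y) := fun u y => T.kr_tm _ _ u y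
  have k3 : ∀ u, (n⁻¹ * h) (T.tm u w) = T.tm u w := fun u => n.injective (by
    rw [mul_app, app_inv_app, en, ha, dw])
  have k4 : ∀ v, (n⁻¹ * h) v - v ∈ T.sp w := fun v => by
    have h5 : n ∈ stab (T.sp w) := mem_stab_of_mapsTo (by
      rintro _ ⟨u, rfl⟩
      exact ⟨a u, by rw [LinearMap.flip_apply, LinearMap.flip_apply, en, dw]⟩)
    rw [h5, map_sub, mul_app, app_inv_app]
    exact T.induction (p := fun v => h v - n v ∈ T.sp w) (by simp) (fun u y => en u y ▸ k2 u y)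
      (fun x y hx hy => by
        rw [map_add, map_add, add_sub_add_comm]; exact add_mem hx hy) v
  have k5 : n⁻¹ * h ∈ SLV F V := mem_SLV_of_sq (A := (n⁻¹ * h).toLinearMap - LinearMap.id)
    (fun v => by
      obtain ⟨u, hu⟩ := k4 v
      change (n⁻¹ * h) ((n⁻¹ * h) v - v) - ((n⁻¹ * h) v - v) = 0
      rw [← hu, LinearMap.flip_apply, k3, sub_self]) fun v => by simp
  have k6 : n ∈ M := hH ⟨T.kr_mem _ _, by
    simpa using (SLV F V).mul_mem (hG hh) ((SLV F V).inv_mem k5)⟩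
  obtain ⟨φ, p1, p2⟩ := exists_cR_of_not_le hH h2 h3 hq hM hw (M.mul_mem (M.inv_mem k6) hh) k3 k4
  obtain ⟨t, -, e⟩ := hasTv_SLV p1
  have k7 : n⁻¹ * h = T.krR t := LinearEquiv.ext fun v => by rw [p2, T.krR_apply_of_tv e]
  rw [← mul_inv_cancel_left n h, k7]
  exact T.NG.mul_mem (T.kr_mem _ _) (T.krR_mem t)

/-- Elements of small support in `GL(U) ∘ GL(W)`. -/
theorem exists_sp_le (hU : ∃ u : U, u ≠ 0) {x : V ≃ₗ[F] V} (hx : x ∈ T.NG) (hx1 : ∃ v, x v ≠ v)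
    {L : Submodule F V} (hL : ∀ v, x v - v ∈ L) (hr : finrank F L < finrank F W) :
    ∃ w, w ≠ 0 ∧ T.sp w ≤ L := by
  obtain ⟨a, d, rfl⟩ := hx
  obtain ⟨d', e⟩ := T.exists_krR_of_smul (a := a) d hU (by
    by_contra hc
    have := T.finrank_le_of_not_smul hc hL
    omega)
  rw [e] at hL hx1
  obtain ⟨y, hy⟩ : ∃ y, d' y - y ≠ 0 := by
    by_contra hc
    push Not at hc
    obtain ⟨v, hv⟩ := hx1
    exact hv (by rw [show d' = 1 from LinearEquiv.ext fun y => sub_eq_zero.1 (hc y), map_one]; rfl)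
  refine ⟨_, hy, ?_⟩
  rintro _ ⟨u, rfl⟩
  simpa using hL (T.tm u y)

theorem exists_eq_sp (h12 : finrank F U < finrank F W) (hU : ∃ u : U, u ≠ 0) {x : V ≃ₗ[F] V}
    (hx : x ∈ T.NG) (hx1 : ∃ v, x v ≠ v) {L : Submodule F V} (hL : ∀ v, x v - v ∈ L)
    (hr : finrank F L = finrank F U) : ∃ w, w ≠ 0 ∧ L = T.sp w := by
  obtain ⟨w, hw, h⟩ := exists_sp_le hU hx hx1 hL (by omega)
  exact ⟨w, hw, (Submodule.eq_of_le_of_finrank_eq h (by rw [hr, T.finrank_sp hw])).symm⟩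

theorem notMem_NG_of_tv (h2 : 2 ≤ finrank F U) (h2' : 2 ≤ finrank F W) {t : V ≃ₗ[F] V} {v : V}
    (h1 : ∃ x, t x ≠ x) (h : ∀ x, t x - x ∈ Submodule.span F {v}) : t ∉ T.NG := fun hc => by
  have h3 : finrank F (Submodule.span F {v}) ≤ 1 := by
    simpa using finrank_span_le_card (R := F) ({v} : Set V)
  obtain ⟨u, hu⟩ := exists_notMem_span h2 (0 : U)
  obtain ⟨w, hw, e⟩ := exists_sp_le ⟨u, fun e => hu (by simp [e])⟩ hc h1 h (by omega)
  have := Submodule.finrank_mono e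
  rw [T.finrank_sp hw] at this
  omega

theorem NG_isMaximalIn_SLV [Finite F] (h2 : 2 ≤ finrank F U) (h12 : finrank F U < finrank F W)
    (hq : ¬ (Nat.card F = 2 ∧ finrank F U = 2)) :
    Geo.IsMaximalIn (SLV F V) (T.NG ⊓ SLV F V) := by
  have h3 : 3 ≤ finrank F W := by omega
  obtain ⟨u₀, hu₀⟩ := exists_notMem_span h2 (0 : U)
  have hu0 : u₀ ≠ 0 := fun e => hu₀ (by simp [e])
  obtain ⟨w₀, hw₀⟩ := exists_notMem_span (by omega : 2 ≤ finrank F W) (0 : W)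
  have hw0 : w₀ ≠ 0 := fun e => hw₀ (by simp [e])
  obtain ⟨φ₀, z₀, p1, -, p2⟩ := exists_dual_vanish h3 w₀ w₀
  have rk : ∀ g : V ≃ₗ[F] V, finrank F ((T.sp w₀).map g.toLinearMap) = finrank F U := fun g => by
    rw [LinearEquiv.finrank_map_eq, T.finrank_sp hw0]
  refine isMaximalIn_of inf_le_right ?_ fun M hH hG g hg hg' => ?_
  · obtain ⟨α, hα⟩ := exists_dual_eq_one (F := F) hu0
    obtain ⟨t, ht, e⟩ := hasTv_SLV (φ := α ∘ₗ T.cR φ₀) (v := T.tm u₀ w₀) (by simp [p1])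
    exact ⟨t, ht, fun h => notMem_NG_of_tv h2 (by omega) (v := T.tm u₀ w₀) ⟨T.tm u₀ z₀, by
      simpa [e, p2, hα] using T.tm_ne_zero hu0 hw0⟩ (fun x => by
        rw [e, add_sub_cancel_left]
        exact Submodule.smul_mem _ _ (Submodule.mem_span_singleton_self _)) h.1⟩
  by_contra hM
  have st : ∀ h ∈ M, ∀ w, w ≠ 0 → (T.sp w).map h.toLinearMap = T.sp w → h ∈ T.NG :=
    fun h hh w hw e => mem_NG_of_stab hH hG h2 h3 hq hM hw hh fun v hv => e ▸ ⟨v, hv, rfl⟩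
  have mv : ∀ w, w ≠ 0 → ∃ n ∈ M, n ∈ T.NG ∧ (T.sp w₀).map n.toLinearMap = T.sp w := fun w hw => by
    obtain ⟨τ, hτ, rfl⟩ := exists_SLV_move (F := F) (by omega) hw0 hw
    exact ⟨_, krR_mem_of hH hτ, T.krR_mem τ, T.map_kr_sp 1 τ w₀⟩
  have mm : ∀ g h : V ≃ₗ[F] V, (T.sp w₀).map (g * h).toLinearMap =
      ((T.sp w₀).map h.toLinearMap).map g.toLinearMap := fun g h => Submodule.map_comp _ _ _
  have cj : ∀ g ∈ M, ∀ φ : Dual F W, φ w₀ = 0 → φ ≠ 0 → ∃ x ∈ M,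
      (∀ v, x v = v + g (T.tm (T.cR φ (g⁻¹ v)) w₀)) ∧
      (x ∈ T.NG → ∃ w, w ≠ 0 ∧ (T.sp w₀).map g.toLinearMap = T.sp w) := fun g hg φ h1 h4 => by
    obtain ⟨x, hx, e⟩ := (hasU_id hH h1).conj hg
    have e' : ∀ v, x v = v + g (T.tm (T.cR φ (g⁻¹ v)) w₀) := e
    obtain ⟨y, hy⟩ := DFunLike.ne_iff.1 h4
    refine ⟨x, hx, e', fun h => exists_eq_sp h12 ⟨u₀, hu0⟩ h ⟨g (T.tm u₀ y), ?_⟩
      (fun v => ?_) (rk g)⟩
    · simpa [e', T.tm_ne_zero hu0 hw0] using hy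
    · rw [e', add_sub_cancel_left]
      exact ⟨_, T.tm_mem_sp _ _, rfl⟩
  have J : ∀ k, ∀ g ∈ M, ∀ w, w ≠ 0 → (T.sp w₀).map g.toLinearMap ⊓ T.sp w ≠ ⊥ →
      finrank F U ≤ finrank F ↥((T.sp w₀).map g.toLinearMap ⊓ T.sp w) + k →
      (T.sp w₀).map g.toLinearMap = T.sp w := fun k => by
    induction k with
    | zero =>
      intro g _ w hw _ h
      have h1 := Submodule.eq_of_le_of_finrank_le (inf_le_left (a := (T.sp w₀).map g.toLinearMap)
        (b := T.sp w)) (by rw [rk]; exact h)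
      exact Submodule.eq_of_le_of_finrank_eq (h1 ▸ inf_le_right) (by rw [rk, T.finrank_sp hw])
    | succ k ih =>
      intro g hg w hw h0 h
      by_cases hc : T.sp w ≤ (T.sp w₀).map g.toLinearMap
      · exact (Submodule.eq_of_le_of_finrank_eq hc (by rw [rk, T.finrank_sp hw])).symm
      obtain ⟨v, hv, hv'⟩ := SetLike.not_le_iff_exists.1 hc
      obtain ⟨_, ⟨⟨_, ⟨u, rfl⟩, rfl⟩, hj⟩, hj0⟩ := Submodule.exists_mem_ne_zero_of_ne_bot h0
      have hu : u ≠ 0 := fun e => hj0 (by simp [e])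
      obtain ⟨φ, hφ, hφ0⟩ := Submodule.exists_mem_ne_zero_of_ne_bot (LinearMap.ker_ne_bot_of_finrank_lt
        (f := ((Submodule.span F {u}).mkQ ∘ₗ T.cR.flip (g⁻¹ v)).prod (Dual.eval F W w₀)) (by
          have := (Submodule.span F {u}).finrank_quotient_add_finrank
          rw [finrank_span_singleton hu] at this
          rw [finrank_prod, Subspace.dual_finrank_eq, finrank_self]
          omega))
      obtain ⟨q1, q2⟩ := Prod.ext_iff.1 hφ
      obtain ⟨c, hc⟩ := Submodule.mem_span_singleton.1 ((Submodule.Quotient.mk_eq_zero _).1 q1)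
      obtain ⟨x, hx, e, hx'⟩ := cj g hg φ q2 hφ0
      obtain ⟨n, hn, -, en⟩ := mv w hw
      have f1 : x v - v ∈ (T.sp w₀).map g.toLinearMap ⊓ T.sp w := by
        rw [e, add_sub_cancel_left, show T.cR φ (g⁻¹ v) = c • u from hc.symm, map_smul,
          LinearMap.smul_apply, map_smul]
        exact Submodule.smul_mem _ _ ⟨⟨_, T.tm_mem_sp _ _, rfl⟩, hj⟩
      have f2 : (T.sp w₀).map g.toLinearMap ⊓ T.sp w <
          (T.sp w₀).map (x * n).toLinearMap ⊓ T.sp w := by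
        rw [mm, en]
        refine SetLike.lt_iff_le_and_exists.2 ⟨?_, x v, ⟨⟨v, hv, rfl⟩, by
          simpa using add_mem f1.2 hv⟩, fun h => hv' (by simpa using sub_mem h.1 f1.1)⟩
        rintro _ ⟨⟨_, ⟨u', rfl⟩, rfl⟩, h'⟩
        exact ⟨⟨_, h', by simp [e, show φ w₀ = 0 from q2]⟩, h'⟩
      have f3 := Submodule.finrank_lt_finrank_of_lt f2
      have f4 := ih _ (M.mul_mem hx hn) w hw (ne_bot_of_gt f2) (by omega)
      rw [mm, en] at f4
      obtain ⟨w', -, e'⟩ := hx' (st x hx w hw f4)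
      rw [e'] at h0 ⊢
      obtain ⟨j, hj, hj0⟩ := Submodule.exists_mem_ne_zero_of_ne_bot h0
      exact T.sp_eq_of_mem hj0 hj.1 hj.2
  obtain ⟨x, hx, e, hx'⟩ := cj g hg φ₀ p1 fun h => by simp [h] at p2
  obtain ⟨w, hw, hw'⟩ := Submodule.exists_mem_ne_zero_of_ne_bot (LinearMap.ker_ne_bot_of_finrank_lt
    (f := T.cR φ₀ ∘ₗ (g⁻¹ : V ≃ₗ[F] V).toLinearMap ∘ₗ T.tm u₀) h12)
  obtain ⟨n, hn, -, en⟩ := mv w hw'
  have f1 := J (finrank F U) _ (M.mul_mem hx hn) w hw' (by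
    rw [mm, en]
    refine (Submodule.ne_bot_iff _).2 ⟨T.tm u₀ w, ⟨⟨_, T.tm_mem_sp u₀ w, ?_⟩, T.tm_mem_sp _ _⟩,
      T.tm_ne_zero hu0 hw'⟩
    change x _ = _
    rw [e, show T.cR φ₀ (g⁻¹ (T.tm u₀ w)) = 0 from hw]
    simp) (by omega)
  rw [mm, en] at f1
  obtain ⟨w', hw'', e'⟩ := hx' (st x hx w hw' f1)
  obtain ⟨n', hn', hn'', en'⟩ := mv w' hw''
  have f2 := st (n'⁻¹ * g) (M.mul_mem (M.inv_mem hn') hg) w₀ hw0 (by
    rw [mm, e', ← en', ← mm, inv_mul_cancel]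
    exact Submodule.map_id _)
  exact hg' ⟨by simpa using T.NG.mul_mem hn'' f2, hG hg⟩

end Tn

theorem tensorProductSubgroup_isMaximalIn {F : Type*} [Field F] [Fintype F] {ι : Type} [Fintype ι]
    [DecidableEq ι] {n₁ n₂ : ℕ} (h1 : 2 ≤ n₁) (h12 : n₁ < n₂)
    (hex : ¬ (n₁ = 2 ∧ Fintype.card F = 2)) (e : ι ≃ Fin n₁ × Fin n₂) (P : GL ι F) :
    Geo.IsMaximalIn (Geo.specialLinear ι F)
      (Geo.tensorProductSubgroup n₁ n₂ e P ⊓ Geo.specialLinear ι F) :=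
  isMaximalIn_of_equiv (glEquiv ι F) (H' := (tnOf e P).NG ⊓ SLV F _) mem_specialLinear_iff
    (fun g => and_congr (mem_tensorProductSubgroup_iff_NG e P g) (mem_specialLinear_iff g))
    (Tn.NG_isMaximalIn_SLV (by simpa using h1) (by simpa using h12) (by
      simpa [and_comm, imp_not_comm] using hex))

end Cfsg.Agent.Class.Max
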