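import Mathlib
import Cfsg.Agent.Class.Max.C4Lin
import Cfsg.Agent.Class.Max.C8
import Cfsg.Agent.TT.InvUtil

/-!
Pairs of quadratic elements in an overgroup `M` of `H`: a counting argument in the group
generated by two root subgroups, and a dihedral argument for involutions.
-/

set_option autoImplicit false
set_option linter.unusedSectionVars false

namespace Cfsg.Agent.Class.Max

open Module

section Group

variable {G : Type*} [Group G] [Finite G]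

theorem frob_count {Z : Subgroup G} (hne : ∃ γ, γ ∉ Z) {x x' : G} (hx : x ∈ Z) (hx1 : x ≠ 1)
    (hx' : x' ∈ Z) (hx1' : x' ≠ 1) (hxx : x ≠ x')
    (hTI : ∀ γ, ∀ z ∈ Z, z ≠ 1 → γ * z * γ⁻¹ ∈ Z → γ ∈ Z) :
    ∃ γ, γ ∉ Z ∧ ∃ z ∈ Z, z ≠ 1 ∧ ∃ δ, ∃ y ∈ Z, x * (γ * z * γ⁻¹) = δ * y * δ⁻¹ := by
  classical
  by_contra hc
  push Not at hc
  have := Fintype.ofFinite G
  let Y := {z : G // z ∈ Z ∧ z ≠ 1}
  let f : (G ⧸ Z) × Y → G := fun p => p.1.out * p.2.1 * p.1.out⁻¹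
  have hf : Function.Injective f := by
    rintro ⟨p, z⟩ ⟨p', z'⟩ h
    have h1 : p'.out⁻¹ * p.out * z.1 * (p'.out⁻¹ * p.out)⁻¹ = z'.1 := by
      change p.out * z.1 * p.out⁻¹ = p'.out * z'.1 * p'.out⁻¹ at h
      rw [mul_inv_rev, inv_inv, mul_assoc _ _ z.1, mul_assoc, ← mul_assoc _ _ p'.out, h]; group
    have h2 : p' = p := by
      rw [← p.out_eq', ← p'.out_eq']
      exact QuotientGroup.eq.2 (hTI _ _ z.2.1 z.2.2 (h1 ▸ z'.2.1))
    subst h2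
    rw [inv_mul_cancel, one_mul, inv_one, mul_one] at h1
    exact Prod.ext rfl (Subtype.ext h1)
  let o : G ⧸ Z := ((1 : G) : G ⧸ Z)
  have ho : ∀ p : G ⧸ Z, p ≠ o → p.out ∉ Z := fun p hp h => hp (by
    rw [← p.out_eq']
    exact QuotientGroup.eq.2 (by simpa using h))
  let φ : ((G ⧸ Z) × Y) ⊕ (Unit ⊕ ({p : G ⧸ Z // p ≠ o} × Y)) → G :=
    Sum.elim f (Sum.elim (fun _ => 1) fun p => x * f (p.1.1, p.2))
  have h1 : ∀ p, f p ≠ 1 := fun p h => p.2.2.2 (by simpa [f] using h)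
  have h2 : ∀ (p : {p : G ⧸ Z // p ≠ o} × Y) δ, ∀ y ∈ Z, x * f (p.1.1, p.2) ≠ δ * y * δ⁻¹ :=
    fun p => hc _ (ho _ p.1.2) _ p.2.2.1 p.2.2.2
  have hφ : Function.Injective φ := by
    rintro (p | _ | p) (p' | _ | p') h
    · rw [hf h]
    · exact absurd h (h1 p)
    · exact absurd h.symm (h2 p' _ _ p.2.2.1)
    · exact absurd h.symm (h1 p')
    · rfl
    · exact absurd (h.symm.trans (by simp [φ])) (h2 p' 1 1 Z.one_mem)
    · exact absurd h (h2 p _ _ p'.2.2.1)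
    · exact absurd (h.trans (by simp [φ])) (h2 p 1 1 Z.one_mem)
    · have := hf (mul_left_cancel h : f _ = f _)
      rw [Prod.ext (Subtype.ext (Prod.ext_iff.1 this).1) (Prod.ext_iff.1 this).2]
  have c1 := Nat.card_le_card_of_injective φ hφ
  have c2 : Nat.card Y + 1 = Nat.card Z := by
    rw [← Nat.card_congr (Equiv.optionSubtypeNe (1 : Z)), Finite.card_option]
    exact congrArg (· + 1) (Nat.card_congr ⟨fun z => ⟨⟨z.1, z.2.1⟩, fun h => z.2.2 (congrArg Subtype.val h)⟩,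
      fun z => ⟨z.1.1, z.1.2, fun h => z.2 (Subtype.ext h)⟩, fun _ => rfl, fun _ => rfl⟩)
  have c3 : Nat.card {p : G ⧸ Z // p ≠ o} + 1 = Nat.card (G ⧸ Z) := by
    rw [← Nat.card_congr (Equiv.optionSubtypeNe o), Finite.card_option]
  have c4 : 1 < Nat.card Y := Finite.one_lt_card_iff_nontrivial.2
    ⟨⟨⟨x, hx, hx1⟩, ⟨x', hx', hx1'⟩, fun h => hxx (congrArg Subtype.val h)⟩⟩
  have c5 : 0 < Nat.card {p : G ⧸ Z // p ≠ o} := by
    obtain ⟨γ, hγ⟩ := hne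
    have : Nonempty {p : G ⧸ Z // p ≠ o} :=
      ⟨⟨(γ : G ⧸ Z), fun h => hγ (by simpa using QuotientGroup.eq.1 h)⟩⟩
    exact Nat.card_pos
  rw [Subgroup.card_eq_card_quotient_mul_card_subgroup Z, Nat.card_sum, Nat.card_sum,
    Nat.card_prod, Nat.card_prod, ← c2, ← c3, Nat.card_unique (α := Unit)] at c1
  nlinarith

/-- Two non-conjugate involutions with unique fixed points. -/
theorem dihedral_fix {H K : Subgroup G} (hKH : K ≤ H) (hK : ∀ h ∈ H, ∀ k ∈ K, h * k * h⁻¹ ∈ K)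
    {s t g : G} (hs : s ∈ K) (ht : t ∈ K) (hs2 : s * s = 1) (ht2 : t * t = 1)
    (hst : ∀ c, c * s * c⁻¹ ≠ t) (P : Set G) (h1 : (1 : G) ∈ P) (hg : g ∈ P)
    (hP : ∀ a ∈ P, s * a ∈ P) (hP' : ∀ a ∈ P, g * t * g⁻¹ * a ∈ P)
    (hU : ∀ r, r = s ∨ r = t → ∀ a ∈ P, ∀ b ∈ P, b⁻¹ * a * r * (b⁻¹ * a)⁻¹ ∈ H → b⁻¹ * a ∈ H) :
    ∃ z, z ≠ 1 ∧ z * z = 1 ∧ z ∈ K ∧ g⁻¹ * z * g ∈ K := by
  have ht' : g * t * g⁻¹ * (g * t * g⁻¹) = 1 := by
    rw [show g * t * g⁻¹ * (g * t * g⁻¹) = g * (t * t) * g⁻¹ by group, ht2]; group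
  have key : ∀ (r r' e e' : G), r = s ∨ r = t → r' = s ∨ r' = t → e ∈ P → e' ∈ P →
      ∀ x y, x = e * r * e⁻¹ → y = e' * r' * e'⁻¹ → x * x = 1 → y * y = 1 →
      (∀ a ∈ P, x * a ∈ P) → (∀ a ∈ P, y * a ∈ P) → ∀ k : ℕ, x * (x * y) ^ k = (x * y) ^ k * x →
      e⁻¹ * (x * y) ^ k * e ∈ K := fun r r' e e' hr hr' he he' x y ex ey x2 y2 hx hy k hk => by
    have hrK : ∀ r, r = s ∨ r = t → r ∈ K := by rintro _ (rfl | rfl) <;> assumption
    have p1 : ∀ m : ℕ, ∀ a ∈ P, (x * y) ^ m * a ∈ P := fun m => by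
      induction m with
      | zero => simp
      | succ m ih =>
        intro a ha
        rw [pow_succ', mul_assoc, mul_assoc]; exact hx _ (hy _ (ih a ha))
    have p2 : ∀ m : ℕ, ∀ a ∈ P, ((x * y) ^ m)⁻¹ * a ∈ P := fun m => by
      induction m with
      | zero => simp
      | succ m ih =>
        intro a ha
        rw [pow_succ, mul_inv_rev, mul_inv_rev, inv_eq_of_mul_eq_one_right x2,
          inv_eq_of_mul_eq_one_right y2, mul_assoc, mul_assoc]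
        exact hy _ (hx _ (ih a ha))
    have q1 : e⁻¹ * ((x * y) ^ k * e) ∈ H := hU r hr _ (p1 k e he) e he (by
      rw [show e⁻¹ * ((x * y) ^ k * e) * r * (e⁻¹ * ((x * y) ^ k * e))⁻¹ =
        e⁻¹ * ((x * y) ^ k * (e * r * e⁻¹)) * ((x * y) ^ k)⁻¹ * e by group, ← ex, ← hk, ex]
      simpa [mul_assoc] using hKH (hrK r hr))
    have q2 : ∀ r'' e'' (m : ℕ), r'' = s ∨ r'' = t → e'' ∈ P →
        x * (x * y) ^ k = ((x * y) ^ m)⁻¹ * (e'' * r'' * e''⁻¹) * (x * y) ^ m →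
        e⁻¹ * (x * y) ^ k * e ∈ K := fun r'' e'' m h1 h2 h3 => by
      have h4 : e⁻¹ * (((x * y) ^ m)⁻¹ * e'') * r'' * (e⁻¹ * (((x * y) ^ m)⁻¹ * e''))⁻¹ =
          r * (e⁻¹ * ((x * y) ^ k * e)) := by
        rw [show r * (e⁻¹ * ((x * y) ^ k * e)) = e⁻¹ * (e * r * e⁻¹ * (x * y) ^ k) * e by group,
          ← ex, h3]
        group
      have h5 := hK _ (hU r'' h1 _ (p2 m e'' h2) e he
        (h4 ▸ H.mul_mem (hKH (hrK r hr)) q1)) _ (hrK r'' h1)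
      rw [h4] at h5
      simpa [mul_assoc] using K.mul_mem (K.inv_mem (hrK r hr)) h5
    rcases Nat.even_or_odd' k with ⟨m, rfl | rfl⟩
    · exact q2 r e m hr he (ex ▸ TT.invol_mul_pow_even x2 y2 m)
    · exact q2 r' e' m hr' he' (ey ▸ TT.invol_mul_pow_odd x2 y2 m)
  rcases Nat.even_or_odd (orderOf (s * (g * t * g⁻¹))) with h | h
  · obtain ⟨k, k1, k2, k3, k4, -⟩ := TT.exists_central_of_even_orderOf_mul hs2 ht' h
    have e : (g * t * g⁻¹ * s) ^ k = (s * (g * t * g⁻¹)) ^ k := by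
      rw [← inv_eq_of_mul_eq_one_right k2, ← inv_pow, mul_inv_rev, inv_eq_of_mul_eq_one_right hs2,
        inv_eq_of_mul_eq_one_right ht']
    have e2 := key s t 1 g (Or.inl rfl) (Or.inr rfl) h1 hg s _ (by simp) rfl hs2 ht' hP hP' k k3
    refine ⟨_, k1, k2, by simpa using e2, ?_⟩
    rw [← e]
    exact key t s g 1 (Or.inr rfl) (Or.inl rfl) hg h1 _ s rfl (by simp) ht' hs2 hP' hP k
      (by rw [e, k4])
  · obtain ⟨m, hm⟩ := TT.conj_of_odd_orderOf_mul hs2 ht' h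
    refine absurd ?_ (hst (g⁻¹ * (s * (g * t * g⁻¹)) ^ m))
    rw [mul_inv_rev, inv_inv, mul_assoc _ _ s, mul_assoc, ← mul_assoc _ _ g, hm]
    group

end Group

variable {F V : Type*} [Field F] [AddCommGroup V] [Module F V]

/-- The conjugate of a linear map. -/
def cjL (g : V ≃ₗ[F] V) (θ : V →ₗ[F] V) : V →ₗ[F] V :=
  g.toLinearMap ∘ₗ θ ∘ₗ (g⁻¹ : V ≃ₗ[F] V).toLinearMap

theorem cjL_apply (g : V ≃ₗ[F] V) (θ : V →ₗ[F] V) (v : V) : cjL g θ v = g (θ (g⁻¹ v)) := rfl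

theorem cjL_app (g : V ≃ₗ[F] V) (θ : V →ₗ[F] V) (v : V) : cjL g θ (g v) = g (θ v) := by
  rw [cjL_apply, inv_app_app]

theorem cjL_one (θ : V →ₗ[F] V) : cjL 1 θ = θ := rfl

theorem cjL_mul (g h : V ≃ₗ[F] V) (θ : V →ₗ[F] V) : cjL (g * h) θ = cjL g (cjL h θ) :=
  LinearMap.ext fun v => by simp [cjL_apply, mul_app]

theorem range_cjL (g : V ≃ₗ[F] V) (θ : V →ₗ[F] V) :
    LinearMap.range (cjL g θ) = (LinearMap.range θ).map g.toLinearMap := by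
  ext v
  exact ⟨fun ⟨x, hx⟩ => ⟨_, ⟨_, rfl⟩, hx⟩, fun ⟨_, ⟨x, rfl⟩, hx⟩ => ⟨g x, (cjL_app g θ x).trans hx⟩⟩

theorem HasU.cjL {M : Subgroup (V ≃ₗ[F] V)} {θ : V →ₗ[F] V} {c : F} (h : HasU M (c • θ))
    {g : V ≃ₗ[F] V} (hg : g ∈ M) : HasU M (c • cjL g θ) :=
  (h.conj hg).congr fun v => by simp [cjL_apply]

namespace Fm

variable (Φ : Fm F V)

/-- Skew-adjoint maps. -/
def Skew (θ : V →ₗ[F] V) : Prop := ∀ x y, Φ.B (θ x) y = - Φ.B x (θ y)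

variable {Φ}

theorem Skew.cjL {θ : V →ₗ[F] V} (h : Φ.Skew θ) {g : V ≃ₗ[F] V} (hg : g ∈ Φ.Iso) :
    Φ.Skew (cjL g θ) := fun x y => by
  rw [cjL_apply, cjL_apply, ← Iso.B_inv hg, h, Iso.B_inv_left hg]

theorem Skew.smul {θ : V →ₗ[F] V} (h : Φ.Skew θ) {c : F} (hc : Φ.σ c = c) : Φ.Skew (c • θ) :=
  fun x y => by simp [h x y, hc]

theorem Skew.eq_zero {θ : V →ₗ[F] V} (h : Φ.Skew θ) {v : V} (hv : ∀ x, Φ.B (θ x) v = 0) :
    θ v = 0 := Φ.nondeg _ fun y => by rw [h, Φ.perp_symm (hv y), neg_zero]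

/-- The data of the quadratic argument. -/
structure QD (Φ : Fm F V) (M H : Subgroup (V ≃ₗ[F] V)) (θ : V →ₗ[F] V) : Prop where
  le : H ≤ M
  iso : M ≤ Φ.Iso
  sq : ∀ v, θ (θ v) = 0
  skew : Φ.Skew θ
  has : ∀ c, Φ.σ c = c → HasU H (c • θ)
  stab : ∀ g ∈ M, (∀ v, g (θ v) ∈ LinearMap.range θ) → g ∈ H
  conj : ∀ g ∈ M, ∀ c, Φ.σ c = c → c ≠ 0 → HasU H (c • cjL g θ) → g ∈ H

/-- `j` bounds the dimension of the intersections of `im θ` with its foreign translates. -/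
def QMax (M H : Subgroup (V ≃ₗ[F] V)) (θ : V →ₗ[F] V) (j : ℕ) : Prop :=
  ∀ g ∈ M, g ∉ H → finrank F ↥(LinearMap.range θ ⊓ LinearMap.range (cjL g θ)) ≤ j

variable [FiniteDimensional F V] {M H : Subgroup (V ≃ₗ[F] V)} {θ : V →ₗ[F] V}

theorem exists_qMax {g₀ : V ≃ₗ[F] V} (h1 : g₀ ∈ M) (h2 : g₀ ∉ H) (θ : V →ₗ[F] V) :
    ∃ g ∈ M, g ∉ H ∧ QMax M H θ (finrank F ↥(LinearMap.range θ ⊓ LinearMap.range (cjL g θ))) := by
  by_contra hc
  simp only [QMax] at hc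
  push Not at hc
  have : ∀ k, ∃ g ∈ M, g ∉ H ∧ k ≤ finrank F ↥(LinearMap.range θ ⊓ LinearMap.range (cjL g θ)) :=
    fun k => by
      induction k with
      | zero => exact ⟨g₀, h1, h2, Nat.zero_le _⟩
      | succ k ih =>
        obtain ⟨g, a1, a2, a3⟩ := ih
        obtain ⟨g', b1, b2, b3⟩ := hc g a1 a2
        exact ⟨g', b1, b2, by omega⟩
  obtain ⟨g, -, -, h⟩ := this (finrank F V + 1)
  have := Submodule.finrank_le (LinearMap.range θ ⊓ LinearMap.range (cjL g θ))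
  omega

theorem QMax.mem {j : ℕ} (h : QMax M H θ j) {a b : V ≃ₗ[F] V} (ha : a ∈ M) (hb : b ∈ M)
    {J : Submodule F V} (hJ : finrank F J = j) (h1 : J ≤ LinearMap.range (cjL a θ))
    (h2 : J ≤ LinearMap.range (cjL b θ)) {v : V} (h3 : v ∈ LinearMap.range (cjL a θ))
    (h4 : v ∈ LinearMap.range (cjL b θ)) (hv : v ∉ J) : a⁻¹ * b ∈ H := by
  by_contra hc
  have h5 := h _ (M.mul_mem (M.inv_mem ha) hb) hc
  have h6 : J < LinearMap.range (cjL a θ) ⊓ LinearMap.range (cjL b θ) :=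
    SetLike.lt_iff_le_and_exists.2 ⟨le_inf h1 h2, v, Submodule.mem_inf.2 ⟨h3, h4⟩, hv⟩
  have h7 := Submodule.finrank_lt_finrank_of_lt h6
  rw [← LinearEquiv.finrank_map_eq a, Submodule.map_inf _ a.injective, ← range_cjL, ← range_cjL,
    ← cjL_mul, mul_inv_cancel_left] at h5
  omega

theorem QD.sq' (D : QD Φ M H θ) (g : V ≃ₗ[F] V) (v : V) : cjL g θ (cjL g θ v) = 0 := by
  simp [cjL_apply, D.sq]

theorem QD.mem_of_map_eq (D : QD Φ M H θ) {g : V ≃ₗ[F] V} (hg : g ∈ M)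
    (h : LinearMap.range θ ≤ LinearMap.range (cjL g θ)) : g ∈ H := by
  have := Submodule.eq_of_le_of_finrank_eq h (by rw [range_cjL, LinearEquiv.finrank_map_eq])
  exact D.stab g hg fun v => this ▸ ⟨g v, cjL_app g θ v⟩

/-- An element which is trivial on `J` and moves a further vector of a translate inside it. -/
theorem QMax.conj_mem {j : ℕ} (h : QMax M H θ j) {b t : V ≃ₗ[F] V} (hb : b ∈ M) (ht : t ∈ M)
    {J : Submodule F V} (hJ : finrank F J = j) (h2 : J ≤ LinearMap.range (cjL b θ))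
    (h3 : ∀ x ∈ J, t x = x) {v : V} (hv : v ∈ LinearMap.range (cjL b θ)) (hv' : v ∉ J)
    (h4 : t v - v ∈ J) : b⁻¹ * (t * b) ∈ H := by
  refine h.mem hb (M.mul_mem ht hb) hJ h2 (fun x hx => ?_) (v := t v)
    (by simpa using add_mem (h2 h4) hv) ?_ fun hc => hv' (by simpa using sub_mem hc h4)
  · rw [cjL_mul, range_cjL]
    exact ⟨x, h2 hx, h3 x hx⟩
  · rw [cjL_mul, range_cjL]
    exact ⟨v, hv, rfl⟩

theorem QD.fact (D : QD Φ M H θ) {j : ℕ} (h : QMax M H θ j) {a b : V ≃ₗ[F] V} (ha : a ∈ M)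
    (hb : b ∈ M) (hab : b⁻¹ * a ∉ H) {J : Submodule F V} (hJ : finrank F J = j)
    (h1 : J ≤ LinearMap.range (cjL a θ)) (h2 : J ≤ LinearMap.range (cjL b θ)) {v : V}
    (hv : v ∈ LinearMap.range (cjL b θ)) (h3 : cjL a θ v ∈ J) : v ∈ J := by
  by_contra hc
  obtain ⟨z, hz, e⟩ := ((D.has 1 (map_one _)).cjL (θ := θ) H.one_mem)
  obtain ⟨t, ht, e'⟩ := HasU.cjL (θ := θ) (c := 1) ⟨z, D.le hz, e⟩ ha
  simp only [one_smul] at e'
  have := h.conj_mem hb ht hJ h2 (fun x hx => by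
    obtain ⟨y, rfl⟩ := h1 hx
    rw [e', D.sq', add_zero]) hv hc (by rwa [e', add_sub_cancel_left])
  refine hab (D.conj _ (M.mul_mem (M.inv_mem hb) ha) 1 (map_one _) one_ne_zero ⟨_, this, fun x => ?_⟩)
  simp [mul_app, e', cjL_apply]

theorem sup_comap_eq_top {L' : Submodule F V} (hr : finrank F L' = finrank F (LinearMap.range θ))
    (hF : ∀ v ∈ L', θ v ∈ LinearMap.range θ ⊓ L' → v ∈ LinearMap.range θ ⊓ L') (v : V) :
    ∃ l ∈ L', θ (v - l) ∈ LinearMap.range θ ⊓ L' := by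
  set J := LinearMap.range θ ⊓ L'
  have h1 := Submodule.finrank_sup_add_finrank_inf_eq L' (J.comap θ)
  have h2 : L' ⊓ J.comap θ ≤ J := fun v hv => hF v hv.1 hv.2
  have h3 := Submodule.finrank_mono h2
  have h4 := LinearMap.finrank_range_add_finrank_ker θ
  have h5 := LinearMap.finrank_range_add_finrank_ker (θ.domRestrict (J.comap θ))
  have h6 : LinearMap.range (θ.domRestrict (J.comap θ)) = J := by
    rw [LinearMap.range_domRestrict, Submodule.map_comap_eq_self inf_le_left]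
  have h7 : finrank F (LinearMap.ker (θ.domRestrict (J.comap θ))) = finrank F (LinearMap.ker θ) := by
    rw [LinearMap.ker_domRestrict]
    exact (Submodule.comapSubtypeEquivOfLe (LinearMap.ker_le_comap θ)).finrank_eq
  have h8 : L' ⊔ J.comap θ = ⊤ := Submodule.eq_top_of_finrank_eq (le_antisymm
    (Submodule.finrank_le _) (by rw [h6] at h5; omega))
  obtain ⟨l, hl, x, hx, rfl⟩ := Submodule.mem_sup.1 (h8 ▸ Submodule.mem_top (x := v))
  exact ⟨l, hl, by simpa using hx⟩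

theorem Skew.perp (h : Φ.Skew θ) (hsq : ∀ v, θ (θ v) = 0) {x y : V}
    (hx : x ∈ LinearMap.range θ) (hy : y ∈ LinearMap.range θ) : Φ.B x y = 0 := by
  obtain ⟨a, rfl⟩ := hx
  obtain ⟨b, rfl⟩ := hy
  rw [h, hsq, map_zero, neg_zero]

theorem Skew.perp_of_eq_zero (h : Φ.Skew θ) {x y : V} (hx : x ∈ LinearMap.range θ)
    (hy : θ y = 0) : Φ.B x y = 0 := by
  obtain ⟨a, rfl⟩ := hx
  rw [h, hy, map_zero, neg_zero]

/-- The form induced on `im θ` is non-degenerate on the intersection. -/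
theorem Skew.eq_zero_of_inf (h : Φ.Skew θ) {L' : Submodule F V}
    (hL : ∀ x ∈ L', ∀ y ∈ L', Φ.B x y = 0) (hr : finrank F L' = finrank F (LinearMap.range θ))
    (hF : ∀ v ∈ L', θ v ∈ LinearMap.range θ ⊓ L' → v ∈ LinearMap.range θ ⊓ L') {x : V}
    (hx : x ∈ L') (h1 : ∀ y, θ y ∈ LinearMap.range θ ⊓ L' → Φ.B y x = 0) : x = 0 :=
  Φ.nondeg _ fun v => by
    obtain ⟨l, hl, h2⟩ := sup_comap_eq_top hr hF v
    rw [← sub_add_cancel v l, map_add, hL x hx l hl, Φ.perp_symm (h1 _ h2), add_zero]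

/-- `ker θ = im θ + (ker θ ∩ ker θ')`. -/
theorem Skew.exists_sub_ker {θ' : V →ₗ[F] V} (h : Φ.Skew θ) (h' : Φ.Skew θ')
    (hsq : ∀ v, θ (θ v) = 0)
    (hr : finrank F (LinearMap.range θ) = finrank F (LinearMap.range θ'))
    (hF : ∀ v ∈ LinearMap.range θ, θ' v ∈ LinearMap.range θ' ⊓ LinearMap.range θ →
      v ∈ LinearMap.range θ' ⊓ LinearMap.range θ) {v : V} (hv : θ v = 0) :
    ∃ l ∈ LinearMap.range θ, θ (v - l) = 0 ∧ θ' (v - l) = 0 := by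
  obtain ⟨l, hl, h1⟩ := sup_comap_eq_top hr hF v
  have h2 : θ (v - l) = 0 := by
    obtain ⟨a, rfl⟩ := hl
    rw [map_sub, hv, hsq, sub_self]
  refine ⟨l, hl, h2, h'.eq_zero_of_inf (fun _ hx _ hy => h.perp hsq hx hy) hr hF h1.2
    fun y hy => ?_⟩
  rw [← neg_eq_zero, ← h', h.perp_of_eq_zero hy.2 h2]

section Alg

variable (Φ) in
/-- Self-adjoint maps commuting with `θ` and `θ'`. -/
structure QC (θ θ' r : V →ₗ[F] V) : Prop where
  c : ∀ v, r (θ v) = θ (r v)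
  c' : ∀ v, r (θ' v) = θ' (r v)
  sa : ∀ x y, Φ.B (r x) y = Φ.B x (r y)

variable (Φ) in
/-- The quaternion-like algebra spanned by `1, θ, θ', θ θ'`. -/
def QA (θ θ' : V →ₗ[F] V) (x : V → V) : Prop :=
  ∃ r₀ r₁ r₂ r₃, Φ.QC θ θ' r₀ ∧ Φ.QC θ θ' r₁ ∧ Φ.QC θ θ' r₂ ∧ Φ.QC θ θ' r₃ ∧
    ∀ v, x v = r₀ v + r₁ (θ v) + r₂ (θ' v) + r₃ (θ (θ' v))

variable {θ' r r' : V →ₗ[F] V}

theorem qc_zero : Φ.QC θ θ' 0 := ⟨by simp, by simp, by simp⟩

theorem qc_id : Φ.QC θ θ' LinearMap.id := ⟨by simp, by simp, by simp⟩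

theorem QC.add (h : Φ.QC θ θ' r) (h' : Φ.QC θ θ' r') : Φ.QC θ θ' (r + r') :=
  ⟨by simp [h.c, h'.c], by simp [h.c', h'.c'], by simp [h.sa, h'.sa]⟩

theorem QC.smul (h : Φ.QC θ θ' r) {c : F} (hc : Φ.σ c = c) : Φ.QC θ θ' (c • r) :=
  ⟨by simp [h.c], by simp [h.c'], by simp [h.sa, hc]⟩

theorem QC.eta (h : Φ.QC θ θ' r) (h1 : Φ.Skew θ) (h2 : Φ.Skew θ') (q1 : ∀ v, θ (θ v) = 0)
    (q2 : ∀ v, θ' (θ' v) = 0) : Φ.QC θ θ' (r ∘ₗ (θ ∘ₗ θ' + θ' ∘ₗ θ)) :=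
  ⟨by simp [h.c, h.c', q1], by simp [h.c, h.c', q2], fun x y => by
    simp [h.c, h.c', h1 _ _, h2 _ _, h.sa, add_comm]⟩

theorem QA.left {x : V → V} (h : Φ.QA θ θ' x) (q1 : ∀ v, θ (θ v) = 0) {c : F} (hc : Φ.σ c = c) :
    Φ.QA θ θ' fun v => x v + c • θ (x v) := by
  obtain ⟨r₀, r₁, r₂, r₃, a₀, a₁, a₂, a₃, e⟩ := h
  refine ⟨r₀, _, r₂, _, a₀, a₁.add (a₀.smul hc), a₂, a₃.add (a₂.smul hc), fun v => ?_⟩
  simp only [e, map_add, ← a₀.c, ← a₁.c, ← a₂.c, ← a₃.c, q1, map_zero, LinearMap.add_apply,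
    LinearMap.smul_apply]
  module

theorem QA.left' {x : V → V} (h : Φ.QA θ θ' x) (h1 : Φ.Skew θ) (h2 : Φ.Skew θ')
    (q1 : ∀ v, θ (θ v) = 0) (q2 : ∀ v, θ' (θ' v) = 0) {c : F} (hc : Φ.σ c = c) :
    Φ.QA θ θ' fun v => x v + c • θ' (x v) := by
  obtain ⟨r₀, r₁, r₂, r₃, a₀, a₁, a₂, a₃, e⟩ := h
  refine ⟨_, r₁, _, _, a₀.add ((a₁.eta h1 h2 q1 q2).smul hc), a₁,
    a₂.add ((a₀.add (a₃.eta h1 h2 q1 q2)).smul hc),
    a₃.add (a₁.smul (c := -c) (by rw [map_neg, hc])), fun v => ?_⟩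
  simp only [e, map_add, ← a₀.c', ← a₁.c', ← a₂.c', ← a₃.c', q2, map_zero, LinearMap.add_apply,
    LinearMap.smul_apply, LinearMap.comp_apply]
  module

end Alg

/-- The counting argument. -/
theorem QD.exists_exc [Finite F] (D : QD Φ M H θ) (h3 : ∃ l, Φ.σ l = l ∧ l ≠ 0 ∧ l ≠ 1)
    {g : V ≃ₗ[F] V} (hg : g ∈ M) (hg' : g ∉ H)
    (h : QMax M H θ (finrank F ↥(LinearMap.range θ ⊓ LinearMap.range (cjL g θ)))) :
    ∃ γ ∈ H, (∀ v, θ v = 0 → cjL g θ v = 0 → γ v = v) ∧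
      (∀ v, γ v - v ∈ LinearMap.range θ ⊔ LinearMap.range (cjL g θ)) ∧
      (((∀ v, γ (θ v) ∈ LinearMap.range θ) ∧ (∀ c, Φ.σ c = c → ¬ ∀ v, γ v = v + c • θ v) ∧
          ∀ x y, Φ.B (γ (θ x)) y = - Φ.B x (γ (θ y))) ∨
        ((¬ ∀ v, γ (θ v) ∈ LinearMap.range θ) ∧ ∀ v, θ (cjL γ θ (cjL g θ v)) +
          cjL γ θ (θ (cjL g θ v)) = cjL g θ (θ (cjL γ θ v) + cjL γ θ (θ v)))) := by
  have : Finite V := Module.finite_of_finite F
  have : Finite (V ≃ₗ[F] V) := DFunLike.finite _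
  set θ' := cjL g θ with hθ'
  set J := LinearMap.range θ ⊓ LinearMap.range θ' with hJ
  have k1 := D.skew
  have k2 : Φ.Skew θ' := k1.cjL (D.iso hg)
  have q1 := D.sq
  have q2 : ∀ v, θ' (θ' v) = 0 := D.sq' g
  let S : Set (V ≃ₗ[F] V) :=
    {x | ∃ c, Φ.σ c = c ∧ ((∀ v, x v = v + c • θ v) ∨ ∀ v, x v = v + c • θ' v)}
  let Γ := Subgroup.closure S
  have hΓM : Γ ≤ M := (Subgroup.closure_le _).2 (by
    rintro x ⟨c, hc, e | e⟩
    · obtain ⟨y, hy, e'⟩ := D.has c hc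
      rw [show x = y from LinearEquiv.ext fun v => by rw [e, e']; rfl]
      exact D.le hy
    · obtain ⟨z, hz, e₁⟩ := D.has c hc
      obtain ⟨y, hy, e'⟩ := HasU.cjL (θ := θ) (c := c) ⟨z, D.le hz, e₁⟩ hg
      rw [show x = y from LinearEquiv.ext fun v => by rw [e, e']; rfl]
      exact hy)
  have hΓ : ∀ γ ∈ Γ, (∀ v, θ v = 0 → θ' v = 0 → γ v = v) ∧
      (∀ v, γ v - v ∈ LinearMap.range θ ⊔ LinearMap.range θ') ∧ Φ.QA θ θ' γ := fun γ hγ => by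
    have step : ∀ x ∈ S, ∀ y : V ≃ₗ[F] V, ((∀ v, θ v = 0 → θ' v = 0 → y v = v) ∧
        (∀ v, y v - v ∈ LinearMap.range θ ⊔ LinearMap.range θ') ∧ Φ.QA θ θ' y) →
        ((∀ v, θ v = 0 → θ' v = 0 → (x * y) v = v) ∧
        (∀ v, (x * y) v - v ∈ LinearMap.range θ ⊔ LinearMap.range θ') ∧ Φ.QA θ θ' ⇑(x * y)) := by
      rintro x ⟨c, hc, e | e⟩ y ⟨a1, a2, a3⟩
      · refine ⟨fun v h1 h2 => by simp [mul_app, e, a1 v h1 h2, h1], fun v => ?_, ?_⟩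
        · rw [mul_app, e, add_sub_right_comm]
          exact add_mem (a2 v) (Submodule.mem_sup_left (Submodule.smul_mem _ _ ⟨_, rfl⟩))
        · rw [show ⇑(x * y) = fun v => y v + c • θ (y v) from funext fun v => e _]
          exact a3.left q1 hc
      · refine ⟨fun v h1 h2 => by simp [mul_app, e, a1 v h1 h2, h2], fun v => ?_, ?_⟩
        · rw [mul_app, e, add_sub_right_comm]
          exact add_mem (a2 v) (Submodule.mem_sup_right (Submodule.smul_mem _ _ ⟨_, rfl⟩))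
        · rw [show ⇑(x * y) = fun v => y v + c • θ' (y v) from funext fun v => e _]
          exact a3.left' k1 k2 q1 q2 hc
    induction hγ using Subgroup.closure_induction_left with
    | one => exact ⟨fun _ _ _ => rfl, fun v => by simp [one_app],
        _, _, _, _, qc_id, qc_zero, qc_zero, qc_zero, fun v => by simp [one_app]⟩
    | mul_left x hx y _ ih => exact step x hx y ih
    | inv_mul_cancel x hx y _ ih =>
      refine step x⁻¹ ?_ y ih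
      obtain ⟨c, hc, e | e⟩ := hx
      · exact ⟨-c, by rw [map_neg, hc], Or.inl fun v => by
          rw [inv_apply_of_unip (A := c • θ) (fun v => by simp [q1]) e]; simp [sub_eq_add_neg]⟩
      · exact ⟨-c, by rw [map_neg, hc], Or.inr fun v => by
          rw [inv_apply_of_unip (A := c • θ') (fun v => by simp [q2]) e]; simp [sub_eq_add_neg]⟩
  have hJ0 : ∀ x ∈ J, θ x = 0 ∧ θ' x = 0 := by
    rintro _ ⟨⟨a, rfl⟩, b, hb⟩
    exact ⟨q1 a, hb ▸ q2 b⟩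
  have f1 : ∀ v ∈ LinearMap.range θ, θ' v ∈ J → v ∈ J := fun v hv =>
    D.fact h hg M.one_mem (by simpa using hg') rfl inf_le_right inf_le_left hv
  have hLJ : ¬ LinearMap.range θ ≤ J := fun hc => hg' (D.mem_of_map_eq hg (hc.trans inf_le_right))
  have unit : ∀ c, Φ.σ c = c → ∃ x ∈ Γ, ∀ v, x v = v + c • θ v := fun c hc =>
    ⟨unip (c • θ) fun v => by simp [q1], Subgroup.subset_closure ⟨c, hc, Or.inl fun _ => rfl⟩,
      fun _ => rfl⟩
  by_contra hcon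
  push Not at hcon
  have A : ∀ γ ∈ Γ, γ ∈ H → ∃ c, Φ.σ c = c ∧ ∀ v, γ v = v + c • θ v := fun γ hγ hγH => by
    obtain ⟨a1, a2, r₀, r₁, r₂, r₃, b₀, -, b₂, b₃, e⟩ := hΓ γ hγ
    obtain ⟨c1, c2⟩ := hcon γ hγH a1 a2
    by_cases hs : ∀ v, γ (θ v) ∈ LinearMap.range θ
    · by_contra hn
      push Not at hn
      have b₄ := b₀.add (b₃.eta k1 k2 q1 q2)
      have e1 : ∀ v, γ (θ v) = (r₀ + r₃ ∘ₗ (θ ∘ₗ θ' + θ' ∘ₗ θ)) (θ v) + θ' (θ (r₂ v)) := fun v => by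
        simp [e, q1, b₂.c, b₂.c', add_right_comm]
      have e2 : ∀ v, θ' (θ (r₂ v)) = 0 := fun v =>
        (hJ0 _ (f1 _ ⟨_, rfl⟩ ⟨by
          have := sub_mem (hs v) ⟨_, (b₄.c v).symm⟩
          rwa [e1, add_sub_cancel_left] at this, _, rfl⟩)).2
      obtain ⟨x, y, hxy⟩ := c1 hs hn
      exact hxy (by rw [e1, e1, e2, e2, add_zero, add_zero, b₄.sa, k1, b₄.c])
    · obtain ⟨z, hz, ez⟩ := unit 1 (map_one _)
      obtain ⟨-, -, s₀, s₁, s₂, s₃, d₀, d₁, d₂, d₃, e'⟩ :=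
        hΓ _ (Γ.mul_mem (Γ.mul_mem hγ hz) (Γ.inv_mem hγ))
      have k3 := k1.cjL (D.iso (D.le hγH))
      have e1 : ∀ v, cjL γ θ v = s₀ v - v + s₁ (θ v) + s₂ (θ' v) + s₃ (θ (θ' v)) := fun v => by
        have := e' v
        rw [mul_app, mul_app, ez, one_smul, map_add, app_inv_app, ← cjL_apply] at this
        rw [eq_sub_of_add_eq' this]; abel
      have e2 : ∀ v, s₀ v - v + (s₀ v - v) + s₃ (θ (θ' v) + θ' (θ v)) = 0 := fun v =>
        Φ.nondeg _ fun y => by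
          have := k3 v y
          rw [e1, e1] at this
          simp only [map_add s₃, Φ.bsimp, d₀.sa, d₁.sa, d₂.sa, d₃.sa, k1 _ _, k2 _ _] at this ⊢
          simp only [d₁.c, d₂.c', d₃.c, d₃.c'] at this
          linear_combination this
      have e3 : ∀ v, θ (cjL γ θ v) + cjL γ θ (θ v) = s₂ (θ (θ' v) + θ' (θ v)) := fun v => by
        have := e2 (θ v)
        simp only [e1, map_add, map_sub, ← d₀.c, ← d₁.c, ← d₂.c, ← d₃.c, q1, map_zero] at this ⊢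
        linear_combination (norm := module) this
      obtain ⟨v, hv⟩ := c2 (by simpa using hs)
      exact absurd (by rw [e3, e3, ← d₂.c']; simp [q2]) hv
  let Z : Subgroup Γ :=
    { carrier := {x | ∃ c, Φ.σ c = c ∧ ∀ v, x.1 v = v + c • θ v}
      one_mem' := ⟨0, map_zero _, fun v => by simp [one_app]⟩
      mul_mem' := by
        rintro x y ⟨c, hc, e⟩ ⟨d, hd, e'⟩
        exact ⟨c + d, by rw [map_add, hc, hd], fun v => by
          rw [Subgroup.coe_mul, mul_app, e, e']; simp [q1, add_smul]; abel⟩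
      inv_mem' := by
        rintro x ⟨c, hc, e⟩
        exact ⟨-c, by rw [map_neg, hc], fun v => by
          rw [Subgroup.coe_inv, inv_apply_of_unip (A := c • θ) (fun v => by simp [q1]) e]
          simp [sub_eq_add_neg]⟩ }
  have ZH : ∀ x ∈ Z, x.1 ∈ H := by
    rintro x ⟨c, hc, e⟩
    obtain ⟨y, hy, e'⟩ := D.has c hc
    rwa [show x.1 = y from LinearEquiv.ext fun v => by rw [e, e']; rfl]
  obtain ⟨v₀, hv₀⟩ : ∃ v, θ v ≠ 0 := by
    by_contra hc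
    push Not at hc
    exact hLJ (by rintro _ ⟨v, rfl⟩; rw [hc]; exact J.zero_mem)
  have ne1 : ∀ {x : Γ} {c : F}, (∀ v, x.1 v = v + c • θ v) → (x ≠ 1 ↔ c ≠ 0) := fun {x c} e =>
    not_congr ⟨fun h => by simpa [h, one_app, hv₀] using e v₀,
      fun h => Subtype.ext (LinearEquiv.ext fun v => by simp [e, h, one_app])⟩
  have cjZ : ∀ (γ z : Γ) (c : F), (∀ v, z.1 v = v + c • θ v) →
      ∀ v, (γ * z * γ⁻¹).1 v = v + c • cjL γ θ v := fun γ z c e v => by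
    simp [mul_app, e, cjL_apply]
  obtain ⟨l, l1, l2, l3⟩ := h3
  obtain ⟨x, hx, ex⟩ := unit 1 (map_one _)
  obtain ⟨x', hx', ex'⟩ := unit l l1
  obtain ⟨γ, hγ, z, ⟨c, hc, ez⟩, z1, δ, y, ⟨d, hd, ey⟩, e⟩ := frob_count (Z := Z)
    ⟨⟨unip θ' q2, Subgroup.subset_closure ⟨1, map_one _, Or.inr fun v => by simp [unip_apply]⟩⟩,
      fun hc => hg' (D.conj g hg 1 (map_one _) one_ne_zero ⟨_, ZH _ hc, fun v => by
        simp [unip_apply, hθ']⟩)⟩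
    (x := ⟨x, hx⟩) (x' := ⟨x', hx'⟩) ⟨1, map_one _, ex⟩ ((ne1 ex).2 one_ne_zero) ⟨l, l1, ex'⟩
    ((ne1 ex').2 l2) (fun h => l3 (smul_left_injective F hv₀ (by
      have := congrArg (fun t : Γ => t.1 v₀) h
      simpa [ex, ex'] using this.symm)))
    (fun γ z ⟨c, hc, ez⟩ z1 hz => A _ γ.2 (D.conj _ (hΓM γ.2) c hc ((ne1 ez).1 z1)
      ⟨_, ZH _ hz, cjZ γ z c ez⟩))
  have hγH : γ.1 ∉ H := fun hc => hγ (A _ γ.2 hc)
  have hγM := hΓM γ.2
  have k3 := k1.cjL (D.iso hγM)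
  have k4 := (k1.cjL (D.iso (hΓM δ.2))).smul hd
  have e1 : ∀ v, (d • cjL δ θ) v = c • cjL γ θ v + θ v + c • θ (cjL γ θ v) := fun v => by
    have := congrArg (fun t : Γ => t.1 v) e
    change ((⟨x, hx⟩ * (γ * z * γ⁻¹) : Γ)).1 v = (δ * y * δ⁻¹).1 v at this
    rw [cjZ δ y d ey, Subgroup.coe_mul, mul_app, cjZ γ z c ez, ex] at this
    rw [LinearMap.smul_apply, eq_sub_of_add_eq' this.symm]
    simp
    abel
  have e3 : ∀ v, θ (cjL γ θ v) + cjL γ θ (θ v) = 0 := fun v => Φ.nondeg _ fun y => by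
    have := k4 v y
    rw [e1, e1] at this
    simp only [Φ.bsimp, k1 _ _, k3 _ _, hc] at this ⊢
    exact mul_left_cancel₀ ((ne1 ez).1 z1) (by linear_combination this)
  have e2 : ∀ v, θ (cjL γ θ (θ v)) = 0 := fun v => by simpa [q1] using e3 (θ v)
  have hJγ : J ≤ LinearMap.range (cjL γ θ) := fun x hx => by
    rw [range_cjL]
    exact ⟨x, hx.1, (hΓ γ γ.2).1 x (hJ0 x hx).1 (hJ0 x hx).2⟩
  refine hLJ ?_
  rintro _ ⟨v, rfl⟩
  exact D.fact h hγM M.one_mem (by simpa using hγH) rfl hJγ inf_le_left ⟨_, rfl⟩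
    (D.fact h M.one_mem hγM (by simpa using hγH) rfl inf_le_left hJγ ⟨_, rfl⟩
      (by rw [cjL_one, e2]; exact J.zero_mem))

end Fm

end Cfsg.Agent.Class.Max
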