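import Mathlib
import Cfsg.Agent.Class.Max.Quad
import Cfsg.Agent.Class.Max.C3Fm

/-!
Tensor products of formed spaces: the stabiliser of `U ⊗ w` in an overgroup of the tensor product
subgroup.
-/

set_option autoImplicit false
set_option linter.unusedSectionVars false

namespace Cfsg.Agent.Class.Max

open Module

namespace Fm

variable {F V : Type*} [Field F] [AddCommGroup V] [Module F V] (Φ : Fm F V)

/-- `Q` is determined by `B`. -/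
def TV : Prop := ∀ c, c + Φ.ε * Φ.σ c = 0 → Φ.π c = 0

variable {Φ}

theorem TV.Q_eq (h : Φ.TV) {x y : V} (e : Φ.B x x = Φ.B y y) : Φ.Q x = Φ.Q y := by
  obtain ⟨c, hc⟩ := Φ.range x
  obtain ⟨d, hd⟩ := Φ.range y
  have := h (c - d) (by
    rw [map_sub]; linear_combination Φ.trace c x hc - Φ.trace d y hd + e)
  rwa [map_sub, hc, hd, sub_eq_zero] at this

theorem TV.Q_zero (h : Φ.TV) {x : V} (e : Φ.B x x = 0) : Φ.Q x = 0 := by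
  rw [h.Q_eq (y := 0) (by simp [e]), Φ.Q_zero]

theorem TV.mem_Iso (h : Φ.TV) {g : V ≃ₗ[F] V} (e : ∀ x y, Φ.B (g x) (g y) = Φ.B x y) :
    g ∈ Φ.Iso := ⟨e, fun x => h.Q_eq (e x x)⟩

variable [FiniteDimensional F V] (Φ)

/-- The adjoint of a linear map. -/
noncomputable def adj (b : V →ₗ[F] V) : V →ₗ[F] V where
  toFun x := (Φ.exists_eq_dual (Φ.B x ∘ₗ b)).choose
  map_add' x y := Φ.eq_of_B_eq fun z => by
    simp only [Φ.B_add_left, (Φ.exists_eq_dual _).choose_spec, LinearMap.comp_apply]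
  map_smul' c x := Φ.eq_of_B_eq fun z => by
    simp only [Φ.B_smul_left, (Φ.exists_eq_dual _).choose_spec, LinearMap.comp_apply,
      RingHom.id_apply]

theorem B_adj (b : V →ₗ[F] V) (x y : V) : Φ.B (Φ.adj b x) y = Φ.B x (b y) :=
  LinearMap.congr_fun (Φ.exists_eq_dual (Φ.B x ∘ₗ b)).choose_spec y

theorem B_adj' (b : V →ₗ[F] V) (x y : V) : Φ.B x (Φ.adj b y) = Φ.B (b x) y := by
  rw [Φ.symm, B_adj, ← Φ.symm]

variable {Φ} in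
theorem adj_eq {b : V →ₗ[F] V} {x z : V} (h : ∀ y, Φ.B z y = Φ.B x (b y)) : Φ.adj b x = z :=
  Φ.eq_of_B_eq fun y => by rw [B_adj, h]

theorem adj_adj (b : V →ₗ[F] V) : Φ.adj (Φ.adj b) = b :=
  LinearMap.ext fun _ => adj_eq fun y => by rw [B_adj']

theorem adj_add (b c : V →ₗ[F] V) : Φ.adj (b + c) = Φ.adj b + Φ.adj c :=
  LinearMap.ext fun _ => adj_eq fun y => by simp [B_adj]

theorem adj_sub (b c : V →ₗ[F] V) : Φ.adj (b - c) = Φ.adj b - Φ.adj c :=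
  LinearMap.ext fun _ => adj_eq fun y => by simp [B_adj]

theorem adj_neg (b : V →ₗ[F] V) : Φ.adj (-b) = -Φ.adj b :=
  LinearMap.ext fun _ => adj_eq fun y => by simp [B_adj]

theorem adj_zero : Φ.adj 0 = 0 := LinearMap.ext fun _ => adj_eq fun y => by simp

theorem adj_smul (a : F) (b : V →ₗ[F] V) : Φ.adj (a • b) = Φ.σ a • Φ.adj b :=
  LinearMap.ext fun _ => adj_eq fun y => by simp [B_adj, Φ.invol]

theorem adj_comp (b c : V →ₗ[F] V) : Φ.adj (b ∘ₗ c) = Φ.adj c ∘ₗ Φ.adj b :=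
  LinearMap.ext fun _ => adj_eq fun y => by simp [B_adj]

theorem adj_id : Φ.adj LinearMap.id = LinearMap.id := LinearMap.ext fun _ => adj_eq fun y => rfl

theorem adj_smulRight (x z : V) : Φ.adj ((Φ.B z).smulRight x) = Φ.ε • (Φ.B x).smulRight z :=
  LinearMap.ext fun v => adj_eq fun y => by
    simp only [LinearMap.smul_apply, LinearMap.smulRight_apply, Φ.bsimp, Φ.symm x v]
    ring

variable {Φ} in
theorem adj_cjL {g : V ≃ₗ[F] V} (hg : g ∈ Φ.Iso) (b : V →ₗ[F] V) :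
    Φ.adj (cjL g b) = cjL g (Φ.adj b) :=
  LinearMap.ext fun _ => adj_eq fun y => by
    rw [cjL_apply, cjL_apply, ← Iso.B_inv hg, B_adj, Iso.B_inv_left hg]

end Fm

variable {F U W V : Type*} [Field F] [AddCommGroup U] [Module F U] [AddCommGroup W]
  [Module F W] [AddCommGroup V] [Module F V]

namespace Tn

variable (T : Tn F U W V)

theorem finrank_ts [FiniteDimensional F U] [FiniteDimensional F W] (Y : Submodule F W) :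
    finrank F (T.ts Y) = finrank F U * finrank F Y := by
  have h1 : T.ts Y = LinearMap.range (T.e.toLinearMap ∘ₗ Y.subtype.lTensor U) := by
    refine le_antisymm (T.ts_le fun u y hy => ⟨u ⊗ₜ ⟨y, hy⟩, rfl⟩) ?_
    rintro _ ⟨t, rfl⟩
    induction t using TensorProduct.induction_on with
    | zero => simp
    | tmul u y => exact T.tm_mem_ts u y.2
    | add x y hx hy => rw [map_add]; exact add_mem hx hy
  rw [h1, LinearMap.finrank_range_of_inj (f := T.e.toLinearMap ∘ₗ Y.subtype.lTensor U)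
    (T.e.injective.comp (Module.Flat.lTensor_preserves_injective_linearMap _ Y.injective_subtype)),
    finrank_tensorProduct]

theorem range_krL (η : W →ₗ[F] W) :
    LinearMap.range (T.krL LinearMap.id η) = T.ts (LinearMap.range η) := by
  refine le_antisymm ?_ (T.ts_le ?_)
  · rintro _ ⟨v, rfl⟩
    exact T.krL_mem_ts _ (LinearMap.mem_range_self η) v
  · rintro u _ ⟨y, rfl⟩
    exact ⟨T.tm u y, by simp⟩

/-- An element `a ⊗ d` fixing `U ⊗ y` modulo `U ⊗ Y` has `a` scalar. -/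
theorem smul_of_fix [FiniteDimensional F W] {a : U ≃ₗ[F] U} {d : W ≃ₗ[F] W} {Y : Submodule F W}
    {y : W} (hy : y ∉ Y) (h : ∀ u, T.kr a d (T.tm u y) - T.tm u y ∈ T.ts Y) :
    ∃ c : F, ∀ u, a u = c • u := by
  obtain ⟨φ, h1, h2⟩ := exists_dual_one Y hy
  have h3 : ∀ u, φ (d y) • a u = u := fun u => by
    simpa [h2, sub_eq_zero] using T.mem_ts_iff.1 (h u) φ h1
  refine ⟨(φ (d y))⁻¹, fun u => ?_⟩
  by_cases h4 : φ (d y) = 0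
  · rw [← h3 u, h4]; simp
  · rw [eq_inv_smul_iff₀ h4, h3]

end Tn

/-- The formed space `Φ` is the tensor product of `Φ₁` and `Φ₂`. -/
structure TF (T : Tn F U W V) (Φ₁ : Fm F U) (Φ₂ : Fm F W) (Φ : Fm F V) : Prop where
  σ₁ : ∀ a, Φ₁.σ a = Φ.σ a
  σ₂ : ∀ a, Φ₂.σ a = Φ.σ a
  ε : Φ.ε = Φ₁.ε * Φ₂.ε
  B : ∀ u w u' w', Φ.B (T.tm u w) (T.tm u' w') = Φ₁.B u u' * Φ₂.B w w'
  Q : ∃ κ, ∀ u w, Φ.Q (T.tm u w) = κ * (Φ₁.B u u * Φ₂.B w w)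
  tv₁ : Φ₁.TV
  tv₂ : Φ₂.TV
  ne₁ : ∃ u : U, u ≠ 0
  ne₂ : ∃ w : W, w ≠ 0

/-- `x` acts on `(U ⊗ w)^⊥` as `1 + A ⊗ w`. -/
def Tn.Gen (T : Tn F U W V) (Φ₂ : Fm F W) (M : Subgroup (V ≃ₗ[F] V)) (w : W) (A : V →ₗ[F] U) :
    Prop :=
  (∀ u, A (T.tm u w) = 0) ∧ ∃ x ∈ M, ∀ v, T.cR (Φ₂.B w) v = 0 → x v = v + T.tm (A v) w

namespace TF

variable {T : Tn F U W V} {Φ₁ : Fm F U} {Φ₂ : Fm F W} {Φ : Fm F V} (hT : TF T Φ₁ Φ₂ Φ)
include hT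

theorem swap : TF T.swap Φ₂ Φ₁ Φ :=
  ⟨hT.σ₂, hT.σ₁, by rw [hT.ε, mul_comm], fun w u w' u' => by simp [hT.B, mul_comm],
    hT.Q.imp fun κ h w u => by simp [h, mul_comm], hT.tv₂, hT.tv₁, hT.ne₂, hT.ne₁⟩

theorem σ₁₂ (a : F) : Φ₂.σ a = Φ₁.σ a := by rw [hT.σ₁, hT.σ₂]

theorem B_tm (u : U) (w : W) (v : V) : Φ.B (T.tm u w) v = Φ₁.B u (T.cR (Φ₂.B w) v) :=
  T.ext (f := Φ.B (T.tm u w)) (g := Φ₁.B u ∘ₗ T.cR (Φ₂.B w)) (fun u' w' => by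
    simp [hT.B, mul_comm]) v

theorem Q_tm (u : U) {w : W} (hw : Φ₂.Q w = 0) : Φ.Q (T.tm u w) = 0 := by
  obtain ⟨κ, h⟩ := hT.Q
  simp [h, Φ₂.B_self hw]

theorem exists_B_one : ∃ u u', Φ₁.B u u' = 1 := by
  obtain ⟨u, hu⟩ := hT.ne₁
  obtain ⟨y, hy⟩ := Φ₁.exists_B_ne hu
  exact ⟨u, (Φ₁.B u y)⁻¹ • y, by simp [hy]⟩

theorem cR_eq_zero {w : W} {v : V} (h : ∀ u, Φ.B (T.tm u w) v = 0) : T.cR (Φ₂.B w) v = 0 :=
  Φ₁.nondeg _ fun u => Φ₁.perp_symm (by rw [← hT.B_tm, h])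

theorem sing_of_perp {w : W} (h : ∀ u u', Φ.B (T.tm u w) (T.tm u' w) = 0) : Φ₂.Q w = 0 := by
  obtain ⟨u, u', e⟩ := hT.exists_B_one
  exact hT.tv₂.Q_zero (by simpa [hT.B, e] using h u u')

theorem kr_Iso {a : U ≃ₗ[F] U} {d : W ≃ₗ[F] W} (h : ∀ u u' w w',
    Φ₁.B (a u) (a u') * Φ₂.B (d w) (d w') = Φ₁.B u u' * Φ₂.B w w') : T.kr a d ∈ Φ.Iso := by
  have h1 : ∀ x y, Φ.B (T.kr a d x) (T.kr a d y) = Φ.B x y := fun x y =>
    T.induction (p := fun x => Φ.B (T.kr a d x) (T.kr a d y) = Φ.B x y) (by simp)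
      (fun u w => T.ext (f := Φ.B (T.kr a d (T.tm u w)) ∘ₗ (T.kr a d).toLinearMap)
        (g := Φ.B (T.tm u w)) (fun u' w' => by simp [hT.B, h]) y)
      (fun x x' hx hx' => by simp [hx, hx']) x
  obtain ⟨κ, hκ⟩ := hT.Q
  exact ⟨h1, T.induction (p := fun x => Φ.Q (T.kr a d x) = Φ.Q x) (by simp)
    (fun u w => by simp [hκ, h]) fun x y hx hy => by rw [map_add, Φ.add, Φ.add, hx, hy, h1]⟩

theorem krR_Iso {d : W ≃ₗ[F] W} (hd : d ∈ Φ₂.Iso) : T.krR d ∈ Φ.Iso :=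
  hT.kr_Iso fun u u' w w' => by rw [hd.1]; rfl

theorem B_of_krR {d : W ≃ₗ[F] W} (hd : T.krR d ∈ Φ.Iso) : d ∈ Φ₂.Iso := by
  obtain ⟨u, u', e⟩ := hT.exists_B_one
  exact hT.tv₂.mem_Iso fun x y => by simpa [hT.B, e] using hd.1 (T.tm u x) (T.tm u' y)

omit hT in
theorem krR_ef {τ : W ≃ₗ[F] W} {w y : W} {c : F} (e : ∀ x, τ x = Φ₂.ef w y c x) (v : V) :
    T.krR τ v = v + T.tm (T.cR (Φ₂.B w) v) y -
      T.tm (Φ₂.ε • (T.cR (Φ₂.B y) v + c • T.cR (Φ₂.B w) v)) w :=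
  T.ext (f := (T.krR τ).toLinearMap) (g := LinearMap.id + T.xl LinearMap.id y (Φ₂.B w) -
    T.tm.flip w ∘ₗ (Φ₂.ε • (T.cR (Φ₂.B y) + c • T.cR (Φ₂.B w)))) (fun u x => by
      simp only [LinearEquiv.coe_coe, Tn.krR_tm, e, Fm.ef, map_sub, map_add, map_smul,
        LinearMap.sub_apply, LinearMap.add_apply, LinearMap.smul_apply, LinearMap.comp_apply,
        LinearMap.flip_apply, Tn.xl_apply, Tn.cR_tm, LinearMap.id_apply]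
      module) v

theorem cR_krR_iso {τ : W ≃ₗ[F] W} (hτ : τ ∈ Φ₂.Iso) (w : W) (v : V) :
    T.cR (Φ₂.B (τ w)) (T.krR τ v) = T.cR (Φ₂.B w) v := by
  rw [T.cR_krR]
  congr 2
  exact LinearMap.ext fun y => hτ.1 w y

variable [FiniteDimensional F U] [FiniteDimensional F W] [FiniteDimensional F V]

theorem mem_ts_perp {Y : Submodule F W} {v : V} :
    v ∈ T.ts (Φ₂.perp Y) ↔ ∀ y ∈ Y, T.cR (Φ₂.B y) v = 0 := by
  rw [T.mem_ts_iff]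
  refine ⟨fun h y hy => h _ fun z hz => hz y hy, fun h φ hφ => ?_⟩
  obtain ⟨y, rfl⟩ := Φ₂.exists_eq_dual φ
  exact h y (Φ₂.perp_perp Y ▸ fun z hz => Φ₂.perp_symm (hφ z hz))

theorem eq_on_perp {X : Type*} [AddCommGroup X] [Module F X] {f g : V →ₗ[F] X} {w : W}
    (h : ∀ u y, Φ₂.B w y = 0 → f (T.tm u y) = g (T.tm u y)) {v : V}
    (hv : T.cR (Φ₂.B w) v = 0) : f v = g v :=
  sub_eq_zero.1 (T.eq_zero_on_ts (f := f - g) (Y := Φ₂.perp (Submodule.span F {w}))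
    (fun u y hy => sub_eq_zero.2 (h u y (Φ₂.mem_perp_span_singleton.1 hy)))
    (hT.mem_ts_perp.2 fun y hy => by
      obtain ⟨c, rfl⟩ := Submodule.mem_span_singleton.1 hy
      rw [map_smulₛₗ, map_smul, LinearMap.smul_apply, hv, smul_zero]))

theorem mem_sp_of {w : W} {v : V} (h : ∀ y, Φ₂.B w y = 0 → T.cR (Φ₂.B y) v = 0) : v ∈ T.sp w :=
  T.mem_sp_iff.2 fun φ hφ => by
    obtain ⟨y, rfl⟩ := Φ₂.exists_eq_dual φ
    exact h y (Φ₂.perp_symm hφ)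

theorem cR_of_fix {x : V ≃ₗ[F] V} (hx : x ∈ Φ.Iso) {w : W} (h : ∀ u, x (T.tm u w) = T.tm u w)
    (v : V) : T.cR (Φ₂.B w) (x v - v) = 0 :=
  hT.cR_eq_zero fun u => by rw [map_sub, ← hx.1 _ v, h, sub_self]

/-- The unipotent radical of the stabiliser of `U ⊗ w`. -/
theorem mem_EG_of_unip {x : V ≃ₗ[F] V} (hx : x ∈ Φ.Iso) {w : W} (hw : Φ₂.Q w = 0)
    (h1 : ∀ u, x (T.tm u w) = T.tm u w) (h2 : ∀ v, T.cR (Φ₂.B w) v = 0 → x v - v ∈ T.sp w) :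
    x ∈ Φ.EG := by
  have k : ∀ v, v ∈ Φ.perp (T.sp w) ↔ T.cR (Φ₂.B w) v = 0 := fun v =>
    ⟨fun h => hT.cR_eq_zero fun u => h _ (T.tm_mem_sp u w), by
      rintro h _ ⟨u, rfl⟩
      exact (hT.B_tm u w v).trans (by rw [h, map_zero])⟩
  refine Fm.mem_of_unip (E := T.sp w) (Y := Φ.perp (T.sp w)) ?_ ?_ (fun b hb y hy => hy b hb)
    (fun _ _ _ _ _ hv => hv.hasE) _ _ rfl le_rfl x hx (fun v => (k _).2 (hT.cR_of_fix hx h1 v))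
    fun v hv => h2 v ((k v).1 hv)
  · rintro _ ⟨u, rfl⟩
    exact (k _).2 (by simp [Φ₂.B_self hw])
  · rintro _ ⟨u, rfl⟩
    exact hT.Q_tm u hw

theorem krR_EG {τ : W ≃ₗ[F] W} (hτ : τ ∈ Φ₂.EG) : T.krR τ ∈ Φ.EG :=
  Fm.EG_le (M := Φ.EG.comap T.krR) (fun w y c hv => ⟨hv.eich,
    hT.mem_EG_of_unip (hT.krR_Iso (hv.mem_Iso hv.eich_apply)) hv.sing
      (fun u => by rw [Tn.krR_tm, hv.eich_apply, hv.ef_self]) (fun v h => by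
        rw [krR_ef hv.eich_apply, h]
        simpa using (T.sp w).smul_mem _ (T.tm_mem_sp _ w)), hv.eich_apply⟩) hτ

variable {M : Subgroup (V ≃ₗ[F] V)}

theorem krR_mem (hH : T.NG ⊓ Φ.EG ≤ M) {τ : W ≃ₗ[F] W} (hτ : τ ∈ Φ₂.EG) : T.krR τ ∈ M :=
  hH ⟨T.krR_mem τ, hT.krR_EG hτ⟩

theorem krL_mem (hH : T.NG ⊓ Φ.EG ≤ M) {a : U ≃ₗ[F] U} (ha : a ∈ Φ₁.EG) : T.kr a 1 ∈ M :=
  hH ⟨T.kr_mem a 1, T.swap_kr a 1 ▸ hT.swap.krR_EG ha⟩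

/-- An isometry fixing `(U ⊗ w)^⊥` pointwise. -/
theorem exists_nu {g : V ≃ₗ[F] V} (hg : g ∈ Φ.Iso) {w : W} (hw0 : w ≠ 0)
    (h : ∀ v, T.cR (Φ₂.B w) v = 0 → g v = v) : ∃ C, ∀ v, g v = v + T.xl C w (Φ₂.B w) v := by
  obtain ⟨φ, hφ⟩ := exists_dual_eq_one (F := F) hw0
  obtain ⟨y, hy⟩ := Φ₂.exists_B_ne hw0
  let w' := (Φ₂.B w y)⁻¹ • y
  have e1 : Φ₂.B w w' = 1 := by simp [w', hy]
  refine ⟨T.cR φ ∘ₗ (g.toLinearMap - LinearMap.id) ∘ₗ T.tm.flip w', fun v => ?_⟩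
  obtain ⟨u, hu⟩ : g (T.tm (T.cR (Φ₂.B w) v) w') - T.tm (T.cR (Φ₂.B w) v) w' ∈ T.sp w :=
    hT.mem_sp_of fun z hz => hT.cR_eq_zero fun u => by
      rw [map_sub, ← hg.1 _ (T.tm _ w'), h (T.tm u z) (by simp [hz]), sub_self]
  have := h (v - T.tm (T.cR (Φ₂.B w) v) w') (by simp [e1])
  rw [map_sub, sub_eq_iff_eq_add] at this
  change T.tm u w = _ at hu
  change _ = v + T.tm (T.cR φ (g (T.tm (T.cR (Φ₂.B w) v) w') - T.tm (T.cR (Φ₂.B w) v) w')) w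
  rw [this, ← hu, Tn.cR_tm, hφ, one_smul, hu]
  abel

theorem exists_gen {x : V ≃ₗ[F] V} (hx : x ∈ M) {w : W} (hw0 : w ≠ 0)
    (h1 : ∀ u, x (T.tm u w) = T.tm u w) (h2 : ∀ v, T.cR (Φ₂.B w) v = 0 → x v - v ∈ T.sp w) :
    ∃ A : V →ₗ[F] U, T.Gen Φ₂ M w A ∧ ∀ v, T.cR (Φ₂.B w) v = 0 → x v = v + T.tm (A v) w := by
  obtain ⟨φ, hφ⟩ := exists_dual_eq_one (F := F) hw0
  have k : ∀ v, T.cR (Φ₂.B w) v = 0 → x v = v + T.tm (T.cR φ (x v - v)) w := fun v hv => by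
    obtain ⟨u, hu⟩ := h2 v hv
    change T.tm u w = _ at hu
    rw [← hu, Tn.cR_tm, hφ, one_smul, hu, add_sub_cancel]
  let A : V →ₗ[F] U := T.cR φ ∘ₗ (x.toLinearMap - LinearMap.id)
  have eA : ∀ v, A v = T.cR φ (x v - v) := fun _ => rfl
  simp only [← eA] at k
  exact ⟨A, ⟨fun u => by rw [eA, h1, sub_self, map_zero], x, hx, k⟩, k⟩

theorem gen_cR (hH : T.NG ⊓ Φ.EG ≤ M) {w y : W} (hw : Φ₂.Q w = 0) (hy : Φ₂.B w y = 0) :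
    ∃ τ ∈ Φ₂.EG, τ w = w ∧
      ∀ v, T.cR (Φ₂.B w) v = 0 → T.krR τ v = v + T.tm (T.cR (Φ₂.B y) v) w := by
  obtain ⟨c, hv⟩ := Fm.exists_valid (w := -(Φ₂.ε • y)) hw (by simp [hy])
  refine ⟨hv.eich, hv.eich_mem, hv.ef_self, fun v h => ?_⟩
  rw [krR_ef hv.eich_apply, h]
  simp [smul_smul, Φ₂.σ_eps, Φ₂.eps_sq]

variable (T Φ₂) in
omit hT in
/-- The part of `M` in the unipotent radical of the stabiliser of `U ⊗ w` comes from `W`. -/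
structure Loc (M : Subgroup (V ≃ₗ[F] V)) (w : W) : Prop where
  A : ∀ A, T.Gen Φ₂ M w A → ∀ y, Φ₂.B w y = 0 → ∃ c : F, ∀ u, A (T.tm u y) = c • u
  Z : ∀ C, HasU M (T.xl C w (Φ₂.B w)) → ∃ c : F, ∀ u, C u = c • u

theorem Loc.exists_cR {w : W} (hL : Loc T Φ₂ M w) {A : V →ₗ[F] U} (hA : T.Gen Φ₂ M w A) :
    ∃ y, Φ₂.B w y = 0 ∧ ∀ v, T.cR (Φ₂.B w) v = 0 → A v = T.cR (Φ₂.B y) v := by
  obtain ⟨u₀, hu₀⟩ := hT.ne₁
  obtain ⟨α, hα⟩ := exists_dual_eq_one (F := F) hu₀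
  obtain ⟨y, hy⟩ := Φ₂.exists_eq_dual (α ∘ₗ A ∘ₗ T.tm u₀)
  refine ⟨y, Φ₂.perp_symm (by simp [hy, hA.1]), fun v => hT.eq_on_perp fun u z hz => ?_⟩
  obtain ⟨c, hc⟩ := hL.A A hA z hz
  simp [hy, hc, hα]

theorem Loc.mem_NG_of_unip (hH : T.NG ⊓ Φ.EG ≤ M) (hG : M ≤ Φ.Iso) {w : W} (hw : Φ₂.Q w = 0)
    (hw0 : w ≠ 0) (hL : Loc T Φ₂ M w) {x : V ≃ₗ[F] V} (hx : x ∈ M)
    (h1 : ∀ u, x (T.tm u w) = T.tm u w) (h2 : ∀ v, T.cR (Φ₂.B w) v = 0 → x v - v ∈ T.sp w) :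
    x ∈ T.NG := by
  obtain ⟨A, hA, e⟩ := hT.exists_gen hx hw0 h1 h2
  obtain ⟨y, hy, e'⟩ := hL.exists_cR hT hA
  obtain ⟨τ, hτ, -, eτ⟩ := hT.gen_cR hH hw hy
  have h3 := M.mul_mem (M.inv_mem (hT.krR_mem hH hτ)) hx
  obtain ⟨C, hC⟩ := hT.exists_nu (hG h3) hw0 fun v hv => (T.krR τ).injective (by
    rw [mul_app, app_inv_app, e v hv, eτ v hv, e' v hv])
  obtain ⟨c, hc⟩ := hL.Z C ⟨_, h3, hC⟩
  have h4 : (T.krR τ)⁻¹ * x = T.krR (unip ((c • Φ₂.B w).smulRight w) fun v => by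
      simp [Φ₂.B_self hw]) := LinearEquiv.ext fun v => by
    rw [hC, T.krR_apply_of_tv (φ := c • Φ₂.B w) (w := w) fun _ => rfl]
    simp [Tn.xl_apply, hc]
  rw [inv_mul_eq_iff_eq_mul.1 h4]
  exact T.NG.mul_mem (T.krR_mem _) (T.krR_mem _)

/-- The stabiliser of `U ⊗ w`. -/
theorem Loc.mem_NG_of_stab (hH : T.NG ⊓ Φ.EG ≤ M) (hG : M ≤ Φ.EG) (h3 : 3 ≤ finrank F W) {w : W}
    (hw : Φ₂.Q w = 0) (hw0 : w ≠ 0) (hL : Loc T Φ₂ M w) {h : V ≃ₗ[F] V} (hh : h ∈ M)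
    (hE : ∀ u, h (T.tm u w) ∈ T.sp w) : h ∈ T.NG := by
  have hI := hG.trans Φ.EG_le_Iso
  obtain ⟨a, ea⟩ := T.exists_left (h := h) hw0 (by rintro _ ⟨u, rfl⟩; exact hE u)
  have ea' : ∀ u, h⁻¹ (T.tm u w) = T.tm (a⁻¹ u) w := fun u => h.injective (by simp [ea])
  have p1 : ∀ v, T.cR (Φ₂.B w) v = 0 → T.cR (Φ₂.B w) (h v) = 0 := fun v hv =>
    hT.cR_eq_zero fun u => by rw [← Fm.Iso.B_inv_left (hI hh), ea', hT.B_tm, hv, map_zero]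
  have p2 : ∀ y, Φ₂.B w y = 0 → ∃ y', ∀ v, T.cR (Φ₂.B w) v = 0 →
      T.cR (Φ₂.B y) (h v) = a (T.cR (Φ₂.B y') v) := fun y hy => by
    obtain ⟨τ, hτ, e0, eτ⟩ := hT.gen_cR hH hw hy
    have e1 : ∀ v, T.cR (Φ₂.B w) v = 0 →
        (h⁻¹ * T.krR τ * h) v = v + T.tm (a⁻¹ (T.cR (Φ₂.B y) (h v))) w := fun v hv => by
      rw [mul_app, mul_app, eτ _ (p1 v hv), map_add, inv_app_app, ea']
    obtain ⟨y', -, e⟩ := hL.exists_cR hT (A := (a⁻¹ : U ≃ₗ[F] U).toLinearMap ∘ₗ T.cR (Φ₂.B y) ∘ₗ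
      h.toLinearMap) ⟨fun u => by simp [ea, Φ₂.perp_symm hy], _,
        M.mul_mem (M.mul_mem (M.inv_mem hh) (hT.krR_mem hH hτ)) hh, e1⟩
    exact ⟨y', fun v hv => by rw [← e v hv]; simp⟩
  obtain ⟨u₀, u₁, hu⟩ := hT.exists_B_one
  obtain ⟨α, hα⟩ := exists_dual_eq_one (F := F) (show a u₀ ≠ 0 from fun e => by
    simp [a.map_eq_zero_iff.1 e] at hu)
  let d : W →ₗ[F] W := T.cL α ∘ₗ h.toLinearMap ∘ₗ T.tm u₀
  have d1 : d w = w := by simp [d, ea, hα]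
  have d2 : ∀ z, Φ₂.B w z = 0 → Φ₂.B w (d z) = 0 := fun z hz => by
    change Φ₂.B w (T.cL α (h (T.tm u₀ z))) = 0
    rw [T.cL_cR, p1 _ (by simp [hz]), map_zero]
  have d3 : ∀ u z, Φ₂.B w z = 0 → h (T.tm u z) - T.tm (a u) (d z) ∈ T.sp w := fun u z hz =>
    hT.mem_sp_of fun y hy => by
      obtain ⟨y', e⟩ := p2 y hy
      have : Φ₂.B y (d z) = Φ₂.B y' z := by
        change Φ₂.B y (T.cL α (h (T.tm u₀ z))) = _
        rw [T.cL_cR, e _ (by simp [hz])]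
        simp [hα]
      rw [map_sub, e _ (by simp [hz])]
      simp [this]
  have d4 : ∀ u u' z z', Φ₂.B w z = 0 → Φ₂.B w z' = 0 →
      Φ₁.B (a u) (a u') * Φ₂.B (d z) (d z') = Φ₁.B u u' * Φ₂.B z z' := fun u u' z z' hz hz' => by
    obtain ⟨x, hx⟩ := d3 u z hz
    obtain ⟨x', hx'⟩ := d3 u' z' hz'
    rw [← hT.B u, ← (hI hh).1, eq_add_of_sub_eq hx.symm, eq_add_of_sub_eq hx'.symm]
    simp [hT.B, Φ₂.B_self hw, d2 z' hz', Φ₂.perp_symm (d2 z hz)]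
  obtain ⟨w', hw', e1⟩ := Fm.exists_partner' hw hw0
  have e2 := Fm.B_eq_eps e1
  obtain ⟨z₀, z₁, q1, -, q2, -, q3⟩ := Fm.exists_perp_pair_B h3 hw hw' (by simp [e1]) 1
  set m := Φ₁.B (a u₀) (a u₁) with hm
  have m1 : m * Φ₂.B (d z₀) (d z₁) = 1 := by rw [d4 _ _ _ _ q1 q2, hu, q3, mul_one]
  have m0 : m ≠ 0 := left_ne_zero_of_mul_eq_one m1
  have m2 : ∀ u u', Φ₁.B (a u) (a u') = m * Φ₁.B u u' := fun u u' => by
    have := d4 u u' _ _ q1 q2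
    rw [q3] at this
    linear_combination m * this - Φ₁.B (a u) (a u') * m1
  have m3 : Φ₂.σ m = m := by
    have := m2 u₁ u₀
    rw [Φ₁.symm, ← hm, Fm.B_eq_eps hu, mul_comm m, ← hT.σ₁₂] at this
    exact mul_left_cancel₀ Φ₁.eps_ne this
  let p : W →ₗ[F] W := LinearMap.id - (Φ₂.B w).smulRight w' - (Φ₂.ε • Φ₂.B w').smulRight w
  have ep : ∀ x, p x = x - Φ₂.B w x • w' - (Φ₂.ε * Φ₂.B w' x) • w := fun _ => rfl
  have p3 : ∀ x, Φ₂.B w (p x) = 0 ∧ Φ₂.B w' (p x) = 0 := Fm.sub_mem_ker_hyp hw hw' e1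
  have p4 : ∀ x y, Φ₂.B (p x) (p y) = Φ₂.B x y - Φ₂.B x w * Φ₂.ε * Φ₂.B w' y -
      Φ₂.B x w' * Φ₂.B w y := fun x y => by
    rw [ep x]
    simp only [Φ₂.bsimp, (p3 y).1, (p3 y).2]
    simp only [Φ₂.bsimp, ep y]
    ring
  let d' : W →ₗ[F] W := p ∘ₗ d ∘ₗ p + (Φ₂.ε • Φ₂.B w').smulRight w + (m⁻¹ • Φ₂.B w).smulRight w'
  have ed : ∀ x, d' x = p (d (p x)) + (Φ₂.ε * Φ₂.B w' x) • w + (m⁻¹ * Φ₂.B w x) • w' :=
    fun _ => rfl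
  have d5 : ∀ x y, m * Φ₂.B (d' x) (d' y) = Φ₂.B x y := fun x y => by
    have f1 := d4 u₀ u₁ _ _ (p3 x).1 (p3 y).1
    have f2 := p4 (d (p x)) (d (p y))
    rw [d2 _ (p3 y).1, Φ₂.perp_symm (d2 _ (p3 x).1)] at f2
    rw [← hm, hu, p4, Φ₂.symm w x, Φ₂.symm w' x] at f1
    simp only [ed, Φ₂.bsimp, (p3 _).1, (p3 _).2, Φ₂.perp_symm (p3 _).1, Φ₂.perp_symm (p3 _).2, f2,
      e1, e2, Φ₂.B_self hw, Φ₂.B_self hw', m3]
    field_simp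
    linear_combination m * f1
  let d'' := LinearEquiv.ofInjectiveEndo d' ((injective_iff_map_eq_zero d').2 fun x hx =>
    Φ₂.nondeg x fun y => by rw [← d5, hx]; simp)
  have ed' : ∀ x, d'' x = d' x := fun _ => rfl
  have g1 : T.kr a d'' ∈ Φ.Iso := hT.kr_Iso fun u u' x y => by
    rw [ed', ed', m2, ← d5 x y]; ring
  have pw : p w = 0 := by simp [ep, Φ₂.B_self hw, e2, Φ₂.eps_sq]
  have dw : d'' w = w := by simp [ed', ed, pw, Φ₂.B_self hw, e2, Φ₂.eps_sq]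
  have g0 : ∀ u, (T.kr a d'')⁻¹ (T.tm u w) = T.tm (a⁻¹ u) w := fun u =>
    (T.kr a d'').injective (by simp [dw])
  have g2 : ∀ u, ((T.kr a d'')⁻¹ * h) (T.tm u w) = T.tm u w := fun u => by simp [mul_app, ea, g0]
  have g3 : ∀ v, T.cR (Φ₂.B w) v = 0 → ((T.kr a d'')⁻¹ * h) v - v ∈ T.sp w := fun v hv => by
    have : h v - T.kr a d'' v ∈ T.sp w := by
      rw [← Submodule.Quotient.eq]
      refine hT.eq_on_perp (f := (T.sp w).mkQ ∘ₗ h.toLinearMap)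
        (g := (T.sp w).mkQ ∘ₗ (T.kr a d'').toLinearMap) (fun u z hz => ?_) hv
      refine (Submodule.Quotient.eq _).2 ?_
      have := add_mem (d3 u z hz) (T.tm_mem_sp ((Φ₂.ε * (Φ₂.B w' (d z) - Φ₂.B w' z)) • a u) w)
      convert this using 1
      simp only [LinearEquiv.coe_coe, Tn.kr_tm, ed', ed, ep z, hz, map_sub, map_add, map_smul, d1,
        pw, ep (d z), d2 z hz, LinearMap.smul_apply, map_zero]
      module
    obtain ⟨u, hu⟩ := this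
    refine ⟨a⁻¹ u, ?_⟩
    change T.tm u w = _ at hu
    change T.tm _ w = _
    rw [← g0, hu, map_sub, inv_app_app, mul_app]
  have g4 := hT.mem_EG_of_unip (Φ.Iso.mul_mem (Φ.Iso.inv_mem g1) (hI hh)) hw g2 g3
  have g5 : T.kr a d'' ∈ M :=
    hH ⟨T.kr_mem _ _, by simpa using Φ.EG.mul_mem (hG hh) (Φ.EG.inv_mem g4)⟩
  simpa using T.NG.mul_mem (T.kr_mem a d'')
    (hL.mem_NG_of_unip hT hH hI hw hw0 (M.mul_mem (M.inv_mem g5) hh) g2 g3)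

end TF

end Cfsg.Agent.Class.Max
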