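import Mathlib
import Cfsg.Agent.Class.Max.TensFm

/-!
Tensor products of formed spaces: elements of the unipotent radical of the stabiliser of `U ⊗ w`,
and generation of the whole group.
-/

set_option autoImplicit false
set_option linter.unusedSectionVars false

namespace Cfsg.Agent.Class.Max

open Module

namespace Fm

variable {F V : Type*} [Field F] [AddCommGroup V] [Module F V] [FiniteDimensional F V] {Φ : Fm F V}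

theorem exists_hyp2 (hd : Φ.d + 2 ≤ finrank F V) {w : V} (hw : Φ.Q w = 0) (hw0 : w ≠ 0) :
    ∃ w' s s', Φ.Q w' = 0 ∧ Φ.Q s = 0 ∧ Φ.Q s' = 0 ∧ Φ.B w w' = 1 ∧ Φ.B s s' = 1 ∧ Φ.B w s = 0 ∧
      Φ.B w s' = 0 ∧ Φ.B w' s = 0 ∧ Φ.B w' s' = 0 := by
  obtain ⟨w', hw', e⟩ := exists_partner' hw hw0
  obtain ⟨s, hs, s', hs', h1, h2, h3⟩ := (Φ.nd_top.inf_hyp trivial trivial hw hw' e).exists_hyp (by
    have := finrank_le_inf_ker₂ ⊤ (Φ.B w) (Φ.B w')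
    rw [finrank_top] at this
    omega)
  exact ⟨w', s, s', hw', h1, h2, e, h3, hs.1.2, hs'.1.2, hs.2, hs'.2⟩

theorem Pair.exists_partner {w s : V} (h : Φ.Pair w s) :
    ∃ f, Φ.Q f = 0 ∧ Φ.B s f = 1 ∧ Φ.B w f = 0 :=
  let ⟨f, h1, h2, h3⟩ := Fm.exists_partner (U := LinearMap.ker (Φ.B w)) h.perp h.q₂ h.ind
  ⟨f, h2, h3, h1⟩

theorem pair_or_eq_smul {w s : V} (hw : Φ.Q w = 0) (hw0 : w ≠ 0) (hs : Φ.Q s = 0) (h : Φ.B w s = 0) :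
    Φ.Pair w s ∨ ∃ c : F, s = c • w := by
  by_cases hc : ∃ y, Φ.B w y = 0 ∧ Φ.B s y ≠ 0
  · exact Or.inl ⟨hw, hs, h, hw0, hc⟩
  · push Not at hc
    exact Or.inr (Φ.exists_smul_of_perp hc)

/-- An additive property of the vectors perpendicular to `w` can be tested on singular vectors. -/
theorem mem_of_pair (hd : Φ.d + 2 ≤ finrank F V) {w : V} (hw : Φ.Q w = 0) (hw0 : w ≠ 0)
    (A : AddSubgroup V) (h : ∀ s, Φ.Pair w s → s ∈ A) {y : V} (hy : Φ.B w y = 0) : y ∈ A := by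
  obtain ⟨w', s, s', -, h1, -, -, h2, h3, h4, -⟩ := exists_hyp2 hd hw hw0
  exact le_of_sing (Y := LinearMap.ker (Φ.B w)) h3 h1 ⟨s', h4, by simp [h2]⟩ A
    (fun s hs hs0 hs1 => h s ⟨hw, hs0, hs, hw0, hs1⟩) y hy

theorem InA.comm_fix {M : Subgroup (V ≃ₗ[F] V)} {e w : V} (h : Φ.InA M e w) {g : V ≃ₗ[F] V}
    (hg : g ∈ M) (hI : g ∈ Φ.Iso) (hge : g e = e) : Φ.InA M e (g w - w) :=
  (hge ▸ h.conj hg hI :).sub h

variable (Φ) in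
/-- The vectors `w` with `InA M e w`. -/
def inAG (M : Subgroup (V ≃ₗ[F] V)) {e : V} (he : Φ.Q e = 0) : AddSubgroup V where
  carrier := {w | Φ.InA M e w}
  zero_mem' := inA_zero he
  add_mem' := InA.add
  neg_mem' := InA.neg

/-- Frames used to move pairs. -/
theorem Pair.exists_valid (hW : (∃ c, c ≠ 0 ∧ Φ.π c = 0) ∨ 5 ≤ finrank F V) {w s f : V}
    (h : Φ.Pair w s) (hf : Φ.Q f = 0) (h1 : Φ.B s f = 1) (h2 : Φ.B w f = 0) :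
    ∃ y c, c ≠ 0 ∧ Φ.π c = Φ.Q y ∧ Φ.B w y = 0 ∧ Φ.B s y = 0 ∧ Φ.B f y = 0 := by
  by_cases hΛ : ∃ c, c ≠ 0 ∧ Φ.π c = 0
  · obtain ⟨c, h1, h2⟩ := hΛ
    exact ⟨0, c, h1, by rw [h2, Φ.Q_zero], map_zero _, map_zero _, map_zero _⟩
  obtain ⟨y, hy⟩ := Φ.exists_B_ne h.ne
  obtain ⟨w', hw', q, e⟩ := Fm.exists_partner (U := ⊤ ⊓ LinearMap.ker (Φ.B s) ⊓ LinearMap.ker (Φ.B f))
    ⟨⟨trivial, Φ.perp_symm h.perp⟩, Φ.perp_symm h2⟩ h.q₁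
    ⟨_, ⟨⟨trivial, (sub_mem_ker_hyp h.q₂ hf h1 y).1⟩, (sub_mem_ker_hyp h.q₂ hf h1 y).2⟩, by
      simpa [h.perp, h2] using hy⟩
  have hN := (Φ.nd_top.inf_hyp trivial trivial h.q₂ hf h1).inf_hyp
    ⟨⟨trivial, Φ.perp_symm h.perp⟩, Φ.perp_symm h2⟩ hw' h.q₁ q e
  obtain ⟨z, hz, hz0⟩ := Submodule.exists_mem_ne_zero_of_ne_bot (p := ⊤ ⊓ LinearMap.ker (Φ.B s) ⊓
    LinearMap.ker (Φ.B f) ⊓ LinearMap.ker (Φ.B w) ⊓ LinearMap.ker (Φ.B w')) fun h0 => by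
      have e1 := finrank_le_inf_ker₂ ⊤ (Φ.B s) (Φ.B f)
      have e2 := finrank_le_inf_ker₂ (⊤ ⊓ LinearMap.ker (Φ.B s) ⊓ LinearMap.ker (Φ.B f))
        (Φ.B w) (Φ.B w')
      rw [h0, finrank_bot] at e2
      rw [finrank_top] at e1
      have := hW.resolve_left hΛ
      omega
  obtain ⟨z', hz', hzz⟩ := hN.exists_ne hz hz0
  have key : ∀ z ∈ ⊤ ⊓ LinearMap.ker (Φ.B s) ⊓ LinearMap.ker (Φ.B f) ⊓ LinearMap.ker (Φ.B w) ⊓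
      LinearMap.ker (Φ.B w'), Φ.Q z ≠ 0 →
      ∃ y c, c ≠ 0 ∧ Φ.π c = Φ.Q y ∧ Φ.B w y = 0 ∧ Φ.B s y = 0 ∧ Φ.B f y = 0 := fun z hz h0 => by
    obtain ⟨c, hc⟩ := Φ.range z
    exact ⟨z, c, fun e => h0 (by rw [← hc, e, map_zero]), hc, hz.1.2, hz.1.1.1.2, hz.1.1.2⟩
  by_cases q1 : Φ.Q z = 0
  · by_cases q2 : Φ.Q z' = 0
    · refine key _ (add_mem hz hz') fun h0 => hΛ ⟨_, hzz, ?_⟩
      rwa [Φ.add, q1, q2, zero_add, zero_add] at h0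
    · exact key z' hz' q2
  · exact key z hz q1

theorem Pair.exists_move (hW : (∃ c, c ≠ 0 ∧ Φ.π c = 0) ∨ 5 ≤ finrank F V) {w s : V}
    (h : Φ.Pair w s) : ∃ τ ∈ Φ.EG, τ w = w ∧ Φ.B s (τ s) ≠ 0 := by
  obtain ⟨f, hf, h1, h2⟩ := h.exists_partner
  obtain ⟨y, c, c0, hc, y1, y2, y3⟩ := h.exists_valid hW hf h1 h2
  have hv : Φ.Valid f y c := ⟨hf, y3, hc⟩
  refine ⟨hv.eich, hv.eich_mem, ef_apply_of_perp (Φ.perp_symm h2) (Φ.perp_symm y1), ?_⟩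
  simp [hv.eich_apply, ef, Φ.B_self h.q₂, y2, Φ.perp_symm y2, h1, B_eq_eps h1, Φ.eps_ne, c0]

end Fm

variable {F U W V : Type*} [Field F] [AddCommGroup U] [Module F U] [AddCommGroup W]
  [Module F W] [AddCommGroup V] [Module F V] {T : Tn F U W V} {Φ₁ : Fm F U} {Φ₂ : Fm F W}
  {Φ : Fm F V} {M : Subgroup (V ≃ₗ[F] V)}

namespace Tn.Gen

variable {w : W} {A A' : V →ₗ[F] U}

theorem congr (h : T.Gen Φ₂ M w A) (hw : Φ₂.Q w = 0)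
    (e : ∀ v, T.cR (Φ₂.B w) v = 0 → A' v = A v) : T.Gen Φ₂ M w A' := by
  obtain ⟨h1, x, hx, e'⟩ := h
  exact ⟨fun u => by rw [e _ (by simp [Φ₂.B_self hw]), h1], x, hx, fun v hv => by rw [e' v hv, e v hv]⟩

theorem zero : T.Gen Φ₂ M w 0 := ⟨fun _ => rfl, 1, M.one_mem, fun v _ => by simp [one_app]⟩

theorem add (h : T.Gen Φ₂ M w A) (h' : T.Gen Φ₂ M w A') (hw : Φ₂.Q w = 0) :
    T.Gen Φ₂ M w (A + A') := by
  obtain ⟨h1, x, hx, e⟩ := h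
  obtain ⟨h2, y, hy, e'⟩ := h'
  refine ⟨fun u => by simp [h1, h2], x * y, M.mul_mem hx hy, fun v hv => ?_⟩
  rw [mul_app, e' v hv, e _ (by simp [hv, Φ₂.B_self hw])]
  simp only [map_add, h1, LinearMap.add_apply, map_zero, LinearMap.zero_apply]
  abel

theorem neg (h : T.Gen Φ₂ M w A) (hw : Φ₂.Q w = 0) : T.Gen Φ₂ M w (-A) := by
  obtain ⟨h1, x, hx, e⟩ := h
  refine ⟨fun u => by simp [h1], x⁻¹, M.inv_mem hx, fun v hv => x.injective ?_⟩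
  rw [app_inv_app, e _ (by simp [hv, Φ₂.B_self hw])]
  simp [h1]

theorem conj (h : T.Gen Φ₂ M w A) {a : U ≃ₗ[F] U} {τ : W ≃ₗ[F] W} (hτ : τ ∈ Φ₂.Iso)
    (hg : T.kr a τ ∈ M) : T.Gen Φ₂ M (τ w)
      (a.toLinearMap ∘ₗ A ∘ₗ ((T.kr a τ)⁻¹ : V ≃ₗ[F] V).toLinearMap) := by
  obtain ⟨h1, x, hx, e⟩ := h
  refine ⟨fun u => by simp [T.kr_inv, h1], _, M.mul_mem (M.mul_mem hg hx) (M.inv_mem hg),
    fun v hv => ?_⟩
  rw [mul_app, mul_app, e, map_add, app_inv_app, Tn.kr_tm]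
  · rfl
  · rw [T.kr_inv, T.cR_kr, show Φ₂.B w ∘ₗ (τ⁻¹ : W ≃ₗ[F] W).toLinearMap = Φ₂.B (τ w) from
      LinearMap.ext fun y => Fm.Iso.B_inv hτ w y, hv, map_zero]

theorem diff (h : T.Gen Φ₂ M w A) (hw : Φ₂.Q w = 0) {τ : W ≃ₗ[F] W} (hτ : τ ∈ Φ₂.Iso)
    (hg : T.krR τ ∈ M) (e : τ w = w) :
    T.Gen Φ₂ M w (A ∘ₗ ((T.krR τ).toLinearMap - LinearMap.id)) := by
  have h1 := h.conj (a := 1) (Φ₂.Iso.inv_mem hτ) (by
    have := M.inv_mem hg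
    rwa [← map_inv] at this)
  rw [show τ⁻¹ w = w from τ.injective (by rw [app_inv_app, e])] at h1
  refine (h1.add (h.neg hw) hw).congr hw fun v _ => ?_
  simp only [T.kr_inv, inv_inv, inv_one, LinearMap.comp_apply, LinearMap.sub_apply, map_sub,
    LinearMap.add_apply, LinearMap.neg_apply]
  exact sub_eq_add_neg _ _

end Tn.Gen

variable (T Φ₂) in
/-- The maps `b` such that `M` has an element acting on `(U ⊗ w)^⊥` as `1 + b ⊗ (B s · w)`. -/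
def Tn.pureG (M : Subgroup (V ≃ₗ[F] V)) {w s : W} (h : Φ₂.Pair w s) : AddSubgroup (U →ₗ[F] U) where
  carrier := {b | T.Gen Φ₂ M w (b ∘ₗ T.cR (Φ₂.B s))}
  zero_mem' := Tn.Gen.zero
  add_mem' ha hb := (ha.add hb h.q₁).congr h.q₁ fun _ _ => rfl
  neg_mem' ha := (ha.neg h.q₁).congr h.q₁ fun _ _ => rfl

variable (T Φ₂) in
/-- The maps `C` such that `M` contains all `1 + C ⊗ (B w · w)`. -/
def Tn.cenG (M : Subgroup (V ≃ₗ[F] V)) : AddSubgroup (U →ₗ[F] U) where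
  carrier := {C | ∀ w, Φ₂.Q w = 0 → HasU M (T.xl C w (Φ₂.B w))}
  zero_mem' w _ := hasU_zero.congr fun v => by simp [Tn.xl_apply]
  add_mem' ha hb w hw := ((ha w hw).add (hb w hw) fun v => by
    simp [Tn.xl_apply, Φ₂.B_self hw]).congr fun v => by simp [Tn.xl_apply]
  neg_mem' ha w hw := ((ha w hw).neg fun v => by simp [Tn.xl_apply, Φ₂.B_self hw]).congr
    fun v => by simp [Tn.xl_apply]

namespace TF

variable [FiniteDimensional F U] [FiniteDimensional F W] [FiniteDimensional F V]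
  (hT : TF T Φ₁ Φ₂ Φ)
include hT

theorem cR_gen {x : V ≃ₗ[F] V} (hx : x ∈ Φ.Iso) {w s : W} (hw : Φ₂.Q w = 0) (hs : Φ₂.B w s = 0)
    {b : U →ₗ[F] U} (e : ∀ v, T.cR (Φ₂.B w) v = 0 → x v = v + T.tm (b (T.cR (Φ₂.B s) v)) w)
    {y : W} (hy : Φ₂.B w y = 0) (v : V) :
    T.cR (Φ₂.B y) (x v - v) = -(Φ.σ (Φ₂.B s y) • Φ₁.adj b (T.cR (Φ₂.B w) v)) :=
  Φ₁.eq_of_B_eq fun u => by
    have h1 := hx.1 (T.tm u y) v
    have h2 := hx.1 (T.tm (b (Φ₂.B s y • u)) w) v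
    rw [e _ (by simp [Φ₂.B_self hw]), Tn.cR_tm, Φ₂.perp_symm hs] at h2
    rw [e _ (by simp [hy]), Tn.cR_tm, Φ.B_add_left] at h1
    simp only [zero_smul, map_zero, LinearMap.zero_apply, add_zero] at h2
    rw [h2, hT.B_tm, hT.B_tm, hT.B_tm] at h1
    rw [Φ₁.symm u, Φ₁.symm u, map_sub, map_sub, map_neg, map_smul, Φ₁.B_adj', ← h1]
    simp [hT.σ₁]

/-- The commutator of two pure elements. -/
theorem gen_comm (hI : M ≤ Φ.Iso) {w s s' : W} (hw : Φ₂.Q w = 0) (hs : Φ₂.B w s = 0)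
    (hs' : Φ₂.B w s' = 0) {b c : U →ₗ[F] U} (h : T.Gen Φ₂ M w (b ∘ₗ T.cR (Φ₂.B s)))
    (h' : T.Gen Φ₂ M w (c ∘ₗ T.cR (Φ₂.B s'))) :
    HasU M (T.xl (Φ.σ (Φ₂.B s s') • c ∘ₗ Φ₁.adj b - Φ.σ (Φ₂.B s' s) • b ∘ₗ Φ₁.adj c) w
      (Φ₂.B w)) := by
  obtain ⟨h1, x, hx, e⟩ := h
  obtain ⟨h2, y, hy, e'⟩ := h'
  have f1 : ∀ u, x (T.tm u w) = T.tm u w := fun u => by
    rw [e _ (by simp [Φ₂.B_self hw]), h1]; simp
  have f2 : ∀ u, y (T.tm u w) = T.tm u w := fun u => by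
    rw [e' _ (by simp [Φ₂.B_self hw]), h2]; simp
  have p1 := hT.cR_of_fix (hI hx) f1
  have p2 := hT.cR_of_fix (hI hy) f2
  refine ⟨x * y * (y * x)⁻¹, M.mul_mem (M.mul_mem hx hy) (M.inv_mem (M.mul_mem hy hx)), fun v => ?_⟩
  obtain ⟨v, rfl⟩ := (y * x).surjective v
  have k1 := e _ (p2 v)
  have k2 := e' _ (p1 v)
  simp only [LinearMap.comp_apply] at k1 k2
  rw [hT.cR_gen (hI hy) hw hs' e' hs, map_sub] at k1
  rw [hT.cR_gen (hI hx) hw hs e hs', map_sub] at k2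
  have k3 : T.cR (Φ₂.B w) ((y * x) v) = T.cR (Φ₂.B w) v := by
    have := p2 (x v)
    have := p1 v
    rw [map_sub, sub_eq_zero] at *
    rw [mul_app, ‹T.cR _ (y _) = _›, this]
  rw [mul_app, inv_app_app, Tn.xl_apply, k3, mul_app, mul_app, eq_add_of_sub_eq k1,
    eq_add_of_sub_eq k2]
  simp only [map_neg, map_smul, LinearMap.neg_apply, LinearMap.smul_apply, LinearMap.sub_apply,
    LinearMap.comp_apply, map_sub]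
  module

variable (hH : T.NG ⊓ Φ.EG ≤ M)
include hH

theorem gen_id {w s : W} (hw : Φ₂.Q w = 0) (hs : Φ₂.B w s = 0) :
    T.Gen Φ₂ M w (LinearMap.id ∘ₗ T.cR (Φ₂.B s)) :=
  let ⟨_, hτ, _, e⟩ := hT.gen_cR hH hw hs
  ⟨fun u => by simp [Φ₂.perp_symm hs], _, hT.krR_mem hH hτ, e⟩

theorem gen_move {w s : W} {b : U →ₗ[F] U} (h : T.Gen Φ₂ M w (b ∘ₗ T.cR (Φ₂.B s)))
    {τ : W ≃ₗ[F] W} (hτ : τ ∈ Φ₂.EG) : T.Gen Φ₂ M (τ w) (b ∘ₗ T.cR (Φ₂.B (τ s))) := by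
  convert h.conj (a := 1) (Φ₂.EG_le_Iso hτ) (hT.krR_mem hH hτ) using 1
  ext v
  obtain ⟨v, rfl⟩ := (T.krR τ).surjective v
  change b (T.cR _ _) = b (T.cR _ ((T.krR τ)⁻¹ (T.krR τ v)))
  rw [hT.cR_krR_iso (Φ₂.EG_le_Iso hτ), inv_app_app]

theorem mem_cenG (hd : Φ₂.d + 2 ≤ finrank F W) {w : W} (hw : Φ₂.Q w = 0) (hw0 : w ≠ 0)
    {C : U →ₗ[F] U} (h : HasU M (T.xl C w (Φ₂.B w))) : C ∈ T.cenG Φ₂ M := fun w' hw' => by
  by_cases h0 : w' = 0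
  · exact hasU_zero.congr fun v => by simp [Tn.xl_apply, h0]
  obtain ⟨τ, hτ, rfl⟩ := Fm.move_EG hd hw0 h0 (hw'.trans hw.symm)
  exact h.conj' (hT.krR_mem hH hτ) fun v => by
    rw [Tn.xl_apply, Tn.xl_apply, hT.cR_krR_iso (Φ₂.EG_le_Iso hτ), Tn.krR_tm]

omit hH in
theorem cjL_mem_cenG {a : U ≃ₗ[F] U} (ha : T.kr a 1 ∈ M) {C : U →ₗ[F] U} (h : C ∈ T.cenG Φ₂ M) :
    cjL a C ∈ T.cenG Φ₂ M := fun w hw => (h w hw).conj' ha fun v => by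
  rw [Tn.xl_apply, Tn.xl_apply, Tn.kr_tm, T.cR_kr, cjL_app]
  rfl

omit hH in
theorem cjL_mem_pureG {a : U ≃ₗ[F] U} (ha : T.kr a 1 ∈ M) {w s : W} {hp : Φ₂.Pair w s}
    {b : U →ₗ[F] U} (h : b ∈ T.pureG Φ₂ M hp) : cjL a b ∈ T.pureG Φ₂ M hp :=
  (Tn.Gen.conj h Φ₂.Iso.one_mem ha).congr hp.q₁ fun v _ => by
    simp only [T.kr_inv, LinearMap.comp_apply, LinearEquiv.coe_coe, T.cR_kr, cjL_apply]
    rfl

omit hH in
theorem adj_of_cenG (hI : M ≤ Φ.Iso) {w : W} (hw : Φ₂.Q w = 0) (hw0 : w ≠ 0) {C : U →ₗ[F] U}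
    (h : C ∈ T.cenG Φ₂ M) (u : U) : Φ₁.adj C u = -(Φ₂.ε • C u) := by
  obtain ⟨w', -, e1⟩ := Fm.exists_partner' hw hw0
  obtain ⟨x, hx, e⟩ := h w hw
  refine Fm.adj_eq fun y => ?_
  have := (hI hx).1 (T.tm u w') (T.tm y w')
  simp only [e, Tn.xl_apply, Tn.cR_tm, e1, one_smul, Φ.bsimp, hT.B, Φ₂.B_self hw,
    Fm.B_eq_eps e1] at this
  simp only [Φ₁.bsimp, ← hT.σ₁₂, Φ₂.σ_eps]
  linear_combination (-Φ₂.ε) * this + Φ₁.B u (C y) * Φ₂.eps_sq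

omit hH hT in
theorem hasU_of_cenG {w s : W} (hw : Φ₂.Q w = 0) (hs : Φ₂.Q s = 0) (hws : Φ₂.B w s = 0)
    {C : U →ₗ[F] U} (h : C ∈ T.cenG Φ₂ M) : HasU M (T.xl C w (Φ₂.B s) + T.xl C s (Φ₂.B w)) := by
  have h1 := Φ₂.perp_symm hws
  exact (((h (w + s) (by rw [Φ₂.Q_add_perp hws, hw, hs, add_zero])).sub (h w hw)
    (fun v => by simp [Tn.xl_apply, Φ₂.B_self hw, h1]) fun v => by
      simp [Tn.xl_apply, Φ₂.B_self hw]).sub (h s hs)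
    (fun v => by simp [Tn.xl_apply, Φ₂.B_self hs, hws]) fun v => by
      simp [Tn.xl_apply, Φ₂.B_self hs]).congr fun v => by
    simp only [Tn.xl_apply, map_add, LinearMap.add_apply, LinearMap.sub_apply]
    abel

omit hH hT in
theorem gen_of_cenG {w s : W} (hw : Φ₂.Q w = 0) (hs : Φ₂.Q s = 0) (hws : Φ₂.B w s = 0)
    {C : U →ₗ[F] U} (h : C ∈ T.cenG Φ₂ M) : T.Gen Φ₂ M w (C ∘ₗ T.cR (Φ₂.B s)) :=
  let ⟨x, hx, e⟩ := hasU_of_cenG hw hs hws h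
  ⟨fun u => by simp [Φ₂.perp_symm hws], x, hx, fun v hv => by simp [e, Tn.xl_apply, hv]⟩

/-- Pure elements from arbitrary elements of the unipotent radical. -/
theorem exists_pure (hW : (∃ c, c ≠ 0 ∧ Φ₂.π c = 0) ∨ 5 ≤ finrank F W) {w s : W}
    (hp : Φ₂.Pair w s) {A : V →ₗ[F] U} (hA : T.Gen Φ₂ M w A) :
    ∃ κ : F, κ ≠ 0 ∧ κ • (A ∘ₗ T.tm.flip s) ∈ T.pureG Φ₂ M hp := by
  have key : ∀ {A : V →ₗ[F] U} {y : W} {c : F}, T.Gen Φ₂ M w A → Φ₂.Valid s y c → Φ₂.B w y = 0 →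
      T.Gen Φ₂ M w ((A ∘ₗ T.tm.flip y) ∘ₗ T.cR (Φ₂.B s) - Φ₂.ε • (A ∘ₗ T.tm.flip s) ∘ₗ
        (T.cR (Φ₂.B y) + c • T.cR (Φ₂.B s))) := fun hA hv hy =>
    (hA.diff hp.q₁ (hv.mem_Iso hv.eich_apply) (hT.krR_mem hH hv.eich_mem)
      (Fm.ef_apply_of_perp (Φ₂.perp_symm hp.perp) (Φ₂.perp_symm hy))).congr hp.q₁ fun v _ => by
      simp [krR_ef hv.eich_apply]
      abel
  obtain ⟨f, hf, h1, h2⟩ := hp.exists_partner
  obtain ⟨y, c, c0, hc, y1, y2, -⟩ := hp.exists_valid hW hf h1 h2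
  by_cases hy : Φ₂.B y y = 0
  · have hv : Φ₂.Valid s 0 c := ⟨hp.q₂, map_zero _, by rw [hc, hT.tv₂.Q_zero hy, Φ₂.Q_zero]⟩
    exact ⟨-(Φ₂.ε * c), by simp [Φ₂.eps_ne, c0],
      (key hA hv (map_zero _)).congr hp.q₁ fun v _ => by simp [mul_smul]⟩
  · have hv : Φ₂.Valid s y c := ⟨hp.q₂, y2, hc⟩
    exact ⟨-(Φ₂.ε * Φ₂.B y y), by simp [Φ₂.eps_ne, hy],
      (key (key hA hv y1) hv y1).congr hp.q₁ fun v _ => by
        simp [mul_smul, y2, Φ₂.perp_symm y2, Φ₂.B_self hp.q₂]⟩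

/-- It suffices to look at pure elements. -/
theorem loc_of (hd : Φ₂.d + 2 ≤ finrank F W) (hW : (∃ c, c ≠ 0 ∧ Φ₂.π c = 0) ∨ 5 ≤ finrank F W)
    (hZ : ∀ C ∈ T.cenG Φ₂ M, ∃ c : F, ∀ u, C u = c • u)
    (hA : ∀ w s (hp : Φ₂.Pair w s), ∀ b ∈ T.pureG Φ₂ M hp, ∃ c : F, ∀ u, b u = c • u) {w : W}
    (hw : Φ₂.Q w = 0) (hw0 : w ≠ 0) : Loc T Φ₂ M w := by
  refine ⟨fun A h y hy => ?_, fun C h => hZ C (hT.mem_cenG hH hd hw hw0 h)⟩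
  let S : AddSubgroup W :=
    { carrier := {y | ∃ c : F, ∀ u, A (T.tm u y) = c • u}
      zero_mem' := ⟨0, by simp⟩
      add_mem' := fun ⟨c, hc⟩ ⟨d, hd⟩ => ⟨c + d, fun u => by simp [hc, hd, add_smul]⟩
      neg_mem' := fun ⟨c, hc⟩ => ⟨-c, fun u => by simp [hc]⟩ }
  refine Fm.mem_of_pair hd hw hw0 S (fun s hp => ?_) hy
  obtain ⟨κ, h0, h1⟩ := hT.exists_pure hH hW hp h
  obtain ⟨c, hc⟩ := hA w s hp _ h1
  exact ⟨κ⁻¹ * c, fun u => by rw [mul_smul, eq_inv_smul_iff₀ h0]; exact hc u⟩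

theorem pure_comm (hI : M ≤ Φ.Iso) (hd : Φ₂.d + 2 ≤ finrank F W)
    (hW : (∃ c, c ≠ 0 ∧ Φ₂.π c = 0) ∨ 5 ≤ finrank F W) {w s : W} (hp : Φ₂.Pair w s) :
    ∃ μ : F, μ ≠ 0 ∧ ∀ b ∈ T.pureG Φ₂ M hp, ∀ c ∈ T.pureG Φ₂ M hp,
      Φ.σ μ • c ∘ₗ Φ₁.adj b - (Φ₂.ε * μ) • b ∘ₗ Φ₁.adj c ∈ T.cenG Φ₂ M := by
  obtain ⟨τ, hτ, e, h0⟩ := hp.exists_move hW
  refine ⟨_, h0, fun b hb c hc => ?_⟩
  have h1 := hT.gen_move hH hc hτ
  rw [e] at h1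
  have := hT.gen_comm hI hp.q₁ hp.perp (by rw [← e, (Φ₂.EG_le_Iso hτ).1, hp.perp]) hb h1
  rw [Φ₂.symm s (τ s), ← hT.σ₂ (_ * _), map_mul, Φ₂.invol, Φ₂.σ_eps] at this
  exact hT.mem_cenG hH hd hp.q₁ hp.ne this

theorem pure_comm_id (hI : M ≤ Φ.Iso) (hd : Φ₂.d + 2 ≤ finrank F W) {w s : W} {hp : Φ₂.Pair w s}
    {b : U →ₗ[F] U} (hb : b ∈ T.pureG Φ₂ M hp) (μ : F) :
    Φ.σ μ • Φ₁.adj b - (Φ₂.ε * μ) • b ∈ T.cenG Φ₂ M := by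
  obtain ⟨f, -, h1, h2⟩ := hp.exists_partner
  have := hT.gen_comm hI hp.q₁ hp.perp (s' := μ • f) (by simp [h2]) hb
    (hT.gen_id hH hp.q₁ (by simp [h2]))
  rw [Φ₂.symm s (μ • f), ← hT.σ₂ (_ * _), map_mul, Φ₂.invol, Φ₂.σ_eps, map_smul, h1, smul_eq_mul,
    mul_one, Φ₁.adj_id] at this
  exact hT.mem_cenG hH hd hp.q₁ hp.ne this

theorem cenG_comm (hI : M ≤ Φ.Iso) (hd : Φ₂.d + 2 ≤ finrank F W) {b c : U →ₗ[F] U}
    (hb : ∀ w s, Φ₂.Q w = 0 → Φ₂.Q s = 0 → Φ₂.B w s = 0 → T.Gen Φ₂ M w (b ∘ₗ T.cR (Φ₂.B s)))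
    (hc : ∀ w s, Φ₂.Q w = 0 → Φ₂.Q s = 0 → Φ₂.B w s = 0 → T.Gen Φ₂ M w (c ∘ₗ T.cR (Φ₂.B s)))
    (μ : F) : Φ.σ μ • c ∘ₗ Φ₁.adj b - (Φ₂.ε * μ) • b ∘ₗ Φ₁.adj c ∈ T.cenG Φ₂ M := by
  obtain ⟨w, -, hw0, hw⟩ := Φ₂.iso ⊤ (by rw [finrank_top]; omega)
  obtain ⟨-, s, f, -, q1, q2, -, h1, h2, h3, -⟩ := Fm.exists_hyp2 hd hw hw0
  have := hT.gen_comm hI hw h2 (s' := μ • f) (by simp [h3]) (hb w s hw q1 h2)
    (hc w _ hw (Φ₂.Q_smul_zero q2 μ) (by simp [h3]))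
  rw [Φ₂.symm s (μ • f), ← hT.σ₂ (_ * _), map_mul, Φ₂.invol, Φ₂.σ_eps, map_smul, h1, smul_eq_mul,
    mul_one] at this
  exact hT.mem_cenG hH hd hw hw0 this

omit hH in
/-- Generation by Eichler maps attached to pure tensors. -/
theorem EG_le_of_root (hI : M ≤ Φ.Iso) (hd : Φ₂.d + 2 ≤ finrank F W)
    (hΛ : ∀ c, Φ.π c = 0 → ∃ a, c = a - Φ.ε * Φ.σ a)
    (h : ∀ u u' w s, Φ₂.Q w = 0 → Φ₂.Q s = 0 → Φ₂.B w s = 0 → Φ.InA M (T.tm u w) (T.tm u' s)) :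
    Φ.EG ≤ M := by
  obtain ⟨u₀, u₁, hu⟩ := hT.exists_B_one
  have key : ∀ u w, Φ₂.Q w = 0 → w ≠ 0 → Φ.Full M (T.tm u w) := fun u w hw hw0 v c hv => by
    obtain ⟨w', s, s', q1, q2, q3, e1, e2, e3, e4, e5, e6⟩ := Fm.exists_hyp2 hd hw hw0
    have k1 : ∀ u' y, Φ₂.B w y = 0 → Φ.InA M (T.tm u w) (T.tm u' y) := fun u' y hy =>
      Fm.mem_of_pair hd hw hw0 ((Φ.inAG M hv.sing).comap (T.tm u').toAddMonoidHom)
        (fun s hp => h u u' w s hw hp.q₂ hp.perp) hy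
    refine Fm.InA.hasE ?_ (fun c hc => ?_) hv
    · let X : Submodule F V :=
        { carrier := {v | ∀ c : F, c • v ∈ Φ.inAG M hv.sing}
          zero_mem' := fun c => by rw [smul_zero]; exact zero_mem _
          add_mem' := fun ha hb c => by rw [smul_add]; exact add_mem (ha c) (hb c)
          smul_mem' := fun a _ ha c => by rw [smul_smul]; exact ha _ }
      have k2 := T.ts_le (Y := Φ₂.perp (Submodule.span F {w})) (X := X) (fun u' y hy c => by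
        simpa [Fm.inAG] using k1 (c • u') y (Φ₂.mem_perp_span_singleton.1 hy))
        ((hT.mem_ts_perp (v := v - T.tm (T.cR (Φ₂.B w) v) w')).2 fun y hy => by
          obtain ⟨c, rfl⟩ := Submodule.mem_span_singleton.1 hy
          simp [e1]) 1
      obtain ⟨c', hv', g, hg, eg⟩ := h (T.cR (Φ₂.B w) v) u₀ w' s' q1 q3 e6
      have k3 := (k1 (-(Φ₁.ε • u₁)) s e3).comm_fix hg (hI hg) (by
        rw [eg]
        exact Fm.ef_apply_of_perp (Φ.perp_symm (by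
          have := hv.perp
          rw [hT.B_tm] at this
          simp [hT.B, this])) (by simp [hT.B, Φ₂.perp_symm e4]))
      convert Fm.InA.add k2 k3 using 1
      simp only [eg, Fm.ef, hT.B, e5, Fm.B_eq_eps e2, Φ₁.bsimp, hu, hT.ε]
      match_scalars
      · ring
      · linear_combination (-1 : F) * Φ₂.eps_sq - Φ₂.ε ^ 2 * Φ₁.eps_sq
      · ring
      · ring
    · obtain ⟨a, rfl⟩ := hΛ c hc
      have := (k1 u₀ s e3).comm (k1 (a • u₁) s' e4)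
      rwa [Φ.symm (T.tm u₀ s), hT.B, map_smul, hu, e2, smul_eq_mul, mul_one, mul_one] at this
  obtain ⟨w, -, hw0, hw⟩ := Φ₂.iso ⊤ (by rw [finrank_top]; omega)
  obtain ⟨w', hw', e⟩ := Fm.exists_partner' hw hw0
  exact Fm.EG_le_of_full (key u₀ w hw hw0) (key u₁ w' hw' fun h => by simp [h] at e) (hT.Q_tm _ hw)
    (hT.Q_tm _ hw') (by simp [hT.B, hu, e])

omit hH in
theorem hasE_of_cenG {x x' : U} {c : F} (h : (Φ₁.B x).smulRight x' -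
    Φ.ε • ((Φ₁.B x').smulRight x + c • (Φ₁.B x).smulRight x) ∈ T.cenG Φ₂ M) {t : W}
    (ht : Φ₂.Q t = 0) : Φ.HasE M (T.tm x t) (T.tm x' t) c := by
  obtain ⟨g, hg, e⟩ := h t ht
  refine ⟨g, hg, fun v => ?_⟩
  simp only [e, Tn.xl_apply, Fm.ef, hT.B_tm, LinearMap.sub_apply, LinearMap.smul_apply,
    LinearMap.add_apply, LinearMap.smulRight_apply, map_sub, map_add, map_smul]
  module

/-- Generation by the centres of the unipotent radicals. -/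
theorem EG_le_of_cen (hI : M ≤ Φ.Iso) (hd : Φ₂.d + 2 ≤ finrank F W)
    (hΛ : ∀ c, Φ.π c = 0 → ∃ a, c = a - Φ.ε * Φ.σ a) (h2 : 2 ≤ finrank F U)
    (hU : 3 ≤ finrank F U ∨ ∃ c, c ≠ 0 ∧ Φ.π c = 0)
    (h : ∀ x x' t c, Φ₂.Q t = 0 → Φ.π c = 0 → Φ.HasE M (T.tm x t) (T.tm x' t) c) : Φ.EG ≤ M := by
  refine hT.EG_le_of_root hI hd hΛ fun u u' w s hw hs hws => ?_
  have val : ∀ x x' t c, Φ₂.Q t = 0 → Φ.π c = 0 → Φ.Valid (T.tm x t) (T.tm x' t) c :=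
    fun x x' t c ht hc => ⟨hT.Q_tm _ ht, by simp [hT.B, Φ₂.B_self ht], by rw [hc, hT.Q_tm _ ht]⟩
  by_cases h0 : T.tm u w = 0
  · rw [h0]
    obtain ⟨c, hv⟩ := Fm.exists_valid (w := T.tm u' s) Φ.Q_zero (by simp)
    exact ⟨c, hv, Fm.full_zero _ _ hv⟩
  have hu0 : u ≠ 0 := fun e => h0 (by simp [e])
  have hw0 : w ≠ 0 := fun e => h0 (by simp [e])
  have k0 : ∀ x, Φ.InA M (T.tm u w) (T.tm x w) := fun x =>
    ⟨0, val _ _ _ _ hw (map_zero _), h _ _ _ _ hw (map_zero _)⟩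
  have k1 : ∀ x x' y t t' c, Φ₂.Q t = 0 → Φ.π c = 0 → Φ₂.B t t' = 1 →
      Φ₁.B x u * Φ₂.B t w = 0 → Φ₁.B x' u * Φ₂.B t w = 0 → Φ₁.B x y • x' = 0 →
      Φ.ε * (Φ₁.B x' y + c * Φ₁.B x y) = -1 → Φ.InA M (T.tm u w) (T.tm y t') →
      Φ.InA M (T.tm u w) (T.tm x t) := fun x x' y t t' c ht hc e1 e2 e3 e4 e5 hy => by
    obtain ⟨g, hg, eg⟩ := h x x' t c ht hc
    convert hy.comm_fix hg (hI hg) (by
      rw [eg]; exact Fm.ef_apply_of_perp (by rw [hT.B, e2]) (by rw [hT.B, e3])) using 1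
    rw [eg, Fm.ef, hT.B, hT.B, e1, mul_one, mul_one, e5, ← LinearMap.smul_apply, ← map_smul, e4]
    simp
  have sol : ∀ {x y : U}, Φ₁.B x y ≠ 0 → ∀ a, ∃ y', Φ₁.B x y' = a ∧ ∃ c : F, y' = c • y :=
    fun {x y} hxy a => ⟨(a / Φ₁.B x y) • y, by simp [hxy], _, rfl⟩
  have ε1 : Φ.ε * -Φ.ε = -1 := by rw [mul_neg, Φ.eps_sq]
  have ε2 : ∀ c : F, c ≠ 0 → Φ.ε * (c * (-Φ.ε / c)) = -1 := fun c hc => by
    rw [mul_div_cancel₀ _ hc, ε1]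
  obtain ⟨w', hw', e1⟩ := Fm.exists_partner' hw hw0
  have k2 : ∀ x, Φ₁.B x u = 0 → Φ.InA M (T.tm u w) (T.tm x w') := fun x hx => by
    have e2 : Φ₂.B w' (Φ₂.ε • w) = 1 := by simp [Fm.B_eq_eps e1, Φ₂.eps_sq]
    have k0' : ∀ x, Φ.InA M (T.tm u w) (T.tm x (Φ₂.ε • w)) := fun x => by simpa using k0 (Φ₂.ε • x)
    rcases hU with h3 | ⟨c, c0, hc⟩
    · obtain ⟨α, hα⟩ := exists_dual_eq_one (F := F) hu0
      obtain ⟨y, -, hy0, hy⟩ := exists_ne_zero_ker [Φ₁.B x, α] (⊤ : Submodule F U) (by simp; omega)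
      obtain ⟨x', h1, h4⟩ : ∃ x', Φ₁.B u x' = 0 ∧ Φ₁.B y x' ≠ 0 := by
        by_contra hc
        push Not at hc
        obtain ⟨c, rfl⟩ := Φ₁.exists_smul_of_perp hc
        exact hy0 (by rw [show c = 0 by simpa [hα] using hy α (by simp), zero_smul])
      obtain ⟨y', h5, c, rfl⟩ := sol (Φ₁.ne_symm h4) (-Φ.ε)
      exact k1 x x' (c • y) w' _ 0 hw' (map_zero _) e2 (by simp [hx]) (by simp [Φ₁.perp_symm h1])
        (by simp [hy (Φ₁.B x) (by simp)]) (by rw [h5, zero_mul, add_zero, ε1]) (k0' _)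
    · by_cases hx0 : x = 0
      · simpa [hx0] using Fm.inA_zero (hT.Q_tm u hw)
      obtain ⟨y, hy⟩ := Φ₁.exists_B_ne hx0
      obtain ⟨y', h5, -⟩ := sol hy (-Φ.ε / c)
      exact k1 x 0 y' w' _ c hw' hc e2 (by simp [hx]) (by simp) (by simp) (by simpa [h5] using ε2 c c0)
        (k0' _)
  have k3 : ∀ x y, Φ₁.B x u = 0 → Φ₂.B w y = 0 → Φ.InA M (T.tm u w) (T.tm x y) := fun x y hx hy => by
    obtain ⟨c, hv⟩ := Fm.exists_valid hw hy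
    have hg := hT.krR_mem hH hv.eich_mem
    convert ((k2 x hx).comm_fix hg (hI hg) (by rw [Tn.krR_tm, hv.eich_apply, hv.ef_self])).add
      (k0 ((Φ₂.ε * (Φ₂.B y w' + c)) • x)) using 1
    simp [hv.eich_apply, Fm.ef, e1]
    abel
  rcases Fm.pair_or_eq_smul hw hw0 hs hws with hp | ⟨c, rfl⟩
  swap
  · simpa using k0 (c • u')
  obtain ⟨f, -, f1, f2⟩ := hp.exists_partner
  have e3 := Φ₂.perp_symm hws
  rcases hU with h3 | ⟨c, c0, hc⟩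
  · obtain ⟨y, hy0, y1, y2⟩ := Fm.exists_perp_pair (Ψ := Φ₁) h3 u u'
    obtain ⟨x', h4⟩ := Φ₁.exists_B_ne hy0
    obtain ⟨y', h5, c, rfl⟩ := sol (Φ₁.ne_symm h4) (-Φ.ε)
    exact k1 u' x' (c • y) s f 0 hs (map_zero _) f1 (by simp [e3]) (by simp [e3]) (by simp [y2])
      (by rw [h5, zero_mul, add_zero, ε1]) (k3 _ _ (Φ₁.perp_symm (by simp [y1])) f2)
  · have k4 : ∀ x, x ∉ Submodule.span F {u} → Φ.InA M (T.tm u w) (T.tm x s) := fun x hx => by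
      obtain ⟨y, y1, y2⟩ := Φ₁.exists_perp_not_perp hx
      obtain ⟨y', h5, a, rfl⟩ := sol (Φ₁.ne_symm (x := y) (y := x) (by simp [y2])) (-Φ.ε / c)
      exact k1 x 0 (a • y) s f c hs hc f1 (by simp [e3]) (by simp) (by simp)
        (by simpa [h5] using ε2 c c0)
        (k3 _ _ (Φ₁.perp_symm (by simp [Φ₁.mem_perp_span_singleton.1 y1])) f2)
    by_cases hx : u' ∈ Submodule.span F {u}
    · obtain ⟨x, hx'⟩ := exists_notMem_span h2 u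
      simpa using (k4 (u' + x) fun h => hx' (by simpa using sub_mem h hx)).sub (k4 x hx')
    · exact k4 u' hx

end TF

end Cfsg.Agent.Class.Max
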