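import Mathlib
import Cfsg.Agent.Class.Max.C5Fm
import Cfsg.Agent.Class.Max.C1Sing

/-!
Low dimensional tools for orthogonal spaces; similarity groups in `SL` in small dimension.
-/

set_option autoImplicit false

namespace Cfsg.Agent.Class.Max

open Module

variable {F V : Type*} [Field F] [AddCommGroup V] [Module F V]

/-- Chevalley–Warning for two quadratic forms in at least five variables. -/
theorem exists_common_zero [Finite F] {ι : Type} [Fintype ι] (h5 : 5 ≤ Fintype.card ι)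
    (A A' : ι → ι → F) : ∃ x : ι → F, x ≠ 0 ∧ ∑ i, ∑ j, x i * x j * A i j = 0 ∧
      ∑ i, ∑ j, x i * x j * A' i j = 0 := by
  classical
  have := Fintype.ofFinite F
  obtain ⟨p, hp⟩ := CharP.exists F
  have : Fact p.Prime := ⟨CharP.char_is_prime F p⟩
  let P : (ι → ι → F) → MvPolynomial ι F := fun A =>
    ∑ i, ∑ j, MvPolynomial.X i * MvPolynomial.X j * MvPolynomial.C (A i j)
  have hd : ∀ A, (P A).totalDegree ≤ 2 := fun A =>
    MvPolynomial.totalDegree_finsetSum_le fun i _ => MvPolynomial.totalDegree_finsetSum_le fun j _ =>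
      (MvPolynomial.totalDegree_mul _ _).trans (by
        rw [MvPolynomial.totalDegree_C, add_zero]
        exact (MvPolynomial.totalDegree_mul _ _).trans (by simp))
  have h := char_dvd_card_solutions_of_add_lt p (f₁ := P A) (f₂ := P A')
    (by have := hd A; have := hd A'; omega)
  by_contra hne
  push Not at hne
  rw [Fintype.card_eq_one_iff.2 ⟨⟨0, by simp [P]⟩, fun ⟨x, hx⟩ => Subtype.ext (by
    by_contra hx0
    exact hne x hx0 (by simpa [P] using hx.1) (by simpa [P] using hx.2))⟩] at h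
  exact (Fact.out : p.Prime).one_lt.ne' (Nat.dvd_one.1 h)

theorem inv_app_of_eq {g : V ≃ₗ[F] V} {x y : V} (h : g x = y) : g⁻¹ y = x := by
  rw [← h, inv_app_app]

namespace Fm

variable {Φ : Fm F V} {M : Subgroup (V ≃ₗ[F] V)}

theorem exists_SLV_not_sim' [FiniteDimensional F V] (hd : Φ.d ≤ finrank F V) (h3 : 3 ≤ finrank F V) :
    ∃ g ∈ SLV F V, ¬ ∃ c : F, ∀ x y, Φ.B (g x) (g y) = c * Φ.B x y := by
  obtain ⟨e, f, he, hf, hef⟩ := exists_hyp (Φ := Φ) hd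
  obtain ⟨w, -, hw0, hw⟩ := exists_ne_zero_ker [Φ.B e, Φ.B f] ⊤ (by rw [finrank_top]; exact h3)
  simp only [List.mem_cons, List.not_mem_nil, or_false, forall_eq_or_imp, forall_eq] at hw
  obtain ⟨y, hy, hwy⟩ := (Φ.nd_top.inf_hyp trivial trivial he hf hef).exists_ne
    (x := w) ⟨⟨trivial, hw.1⟩, hw.2⟩ hw0
  obtain ⟨t, ht, e1⟩ := hasTv_SLV hw.1
  refine ⟨t, ht, fun ⟨c, hc⟩ => hwy ?_⟩
  have h1 := hc f y
  simpa [e1, hef, show Φ.B e y = 0 from hy.1.2, show Φ.B f y = 0 from hy.2] using h1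

theorem hasTv_conj_iso {u v : V} (h : HasTv M (Φ.B u) v) {g : V ≃ₗ[F] V} (hg : g ∈ M)
    (hI : g ∈ Φ.Iso) : HasTv M (Φ.B (g u)) (g v) :=
  (h.conj hg).congr fun x => by rw [LinearMap.comp_apply, LinearEquiv.coe_coe, Iso.B_inv hI]

/-- Similarity groups of symplectic and unitary forms. -/
theorem SLV_le_of_not_sim_tv [FiniteDimensional F V] (hd : Φ.d + 4 ≤ finrank F V) {c₀ : F}
    (hc₀ : c₀ ≠ 0) (hπ : Φ.π c₀ = 0) (hM : Φ.EG ≤ M) {g : V ≃ₗ[F] V}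
    (hg : g ∈ M) (h : ¬ ∃ c : F, ∀ x y, Φ.B (g x) (g y) = c * Φ.B x y) : SLV F V ≤ M := by
  by_contra hc
  apply h
  have h1 : ∀ e, Φ.Q e = 0 → e ≠ 0 → ∃ l, ∀ y, Φ.B (g e) (g y) = l * Φ.B e y := fun e he he0 => by
    have hv : Φ.Valid e 0 c₀ := ⟨he, map_zero _, by rw [hπ, Φ.Q_zero]⟩
    have h2 : HasTv M ((-(Φ.ε * c₀)) • Φ.B e) e := ⟨hv.eich, hM hv.eich_mem, fun x => by
      simp only [hv.eich_apply, ef, Φ.bsimp, LinearMap.smul_apply, smul_eq_mul]; module⟩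
    have h3 := h2.conj hg
    obtain ⟨u, hu⟩ := Φ.exists_eq_dual (((-(Φ.ε * c₀)) • Φ.B e) ∘ₗ (g⁻¹ : V ≃ₗ[F] V).toLinearMap)
    have h4 : ∀ y, Φ.B u (g y) = -(Φ.ε * c₀) * Φ.B e y := fun y => by simp [hu]
    obtain ⟨t, rfl⟩ := Φ.exists_smul_of_perp (e := g e) (v := u) fun y hy => by
      by_contra h5
      exact hc (SLV_le_of_hasTv hd hM (g.map_ne_zero_iff.2 he0) (by rw [h4, Φ.B_self he, mul_zero])
        hy h5 (hu ▸ h3))
    obtain ⟨z, hz⟩ := Φ.exists_B_ne he0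
    have h5 : Φ.σ t ≠ 0 := left_ne_zero_of_mul (by
      rw [← Φ.B_smul_left, h4]
      exact mul_ne_zero (neg_ne_zero.2 (mul_ne_zero Φ.eps_ne hc₀)) hz)
    exact ⟨-(Φ.ε * c₀) / Φ.σ t, fun y => by
      rw [div_mul_eq_mul_div, ← h4, Φ.B_smul_left, mul_div_cancel_left₀ _ h5]⟩
  choose! l hl using h1
  have h2 : ∀ a b, Φ.Q a = 0 → Φ.Q b = 0 → Φ.B a b ≠ 0 → l a = Φ.σ (l b) := fun a b ha hb hab => by
    have h3 := hl a ha (fun h => hab (by simp [h])) b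
    rw [Φ.symm, hl b hb (fun h => hab (by simp [h])), map_mul, Φ.symm b a] at h3
    refine mul_right_cancel₀ (mul_ne_zero Φ.eps_ne (Φ.σ_ne (Φ.ne_symm hab))) ?_
    linear_combination -h3
  have h3 : ∀ a b, Φ.Q a = 0 → Φ.Q b = 0 → a ≠ 0 → b ≠ 0 → Φ.B a b = 0 → l a = l b :=
    fun a b ha hb ha0 hb0 hab => by
      obtain ⟨s, -, hs, h4, h5⟩ := exists_sing_not_perp₂ ⊤ trivial ha hab
        (let ⟨y, hy⟩ := Φ.exists_B_ne ha0; ⟨y, trivial, hy⟩)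
        (let ⟨y, hy⟩ := Φ.exists_B_ne hb0; ⟨y, trivial, hy⟩)
      rw [h2 a s ha hs h4, h2 b s hb hs h5]
  obtain ⟨e, -, he0, he⟩ := Φ.iso ⊤ (by rw [finrank_top]; omega)
  let A : AddSubgroup V :=
    { carrier := {x | ∀ y, Φ.B (g x) (g y) = l e * Φ.B x y}
      zero_mem' := fun y => by simp
      add_mem' := fun {a b} ha hb y => by
        rw [map_add, Φ.B_add_left, ha, hb, Φ.B_add_left]; ring
      neg_mem' := fun {a} ha y => by rw [map_neg, Φ.B_neg_left, ha, Φ.B_neg_left]; ring }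
  refine ⟨l e, fun x => le_of_sing (Y := ⊤) trivial he
    (let ⟨y, hy⟩ := Φ.exists_B_ne he0; ⟨y, trivial, hy⟩) A (fun s _ hs ⟨z, _, hz⟩ y => ?_) x trivial⟩
  have hs0 : s ≠ 0 := fun h => hz (by simp [h])
  obtain ⟨a, -, ha, h4, h5, z', -, h6⟩ := big_top (Φ := Φ) (by omega) e s
  have ha0 : a ≠ 0 := fun h => h6 (by simp [h])
  rw [hl s hs hs0, h3 e a he ha he0 ha0 h4, h3 s a hs ha hs0 ha0 h5]

theorem sim_isMaximalIn_of [FiniteDimensional F V] (hd : Φ.d ≤ finrank F V) (h3 : 3 ≤ finrank F V)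
    {H : Subgroup (V ≃ₗ[F] V)}
    (hH : ∀ g, g ∈ H ↔ (∃ c : F, ∀ x y, Φ.B (g x) (g y) = c * Φ.B x y) ∧ g ∈ SLV F V)
    (h : ∀ M : Subgroup (V ≃ₗ[F] V), Φ.EG ≤ M → H ≤ M → M ≤ SLV F V → ¬ SLV F V ≤ M → ∀ g ∈ M,
      ∃ c : F, ∀ x y, Φ.B (g x) (g y) = c * Φ.B x y) : Geo.IsMaximalIn (SLV F V) H := by
  refine isMaximalIn_of (fun g hg => ((hH g).1 hg).2) ?_ fun M h1 h2 g hg hg' => ?_
  · obtain ⟨g, hg, hg'⟩ := exists_SLV_not_sim' hd h3
    exact ⟨g, hg, fun c => hg' ((hH g).1 c).1⟩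
  · by_contra hc
    refine hg' ((hH g).2 ⟨h M (fun t ht => h1 ((hH t).2 ⟨⟨1, fun x y => ?_⟩, Φ.EG_le_SLV ht⟩))
      h1 h2 hc g hg, h2 hg⟩)
    rw [Iso.B (Φ.EG_le_Iso ht), one_mul]

variable (Φ) in
/-- Orthogonal spaces. -/
structure IsO : Prop where
  σ : ∀ a, Φ.σ a = a
  ε : Φ.ε = 1
  π : ∀ c, Φ.π c = c
  d : Φ.d = 3

namespace IsO

variable (hO : Φ.IsO)
include hO

theorem symm (x y : V) : Φ.B y x = Φ.B x y := by rw [Φ.symm, hO.σ, hO.ε, one_mul]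

theorem Q_add (x y : V) : Φ.Q (x + y) = Φ.Q x + Φ.Q y + Φ.B x y := by rw [Φ.add, hO.π]

theorem Q_sub (x y : V) : Φ.Q (x - y) = Φ.Q x + Φ.Q y - Φ.B x y := by rw [Φ.Q_sub, hO.π]

theorem Q_smul (a : F) (x : V) : Φ.Q (a • x) = a * a * Φ.Q x := by rw [Φ.smul, hO.σ]

theorem B_self (x : V) : Φ.B x x = 2 * Φ.Q x := by
  rw [← Φ.trace _ x (hO.π _), hO.ε, hO.σ]; ring

theorem valid {e w : V} (he : Φ.Q e = 0) (hw : Φ.B e w = 0) : Φ.Valid e w (Φ.Q w) :=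
  ⟨he, hw, hO.π _⟩

theorem ef (e w : V) (c : F) (x : V) :
    Φ.ef e w c x = x + Φ.B e x • w - (Φ.B w x + c * Φ.B e x) • e := by
  rw [Fm.ef, hO.ε, one_mul]

theorem exists_nonsing {W : Submodule F V} (hW : Φ.ND W) (h0 : W ≠ ⊥) : ∃ w ∈ W, Φ.Q w ≠ 0 := by
  by_contra hc
  push Not at hc
  refine h0 (eq_bot_iff.2 fun x hx => hW x hx fun y hy => ?_)
  exact B_eq_zero_of_inj (fun c h => (hO.π c).symm.trans h) hc x hx y hy

variable [FiniteDimensional F V]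

theorem exists_nonsing_perp {U : Submodule F V} (hU : Φ.ND U) (h3 : 3 ≤ finrank F U) {e f : V}
    (heU : e ∈ U) (hfU : f ∈ U) (he : Φ.Q e = 0) (hf : Φ.Q f = 0) (h : Φ.B e f = 1) :
    ∃ w ∈ U, Φ.Q w ≠ 0 ∧ Φ.B e w = 0 ∧ Φ.B f w = 0 := by
  obtain ⟨w, hw, h1⟩ := hO.exists_nonsing (hU.inf_hyp heU hfU he hf h) fun h0 => by
    have := finrank_le_inf_ker₂ U (Φ.B e) (Φ.B f)
    rw [h0, finrank_bot] at this
    omega
  exact ⟨w, hw.1.1, h1, hw.1.2, hw.2⟩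

/-- Irreducibility in dimension at least three, odd characteristic. -/
theorem le_of_invariant (h2 : (2 : F) ≠ 0) {U A : Submodule F V} (hU : Φ.ND U)
    (h3 : 3 ≤ finrank F U) {u : V} (huU : u ∈ U) (hu : u ∈ A) (hu0 : u ≠ 0)
    (hA : ∀ s ∈ U, ∀ w ∈ U, Φ.Q s = 0 → Φ.B s w = 0 → Φ.ef s w (Φ.Q w) u ∈ A) : U ≤ A := by
  obtain ⟨e, he, f, hf, qe, -, hef⟩ := hU.exists_hyp (hO.d ▸ h3)
  obtain ⟨s, hs, qs, hus⟩ := exists_sing_not_perp U he qe ⟨f, hf, by simp [hef]⟩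
    (hU.exists_ne huU hu0)
  have hsu := Φ.ne_symm hus
  obtain ⟨s', hs', qs', hss⟩ := exists_partner hs qs ⟨u, huU, hsu⟩
  obtain ⟨w₀, hw₀, q₀, h4, -⟩ := hO.exists_nonsing_perp hU h3 hs hs' qs qs' hss
  have key : ∀ w ∈ U, Φ.B s w = 0 → Φ.B s u • w - (Φ.B w u + Φ.Q w * Φ.B s u) • s ∈ A :=
    fun w hw h => by
      have := A.sub_mem (hA s hs w hw qs h) hu
      rwa [hO.ef, add_sub_assoc, add_sub_cancel_left] at this
  have hsA : s ∈ A := by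
    have := A.add_mem (key w₀ hw₀ h4) (key (-w₀) (U.neg_mem hw₀) (by simp [h4]))
    rw [Φ.Q_neg, Φ.B_neg_left] at this
    refine (A.smul_mem_iff (neg_ne_zero.2 (mul_ne_zero h2 (mul_ne_zero q₀ hsu)))).1 ?_
    convert this using 1
    module
  intro y hy
  have h5 := key (y - (Φ.B s y / Φ.B s u) • u) (U.sub_mem hy (U.smul_mem _ huU)) (by simp [hsu])
  rw [A.sub_mem_iff_left (A.smul_mem _ hsA), A.smul_mem_iff hsu] at h5
  simpa using A.add_mem h5 (A.smul_mem (Φ.B s y / Φ.B s u) hu)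

/-- A transvection with singular centre together with `Ω` generates `SL`. -/
theorem SLV_le_of_tv (h2 : (2 : F) ≠ 0) (h5 : 5 ≤ finrank F V) (hM : Φ.EG ≤ M) {e₀ : V}
    (he₀ : Φ.Q e₀ = 0) (h0 : e₀ ≠ 0) {φ : Dual F V} (hφ0 : φ ≠ 0) (hφ : φ e₀ = 0)
    (h : HasTv M φ e₀) : SLV F V ≤ M := by
  have hd : Φ.d + 2 ≤ finrank F V := hO.d ▸ h5
  obtain ⟨c₀, hc₀, h1⟩ : ∃ c : F, c ≠ 0 ∧ HasTv M (Φ.B (c • e₀)) e₀ := by
    obtain ⟨u, rfl⟩ := Φ.exists_eq_dual φ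
    by_cases h1 : ∀ y, Φ.B e₀ y = 0 → Φ.B u y = 0
    · obtain ⟨c, rfl⟩ := Φ.exists_smul_of_perp h1
      exact ⟨c, fun hc => hφ0 (by simp [hc]), h⟩
    push Not at h1
    obtain ⟨w, hw, huw⟩ := h1
    have hv := hO.valid he₀ hw
    have h3 := hasTv_conj_iso h (hM hv.eich_mem) (hv.mem_Iso hv.eich_apply)
    rw [hv.eich_apply, hv.eich_apply, hv.ef_self, ef_apply_of_perp' (Φ.perp_symm hφ)] at h3
    refine ⟨Φ.ε * Φ.B w u, mul_ne_zero Φ.eps_ne (Φ.ne_symm huw), ?_⟩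
    have h4 : Φ.B (u - (Φ.ε * Φ.B w u) • e₀) e₀ = 0 := by simp [hφ, Φ.B_self he₀]
    simpa using h.add_left hφ (h3.neg_left h4)
  have h3 : ∀ s, Φ.Q s = 0 → ∀ c : F, HasTv M (Φ.B (c • s)) s := fun s hs c => by
    by_cases hs0 : s = 0
    · rw [hs0]; exact hasTv_zero_right _
    have key : ∀ a : F, HasTv M (Φ.B ((c₀ * a ^ 2) • s)) s := fun a => by
      by_cases ha : a = 0
      · simpa [ha] using hasTv_zero_left s
      obtain ⟨g, hg, e1⟩ := move_EG hd h0 (smul_ne_zero ha hs0) (by rw [Φ.Q_smul_zero hs, he₀])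
      refine (hasTv_conj_iso h1 (hM hg) (Φ.EG_le_Iso hg)).congr fun x => ?_
      simp only [map_smul, e1, Φ.bsimp, hO.σ]
      module
    have h4 : ∀ a : F, Φ.B (a • s) s = 0 := fun a => by simp [Φ.B_self hs]
    refine ((key ((c / c₀ + 1) / 2)).add_left (h4 _) ((key ((c / c₀ - 1) / 2)).neg_left (h4 _))).congr
      fun x => ?_
    simp only [LinearMap.add_apply, LinearMap.neg_apply, Φ.bsimp, hO.σ]
    congr 1
    field_simp
    ring
  obtain ⟨e, f, he, hf, hef⟩ := exists_hyp (Φ := Φ) (by omega)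
  obtain ⟨w, -, hw, hew, hfw⟩ := hO.exists_nonsing_perp Φ.nd_top (by rw [finrank_top]; omega)
    trivial trivial he hf hef
  have hfe : Φ.B f e = 1 := by rw [hO.symm, hef]
  have ee := Φ.B_self he
  have ff := Φ.B_self hf
  set b := e - Φ.Q w • f + w with hb
  have qb : Φ.Q b = 0 := by
    simp only [hb, hO.Q_add, hO.Q_sub, hO.Q_smul, Φ.bsimp, he, hf, hef, hew, hfw]; ring
  have hb0 : b ≠ 0 := fun h => by simpa [hb, hfe, ff, hfw] using congrArg (Φ.B f) h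
  have h4 : ∀ c : F, HasTv M (Φ.B (c • (e + Φ.Q w • f))) b := fun c => by
    obtain ⟨t, ht, e1⟩ := h3 f hf (-Φ.Q w)
    have h4 : HasTv M (Φ.B ((c / (-(2 * Φ.Q w))) • (e + Φ.Q w • f))) (e - Φ.Q w • f) := by
      refine ((h3 e he (c / (-(2 * Φ.Q w)))).conj ht).congr fun x => ?_
      have : t⁻¹ x = x + (Φ.Q w * Φ.B f x) • f := t.injective (by
        rw [app_inv_app, e1]
        simp only [Φ.bsimp, ff, hO.σ]; module)
      simp only [LinearMap.comp_apply, LinearEquiv.coe_coe, this, e1, Φ.bsimp, hO.σ, hef, hfe]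
      module
    refine (HasTv.comm' (by simp [Φ.bsimp, hO.σ, ee, ff, hef, hfe]) (by simp [Φ.B_self qb])
      (by simp [hb, Φ.bsimp, hO.σ, ee, ff, hef, hfe, hew, hfw]) h4 (h3 b qb 1)).congr fun x => ?_
    simp only [hb, Φ.bsimp, hO.σ, ee, ff, hef, hfe, Φ.perp_symm hew, Φ.perp_symm hfw, smul_smul]
    congr 1
    field_simp
    ring
  let A : Submodule F V :=
    { carrier := {u | Φ.B u b = 0 ∧ ∀ c : F, HasTv M (Φ.B (c • u)) b}
      zero_mem' := ⟨by simp, fun c => by simpa using hasTv_zero_left b⟩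
      add_mem' := fun {x y} hx hy => ⟨by simp [hx.1, hy.1], fun c => by
        rw [smul_add, map_add]; exact (hx.2 c).add_left (by simp [hx.1]) (hy.2 c)⟩
      smul_mem' := fun a x hx => ⟨by simp [hx.1], fun c => by rw [smul_smul]; exact hx.2 _⟩ }
  have hbA : b ∈ A := ⟨Φ.B_self qb, h3 b qb⟩
  have h6 : Φ.B (e + Φ.Q w • f) b = 0 := by simp [hb, Φ.bsimp, hO.σ, ee, ff, hef, hfe, hew, hfw]
  obtain ⟨f', -, qf, hbf⟩ := exists_partner (U := ⊤) trivial qb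
    (let ⟨y, hy⟩ := Φ.exists_B_ne hb0; ⟨y, trivial, hy⟩)
  have hfb : Φ.B f' b = 1 := by rw [hO.symm, hbf]
  have h7 : ∀ v, Φ.B v b = 0 →
      v - Φ.B f' v • b ∈ ⊤ ⊓ LinearMap.ker (Φ.B b) ⊓ LinearMap.ker (Φ.B f') := fun v hv =>
    ⟨⟨trivial, by simp [Φ.perp_symm hv, Φ.B_self qb]⟩, by simp [hfb]⟩
  have h8 := hO.le_of_invariant h2 (A := A) (Φ.nd_top.inf_hyp trivial trivial qb qf hbf)
    (by have := finrank_le_inf_ker₂ ⊤ (Φ.B b) (Φ.B f'); rw [finrank_top] at this; omega)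
    (h7 _ h6) (A.sub_mem ⟨h6, h4⟩ (A.smul_mem _ hbA)) (fun h => hw (by
      have := congrArg Φ.Q (sub_eq_zero.1 h)
      simpa [hO.Q_add, hO.Q_smul, he, hf, qb, hef] using this)) fun s hs w' hw' qs hsw => by
      have hv := hO.valid qs hsw
      have hI := hv.mem_Iso hv.eich_apply
      have e1 : hv.eich b = b := ef_apply_of_perp (Φ.perp_symm hs.1.2) (Φ.perp_symm hw'.1.2)
      obtain ⟨h9, h10⟩ := A.sub_mem ⟨h6, h4⟩ (A.smul_mem (Φ.B f' (e + Φ.Q w • f)) hbA)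
      refine ⟨?_, fun c => ?_⟩
      · rw [← Iso.B hI, e1] at h9
        exact h9
      have := hasTv_conj_iso (h10 c) (hM hv.eich_mem) hI
      rwa [e1, map_smul, hv.eich_apply] at this
  refine SLV_le_of_irr ((irr_EG hd).mono hM) hb0 fun φ hφ => ?_
  obtain ⟨v, rfl⟩ := Φ.exists_eq_dual φ
  simpa using (A.add_mem (h8 (h7 v hφ)) (A.smul_mem (Φ.B f' v) hbA)).2 1

section Rigid

variable (h2 : (2 : F) ≠ 0) (h5 : 5 ≤ finrank F V) (hM : Φ.EG ≤ M) (hn : ¬ SLV F V ≤ M)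
include h2 h5 hM hn

theorem eq_of_tv {e : V} (he : Φ.Q e = 0) (h0 : e ≠ 0) {k : V ≃ₗ[F] V} (hk : k ∈ M) (hke : k e = e)
    (h : ∀ x, ∃ t : F, k x = x + t • e) (x : V) : k x = x := by
  obtain ⟨y, hy⟩ := Φ.exists_B_ne h0
  have h1 := B_normalize' hy
  generalize (Φ.ε * (Φ.B e y)⁻¹) • y = f at h1
  have h3 : ∀ x, k x = x + (Φ.B f ∘ₗ k.toLinearMap - Φ.B f) x • e := fun x => by
    obtain ⟨t, ht⟩ := h x
    simp [ht, h1]
  by_cases h4 : Φ.B f ∘ₗ k.toLinearMap - Φ.B f = 0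
  · rw [h3, h4]; simp
  · exact (hn (hO.SLV_le_of_tv h2 h5 hM he h0 h4 (by simp [hke]) ⟨k, hk, h3⟩)).elim

theorem eq_ef {e w : V} (he : Φ.Q e = 0) (h0 : e ≠ 0) (hw : Φ.B e w = 0) {z : V ≃ₗ[F] V} (hz : z ∈ M)
    (hze : z e = e) (h : ∀ x, ∃ t : F, z x = x + Φ.B e x • w + t • e) (x : V) :
    z x = Φ.ef e w (Φ.Q w) x := by
  have hv := hO.valid he hw
  obtain ⟨E, hE, eE⟩ := hv.hasE
  have h1 : E e = e := by rw [eE, hv.ef_self]
  have := hO.eq_of_tv h2 h5 hM hn he h0 (M.mul_mem (M.inv_mem (hM hE)) hz)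
    (by rw [mul_app, hze, inv_app_of_eq h1]) (fun x => by
      obtain ⟨t, ht⟩ := h x
      refine ⟨t + (Φ.B w x + Φ.Q w * Φ.B e x), E.injective ?_⟩
      rw [mul_app, app_inv_app, map_add, map_smul, h1, eE, hO.ef, ht]
      module) x
  rw [← eE, ← app_inv_app E (z x), ← mul_app E⁻¹, this]

theorem perp_of_fix {e : V} (he : Φ.Q e = 0) (h0 : e ≠ 0) {h : V ≃ₗ[F] V} (hh : h ∈ M) {μ : F}
    (hμ : h e = μ • e) : ∃ l : F, ∀ y, Φ.B e (h⁻¹ y) = l * Φ.B e y := by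
  have ee := Φ.B_self he
  have hμ0 : μ ≠ 0 := by
    rintro rfl
    exact h0 (by simpa using hμ)
  obtain ⟨u, hu⟩ := Φ.exists_eq_dual (Φ.B e ∘ₗ (h⁻¹ : V ≃ₗ[F] V).toLinearMap)
  have hu' : ∀ y, Φ.B e (h⁻¹ y) = Φ.B u y := fun y => by simp [hu]
  suffices ∀ y, Φ.B e y = 0 → Φ.B u y = 0 by
    obtain ⟨l, rfl⟩ := Φ.exists_smul_of_perp this
    exact ⟨l, fun y => by rw [hu', Φ.B_smul_left, hO.σ]⟩
  by_contra hc
  push Not at hc
  have hue : Φ.B u e = 0 := by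
    have := hu' (μ • e)
    rw [← hμ, inv_app_app, ee, hμ, Φ.B_smul_right, eq_comm] at this
    exact (mul_eq_zero.1 this).resolve_left hμ0
  obtain ⟨f, -, hf, hef⟩ := exists_partner (U := ⊤) trivial he
    (let ⟨y, hy⟩ := Φ.exists_B_ne h0; ⟨y, trivial, hy⟩)
  have hfe : Φ.B f e = 1 := by rw [hO.symm, hef]
  have hU := Φ.nd_top.inf_hyp trivial trivial he hf hef
  have h3 : 3 ≤ finrank F ↥(⊤ ⊓ LinearMap.ker (Φ.B e) ⊓ LinearMap.ker (Φ.B f)) := by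
    have := finrank_le_inf_ker₂ ⊤ (Φ.B e) (Φ.B f); rw [finrank_top] at this; omega
  obtain ⟨s, hs, s', hs', qs, -, hss⟩ := hU.exists_hyp (hO.d ▸ h3)
  obtain ⟨w₀, hw₀, q₀, h4⟩ := exists_sing_not_perp _ hs qs ⟨s', hs', by simp [hss]⟩ (u := u) (by
    obtain ⟨y, hy, hy'⟩ := hc
    exact ⟨y - Φ.B f y • e, ⟨⟨trivial, by simp [hy, ee]⟩, by simp [hfe]⟩, by simpa [hue] using hy'⟩)
  obtain ⟨w, hw, qw, huw⟩ : ∃ w, Φ.B e w = 0 ∧ Φ.Q w = 0 ∧ Φ.B u w = 1 :=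
    ⟨(Φ.B u w₀)⁻¹ • w₀, by simp [show Φ.B e w₀ = 0 from hw₀.1.2], Φ.Q_smul_zero q₀ _, by simp [h4]⟩
  obtain ⟨v, hev, huv, qv⟩ : ∃ v, Φ.B e v = 0 ∧ Φ.B u v = 0 ∧ Φ.Q (w + v) ≠ 0 := by
    by_contra hc'
    push Not at hc'
    have h6 : ∀ v ∈ LinearMap.ker (Φ.B e) ⊓ LinearMap.ker (Φ.B u), Φ.Q v = 0 := fun v hv => by
      have h6 := hc' v hv.1 hv.2
      have h7 := hc' (-v) (by rw [map_neg, hv.1, neg_zero]) (by rw [map_neg, hv.2, neg_zero])
      rw [hO.Q_add, qw] at h6 h7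
      rw [Φ.Q_neg, map_neg] at h7
      exact (mul_eq_zero.1 (by linear_combination h6 + h7)).resolve_left h2
    have h7 := TS.two_mul_le ⟨h6, B_eq_zero_of_inj (fun c h => (hO.π c).symm.trans h) h6⟩
    have := finrank_le_inf_ker₂ ⊤ (Φ.B e) (Φ.B u)
    rw [finrank_top, top_inf_eq] at this
    omega
  have v1 := hO.valid he (w := h⁻¹ v) (by rw [hu', huv])
  have v2 := hO.valid he hw
  obtain ⟨E, hE, eE⟩ := v2.hasE
  set x := h * v1.eich * h⁻¹ with hx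
  have hxM : x ∈ M := M.mul_mem (M.mul_mem hh (hM v1.eich_mem)) (M.inv_mem hh)
  have h6 : ∀ y, ∃ t : F, x y = y + Φ.B u y • v + t • e := fun y => ⟨_, by
    rw [hx, mul_app, mul_app, v1.eich_apply, hO.ef, map_sub, map_add, map_smul, map_smul,
      app_inv_app, app_inv_app, hu', hμ, smul_smul, sub_eq_add_neg, ← neg_smul]⟩
  have h7 : x e = e := by
    rw [hx, mul_app, mul_app, show h⁻¹ e = μ⁻¹ • e from h.injective (by
      rw [app_inv_app, map_smul, hμ, smul_smul, inv_mul_cancel₀ hμ0, one_smul]), map_smul,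
      v1.eich_apply, v1.ef_self, map_smul, hμ, smul_smul, inv_mul_cancel₀ hμ0, one_smul]
  have h8 : ∀ y, Φ.B e (x⁻¹ y) = Φ.B e y := fun y => by
    obtain ⟨t, ht⟩ := h6 (x⁻¹ y)
    rw [app_inv_app] at ht
    nth_rewrite 2 [ht]
    simp [hev, ee]
  have h9 := hO.eq_ef h2 h5 hM hn he h0 (w := w + v) (by simp [hw, hev])
    (M.mul_mem (M.mul_mem hxM (hM hE)) (M.inv_mem hxM))
    (by rw [mul_app, mul_app, inv_app_of_eq h7, eE, v2.ef_self, h7]) fun y => by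
      obtain ⟨t, ht⟩ := h6 w
      refine ⟨Φ.B e y * t - (Φ.B w (x⁻¹ y) + Φ.Q w * Φ.B e y), ?_⟩
      rw [mul_app, mul_app, eE, hO.ef, map_sub, map_add, map_smul, map_smul,
        app_inv_app, h7, h8, ht, huw]
      module
  have h10 : ∀ y, E (E y) + y = (2 : F) • E y := fun y => by
    simp only [eE, hO.ef, Φ.bsimp, hw, Φ.perp_symm hw, ee, qw, Φ.B_self qw]
    module
  have h11 := congrArg x (h10 (x⁻¹ f))
  simp only [mul_app] at h9
  rw [map_add, map_smul, app_inv_app, h9, ← inv_app_app x (E (x⁻¹ f)), h9, h9] at h11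
  have h12 := congrArg (Φ.B f) h11
  have h13 : Φ.B (w + v) e = 0 := by simp [Φ.perp_symm hw, Φ.perp_symm hev]
  generalize w + v = w' at *
  simp only [hO.ef, Φ.bsimp, hef, hfe, ee, h13, Φ.perp_symm h13, hO.B_self w', Φ.B_self hf] at h12
  exact mul_ne_zero h2 qv (by linear_combination -h12)

theorem sim_of_fix (hH : ∀ g ∈ SLV F V, (∃ c : F, ∀ x y, Φ.B (g x) (g y) = c * Φ.B x y) → g ∈ M)
    (hS : M ≤ SLV F V) {e : V} (he : Φ.Q e = 0) (h0 : e ≠ 0) {h : V ≃ₗ[F] V} (hh : h ∈ M) {μ : F}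
    (hμ : h e = μ • e) : ∃ c : F, ∀ x y, Φ.B (h x) (h y) = c * Φ.B x y := by
  have ee := Φ.B_self he
  have hμ0 : μ ≠ 0 := by
    rintro rfl
    exact h0 (by simpa using hμ)
  obtain ⟨l, hl⟩ := hO.perp_of_fix h2 h5 hM hn he h0 hh hμ
  have hl' : ∀ y, Φ.B e y = l * Φ.B e (h y) := fun y => by rw [← hl, inv_app_app]
  obtain ⟨f, -, hf, hef⟩ := exists_partner (U := ⊤) trivial he
    (let ⟨y, hy⟩ := Φ.exists_B_ne h0; ⟨y, trivial, hy⟩)
  have hl0 : l ≠ 0 := left_ne_zero_of_mul (by rw [← hl', hef]; exact one_ne_zero)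
  have h1 : ∀ w, Φ.B e w = 0 → Φ.B e (h w) = 0 := fun w hw =>
    (mul_eq_zero.1 ((hl' w).symm.trans hw)).resolve_left hl0
  have h3 : ∀ w, Φ.B e w = 0 → ∀ x, Φ.B (h w) (h x) = μ / l * Φ.B w x := fun w hw => by
    have hv := hO.valid he hw
    have h3 := hO.eq_ef h2 h5 hM hn he h0 (w := l • h w) (by simp [h1 w hw])
      (M.mul_mem (M.mul_mem hh (hM hv.eich_mem)) (M.inv_mem hh))
      (by rw [mul_app, mul_app, show h⁻¹ e = μ⁻¹ • e from h.injective (by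
        rw [app_inv_app, map_smul, hμ, smul_smul, inv_mul_cancel₀ hμ0, one_smul]), map_smul,
        hv.eich_apply, hv.ef_self, map_smul, hμ, smul_smul, inv_mul_cancel₀ hμ0, one_smul])
      fun y => ⟨_, by
        rw [mul_app, mul_app, hv.eich_apply, hO.ef, map_sub, map_add, map_smul, map_smul,
          app_inv_app, hl, hμ, smul_smul, smul_smul, sub_eq_add_neg, ← neg_smul, mul_comm l]⟩
    have h4 : ∀ x, μ * (Φ.B w x + Φ.Q w * Φ.B e x) =
        l * Φ.B (h w) (h x) + l * Φ.Q (h w) * Φ.B e x := fun x => by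
      have := h3 (h x)
      rw [mul_app, mul_app, inv_app_app, hv.eich_apply, hO.ef, hO.ef, map_sub, map_add, map_smul,
        map_smul, hμ, smul_smul, smul_smul, mul_comm _ l, ← hl', sub_right_inj, hO.Q_smul,
        Φ.B_smul_left, hO.σ] at this
      rw [mul_comm μ, smul_left_injective F h0 this, hl' x]
      ring
    have h5 := h4 w
    rw [hw, hO.B_self, hO.B_self] at h5
    have h6 : l * Φ.Q (h w) = μ * Φ.Q w := mul_left_cancel₀ h2 (by linear_combination -h5)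
    intro x
    have := h4 x
    field_simp
    linear_combination -this - Φ.B e x * h6
  obtain ⟨t, ht, e1⟩ := hasTv_SLV (φ := (-(l * l * Φ.Q (h f))) • Φ.B e) (v := e) (by simp [ee])
  have h4 : Φ.B e (h f) = l⁻¹ := by
    have := hl' f
    rw [hef] at this
    exact eq_inv_of_mul_eq_one_right this.symm
  have h6 : ∀ x y, Φ.B ((t * h) x) ((t * h) y) = μ / l * Φ.B x y := by
    have h6 : ∀ w, Φ.B e w = 0 → ∀ y, Φ.B ((t * h) w) ((t * h) y) = μ / l * Φ.B w y :=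
      fun w hw y => by simp [e1, h1 w hw, Φ.perp_symm (h1 w hw), h3 w hw]
    have h7 : Φ.B ((t * h) f) ((t * h) f) = 0 := by
      simp only [mul_app, e1, LinearMap.smul_apply, smul_eq_mul, Φ.bsimp, hO.σ, h4, hO.symm e, ee,
        hO.B_self (h f)]
      field_simp
      ring
    have h8 : ∀ y, Φ.B ((t * h) f) ((t * h) y) = μ / l * Φ.B f y := fun y => by
      have := h6 (y - Φ.B e y • f) (by simp [hef]) f
      rw [map_sub, map_smul, Φ.B_sub_left, Φ.B_sub_left, Φ.B_smul_left, Φ.B_smul_left, h7,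
        Φ.B_self hf] at this
      rw [hO.symm, hO.symm y]
      linear_combination this
    intro x y
    have := h6 (x - Φ.B e x • f) (by simp [hef]) y
    rw [map_sub, map_smul, Φ.B_sub_left, Φ.B_sub_left, Φ.B_smul_left, Φ.B_smul_left, h8] at this
    linear_combination this
  have h7 : t ∈ M := by
    simpa using M.mul_mem (hH _ ((SLV F V).mul_mem ht (hS hh)) ⟨_, h6⟩) (M.inv_mem hh)
  have h8 := hO.eq_of_tv h2 h5 hM hn he h0 h7 (by simp [e1, ee]) fun x => ⟨_, e1 x⟩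
  exact ⟨μ / l, by simpa only [mul_app, h8] using h6⟩

end Rigid

theorem exists_sing_sing [Finite F] (h2 : (2 : F) ≠ 0) (h5 : 5 ≤ finrank F V) (g : V ≃ₗ[F] V) :
    ∃ e, e ≠ 0 ∧ Φ.Q e = 0 ∧ Φ.Q (g e) = 0 := by
  let b := Module.finBasis F V
  obtain ⟨x, hx, h3, h4⟩ := exists_common_zero (by simpa using h5)
    (fun i j => Φ.B (b i) (b j)) fun i j => Φ.B (g (b i)) (g (b j))
  refine ⟨b.equivFun.symm x, b.equivFun.symm.map_ne_zero_iff.2 hx, ?_, ?_⟩ <;>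
    refine (mul_eq_zero.1 ((hO.B_self _).symm.trans ?_)).resolve_left h2
  · rw [Finset.sum_comm] at h3
    simpa [map_sum, hO.σ, Finset.mul_sum, mul_assoc, mul_left_comm] using h3
  · rw [Finset.sum_comm] at h4
    simpa [map_sum, hO.σ, Finset.mul_sum, mul_assoc, mul_left_comm] using h4

theorem sim_isMaximalIn [Finite F] (h2 : (2 : F) ≠ 0) (h5 : 5 ≤ finrank F V)
    {H : Subgroup (V ≃ₗ[F] V)}
    (hH : ∀ g, g ∈ H ↔ (∃ c : F, ∀ x y, Φ.B (g x) (g y) = c * Φ.B x y) ∧ g ∈ SLV F V) :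
    Geo.IsMaximalIn (SLV F V) H := by
  refine sim_isMaximalIn_of (by rw [hO.d]; omega) (by omega) hH fun M h1 h3 h4 hn g hg => ?_
  obtain ⟨e, h0, he, he'⟩ := hO.exists_sing_sing h2 h5 g
  obtain ⟨k, hk, e1⟩ := move_EG (hO.d ▸ h5) (g.map_ne_zero_iff.2 h0) h0 (he.trans he'.symm)
  obtain ⟨c, hc⟩ := hO.sim_of_fix h2 h5 h1 hn (fun g hg hg' => h3 ((hH g).2 ⟨hg', hg⟩)) h4 he h0
    (M.mul_mem (h1 hk) hg) (μ := 1) (by rw [mul_app, e1, one_smul])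
  exact ⟨c, by simpa only [mul_app, Iso.B (Φ.EG_le_Iso hk)] using hc⟩

end IsO

end Fm

section Matrices

variable {ι : Type} [Fintype ι] [DecidableEq ι]

theorem isO_fmO [Finite F] {Q : (ι → F) → F} (hQ : Geo.IsNondegenerateQuadraticForm Q) :
    (fmO hQ).IsO := ⟨fun _ => rfl, rfl, fun _ => rfl, rfl⟩

theorem similarityGroup_isMaximalIn_of (Φ : Fm F (ι → F)) (hd : 0 < Fintype.card ι)
    (h : ∀ H : Subgroup ((ι → F) ≃ₗ[F] (ι → F)), (∀ g, g ∈ H ↔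
      (∃ c : F, ∀ x y, Φ.B (g x) (g y) = c * Φ.B x y) ∧ g ∈ SLV F _) → Geo.IsMaximalIn (SLV F _) H)
    {S : Subgroup (GL ι F)}
    (hS : ∀ g, g ∈ S ↔ ∃ c : Fˣ, ∀ x y, Φ.B (glEquiv ι F g x) (glEquiv ι F g y) = c * Φ.B x y) :
    Geo.IsMaximalIn (Geo.specialLinear ι F) (S ⊓ Geo.specialLinear ι F) := by
  refine isMaximalIn_of_equiv (glEquiv ι F) mem_specialLinear_iff
    (H' := (S ⊓ Geo.specialLinear ι F).map (glEquiv ι F).toMonoidHom) (fun g => by simp)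
    (h _ fun g => ?_)
  obtain ⟨g, rfl⟩ := (glEquiv ι F).surjective g
  rw [← mem_specialLinear_iff]
  constructor
  · rintro ⟨g', ⟨h1, h2⟩, h3⟩
    obtain rfl : g' = g := (glEquiv ι F).injective h3
    obtain ⟨c, hc⟩ := (hS _).1 h1
    exact ⟨⟨c, hc⟩, h2⟩
  · rintro ⟨⟨c, hc⟩, h2⟩
    exact ⟨g, ⟨(hS g).2 ⟨Units.mk0 c (Fm.sim_ne_zero (by simpa using hd) hc), hc⟩, h2⟩, rfl⟩

theorem tv_similarity_isMaximalIn (Φ : Fm F (ι → F)) (hd : Φ.d + 4 ≤ Fintype.card ι)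
    (hΛ : ∃ c, c ≠ 0 ∧ Φ.π c = 0) {S : Subgroup (GL ι F)}
    (hS : ∀ g, g ∈ S ↔ ∃ c : Fˣ, ∀ x y, Φ.B (glEquiv ι F g x) (glEquiv ι F g y) = c * Φ.B x y) :
    Geo.IsMaximalIn (Geo.specialLinear ι F) (S ⊓ Geo.specialLinear ι F) := by
  obtain ⟨c, hc, hc'⟩ := hΛ
  have hd' : Φ.d + 4 ≤ finrank F (ι → F) := by simpa using hd
  refine similarityGroup_isMaximalIn_of Φ (by omega) (fun H hH => Fm.sim_isMaximalIn_of (by omega)
    (by omega) hH fun M h1 _ _ hn g hg => ?_) hS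
  by_contra h
  exact hn (Fm.SLV_le_of_not_sim_tv hd' hc hc' h1 hg h)

theorem sp_similarity_isMaximalIn_five {f : (ι → F) → (ι → F) → F} (hf : Geo.IsSymplecticForm f)
    (hn : 5 ≤ Fintype.card ι) :
    Geo.IsMaximalIn (Geo.specialLinear ι F) (Geo.similarityGroup f ⊓ Geo.specialLinear ι F) :=
  tv_similarity_isMaximalIn (fmSp hf) hn ⟨1, one_ne_zero, rfl⟩ fun _ => Iff.rfl

theorem u_similarity_isMaximalIn_six [Finite F] {σ : F ≃+* F} {f : (ι → F) → (ι → F) → F}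
    (hf : Geo.IsUnitaryForm σ f) (hn : 6 ≤ Fintype.card ι) :
    Geo.IsMaximalIn (Geo.specialLinear ι F) (Geo.similarityGroup f ⊓ Geo.specialLinear ι F) := by
  obtain ⟨a, ha⟩ : ∃ a, σ a ≠ a := by
    by_contra h
    push Not at h
    exact hf.ne_refl (RingEquiv.ext h)
  exact tv_similarity_isMaximalIn (fmU hf) hn ⟨a - σ a, sub_ne_zero.2 ha.symm, by
      convert (fmU hf).π_sub_conj a using 3
      exact (one_mul _).symm⟩ fun _ =>
    ⟨fun ⟨c, hc⟩ => ⟨c, fun x y => hc y x⟩, fun ⟨c, hc⟩ => ⟨c, fun x y => hc y x⟩⟩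

theorem o_similarity_isMaximalIn_five [Fintype F] (hodd : Odd (Fintype.card F)) {Q : (ι → F) → F}
    (hQ : Geo.IsNondegenerateQuadraticForm Q) (hn : 5 ≤ Fintype.card ι) :
    Geo.IsMaximalIn (Geo.specialLinear ι F) (Geo.quadSimilarityGroup Q ⊓ Geo.specialLinear ι F) := by
  have h2 := two_ne_zero_of_odd hodd
  refine similarityGroup_isMaximalIn_of (fmO hQ) (by omega)
    (fun H hH => (isO_fmO hQ).sim_isMaximalIn h2 (by simpa using hn) hH)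
    fun g => exists_congr fun c => ⟨fun h x y => ?_, fun h x => ?_⟩
  · rw [fmO_B, fmO_B, QuadraticMap.polar, QuadraticMap.polar, ← map_add, glEquiv_apply,
      glEquiv_apply, glEquiv_apply, h, h, h]
    ring
  · have h1 := h x x
    rw [(isO_fmO hQ).B_self, (isO_fmO hQ).B_self, fmO_Q, fmO_Q, glEquiv_apply] at h1
    exact mul_left_cancel₀ h2 (by linear_combination h1)

end Matrices

end Cfsg.Agent.Class.Max
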