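import Mathlib
import Cfsg.Agent.Class.Max.C4Gen
import Cfsg.Agent.Class.Max.LowO

/-!
Invariant subspaces of `End U` for the isometry group of a formed space `U`: symplectic and
unitary spaces.
-/

set_option autoImplicit false
set_option linter.unusedSectionVars false

namespace Cfsg.Agent.Class.Max

open Module

variable {F V : Type*} [Field F] [AddCommGroup V] [Module F V]

theorem mem_of_ext {S : Type*} [SetLike S (V →ₗ[F] V)] {R : S} {A B : V →ₗ[F] V} (h : A ∈ R)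
    (e : ∀ v, B v = A v) : B ∈ R := by
  rwa [LinearMap.ext e]

namespace Fm

variable (Φ : Fm F V)

/-- The map `v ↦ B z v • x`. -/
def rk (x z : V) : V →ₗ[F] V := (Φ.B z).smulRight x

@[simp] theorem rk_apply (x z v : V) : Φ.rk x z v = Φ.B z v • x := rfl

variable {Φ} [FiniteDimensional F V]

theorem cjL_rk {g : V ≃ₗ[F] V} (hg : g ∈ Φ.Iso) (x z v : V) :
    cjL g (Φ.rk x z) v = Φ.rk (g x) (g z) v := by
  rw [cjL_apply, rk_apply, rk_apply, map_smul, Iso.B_inv hg]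

theorem adj_rk (x z v : V) : Φ.adj (Φ.rk x z) v = (Φ.ε * Φ.B x v) • z := by
  rw [rk, adj_smulRight, mul_smul]; rfl

theorem Valid.eich_inv {e w : V} {c : F} (h : Φ.Valid e w c) (x : V) :
    h.eich⁻¹ x = Φ.ef e (-w) (Φ.ε * Φ.σ c) x := rfl

theorem valid_tv {u : V} {c : F} (hu : Φ.Q u = 0) (hc : Φ.π c = 0) : Φ.Valid u 0 c :=
  ⟨hu, map_zero _, by rw [hc, Φ.Q_zero]⟩

theorem cjL_tv {u : V} {c : F} (h : Φ.Valid u 0 c) (b : V →ₗ[F] V) (v : V) :
    cjL h.eich b v - b v = (-(Φ.ε * c)) • (Φ.rk u (Φ.adj b u) v -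
      Φ.rk (b u + (-(Φ.ε * c) * Φ.B u (b u)) • u) u v) := by
  have h1 : Φ.ε * Φ.σ c = -c := by
    linear_combination Φ.lam_trace (h.norm.trans Φ.Q_zero)
  simp only [cjL_apply, h.eich_inv, h.eich_apply, ef, h1, Φ.bsimp, rk_apply, B_adj, map_sub,
    map_add, map_smul, smul_zero, map_zero, LinearMap.zero_apply, neg_zero, Φ.B_self h.sing]
  module

theorem smul_of_sing_tv {c : F} (c0 : c ≠ 0) (hc : Φ.π c = 0) {e : V} (he : Φ.Q e = 0) (h0 : e ≠ 0)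
    {b : V →ₗ[F] V} (h : ∀ u, Φ.Q u = 0 → b u ∈ Submodule.span F {u}) :
    ∃ a : F, ∀ v, b v = a • v := by
  have k : ∀ e f (a : F), Φ.Q e = 0 → Φ.Q f = 0 → Φ.B e f ≠ 0 → b e = a • e → b f = a • f :=
    fun e f a he hf hef ha => by
      obtain ⟨a₁, h1⟩ := Submodule.mem_span_singleton.1 (h f hf)
      obtain ⟨a₂, h2⟩ := Submodule.mem_span_singleton.1 (h _ (((valid_tv he hc).Q_ef f).trans hf))
      simp only [ef, map_sub, map_add, map_smul, ← h1, ha, smul_zero, map_zero,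
        LinearMap.zero_apply] at h2
      have e1 := congrArg (Φ.B e) h2
      have e2 := congrArg (Φ.B f) h2
      simp only [Φ.bsimp, Φ.B_self he, Φ.B_self hf] at e1 e2
      have e3 : a₂ = a₁ := mul_right_cancel₀ hef (by linear_combination e1)
      have e4 : a₂ = a := mul_right_cancel₀ (mul_ne_zero (mul_ne_zero (mul_ne_zero Φ.eps_ne c0) hef)
        (Φ.ne_symm hef)) (by linear_combination -e2)
      rw [← h1, ← e3, e4]
  obtain ⟨a, ha⟩ := Submodule.mem_span_singleton.1 (h e he)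
  obtain ⟨y, hy⟩ := Φ.exists_B_ne h0
  refine ⟨a, fun v => ?_⟩
  have := le_of_sing (Y := ⊤) trivial he ⟨y, trivial, hy⟩
    (LinearMap.ker (b - a • LinearMap.id)).toAddSubgroup (fun s _ hs ⟨z, _, hz⟩ => by
      obtain ⟨t, h1, h2, h3⟩ := Rk.exists_sing_not_perp (Ψ := Φ) (Or.inr ⟨c, c0, hc⟩) he hs h0
        fun e => hz (by simp [e])
      simpa [sub_eq_zero] using k t s a h1 hs h3 (k e t a he h1 (Φ.ne_symm h2) ha.symm)) v trivial
  simpa [sub_eq_zero] using this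

/-- Invariant `*`-subalgebras in the symplectic and the unitary case. -/
theorem rk_mem_of_alg (htv : Φ.TV) {c₀ : F} (c0 : c₀ ≠ 0) (hc : Φ.π c₀ = 0)
    (h3 : 3 ≤ finrank F V ∨ ∃ c, c ≠ 0 ∧ c ≠ c₀ ∧ Φ.π c = 0) {e : V} (he : Φ.Q e = 0) (he0 : e ≠ 0)
    (R : Submodule F (V →ₗ[F] V)) (hmul : ∀ b ∈ R, ∀ c ∈ R, b ∘ₗ c ∈ R)
    (hadj : ∀ b ∈ R, Φ.adj b ∈ R) (hcj : ∀ a ∈ Φ.EG, ∀ b ∈ R, cjL a b ∈ R) {b : V →ₗ[F] V}
    (hb : b ∈ R) (hb' : ¬ ∃ a : F, ∀ v, b v = a • v) (x z : V) : Φ.rk x z ∈ R := by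
  have ε0 := Φ.eps_ne
  have sm : ∀ {a : F} {A B : V →ₗ[F] V}, a ≠ 0 → A ∈ R → (∀ v, a • B v = A v) → B ∈ R :=
    fun {a A B} h0 h e => mem_of_ext (R.smul_mem a⁻¹ h) fun v => by
      rw [LinearMap.smul_apply, ← e, inv_smul_smul₀ h0]
  have tv : ∀ {u c}, Φ.Q u = 0 → c ≠ 0 → Φ.π c = 0 → ∀ b ∈ R,
      Φ.rk u (Φ.adj b u) - Φ.rk (b u + (-(Φ.ε * c) * Φ.B u (b u)) • u) u ∈ R :=
    fun {u c} hu c0 hc b hb => sm (a := -(Φ.ε * c)) (by simp [ε0, c0])
      (R.sub_mem (hcj _ (valid_tv hu hc).eich_mem b hb) hb) fun v => (cjL_tv _ b v).symm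
  have df : ∀ {u v v' y c}, Φ.Valid u y c → Φ.rk u v' - Φ.rk v u ∈ R →
      Φ.rk u (Φ.ef u y c v' - v') - Φ.rk (Φ.ef u y c v - v) u ∈ R := fun {u v v' y c} hv h =>
    mem_of_ext (R.sub_mem (hcj _ hv.eich_mem _ h) h) fun x => by
      have e1 := cjL_rk (hv.mem_Iso hv.eich_apply) u v' x
      have e2 := cjL_rk (hv.mem_Iso hv.eich_apply) v u x
      rw [cjL_apply, hv.eich_apply u, hv.ef_self] at e1 e2
      simp only [LinearMap.sub_apply, cjL_apply, map_sub hv.eich, e1, e2]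
      simp only [hv.eich_apply, rk_apply, Φ.bsimp]
      module
  have s4 : ∀ x z, Φ.Q x = 0 → z ≠ 0 → Φ.rk x z ∈ R → Φ.rk x x ∈ R := fun x z hx hz h => by
    have h' : Φ.rk x z - Φ.rk 0 x ∈ R := mem_of_ext h fun v => by simp
    by_cases h1 : Φ.B x z = 0
    · by_cases h2 : ∃ y, Φ.B x y = 0 ∧ Φ.B z y ≠ 0
      · obtain ⟨y, y1, y2⟩ := h2
        obtain ⟨c, hv⟩ := exists_valid hx y1
        exact sm (a := -(Φ.ε * Φ.σ (Φ.B y z))) (by simp [ε0, Φ.ne_symm y2]) (df hv h') fun v => by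
          simp [ef, h1, Φ.σ_eps, smul_smul]
      · push Not at h2
        obtain ⟨a, rfl⟩ := Φ.exists_smul_of_perp h2
        exact sm (a := Φ.σ a) (Φ.σ_ne fun e => hz (by simp [e])) h fun v => by simp [smul_smul]
    · exact sm (a := -(Φ.ε * Φ.σ (c₀ * Φ.B x z))) (by simp [ε0, c0, h1]) (df (valid_tv hx hc) h')
        fun v => by simp [ef, Φ.σ_eps, smul_smul]
  have s3 : ∀ u v v', Φ.Q u = 0 → u ≠ 0 → Φ.B u v = 0 → Φ.B u v' = 0 → v ∉ Submodule.span F {u} →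
      Φ.rk u v' - Φ.rk v u ∈ R → ∃ x, Φ.Q x = 0 ∧ x ≠ 0 ∧ Φ.rk x x ∈ R :=
    fun u v v' hu hu0 h1 h2 h4 h => by
      by_cases h5 : ∀ y, Φ.B u y = 0 → Φ.B y v = Φ.σ (Φ.B y v')
      swap
      · push Not at h5
        obtain ⟨y, y1, y2⟩ := h5
        obtain ⟨c, hv⟩ := exists_valid hu y1
        refine ⟨u, hu, hu0, sm (a := Φ.ε * (Φ.B y v - Φ.σ (Φ.B y v')))
          (mul_ne_zero ε0 (sub_ne_zero.2 y2)) (df hv h) fun x => ?_⟩
        simp only [ef, h1, h2, LinearMap.sub_apply, rk_apply, Φ.bsimp]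
        module
      obtain ⟨y, y1, y2⟩ := Φ.exists_perp_not_perp h4
      replace y1 := Φ.mem_perp_span_singleton.1 y1
      have hσ : ∀ a, Φ.σ a = a := fun a => by
        have e1 := h5 (a • y) (by simp [y1])
        rwa [Φ.B_smul_left, Φ.B_smul_left, map_mul, Φ.invol, ← h5 y y1, y2, mul_one, mul_one] at e1
      have hε : Φ.ε = -1 := mul_right_cancel₀ c0 (by
        linear_combination Φ.lam_trace hc - Φ.ε * hσ c₀)
      have hB : ∀ x, Φ.B x x = 0 := fun x => by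
        obtain ⟨c, hc⟩ := Φ.range x
        rw [← Φ.trace c x hc, hε, hσ]; ring
      obtain ⟨κ, hκ⟩ := Φ.exists_smul_of_perp (e := u) (v := v' - v) fun y hy =>
        Φ.perp_symm (by rw [map_sub, h5 y hy, hσ, sub_self])
      obtain rfl := eq_add_of_sub_eq hκ
      obtain ⟨u₂, p1, p2⟩ := Φ.exists_perp_not_perp (X := Submodule.span F {v}) (v := u) fun hc => by
        obtain ⟨a, rfl⟩ := Submodule.mem_span_singleton.1 hc
        have : a ≠ 0 := fun e => hu0 (by simp [e])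
        exact h4 (Submodule.mem_span_singleton.2 ⟨a⁻¹, by simp [this]⟩)
      replace p1 := Φ.mem_perp_span_singleton.1 p1
      have p3 : Φ.B u u₂ = -1 := by rw [Φ.symm, p2, hε, hσ, mul_one]
      have p4 := Φ.perp_symm p1
      have p5 := Φ.perp_symm h1
      refine ⟨v - κ • u, htv.Q_zero (hB _), fun e => h4 ?_, s4 _ (κ • u + v + (c₀ * κ) • u₂)
        (htv.Q_zero (hB _)) (fun e => h4 ?_) (mem_of_ext (hmul _ h _
          (tv (htv.Q_zero (hB u₂)) c0 hc _ h)) fun x => ?_)⟩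
      · rw [sub_eq_zero.1 e]
        exact Submodule.smul_mem _ _ (Submodule.mem_span_singleton_self u)
      · have e1 : c₀ * κ = 0 := by simpa [hB, h1, p3] using congrArg (Φ.B u) e
        rw [e1, zero_smul, add_zero] at e
        rw [eq_neg_of_add_eq_zero_right e]
        exact neg_mem (Submodule.smul_mem _ _ (Submodule.mem_span_singleton_self u))
      · simp only [LinearMap.comp_apply, LinearMap.sub_apply, rk_apply, adj_sub, adj_rk, Φ.bsimp,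
          hσ, hε, hB, h1, p1, p2, p3, p4, p5]
        module
  obtain ⟨u, hu, hu'⟩ : ∃ u, Φ.Q u = 0 ∧ b u ∉ Submodule.span F {u} := by
    by_contra hc'
    push Not at hc'
    exact hb' (smul_of_sing_tv c0 hc he he0 hc')
  have hu0 : u ≠ 0 := fun e => hu' (by simp [e])
  obtain ⟨s, hs, hs0, h⟩ : ∃ x, Φ.Q x = 0 ∧ x ≠ 0 ∧ Φ.rk x x ∈ R := by
    have t1 := tv hu c0 hc b hb
    by_cases hβ : Φ.B u (b u) = 0
    · refine s3 u _ _ hu hu0 (by simp [hβ]) ?_ (by simpa [hβ] using hu') t1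
      rw [B_adj']
      exact Φ.perp_symm hβ
    rcases h3 with h3 | ⟨c, h1, h2, h3⟩
    · obtain ⟨y, hy0, y1, y2⟩ := exists_perp_pair (Ψ := Φ) h3 u (b u)
      obtain ⟨c, hv⟩ := exists_valid hu y1
      refine s3 u _ _ hu hu0 (by rw [map_sub, hv.B_ef, sub_self])
        (by rw [map_sub, hv.B_ef, sub_self]) (fun hc => ?_) (df hv t1)
      obtain ⟨a, ha⟩ := Submodule.mem_span_singleton.1 hc
      have e1 : Φ.B u (b u) • y = (a + Φ.ε * (Φ.B y (b u + (-(Φ.ε * c₀) * Φ.B u (b u)) • u) +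
          c * Φ.B u (b u))) • u := by
        rw [add_smul, ha]
        simp [ef, Φ.B_self hu]
        abel
      have e2 := congrArg (Φ.B (b u)) e1
      rw [map_smul, map_smul, y2, smul_zero, smul_eq_mul, eq_comm,
        mul_eq_zero, or_iff_left (Φ.ne_symm hβ)] at e2
      rw [e2, zero_smul, smul_eq_zero] at e1
      exact e1.elim hβ hy0
    · exact ⟨u, hu, hu0, sm (a := Φ.ε * (c₀ - c) * Φ.B u (b u))
        (mul_ne_zero (mul_ne_zero ε0 (sub_ne_zero.2 h2.symm)) hβ)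
        (R.sub_mem t1 (tv hu h1 h3 b hb)) fun v => by
          simp only [LinearMap.sub_apply, rk_apply]; module⟩
  have s5 : ∀ u x, Φ.Q u = 0 → Φ.Q x = 0 → Φ.B x u ≠ 0 → Φ.rk u u ∈ R → Φ.rk x u ∈ R :=
    fun u x hu hx hxu h => by
      have hv := valid_tv hx hc
      refine sm (a := Φ.σ (Φ.ε * c₀ * Φ.B x u) * Φ.B x u * (Φ.ε * c₀ * Φ.B x u))
        (by simp [ε0, c0, hxu]) (R.add_mem (hmul _ (hcj _ hv.eich_mem _ h) _ h)
          (R.smul_mem (Φ.σ (Φ.ε * c₀ * Φ.B x u) * Φ.B x u) h)) fun v => ?_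
      simp only [LinearMap.add_apply, LinearMap.comp_apply, LinearMap.smul_apply,
        cjL_rk (hv.mem_Iso hv.eich_apply), hv.eich_apply, ef, rk_apply, Φ.bsimp, Φ.B_self hu]
      module
  have s6 : ∀ u, Φ.Q u = 0 → u ≠ 0 → Φ.rk u u ∈ R → ∀ x, Φ.rk x u ∈ R := fun u hu hu0 h x => by
    obtain ⟨y, hy⟩ := Φ.exists_B_ne hu0
    refine le_of_sing (Y := ⊤) trivial hu ⟨y, trivial, hy⟩
      (R.comap (LinearMap.smulRightₗ (Φ.B u))).toAddSubgroup (fun x _ hx ⟨z, _, hz⟩ => ?_) x trivial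
    obtain ⟨t, h1, h2, h3⟩ := Rk.exists_sing_not_perp (Ψ := Φ) (Or.inr ⟨c₀, c0, hc⟩) hu hx hu0
      fun e => hz (by simp [e])
    exact sm h2 (hmul _ (s5 t x h1 hx (Φ.ne_symm h3) (s4 t u h1 hu0 (s5 u t hu h1 h2 h))) _ h)
      fun v => by simp [smul_smul, mul_comm]
  obtain ⟨f, hf, e1⟩ := exists_partner' hs hs0
  have hf0 : f ≠ 0 := fun e => by simp [e] at e1
  have f1 := s6 f hf hf0 (s4 f s hf hs0 (s6 s hs hs0 h f)) z
  exact sm ε0 (hmul _ (s6 s hs hs0 h x) _ (hadj _ f1)) fun v => by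
    simp [adj_rk, e1, smul_smul]

/-- Symplectic spaces of odd characteristic. -/
structure IsSp (Φ : Fm F V) : Prop where
  σ : ∀ a, Φ.σ a = a
  ε : Φ.ε = -1
  π : ∀ c, Φ.π c = 0
  d : Φ.d = 1

namespace IsSp

variable (hS : Φ.IsSp)
include hS

theorem Q (x : V) : Φ.Q x = 0 := by
  obtain ⟨c, hc⟩ := Φ.range x
  rw [← hc, hS.π]

theorem B_self (x : V) : Φ.B x x = 0 := Φ.B_self (hS.Q x)

theorem symm (x y : V) : Φ.B y x = -Φ.B x y := by rw [Φ.symm, hS.σ, hS.ε, neg_one_mul]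

theorem tv : Φ.TV := fun c _ => hS.π c

theorem rk_mem (h2 : (2 : F) ≠ 0) (R : Submodule F (V →ₗ[F] V))
    (hadj : ∀ b ∈ R, ∀ v, Φ.adj b v = -b v) (hcj : ∀ a ∈ Φ.EG, ∀ b ∈ R, cjL a b ∈ R)
    {b : V →ₗ[F] V} (hb : b ∈ R) (hb' : b ≠ 0) (x : V) : Φ.rk x x ∈ R := by
  have key : ∀ b ∈ R, ∀ u, Φ.B u (b u) ≠ 0 → Φ.rk u u ∈ R := fun b hb u h => by
    have h1 := valid_tv (hS.Q u) (hS.π 1)
    have h3 := valid_tv (hS.Q u) (hS.π (-1))
    refine mem_of_ext (R.smul_mem (-(2 * Φ.B u (b u))⁻¹) (R.add_mem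
      (R.sub_mem (hcj _ h1.eich_mem b hb) hb) (R.sub_mem (hcj _ h3.eich_mem b hb) hb))) fun v => ?_
    simp only [LinearMap.smul_apply, LinearMap.add_apply, LinearMap.sub_apply, cjL_tv, rk_apply,
      hS.ε]
    match_scalars <;> field_simp <;> ring
  obtain ⟨u, hu⟩ : ∃ u, Φ.B u (b u) ≠ 0 := by
    by_contra hc
    push Not at hc
    refine hb' (LinearMap.ext fun y => Φ.nondeg _ fun x => Φ.perp_symm (mul_left_cancel₀ h2 ?_))
    have e1 := hc (x + y)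
    have e2 := Φ.B_adj b y x
    simp only [map_add b, Φ.bsimp, hc, hadj b hb, hS.symm x (b y)] at e1 e2
    linear_combination e1 + e2
  have k : ∀ u x, Φ.rk u u ∈ R → Φ.B u x ≠ 0 → Φ.rk x x ∈ R := fun u x h h' =>
    key _ h x (by simp [h', Φ.ne_symm h'])
  by_cases hx : x = 0
  · exact mem_of_ext R.zero_mem fun v => by simp [hx]
  obtain ⟨t, -, h3, h4⟩ := Rk.exists_sing_not_perp (Ψ := Φ) (Or.inr ⟨1, one_ne_zero, hS.π 1⟩)
    (hS.Q u) (hS.Q x) (fun e => hu (by simp [e])) hx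
  exact k t x (k u t (key b hb u hu) (Φ.ne_symm h3)) h4

theorem smul_of_comm (h2 : (2 : F) ≠ 0) (R : AddSubgroup (V →ₗ[F] V))
    (hadj : ∀ b ∈ R, ∀ v, Φ.adj b v = b v) (hcj : ∀ a ∈ Φ.EG, ∀ b ∈ R, cjL a b ∈ R)
    (hc : ∀ b ∈ R, ∀ c ∈ R, ∀ v, b (c v) = c (b v)) {b : V →ₗ[F] V} (hb : b ∈ R) :
    ∃ a : F, ∀ v, b v = a • v := by
  have key : ∀ b ∈ R, ∀ u, Φ.rk u (b u) - Φ.rk (b u) u ∈ R ∧ Φ.B u (b u) = 0 := fun b hb u => by
    have h1 := valid_tv (hS.Q u) (hS.π 1)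
    have h3 : Φ.B u (b u) = 0 := mul_left_cancel₀ h2 (by
      have := Φ.B_adj b u u
      rw [hadj b hb, hS.symm] at this
      linear_combination -this)
    exact ⟨mem_of_ext (R.sub_mem (hcj _ h1.eich_mem b hb) hb) fun v => by
      simp [cjL_tv, hS.ε, h3, hadj b hb], h3⟩
  by_contra hn
  obtain ⟨u, hu⟩ := exists_not_eigen hn
  obtain ⟨h1, h3⟩ := key b hb u
  obtain ⟨u₂, p1, p2⟩ := Φ.exists_perp_not_perp (X := Submodule.span F {b u}) (v := u) fun hc => by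
    obtain ⟨a, ha⟩ := Submodule.mem_span_singleton.1 hc
    have : a ≠ 0 := fun e => hu (by rw [← ha]; simp [e])
    exact hu (Submodule.mem_span_singleton.2 ⟨a⁻¹, by rw [inv_smul_eq_iff₀ this, ha]⟩)
  replace p1 := Φ.mem_perp_span_singleton.1 p1
  have h0 : b u ≠ 0 := fun e => hu (by simp [e])
  obtain ⟨y, hy⟩ := Φ.exists_B_ne h0
  have := hc _ h1 _ (key _ h1 u₂).1 y
  simp only [LinearMap.sub_apply, rk_apply, Φ.bsimp, hS.σ, hS.B_self, p1, p2, h3, hS.symm u₂ u,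
    Φ.perp_symm p1, Φ.perp_symm h3] at this
  exact h0 ((smul_eq_zero_iff_right (mul_ne_zero h2 hy)).1 (by
    linear_combination (norm := module) this))

end IsSp

end Fm

end Cfsg.Agent.Class.Max
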