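import Mathlib
import Cfsg.Agent.Class.Max.C4Ring
import Cfsg.Agent.Class.Orth.SqClass

/-!
Invariant subspaces of `End U` for an orthogonal space `U` of odd characteristic.
-/

set_option autoImplicit false
set_option linter.unusedSectionVars false

namespace Cfsg.Agent.Class.Max

open Module

variable {F V : Type*} [Field F] [AddCommGroup V] [Module F V]

theorem exists_mul_self_ne_one [Finite F] (h2 : (2 : F) ≠ 0) (h3 : Nat.card F ≠ 3) :
    ∃ l : F, l ≠ 0 ∧ l * l ≠ 1 := by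
  by_contra hc
  push Not at hc
  refine h3 ((Set.ncard_univ F).symm.trans (Set.ncard_eq_three.2 ⟨0, 1, -1, zero_ne_one, by simp,
    fun h => h2 (by linear_combination h), (Set.eq_univ_of_forall fun l => ?_).symm⟩))
  by_cases h : l = 0
  · simp [h]
  · rcases mul_self_eq_one_iff.1 (hc l h) with h | h <;> simp [h]

namespace Fm

namespace IsO

variable {Φ : Fm F V} [FiniteDimensional F V] (hO : Φ.IsO) (h2 : (2 : F) ≠ 0)
include hO h2

theorem tv : Φ.TV := fun c hc => by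
  rw [hO.ε, hO.σ, one_mul, ← two_mul, mul_eq_zero, or_iff_right h2] at hc
  rw [hc, map_zero]

theorem nd_inf {U : Submodule F V} (hU : Φ.ND U) {a : V} (ha : a ∈ U) (h0 : Φ.Q a ≠ 0) :
    Φ.ND (U ⊓ LinearMap.ker (Φ.B a)) := fun x hx h => hU x hx.1 fun y hy => by
  have := h (y - (Φ.B a y / (2 * Φ.Q a)) • a) ⟨sub_mem hy (U.smul_mem _ ha), by
    simp [hO.B_self, h2, h0]⟩
  simpa [Φ.perp_symm (show Φ.B a x = 0 from hx.2)] using this

omit h2 in
theorem cjL_refl {a : V} (h0 : Φ.Q a ≠ 0) (b : V →ₗ[F] V) (v : V) :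
    cjL (refl h0 (hO.π _)) b v - b v = ((Φ.Q a)⁻¹ * (Φ.Q a)⁻¹ * Φ.B a (b a)) • Φ.rk a a v -
      (Φ.Q a)⁻¹ • (Φ.rk a (Φ.adj b a) v + Φ.rk (b a) a v) := by
  simp only [cjL_apply, refl_inv_apply, refl_apply, hO.ε, hO.σ, one_mul, rk_apply, B_adj, map_sub,
    map_smul]
  module

theorem eq_zero_of_nonsing {b : V →ₗ[F] V} (h : ∀ a, Φ.Q a ≠ 0 → b a = 0) (x : V) : b x = 0 := by
  by_cases hx : Φ.Q x = 0
  swap
  · exact h x hx
  by_cases h0 : x = 0
  · simp [h0]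
  obtain ⟨f, hf, e⟩ := exists_partner' hx h0
  have e1 := h (x + f) (by simp [hO.Q_add, hx, hf, e])
  have e2 := h (x - f) (by simp [hO.Q_sub, hx, hf, e])
  rw [map_add] at e1
  rw [map_sub] at e2
  exact (smul_eq_zero_iff_right h2).1 (by linear_combination (norm := module) e1 + e2)

/-- Clifford-like families. -/
theorem smul_of_cliff (h3 : 3 ≤ finrank F V) (R : AddSubgroup (V →ₗ[F] V))
    (hadj : ∀ b ∈ R, ∃ κ : F, ∀ v, Φ.adj b v + b v = κ • v)
    (hcj : ∀ a ∈ Φ.Iso, ∀ b ∈ R, cjL a b ∈ R)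
    (hc : ∀ b ∈ R, ∃ κ : F, ∀ v, b (Φ.adj b v) = κ • v) {b : V →ₗ[F] V} (hb : b ∈ R) :
    ∃ a : F, ∀ v, b v = a • v := by
  obtain ⟨κ, hκ⟩ := hadj b hb
  refine ⟨κ / 2, fun v => sub_eq_zero.1 (hO.eq_zero_of_nonsing h2
    (b := b - (κ / 2) • LinearMap.id) (fun a ha => ?_) v)⟩
  change b a - (κ / 2) • a = 0
  set c := b a - (κ / 2) • a with hc'
  have e1 : Φ.B a (b a) = κ * Φ.Q a := by
    have := congrArg (Φ.B a) (hκ a)
    rw [map_add, B_adj', hO.symm a, map_smul, hO.B_self] at this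
    exact mul_left_cancel₀ h2 (by linear_combination this)
  have e2 : Φ.B a c = 0 := by
    simp only [hc', Φ.bsimp, e1, hO.B_self]
    field_simp
    ring
  have e3 : (Φ.Q a)⁻¹ • (Φ.rk a c - Φ.rk c a) ∈ R :=
    mem_of_ext (R.sub_mem (hcj _ (refl_mem_Iso ha (hO.π _)) b hb) hb) fun v => by
      simp only [LinearMap.sub_apply, LinearMap.smul_apply, hO.cjL_refl, e1, hc', rk_apply,
        eq_sub_of_add_eq (hκ a), Φ.bsimp, hO.σ]
      match_scalars <;> field_simp <;> ring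
  obtain ⟨μ, hμ⟩ := hc _ e3
  simp only [adj_smul, adj_sub, LinearMap.smul_apply, LinearMap.sub_apply, adj_rk, rk_apply,
    Φ.bsimp, hO.σ, hO.ε, e2, Φ.perp_symm e2, hO.B_self a] at hμ
  obtain ⟨z, z0, z1, z2⟩ := exists_perp_pair (Ψ := Φ) h3 a c
  have e4 : μ = 0 := by simpa [z1, z2, z0] using (hμ z).symm
  have e5 : Φ.B c c = 0 := by
    simpa [e4, e2, Φ.perp_symm e2, hO.B_self a, h2, ha] using congrArg (Φ.B a) (hμ a)
  by_contra h0
  obtain ⟨y, hy⟩ := Φ.exists_B_ne h0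
  simpa [e4, e5, h0, h2, ha, hy] using hμ y

theorem exists_ne_ne : ∃ a : F, a ≠ 0 ∧ a ≠ 1 :=
  ⟨-1, by simp, fun h => h2 (by linear_combination -h)⟩

/-- Invariant Jordan algebras of self-adjoint maps. -/
theorem sym_mem [Finite F] (h3 : 3 ≤ finrank F V) (hq : ¬ (Nat.card F = 3 ∧ finrank F V = 3))
    (R : Submodule F (V →ₗ[F] V)) (hadj : ∀ b ∈ R, ∀ v, Φ.adj b v = b v)
    (hcj : ∀ a ∈ Φ.Iso, ∀ b ∈ R, cjL a b ∈ R) (hJ : ∀ b ∈ R, ∀ c ∈ R, b ∘ₗ c + c ∘ₗ b ∈ R)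
    {b : V →ₗ[F] V} (hb : b ∈ R) (hb' : ¬ ∃ a : F, ∀ v, b v = a • v) (x y : V) :
    Φ.rk x y + Φ.rk y x ∈ R := by
  have sm : ∀ {a : F} {A B : V →ₗ[F] V}, a ≠ 0 → A ∈ R → (∀ v, a • B v = A v) → B ∈ R :=
    fun {a A B} h0 h e => mem_of_ext (R.smul_mem a⁻¹ h) fun v => by
      rw [LinearMap.smul_apply, ← e, inv_smul_smul₀ h0]
  let I : V → Submodule F V := fun x =>
    { carrier := {y | Φ.rk x y + Φ.rk y x ∈ R}
      zero_mem' := mem_of_ext R.zero_mem fun v => by simp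
      add_mem' := fun ha hb => mem_of_ext (R.add_mem ha hb) fun v => by
        simp only [LinearMap.add_apply, rk_apply, Φ.bsimp]; module
      smul_mem' := fun c _ ha => mem_of_ext (R.smul_mem c ha) fun v => by
        simp only [LinearMap.add_apply, LinearMap.smul_apply, rk_apply, Φ.bsimp, hO.σ]; module }
  have i1 : ∀ {g x y}, g ∈ Φ.Iso → y ∈ I x → g y ∈ I (g x) := fun {g x y} hg h =>
    mem_of_ext (hcj g hg _ h) fun v => by
      have e1 := cjL_rk hg x y v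
      have e2 := cjL_rk hg y x v
      rw [cjL_apply] at e1 e2
      rw [cjL_apply, LinearMap.add_apply, LinearMap.add_apply, map_add, e1, e2]
  have i2 : ∀ {x y}, x ∈ I x → y ∈ I y → Φ.B x y ≠ 0 → y ∈ I x := fun {x y} hx hy h =>
    sm (a := 4 * Φ.B x y) (mul_ne_zero (by rw [show (4 : F) = 2 * 2 by norm_num]; simp [h2]) h)
      (hJ _ hx _ hy) fun v => by
        simp only [LinearMap.add_apply, LinearMap.comp_apply, rk_apply, Φ.bsimp, hO.symm x y]
        module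
  have i3 : ∀ b ∈ R, ∀ a, Φ.Q a ≠ 0 → b a - (Φ.B a (b a) / (2 * Φ.Q a)) • a ∈ I a :=
    fun b hb a ha => sm (a := -(Φ.Q a)⁻¹) (by simp [ha])
      (R.sub_mem (hcj _ (refl_mem_Iso ha (hO.π _)) b hb) hb) fun v => by
        simp only [LinearMap.sub_apply, LinearMap.add_apply, hO.cjL_refl, hadj b hb, rk_apply,
          Φ.bsimp, hO.σ]
        match_scalars <;> field_simp <;> ring
  obtain ⟨e, -, he0, he⟩ := Φ.iso ⊤ (by rw [finrank_top, hO.d]; exact h3)
  obtain ⟨a, ha, ha'⟩ : ∃ a, Φ.Q a ≠ 0 ∧ b a ∉ Submodule.span F {a} := by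
    by_contra hc
    push Not at hc
    obtain ⟨l, l0, l1⟩ := hO.exists_ne_ne h2
    refine hb' (exists_eq_smul_of_sing h3 l0 l1 he he0 b.toAddMonoidHom fun s hs => ?_)
    by_cases hs0 : s = 0
    · exact ⟨0, by simp [hs0]⟩
    obtain ⟨f, hf, e1⟩ := exists_partner' hs hs0
    obtain ⟨y, -, y0, y1, -⟩ := hO.exists_nonsing_perp Φ.nd_top (by simpa using h3) trivial trivial
      hs hf e1
    obtain ⟨γ, hγ⟩ := Submodule.mem_span_singleton.1 (hc y y0)
    obtain ⟨δ, hδ⟩ := Submodule.mem_span_singleton.1 (hc (s + y) (by simp [hO.Q_add, hs, y1, y0]))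
    have e2 := Φ.B_adj b y s
    rw [map_add, ← hγ] at hδ
    rw [hadj b hb, ← hγ, eq_sub_iff_add_eq.2 hδ.symm] at e2
    simp only [Φ.bsimp, Φ.perp_symm y1, hO.B_self y] at e2
    have e3 : δ = γ := mul_right_cancel₀ (mul_ne_zero h2 y0) (by linear_combination -e2)
    exact ⟨γ, by rw [e3] at hδ; exact (add_right_cancel ((smul_add γ s y).symm.trans hδ)).symm⟩
  obtain ⟨p, hp0, hp⟩ : ∃ p, p ≠ 0 ∧ p ∈ I p := by
    have f1 := i3 b hb a ha
    set c := b a - (Φ.B a (b a) / (2 * Φ.Q a)) • a with hc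
    have f2 : Φ.B a c = 0 := by simp [hc, hO.B_self, h2, ha]
    have f3 : c ≠ 0 := fun h => ha' (by
      rw [sub_eq_zero.1 h]
      exact Submodule.smul_mem _ _ (Submodule.mem_span_singleton_self a))
    have f4 : Φ.Q c • Φ.rk a a + Φ.Q a • Φ.rk c c ∈ R :=
      sm (a := 2 * 2) (by simp [h2]) (hJ _ f1 _ f1) fun v => by
        simp only [LinearMap.add_apply, LinearMap.comp_apply, LinearMap.smul_apply, rk_apply,
          Φ.bsimp, f2, Φ.perp_symm f2, hO.B_self]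
        module
    by_cases hc0 : Φ.Q c = 0
    · exact ⟨c, f3, sm (a := Φ.Q a / 2) (div_ne_zero ha h2) f4 fun v => by
        simp only [LinearMap.add_apply, LinearMap.smul_apply, rk_apply, hc0]
        match_scalars <;> field_simp <;> ring⟩
    obtain ⟨z, hz, z0⟩ := hO.exists_nonsing (hO.nd_inf h2 (hO.nd_inf h2 Φ.nd_top trivial ha)
      ⟨trivial, f2⟩ hc0) fun h0 => by
        have := finrank_le_inf_ker₂ ⊤ (Φ.B a) (Φ.B c)
        rw [h0, finrank_bot, finrank_top] at this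
        omega
    have z1 : Φ.B a z = 0 := hz.1.2
    have z2 : Φ.B c z = 0 := hz.2
    obtain ⟨α, β, hαβ⟩ := Orth.exists_mul_sq_add_mul_sq h2 ha hc0 (Φ.Q z)
    have q1 : Φ.Q (α • a + β • c + z) = 2 * Φ.Q z := by
      simp only [hO.Q_add, hO.Q_smul, Φ.bsimp, f2, z1, z2]
      linear_combination hαβ
    have f5 := hJ _ f4 _ (i3 _ f4 (α • a + β • c + z) (by simp [q1, h2, z0]))
    rw [show Φ.B (α • a + β • c + z) ((Φ.Q c • Φ.rk a a + Φ.Q a • Φ.rk c c) (α • a + β • c + z)) /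
        (2 * Φ.Q (α • a + β • c + z)) = Φ.Q a * Φ.Q c by
      simp only [LinearMap.add_apply, LinearMap.smul_apply, rk_apply, Φ.bsimp, f2, Φ.perp_symm f2,
        hO.B_self, z1, z2, Φ.perp_symm z1, Φ.perp_symm z2, q1, hO.σ]
      rw [div_eq_iff (by simp [h2, z0])]
      linear_combination 4 * Φ.Q a * Φ.Q c * hαβ] at f5
    refine ⟨α • a + β • c, fun h => ?_, sm (a := 4 * (Φ.Q a * Φ.Q c) ^ 2) ?_ f5 fun v => ?_⟩
    · rw [h, zero_add] at q1
      exact z0 (by linear_combination -q1)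
    · rw [show (4 : F) = 2 * 2 by norm_num]
      simp [h2, ha, hc0]
    · simp only [LinearMap.add_apply, LinearMap.comp_apply, LinearMap.smul_apply, rk_apply,
        Φ.bsimp, f2, Φ.perp_symm f2, hO.B_self, z1, z2, Φ.perp_symm z1, Φ.perp_symm z2, hO.σ,
        LinearMap.sub_apply, map_sub, map_add, map_smul]
      module
  have top : ∀ y, y ∈ I p := by
    by_cases hp1 : Φ.Q p = 0
    · have k : ∀ y, Φ.B p y ≠ 0 → y ∈ I p := fun y hy => by
        obtain ⟨t, ht⟩ := Φ.exists_singular_add hp1 hy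
        have k1 : Φ.B p (y + t • p) ≠ 0 := by simpa [Φ.B_self hp1] using hy
        have k2 : Φ.Q (p - (y + t • p)) ≠ 0 := by
          rwa [hO.Q_sub, hp1, ht, zero_add, zero_sub, neg_ne_zero]
        have k3 := i1 (refl_mem_Iso k2 (hO.π _)) hp
        rw [show refl k2 (hO.π _) p = y + t • p by
          rw [refl_apply, hO.Q_sub, Φ.B_sub_left, hO.symm p (y + t • p), hp1, ht, Φ.B_self hp1,
            zero_add, inv_mul_cancel₀ (by rwa [zero_sub, neg_ne_zero]), one_smul,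
            sub_sub_cancel]] at k3
        simpa using (I p).sub_mem (i2 hp k3 k1) ((I p).smul_mem t hp)
      intro y
      obtain ⟨f, hf⟩ := Φ.exists_B_ne hp0
      by_cases hy : Φ.B p y = 0
      · simpa using (I p).sub_mem (k (y + f) (by simpa [hy] using hf)) (k f hf)
      · exact k y hy
    have hN := hO.nd_inf h2 Φ.nd_top trivial hp1
    have hd := finrank_le_inf_ker ⊤ (Φ.B p)
    rw [finrank_top] at hd
    obtain ⟨z, z0, z1, z2, z3⟩ : ∃ z, z ≠ 0 ∧ Φ.B p z = 0 ∧ Φ.Q z ≠ Φ.Q p ∧ Φ.Q z ≠ -Φ.Q p := by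
      by_cases hs : ∃ z, z ≠ 0 ∧ Φ.B p z = 0 ∧ Φ.Q z = 0
      · obtain ⟨z, z0, z1, z2⟩ := hs
        exact ⟨z, z0, z1, by simpa [z2] using Ne.symm hp1, by simpa [z2] using hp1⟩
      push Not at hs
      obtain ⟨z₁, a0, a1, -⟩ := exists_perp_pair (Ψ := Φ) h3 p p
      obtain ⟨z₂, b0, b1, b2⟩ := exists_perp_pair (Ψ := Φ) h3 p z₁
      obtain ⟨l, l0, l1⟩ := exists_mul_self_ne_one h2 fun h => by
        obtain ⟨z, hz, z0, z1⟩ := Φ.iso (⊤ ⊓ LinearMap.ker (Φ.B p)) (by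
          have : finrank F V ≠ 3 := fun h' => hq ⟨h, h'⟩
          rw [hO.d]; omega)
        exact hs z z0 hz.2 z1
      obtain ⟨α, β, e⟩ := Orth.exists_mul_sq_add_mul_sq h2 (hs z₁ a0 a1) (hs z₂ b0 b1) (l * Φ.Q p)
      have q1 : Φ.Q (α • z₁ + β • z₂) = l * Φ.Q p := by
        simp only [hO.Q_add, hO.Q_smul, Φ.bsimp, b2]
        linear_combination e
      refine ⟨α • z₁ + β • z₂, fun h => ?_, by simp [a1, b1], fun h => l1 ?_, fun h => l1 ?_⟩
      · rw [h, Φ.Q_zero] at q1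
        exact mul_ne_zero l0 hp1 q1.symm
      · rw [mul_right_cancel₀ hp1 (q1.symm.trans (h.trans (one_mul _).symm)), one_mul]
      · rw [mul_right_cancel₀ hp1 (q1.symm.trans (h.trans (neg_one_mul _).symm))]
        ring
    have q1 : Φ.Q (p + z) = Φ.Q p + Φ.Q z := Φ.Q_add_perp z1
    have q2 : Φ.Q p + Φ.Q z ≠ 0 := fun h => z3 (eq_neg_of_add_eq_zero_right h)
    have q3 : Φ.Q (p + z) ≠ 0 := by rwa [q1]
    have k1 := i2 hp (i1 (refl_mem_Iso q3 (hO.π _)) hp) (by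
      simp only [refl_apply, q1, Φ.bsimp, hO.B_self, z1, Φ.perp_symm z1]
      rw [show 2 * Φ.Q p - (Φ.Q p + Φ.Q z)⁻¹ * (2 * Φ.Q p + 0) * (2 * Φ.Q p + 0) =
        2 * Φ.Q p * (Φ.Q z - Φ.Q p) / (Φ.Q p + Φ.Q z) by field_simp; ring]
      simp [h2, hp1, q2, sub_eq_zero, z2])
    have k2 : z ∈ I p := by
      have := (I p).smul_mem (((Φ.Q (p + z))⁻¹ * Φ.B (p + z) p)⁻¹) ((I p).sub_mem hp k1)
      rw [refl_apply, sub_sub_cancel, inv_smul_smul₀ (by
        simp [q3, hO.B_self, Φ.perp_symm z1, h2, hp1])] at this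
      simpa using (I p).sub_mem this hp
    have k3 := hN.le_of_invariant (A := I p ⊓ (⊤ ⊓ LinearMap.ker (Φ.B p))) inf_le_right
      ((Submodule.ne_bot_iff _).2 ⟨z, ⟨k2, trivial, z1⟩, z0⟩)
      (fun s hs w hw c hv x hx => ⟨by
        have := i1 (hv.mem_Iso hv.eich_apply) hx.1
        rwa [hv.eich_apply p, ef_apply_of_perp (Φ.perp_symm hs.2) (Φ.perp_symm hw.2)] at this,
        ef_mem c hs hw hx.2⟩)
      (fun a ha c c0 hc x hx h => ⟨by
        have := i1 (refl_mem_Iso c0 hc) hx.1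
        rw [refl_apply c0 hc p, Φ.perp_symm ha.2, mul_zero, zero_smul, sub_zero] at this
        have := (I p).smul_mem (c⁻¹ * Φ.B a x)⁻¹ ((I p).sub_mem hx.1 this)
        rwa [refl_apply, sub_sub_cancel, inv_smul_smul₀ (by simp [c0, h])] at this, ha⟩)
      (Or.inr (by
        by_cases h : Nat.card F = 3
        · have : finrank F V ≠ 3 := fun h' => hq ⟨h, h'⟩
          exact Or.inl (by omega)
        · have := Fintype.ofFinite F
          refine Or.inr (Or.inr (exists_ne_ne_ne ?_))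
          have h4 := Orth.card_mod_two_of_two_ne_zero h2
          have := Fintype.one_lt_card (α := F)
          rw [Nat.card_eq_fintype_card] at h
          omega))
    intro y
    simpa using (I p).add_mem (k3 (x := y - (Φ.B p y / (2 * Φ.Q p)) • p) ⟨trivial, by
      simp [hO.B_self, h2, hp1]⟩).1 ((I p).smul_mem (Φ.B p y / (2 * Φ.Q p)) hp)
  have i0 : ∀ {x y}, y ∈ I x → x ∈ I y := fun {x y} h =>
    (add_comm (Φ.rk x y) _ ▸ h : Φ.rk y x + Φ.rk x y ∈ R)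
  exact i0 (hO.le_of_invariant h2 (A := I y) Φ.nd_top (by simpa using h3) trivial
    (i0 (top y)) hp0 (fun s _ w _ hs hw => by
      have hv := hO.valid hs hw
      have := i1 (hv.mem_Iso hv.eich_apply) (top (hv.eich⁻¹ y))
      rw [app_inv_app] at this
      exact i0 this) (trivial : x ∈ ⊤))

omit h2 in
theorem valid_neg {s y : V} (hs : Φ.Q s = 0) (hy : Φ.B s y = 0) : Φ.Valid s (-y) (Φ.Q y) :=
  ⟨hs, by simp [hy], by rw [hO.π, Φ.Q_neg]⟩

omit h2 in
theorem cjL_eich {s y : V} (hv : Φ.Valid s y (Φ.Q y)) (b : V →ₗ[F] V) (v : V) :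
    cjL hv.eich b v = Φ.ef s y (Φ.Q y) (b (Φ.ef s (-y) (Φ.Q y) v)) := by
  rw [cjL_apply, hv.eich_inv, hO.ε, hO.σ, one_mul, hv.eich_apply]

omit h2 in
theorem cjL_eich' {s y : V} (hv : Φ.Valid s (-y) (Φ.Q y)) (b : V →ₗ[F] V) (v : V) :
    cjL hv.eich b v = Φ.ef s (-y) (Φ.Q y) (b (Φ.ef s y (Φ.Q y) v)) := by
  rw [cjL_apply, hv.eich_inv, hO.ε, hO.σ, one_mul, hv.eich_apply, neg_neg]

/-- A symmetric form vanishing on the quadric is a multiple of the given form. -/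
theorem smul_of_quadric [Finite F] (h3 : 3 ≤ finrank F V)
    (hq : ¬ (Nat.card F = 3 ∧ finrank F V = 3)) {b : V →ₗ[F] V} (hadj : ∀ v, Φ.adj b v = b v)
    (h : ∀ s, Φ.Q s = 0 → Φ.B s (b s) = 0) : ∃ a : F, ∀ v, b v = a • v := by
  obtain ⟨e, f, he, hf, hef⟩ := exists_hyp (Φ := Φ) (by rw [hO.d]; exact h3)
  have hfe : Φ.B f e = 1 := by rw [hO.symm, hef]
  have sy : ∀ x y, Φ.B x (b y) = Φ.B y (b x) := fun x y => by rw [← B_adj, hadj, hO.symm]
  set κ := Φ.B e (b f) with hκ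
  have k1 : ∀ e f, Φ.Q e = 0 → Φ.Q f = 0 → Φ.B e f = 1 → Φ.B e (b f) = κ → ∀ y, Φ.B e y = 0 →
      Φ.B f y = 0 → Φ.B y (b y) = κ * Φ.B y y ∧
        ∀ l, l ≠ 0 → Φ.B e (b y) = l * l * Φ.Q y * Φ.B f (b y) := fun e f he hf hef hκ y y1 y2 => by
    have k : ∀ l : F, 2 * l * Φ.B e (b y) + l * l * (Φ.B y (b y) - κ * Φ.B y y) -
        2 * l * l * l * Φ.Q y * Φ.B f (b y) = 0 := fun l => by
      have := h (e + l • y - (l * l * Φ.Q y) • f) (by
        simp [hO.Q_add, hO.Q_sub, hO.Q_smul, he, hf, hef, y1, Φ.perp_symm y2, hO.σ])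
      simp only [map_add b, map_sub b, map_smul b, Φ.bsimp, hO.σ, h e he, h f hf, hκ, sy y e, sy y f,
        sy f e] at this
      rw [hO.B_self]
      linear_combination this
    have e1 : Φ.B y (b y) = κ * Φ.B y y :=
      mul_left_cancel₀ h2 (by linear_combination k 1 + k (-1))
    exact ⟨e1, fun l hl => mul_left_cancel₀ (mul_ne_zero h2 hl) (by
      linear_combination k l - l * l * e1)⟩
  have k2 := k1 e f he hf hef rfl
  have k3 := fun y y1 y2 => k1 f e hf he hfe (sy f e) y y2 y1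
  have k4 : ∀ e f, Φ.Q e = 0 → Φ.Q f = 0 → Φ.B e f = 1 →
      (∀ y, Φ.B e y = 0 → Φ.B f y = 0 → ∀ l, l ≠ 0 → Φ.B e (b y) = l * l * Φ.Q y * Φ.B f (b y)) →
      (∀ y, Φ.B e y = 0 → Φ.B f y = 0 → Φ.B f (b y) = 1 * 1 * Φ.Q y * Φ.B e (b y)) →
      ∀ y, Φ.B e y = 0 → Φ.B f y = 0 → Φ.B e (b y) = 0 := fun e f he hf hef a1 a2 y y1 y2 => by
    by_cases hF : Nat.card F = 3
    swap
    · obtain ⟨l, l0, l1⟩ := exists_mul_self_ne_one h2 hF
      exact mul_left_cancel₀ (sub_ne_zero.2 l1) (by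
        linear_combination l * l * a1 y y1 y2 1 one_ne_zero - a1 y y1 y2 l l0)
    by_contra hy
    have k5 : ∀ z, Φ.B e z = 0 → Φ.B f z = 0 → Φ.B e (b z) = 0 → Φ.Q z + Φ.B y z = 0 :=
      fun z z1 z2 z3 => by
        have e1 := a2 (y + z) (by simp [y1, z1]) (by simp [y2, z2])
        simp only [map_add, hO.Q_add, z3, a2 z z1 z2, a2 y y1 y2] at e1
        exact mul_right_cancel₀ hy (by linear_combination -e1)
    have k6 : ∀ z, Φ.B e z = 0 → Φ.B f z = 0 → Φ.B e (b z) = 0 → Φ.Q z = 0 ∧ Φ.B y z = 0 :=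
      fun z z1 z2 z3 => by
        have e1 := k5 z z1 z2 z3
        have e2 := k5 (-z) (by simp [z1]) (by simp [z2]) (by simp [z3])
        rw [Φ.Q_neg, map_neg] at e2
        exact ⟨mul_left_cancel₀ h2 (by linear_combination e1 + e2),
          mul_left_cancel₀ h2 (by linear_combination e1 - e2)⟩
    obtain ⟨z, -, z0, hz⟩ := exists_ne_zero_ker [Φ.B e, Φ.B f, Φ.B e ∘ₗ b] (⊤ : Submodule F V) (by
      have : finrank F V ≠ 3 := fun h' => hq ⟨hF, h'⟩
      simp; omega)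
    have z1 : Φ.B e z = 0 := hz _ (by simp)
    have z2 : Φ.B f z = 0 := hz _ (by simp)
    have z3 : Φ.B e (b z) = 0 := hz (Φ.B e ∘ₗ b) (by simp)
    refine z0 ((Φ.nd_top.inf_hyp trivial trivial he hf hef) z ⟨⟨trivial, z1⟩, z2⟩ fun x hx => ?_)
    have x1 : Φ.B e (x - (Φ.B e (b x) / Φ.B e (b y)) • y) = 0 := by
      simp [y1, show Φ.B e x = 0 from hx.1.2]
    have x2 : Φ.B f (x - (Φ.B e (b x) / Φ.B e (b y)) • y) = 0 := by
      simp [y2, show Φ.B f x = 0 from hx.2]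
    have x3 : Φ.B e (b (x - (Φ.B e (b x) / Φ.B e (b y)) • y)) = 0 := by simp [hy]
    have e1 := (k6 (z + (x - (Φ.B e (b x) / Φ.B e (b y)) • y)) (by rw [map_add, z1, x1, add_zero])
      (by rw [map_add, z2, x2, add_zero])
      (by rw [map_add, map_add, z3, x3, add_zero])).1
    rw [hO.Q_add, (k6 z z1 z2 z3).1, (k6 _ x1 x2 x3).1] at e1
    simpa [Φ.perp_symm (k6 z z1 z2 z3).2] using e1
  have k7 := k4 e f he hf hef (fun y y1 y2 => (k2 y y1 y2).2)
    fun y y1 y2 => (k3 y y1 y2).2 1 one_ne_zero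
  have k8 := fun y y1 y2 => k4 f e hf he hfe (fun y y1 y2 => (k3 y y2 y1).2)
    (fun y y1 y2 => (k2 y y2 y1).2 1 one_ne_zero) y y2 y1
  have k9 : ∀ x, Φ.B x (b x) = κ * Φ.B x x := fun x => by
    obtain ⟨y1, y2⟩ := sub_mem_ker_hyp he hf hef x
    set y := x - Φ.B e x • f - (Φ.ε * Φ.B f x) • e with hy
    have e1 := (k2 y y1 y2).1
    rw [show x = y + Φ.B e x • f + (Φ.ε * Φ.B f x) • e by rw [hy]; abel]
    simp only [map_add b, map_smul b, Φ.bsimp, hO.σ, h e he, h f hf, sy y e, sy y f, sy f e, ← hκ,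
      k7 y y1 y2, k8 y y1 y2, e1, y1, y2, Φ.perp_symm y1, Φ.perp_symm y2, Φ.B_self he, Φ.B_self hf,
      hef, hfe]
    ring
  refine ⟨κ, fun v => Φ.eq_of_B_eq fun x => mul_left_cancel₀ h2 ?_⟩
  have := k9 (x + v)
  simp only [map_add b, Φ.bsimp, k9, sy v x, hO.σ, hO.symm x] at this ⊢
  linear_combination this

/-- Invariant commutative families of self-adjoint maps. -/
theorem smul_of_comm [Finite F] (h3 : 3 ≤ finrank F V) (hq : ¬ (Nat.card F = 3 ∧ finrank F V = 3))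
    (R : AddSubgroup (V →ₗ[F] V)) (hadj : ∀ b ∈ R, ∀ v, Φ.adj b v = b v)
    (hcj : ∀ a ∈ Φ.EG, ∀ b ∈ R, cjL a b ∈ R) (hc : ∀ b ∈ R, ∀ c ∈ R, ∀ v, b (c v) = c (b v))
    {b : V →ₗ[F] V} (hb : b ∈ R) : ∃ a : F, ∀ v, b v = a • v := by
  refine hO.smul_of_quadric h2 h3 hq (hadj b hb) fun s hs => ?_
  by_contra hβ
  have sy : ∀ x y, Φ.B x (b y) = Φ.B y (b x) := fun x y => by rw [← B_adj, hadj b hb, hO.symm]
  have key : ∀ y, Φ.B s y = 0 → ∀ v, Φ.ef s y (Φ.Q y) (b (Φ.ef s (-y) (Φ.Q y) v)) +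
      Φ.ef s (-y) (Φ.Q y) (b (Φ.ef s y (Φ.Q y) v)) - b v - b v =
        (-(2 * Φ.Q y * Φ.B s (b s))) • v := fun y hy => by
    have hv := hO.valid hs hy
    have hv' := hO.valid_neg hs hy
    have hD := R.sub_mem (R.sub_mem (R.add_mem (hcj _ hv.eich_mem b hb) (hcj _ hv'.eich_mem b hb))
      hb) hb
    set D := cjL hv.eich b + cjL hv'.eich b - b - b with hD'
    let K := LinearMap.ker (D - (-(2 * Φ.Q y * Φ.B s (b s))) • LinearMap.id)
    have mK : ∀ v, v ∈ K ↔ D v = (-(2 * Φ.Q y * Φ.B s (b s))) • v := fun v => sub_eq_zero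
    have k1 : s ∈ K := (mK s).2 (by
      simp only [hD', LinearMap.sub_apply, LinearMap.add_apply, hO.cjL_eich, hO.cjL_eich',
        hv.ef_self, hv'.ef_self]
      simp only [hO.ef, Φ.bsimp]
      module)
    have k2 : ∀ c ∈ R, c s ∈ K := fun c h => (mK _).2 (by rw [hc _ hD _ h, (mK s).1 k1, map_smul])
    have k3 : ∀ z, Φ.B s z = 0 → z ∈ K := fun z hz => by
      have h1 := k2 _ (hcj _ (hO.valid hs hz).eich_mem b hb)
      rw [hO.cjL_eich, (hO.valid_neg hs hz).ef_self, hO.ef] at h1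
      simpa [hβ] using K.smul_mem (Φ.B s (b s))⁻¹ (K.sub_mem (K.add_mem h1 (K.smul_mem
        (Φ.B z (b s) + Φ.Q z * Φ.B s (b s)) k1)) (k2 b hb))
    intro v
    have k4 : v ∈ K := by
      simpa using K.add_mem (k3 (v - (Φ.B s v / Φ.B s (b s)) • b s) (by simp [hβ]))
        (K.smul_mem (Φ.B s v / Φ.B s (b s)) (k2 b hb))
    rw [← (mK v).1 k4]
    simp only [hD', LinearMap.sub_apply, LinearMap.add_apply, hO.cjL_eich, hO.cjL_eich']
  have hs0 : s ≠ 0 := fun e => hβ (by simp [e])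
  obtain ⟨f, hf, e1⟩ := exists_partner' hs hs0
  obtain ⟨y, -, y0, y1, y2⟩ := hO.exists_nonsing_perp Φ.nd_top (by simpa using h3) trivial trivial
    hs hf e1
  by_cases hF : Nat.card F = 3
  · obtain ⟨x, -, x0, hx⟩ := exists_ne_zero_ker [Φ.B s, Φ.B f, Φ.B y] (⊤ : Submodule F V) (by
      have : finrank F V ≠ 3 := fun h' => hq ⟨hF, h'⟩
      simp; omega)
    have x1 : Φ.B s x = 0 := hx _ (by simp)
    have x2 : Φ.B f x = 0 := hx _ (by simp)
    have x3 : Φ.B y x = 0 := hx _ (by simp)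
    have e2 := key y y1 x
    rw [ef_apply_of_perp x1 x3, ef_apply_of_perp x1 (by simp [x3])] at e2
    have e3 : (2 * Φ.Q y * Φ.B s (b s)) • x = (2 * Φ.Q y * Φ.B s (b x)) • s := by
      simp only [hO.ef, Φ.bsimp] at e2
      linear_combination (norm := module) e2
    have e4 := congrArg (Φ.B f) e3
    rw [map_smul, map_smul, x2, hO.symm s f, e1, smul_zero, smul_eq_mul, mul_one] at e4
    rw [← e4] at e3
    simp [h2, y0, hβ, x0] at e3
  obtain ⟨l, l0, l1⟩ := exists_mul_self_ne_one h2 hF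
  have k : ∀ l : F, l ≠ 0 → Φ.B y (b y) - 2 * Φ.Q y * Φ.B s (b f) +
      l * l * Φ.Q y * Φ.Q y * Φ.B s (b s) = 0 := fun l hl => by
    have := congrArg (Φ.B f) (key (l • y) (by simp [y1]) f)
    simp only [hO.ef, Φ.bsimp, map_add b, map_sub b, map_smul b, map_neg b, hO.σ, hO.Q_smul, e1, y2,
      Φ.perp_symm y2, hO.symm s f, Φ.B_self hf, sy f s, sy y s, sy y f] at this
    exact mul_left_cancel₀ (mul_ne_zero h2 (mul_ne_zero hl hl)) (by linear_combination this)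
  exact mul_ne_zero (mul_ne_zero (sub_ne_zero.2 l1) (mul_ne_zero y0 y0)) hβ (by
    linear_combination k l l0 - k 1 one_ne_zero)

/-- Invariant spaces of skew maps. -/
theorem alt_mem (h3 : 3 ≤ finrank F V) (h4 : 5 ≤ finrank F V ∨ ∀ s v, ¬ Φ.Pair s v)
    (R : Submodule F (V →ₗ[F] V)) (hadj : ∀ b ∈ R, ∀ v, Φ.adj b v = -b v)
    (hcj : ∀ a ∈ Φ.EG, ∀ b ∈ R, cjL a b ∈ R) {b : V →ₗ[F] V} (hb : b ∈ R)
    (hb' : ¬ ∃ a : F, ∀ v, b v = a • v) (x y : V) : Φ.rk x y - Φ.rk y x ∈ R := by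
  let I : V → Submodule F V := fun x =>
    { carrier := {y | Φ.rk x y - Φ.rk y x ∈ R}
      zero_mem' := mem_of_ext R.zero_mem fun v => by simp
      add_mem' := fun ha hb => mem_of_ext (R.add_mem ha hb) fun v => by
        simp only [LinearMap.add_apply, LinearMap.sub_apply, rk_apply, Φ.bsimp]; module
      smul_mem' := fun c _ ha => mem_of_ext (R.smul_mem c ha) fun v => by
        simp only [LinearMap.sub_apply, LinearMap.smul_apply, rk_apply, Φ.bsimp, hO.σ]; module }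
  have i0 : ∀ {x y}, y ∈ I x → x ∈ I y := fun {x y} h =>
    (neg_sub (Φ.rk x y) _ ▸ R.neg_mem h : Φ.rk y x - Φ.rk x y ∈ R)
  have i1 : ∀ x, x ∈ I x := fun x => (sub_self (Φ.rk x x) ▸ R.zero_mem : Φ.rk x x - Φ.rk x x ∈ R)
  have key : ∀ C ∈ R, ∀ s, Φ.Q s = 0 → C s ∉ Submodule.span F {s} → ∀ t, Φ.B s t = 0 → t ∈ I s :=
    fun C hC s hs hs' t ht => by
      have sy : ∀ x y, Φ.B x (C y) = -Φ.B y (C x) := fun x y => by
        rw [← B_adj, hadj C hC, Φ.B_neg_left, hO.symm]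
      have s0 : ∀ x, Φ.B x (C x) = 0 := fun x => mul_left_cancel₀ h2 (by linear_combination sy x x)
      have k1 : ∀ y, Φ.B s y = 0 → (2 * Φ.Q y) • C s - (2 * Φ.B y (C s)) • y ∈ I s := fun y hy =>
        mem_of_ext (R.sub_mem (R.sub_mem (R.add_mem (hcj _ (hO.valid hs hy).eich_mem C hC)
          (hcj _ (hO.valid_neg hs hy).eich_mem C hC)) hC) hC) fun v => by
          simp only [LinearMap.sub_apply, LinearMap.add_apply, hO.cjL_eich, hO.cjL_eich', hO.ef,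
            Φ.bsimp, map_add C, map_sub C, map_smul C, map_neg C, s0, sy s y, sy s v, rk_apply, hO.σ,
            hO.symm v (C s)]
          module
      have hs0 : s ≠ 0 := fun e => hs' (by simp [e])
      obtain ⟨y₀, a1, a2⟩ := Φ.exists_perp_not_perp hs'
      replace a1 := Φ.mem_perp_span_singleton.1 a1
      rw [← Φ.perp_perp (I s)]
      intro z hz
      have k2 : ∀ y, Φ.B s y = 0 → Φ.Q y * Φ.B z (C s) = Φ.B y (C s) * Φ.B z y := fun y hy => by
        have := Φ.perp_symm (hz _ (k1 y hy))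
        simp only [Φ.bsimp] at this
        exact mul_left_cancel₀ h2 (by linear_combination this)
      have k3 : Φ.B z (C s) = 0 := by
        by_cases hq : Φ.Q (C s) = 0
        · have hp : Φ.Pair s (C s) := ⟨hs, hq, s0 s, hs0, y₀, a1, by rw [hO.symm, a2]; simp⟩
          obtain ⟨f, f1, f2, f3⟩ := hp.exists_partner
          obtain ⟨y, c, c0, c1, y1, y2, -⟩ :=
            hp.exists_valid (Or.inr (h4.resolve_right fun h => h _ _ hp)) f1 f2 f3
          rw [hO.π] at c1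
          simpa [← c1, c0, Φ.perp_symm y2] using k2 y y1
        · have := k2 _ (s0 s)
          rw [hO.B_self] at this
          exact mul_left_cancel₀ hq (by linear_combination -this)
      by_contra hzt
      obtain ⟨y, y1, y2, y3⟩ := exists_ne_zero_ne_zero (LinearMap.ker (Φ.B s))
        (φ := fun y => Φ.B y (C s)) (ψ := Φ.B z) (fun _ _ => Φ.B_add_left _ _ _) (map_add _)
        ⟨y₀, a1, by simp [a2]⟩ ⟨t, ht, hzt⟩
      exact mul_ne_zero y2 y3 (by rw [← k2 y y1, k3, mul_zero])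
  obtain ⟨e, -, he0, he⟩ := Φ.iso ⊤ (by rw [finrank_top, hO.d]; exact h3)
  obtain ⟨s₀, hs₀, hs₁⟩ : ∃ s, Φ.Q s = 0 ∧ b s ∉ Submodule.span F {s} := by
    by_contra hc
    push Not at hc
    obtain ⟨l, l0, l1⟩ := hO.exists_ne_ne h2
    exact hb' (exists_eq_smul_of_sing h3 l0 l1 he he0 b.toAddMonoidHom fun s hs =>
      (Submodule.mem_span_singleton.1 (hc s hs)).imp fun _ h => h.symm)
  have step : ∀ s s', Φ.Q s' = 0 → Φ.B s s' ≠ 0 → (∀ t, Φ.B s t = 0 → t ∈ I s) →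
      ∀ t, Φ.B s' t = 0 → t ∈ I s' := fun s s' hs' h h1 => by
    obtain ⟨t, t0, t1, t2⟩ := exists_perp_pair (Ψ := Φ) h3 s s'
    refine key _ (h1 t t1) s' hs' fun hc => ?_
    obtain ⟨a, ha⟩ := Submodule.mem_span_singleton.1 hc
    have e1 := congrArg (Φ.B s) ha
    simp only [LinearMap.sub_apply, rk_apply, Φ.perp_symm t2, Φ.bsimp, t1] at ha e1
    rw [show a = 0 by simpa [h] using e1] at ha
    simp [h, t0] at ha
  have all : ∀ s, Φ.Q s = 0 → s ≠ 0 → ∀ t, Φ.B s t = 0 → t ∈ I s := fun s hs hs0 => by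
    obtain ⟨f, f1, f2, f3⟩ := Rk.exists_sing_not_perp (Ψ := Φ) (Or.inl h3) hs₀ hs
      (fun e => hs₁ (by simp [e])) hs0
    exact step f s hs f3 (step s₀ f f1 (Φ.ne_symm f2) (key b hb s₀ hs₀ hs₁))
  have top : ∀ s, Φ.Q s = 0 → s ≠ 0 → ∀ t, t ∈ I s := fun s hs hs0 t => by
    obtain ⟨f, hf, e1⟩ := exists_partner' hs hs0
    obtain ⟨y, -, y0, y1, y2⟩ := hO.exists_nonsing_perp Φ.nd_top (by simpa using h3) trivial trivial
      hs hf e1
    have hv := hO.valid hs y1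
    have k1 := all f hf (fun e => by simp [e] at e1) y y2
    have k2 : f ∈ I s := mem_of_ext (R.smul_mem (2 * Φ.Q y)⁻¹ (R.sub_mem (R.sub_mem
      (hcj _ hv.eich_mem _ k1) k1) (R.smul_mem (Φ.Q y) (all s hs hs0 y y1)))) fun v => by
        have a1 := cjL_rk (hv.mem_Iso hv.eich_apply) f y v
        have a2 := cjL_rk (hv.mem_Iso hv.eich_apply) y f v
        rw [cjL_apply] at a1 a2
        simp only [LinearMap.sub_apply, LinearMap.smul_apply, cjL_apply, map_sub hv.eich, a1, a2]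
        simp only [hv.eich_apply, hO.ef, rk_apply, Φ.bsimp, hO.σ, e1, y1, Φ.perp_symm y2,
          hO.B_self y]
        match_scalars <;> field_simp <;> ring
    simpa using (I s).add_mem (all s hs hs0 (t - Φ.B s t • f) (by simp [e1]))
      ((I s).smul_mem (Φ.B s t) k2)
  obtain ⟨f, hf⟩ := Φ.exists_B_ne he0
  exact i0 (le_of_sing (Y := ⊤) trivial he ⟨f, trivial, hf⟩ (I y).toAddSubgroup
    (fun s _ hs ⟨z, _, hz⟩ => i0 (top s hs (fun e => hz (by simp [e])) y)) x trivial)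

end IsO

end Fm

end Cfsg.Agent.Class.Max
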