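import Mathlib
import Cfsg.Agent.Class.Max.C4RingO

/-!
Tensor products of formed spaces: the local analysis in the five cases.
-/

set_option autoImplicit false
set_option linter.unusedSectionVars false

namespace Cfsg.Agent.Class.Max

open Module

variable {F U W V : Type*} [Field F] [AddCommGroup U] [Module F U] [AddCommGroup W]
  [Module F W] [AddCommGroup V] [Module F V] {T : Tn F U W V} {Φ₁ : Fm F U} {Φ₂ : Fm F W}
  {Φ : Fm F V} {M : Subgroup (V ≃ₗ[F] V)}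
  [FiniteDimensional F U] [FiniteDimensional F W] [FiniteDimensional F V]

namespace TF

variable (T Φ₁ Φ₂) in
/-- The root element attached to `b` and the perpendicular singular vectors `w`, `s`. -/
noncomputable def X (b : U →ₗ[F] U) (w s : W) : V →ₗ[F] V :=
  T.xl b w (Φ₂.B s) - Φ₂.ε • T.xl (Φ₁.adj b) s (Φ₂.B w)

theorem X_apply (b : U →ₗ[F] U) (w s : W) (v : V) : X T Φ₁ Φ₂ b w s v =
    T.tm (b (T.cR (Φ₂.B s) v)) w - Φ₂.ε • T.tm (Φ₁.adj b (T.cR (Φ₂.B w) v)) s := rfl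

variable (hT : TF T Φ₁ Φ₂ Φ)

variable (M) in
/-- The maps all of whose root elements lie in `M`. -/
def rootS : Submodule F (U →ₗ[F] U) where
  carrier := {b | ∀ w s, Φ₂.Q w = 0 → Φ₂.Q s = 0 → Φ₂.B w s = 0 → HasU M (X T Φ₁ Φ₂ b w s)}
  zero_mem' w s _ _ _ := hasU_zero.congr fun v => by simp [X_apply, Φ₁.adj_zero]
  add_mem' ha hb w s hw hs h := ((ha w s hw hs h).add (hb w s hw hs h) fun v => by
    simp [X_apply, Φ₂.B_self hw, Φ₂.B_self hs, h, Φ₂.perp_symm h]).congr fun v => by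
      simp only [X_apply, Φ₁.adj_add, LinearMap.add_apply, map_add]; module
  smul_mem' c b hb w s hw hs h := (hb (c • w) s (Φ₂.Q_smul_zero hw c) hs (by simp [h])).congr
    fun v => by simp [X_apply, Φ₁.adj_smul, hT.σ₁₂]

include hT

theorem adj_mem_rootS {b : U →ₗ[F] U} (hb : b ∈ hT.rootS M) : Φ₁.adj b ∈ hT.rootS M :=
  fun w s hw hs h => ((hT.rootS M).smul_mem (-Φ₂.ε) hb s w hs hw (Φ₂.perp_symm h)).congr fun v => by
    simp only [X_apply, Φ₁.adj_smul, Φ₁.adj_adj, map_neg, ← hT.σ₁₂, Φ₂.σ_eps, LinearMap.smul_apply,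
      map_smul, smul_smul, mul_neg, Φ₂.eps_sq]
    module

theorem cjL_mem_rootS (hH : T.NG ⊓ Φ.EG ≤ M) {a : U ≃ₗ[F] U} (ha : a ∈ Φ₁.EG) {b : U →ₗ[F] U}
    (hb : b ∈ hT.rootS M) : cjL a b ∈ hT.rootS M := fun w s hw hs h =>
  (hb w s hw hs h).conj' (hT.krL_mem hH ha) fun v => by
    simp only [X_apply, map_sub, map_smul, Tn.kr_tm, T.cR_kr, Fm.adj_cjL (Φ₁.EG_le_Iso ha), cjL_app]
    rfl

theorem gen_of_rootS {b : U →ₗ[F] U} (hb : b ∈ hT.rootS M) (w s : W) (hw : Φ₂.Q w = 0)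
    (hs : Φ₂.Q s = 0) (h : Φ₂.B w s = 0) : T.Gen Φ₂ M w (b ∘ₗ T.cR (Φ₂.B s)) :=
  let ⟨x, hx, e⟩ := hb w s hw hs h
  ⟨fun u => by simp [Φ₂.perp_symm h], x, hx, fun v hv => by simp [e, X_apply, hv]⟩

theorem mem_rootS_of_cenG (hI : M ≤ Φ.Iso) {w : W} (hw : Φ₂.Q w = 0) (hw0 : w ≠ 0)
    {C : U →ₗ[F] U} (h : C ∈ T.cenG Φ₂ M) : C ∈ hT.rootS M := fun w' s hw' hs hws =>
  (hasU_of_cenG hw' hs hws h).congr fun v => by
    simp [X_apply, Tn.xl_apply, hT.adj_of_cenG hI hw hw0 h, smul_smul, Φ₂.eps_sq]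

theorem mem_rootS_of_pair (hd : Φ₂.d + 2 ≤ finrank F W) {b : U →ₗ[F] U}
    (h : ∀ w s, Φ₂.Pair w s → HasU M (X T Φ₁ Φ₂ b w s)) : b ∈ hT.rootS M := fun w s hw hs hws => by
  by_cases hw0 : w = 0
  · exact hasU_zero.congr fun v => by simp [X_apply, hw0]
  rcases Fm.pair_or_eq_smul hw hw0 hs hws with hp | ⟨c, rfl⟩
  · exact h w s hp
  obtain ⟨-, s, s', -, q1, -, -, e1, e2, e3, -⟩ := Fm.exists_hyp2 hd hw hw0
  have e4 := Φ₂.perp_symm e2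
  exact ((h w (c • w + s) ⟨hw, by rw [Φ₂.Q_add_perp (by simp [e2]), hs, q1, add_zero], by
    simp [e2, Φ₂.B_self hw], hw0, s', e3, by simp [e1, e3]⟩).sub
    (h w s ⟨hw, q1, e2, hw0, s', e3, by simp [e1]⟩)
    (fun v => by simp [X_apply, Φ₂.B_self hw, Φ₂.B_self q1, e2, e4])
    fun v => by simp [X_apply, Φ₂.B_self hw, Φ₂.B_self q1, e2, e4]).congr fun v => by
      simp only [X_apply, map_add, LinearMap.sub_apply, LinearMap.add_apply]; module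

theorem EG_le_of_rk (hI : M ≤ Φ.Iso) (hd : Φ₂.d + 2 ≤ finrank F W)
    (hΛ : ∀ c, Φ.π c = 0 → ∃ a, c = a - Φ.ε * Φ.σ a) (h : ∀ x z, Φ₁.rk x z ∈ hT.rootS M) :
    Φ.EG ≤ M :=
  hT.EG_le_of_root hI hd hΛ fun u u' w s hw hs hws => by
    obtain ⟨g, hg, e⟩ := h u (-(Φ.ε • u')) w s hw hs hws
    refine ⟨0, Fm.valid_zero (hT.Q_tm _ hw) (by simp [hT.B, hws]) (hT.Q_tm _ hs), g, hg, fun v => ?_⟩
    simp only [e, X_apply, Fm.adj_rk, Fm.rk_apply, Fm.ef, hT.B_tm, Φ₁.bsimp, hT.σ₁, Φ.σ_eps,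
      map_smul, map_neg, LinearMap.smul_apply, LinearMap.neg_apply]
    match_scalars
    · ring
    · ring
    · linear_combination Φ₁.B u (T.cR (Φ₂.B w) v) * Φ.eps_sq -
        Φ.ε * Φ₁.B u (T.cR (Φ₂.B w) v) * hT.ε

variable (hH : T.NG ⊓ Φ.EG ≤ M) (hG : M ≤ Φ.EG) (hn : ¬ Φ.EG ≤ M)
include hH hG hn

/-- Unitary spaces. -/
theorem loc_herm {δ : F} (hδ : Φ.σ δ ≠ δ) (hd : Φ₂.d + 2 ≤ finrank F W)
    (hΛ : ∀ c, Φ.π c = 0 → ∃ a, c = a - Φ.ε * Φ.σ a) (hW : ∃ c, c ≠ 0 ∧ Φ₂.π c = 0) {c₀ : F}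
    (c0 : c₀ ≠ 0) (hc : Φ₁.π c₀ = 0) (h3 : 3 ≤ finrank F U ∨ ∃ c, c ≠ 0 ∧ c ≠ c₀ ∧ Φ₁.π c = 0)
    (h2 : Φ₁.d ≤ finrank F U) {w : W} (hw : Φ₂.Q w = 0) (hw0 : w ≠ 0) : Loc T Φ₂ M w := by
  have hI := hG.trans Φ.EG_le_Iso
  have hδ' := sub_ne_zero.2 hδ
  obtain ⟨e, -, he0, he⟩ := Φ₁.iso ⊤ (by rwa [finrank_top])
  have hZ : ∀ C ∈ T.cenG Φ₂ M, ∃ c : F, ∀ u, C u = c • u := fun C hC => by
    by_contra hc'
    refine hn (hT.EG_le_of_rk hI hd hΛ (Fm.rk_mem_of_alg hT.tv₁ c0 hc h3 he he0 _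
      (fun b hb c hc => ?_) (fun _ => hT.adj_mem_rootS) (fun _ ha _ => hT.cjL_mem_rootS hH ha)
      (hT.mem_rootS_of_cenG hI hw hw0 hC) hc'))
    have k := fun μ => hT.mem_rootS_of_cenG hI hw hw0 (hT.cenG_comm hH hI hd
      (hT.gen_of_rootS (hT.adj_mem_rootS hc)) (hT.gen_of_rootS hb) μ)
    refine mem_of_ext ((hT.rootS M).smul_mem (Φ.σ δ - δ)⁻¹
      ((hT.rootS M).sub_mem (k δ) ((hT.rootS M).smul_mem δ (k 1)))) fun v => ?_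
    simp only [Φ₁.adj_adj, LinearMap.smul_apply, LinearMap.sub_apply, map_one]
    match_scalars <;> field_simp <;> ring
  refine hT.loc_of hH hd (Or.inl hW) hZ (fun w s hp b hb => ?_) hw hw0
  obtain ⟨c₁, h1⟩ := hZ _ (hT.pure_comm_id hH hI hd hb 1)
  obtain ⟨c₂, h2⟩ := hZ _ (hT.pure_comm_id hH hI hd hb δ)
  refine ⟨(Φ₂.ε * (Φ.σ δ - δ))⁻¹ * (c₂ - Φ.σ δ * c₁), fun u => ?_⟩
  rw [mul_smul, eq_inv_smul_iff₀ (mul_ne_zero Φ₂.eps_ne hδ'), sub_smul, mul_smul _ c₁, ← h1, ← h2]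
  simp only [LinearMap.smul_apply, LinearMap.sub_apply, map_one]
  module

/-- The tensor product of two symplectic spaces. -/
theorem loc_sp_sp (h₁ : Φ₁.IsSp) (h₂ : Φ₂.IsSp) (hΛ : ∀ c, Φ.π c = 0 → c = 0)
    (h5 : 5 ≤ finrank F W) (h3 : 3 ≤ finrank F U ∨ ∃ c : F, c ≠ 0 ∧ c ≠ 1) {w : W} (hw0 : w ≠ 0) :
    Loc T Φ₂ M w := by
  have hI := hG.trans Φ.EG_le_Iso
  have hd : Φ₂.d + 4 ≤ finrank F W := by rw [h₂.d]; exact h5
  obtain ⟨e, he0⟩ := hT.ne₁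
  have hR : ∀ b ∈ hT.rootS M, ∃ c : F, ∀ u, b u = c • u := fun C hC => by
    by_contra hc'
    refine hn (hT.EG_le_of_rk hI (by omega) (fun c hc => ⟨0, by simp [hΛ c hc]⟩)
      (Fm.rk_mem_of_alg hT.tv₁ one_ne_zero (h₁.π 1) (h3.imp_right fun ⟨c, a1, a2⟩ =>
        ⟨c, a1, a2, h₁.π c⟩) (h₁.Q e) he0 _ (fun b hb c hc => ?_) (fun _ => hT.adj_mem_rootS)
        (fun _ ha _ => hT.cjL_mem_rootS hH ha) hC hc'))
    refine hT.mem_rootS_of_pair (by omega) fun w t hp => ?_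
    obtain ⟨s, s', q1, q2, e1, e2, e3, e4, e5⟩ := hp.exists_hyp hd
    have e6 := hp.perp
    have sp := And.intro (Φ₂.perp_symm e2) (And.intro (Φ₂.perp_symm e3) (And.intro (Φ₂.perp_symm e4)
      (And.intro (Φ₂.perp_symm e5) (And.intro (Φ₂.perp_symm e6) (Fm.B_eq_eps e1)))))
    exact ((hb w s hp.q₁ q1 e2).comm (hc s' t q2 hp.q₂ sp.2.2.2.1)
      (fun v => by simp [X_apply, h₂.B_self, e2, sp]) (fun v => by simp [X_apply, h₂.B_self, e5, sp])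
      (fun v => by simp [X_apply, h₂.B_self, e2, e3, e4, e5, e6, sp])
      (fun v => by simp [X_apply, h₂.B_self, e2, e3, e4, e5, e6, sp])).congr fun v => by
        simp [X_apply, h₂.B_self, e1, e2, e3, e4, e5, e6, sp, h₂.ε, Φ₁.adj_comp]
  refine hT.loc_of hH (by omega) (Or.inr h5)
    (fun C hC => hR C (hT.mem_rootS_of_cenG hI (h₂.Q w) hw0 hC)) (fun w s hp b hb => hR b ?_)
    (h₂.Q w) hw0
  obtain ⟨f, hf, f1, f2⟩ := hp.exists_partner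
  obtain ⟨α, hα⟩ := exists_dual_eq_one (F := F) hp.ne
  obtain ⟨t, -, t0, ht⟩ := exists_ne_zero_ker [Φ₂.B w, Φ₂.B s, Φ₂.B f, α] (⊤ : Submodule F W)
    (by simp; omega)
  have t1 : Φ₂.B w t = 0 := ht _ (by simp)
  have t2 : Φ₂.B s t = 0 := ht _ (by simp)
  have t3 : Φ₂.B f t = 0 := ht _ (by simp)
  have hp' : Φ₂.Pair w t := (Fm.pair_or_eq_smul hp.q₁ hp.ne (h₂.Q t) t1).resolve_right
    fun ⟨c, hc⟩ => t0 (by rw [hc, show c = 0 by simpa [hc, hα] using ht α (by simp), zero_smul])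
  obtain ⟨-, x, hx, ex⟩ := hb
  have hv := Fm.valid_zero (h₂.Q t) (Φ₂.perp_symm t3) hf
  let A : V →ₗ[F] V := x.toLinearMap - LinearMap.id
  have a1 : ∀ v, T.cR (Φ₂.B w) v = 0 → A v = T.tm (b (T.cR (Φ₂.B s) v)) w := fun v h =>
    sub_eq_of_eq_add' (ex v h)
  have a2 : ∀ y, Φ₂.B w y = 0 → ∀ v,
      T.cR (Φ₂.B y) (A v) = -(Φ.σ (Φ₂.B s y) • Φ₁.adj b (T.cR (Φ₂.B w) v)) := fun y hy =>
    hT.cR_gen (hI hx) hp.q₁ hp.perp ex hy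
  have a3 : ∀ v, T.cR (Φ₂.B w) (A v) = 0 := fun v => by
    simp [a2 w (h₂.B_self w), Φ₂.perp_symm hp.perp]
  let K : V →ₗ[F] V := T.xl LinearMap.id f (Φ₂.B t) - Φ₂.ε • T.xl LinearMap.id t (Φ₂.B f)
  have k1 : ∀ v, K v = T.tm (T.cR (Φ₂.B t) v) f - Φ₂.ε • T.tm (T.cR (Φ₂.B f) v) t := fun _ => rfl
  have k2 : ∀ v, A (K v) = T.tm (b (T.cR (Φ₂.B t) v)) w := fun v => by
    rw [a1 _ (by simp [k1, f2, t1])]
    simp [k1, f1, t2]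
  have k3 : ∀ v, K (A v) = Φ₂.ε • T.tm (Φ₁.adj b (T.cR (Φ₂.B w) v)) t := fun v => by
    simp [k1, a2 t t1, a2 f f2, t2, f1]
  have key : HasU M (X T Φ₁ Φ₂ b w t) := (HasU.comm (A := A) (B := K) ⟨x, hx, fun v => by simp [A]⟩
    ⟨_, hT.krR_mem hH hv.eich_mem, fun v => by simp [krR_ef hv.eich_apply, k1, add_sub_assoc]⟩
    (fun v => by rw [a1 _ (a3 v), a2 s hp.perp]; simp [h₂.B_self])
    (fun v => by simp [k1, h₂.B_self, t3, Φ₂.perp_symm t3])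
    (fun v => by rw [k2, a2 t t1]; simp [t2])
    (fun v => by rw [k3]; simp [k1, f2, t1])).congr fun v => by simp [k2, k3, X_apply]
  refine hT.mem_rootS_of_pair (by omega) fun w' t' hp'' => ?_
  obtain ⟨τ, hτ, rfl, rfl⟩ := hp'.move hd hp''
  exact key.conj' (hT.krR_mem hH hτ) fun v => by
    simp [X_apply, hT.cR_krR_iso (Φ₂.EG_le_Iso hτ)]

omit hn in
theorem smul_mem_cenG (hσ : ∀ a, Φ.σ a = a) (h2 : (2 : F) ≠ 0) (hd : Φ₂.d + 2 ≤ finrank F W)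
    (a : F) {C : U →ₗ[F] U} (h : C ∈ T.cenG Φ₂ M) : a • C ∈ T.cenG Φ₂ M := by
  obtain ⟨w, -, hw0, hw⟩ := Φ₂.iso ⊤ (by rw [finrank_top]; omega)
  have hI := hG.trans Φ.EG_le_Iso
  refine mem_of_ext (hT.cenG_comm hH hI hd (fun w s hw hs h' => gen_of_cenG hw hs h' h)
    (fun w s hw _ h' => hT.gen_id hH hw h') (-(Φ₂.ε * a / 2))) fun v => ?_
  simp only [LinearMap.smul_apply, LinearMap.sub_apply, LinearMap.comp_apply, LinearMap.id_apply,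
    Φ₁.adj_id, hT.adj_of_cenG hI hw hw0 h, hσ]
  match_scalars
  field_simp
  linear_combination (-2 * a) * Φ₂.eps_sq

omit hn in
/-- The centre as a subspace. -/
def cenS (hσ : ∀ a, Φ.σ a = a) (h2 : (2 : F) ≠ 0) (hd : Φ₂.d + 2 ≤ finrank F W) :
    Submodule F (U →ₗ[F] U) :=
  { T.cenG Φ₂ M with smul_mem' := fun a _ h => hT.smul_mem_cenG hH hG hσ h2 hd a h }

omit hn in
theorem EG_le_of_sym (hσ : ∀ a, Φ.σ a = a) (hε : Φ.ε = -1) (hπ : ∀ c, Φ.π c = 0) (h2 : (2 : F) ≠ 0)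
    (hd : Φ₂.d + 2 ≤ finrank F W) (hU : 2 ≤ finrank F U)
    (h : ∀ x y, Φ₁.rk x y + Φ₁.rk y x ∈ T.cenG Φ₂ M) : Φ.EG ≤ M :=
  hT.EG_le_of_cen hH (hG.trans Φ.EG_le_Iso) hd (fun c _ => ⟨c / 2, by rw [hε, hσ]; field_simp; ring⟩)
    hU (Or.inr ⟨1, one_ne_zero, hπ 1⟩) fun x x' t c ht _ => hT.hasE_of_cenG
      (mem_of_ext (add_mem (h x x') (hT.smul_mem_cenG hH hG hσ h2 hd (c / 2) (h x x))) fun v => by
        simp only [LinearMap.smul_apply, LinearMap.sub_apply, LinearMap.add_apply, hε,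
          LinearMap.smulRight_apply, Fm.rk_apply]
        match_scalars <;> field_simp <;> ring) ht

/-- `U` orthogonal, `W` symplectic. -/
theorem loc_o_sp [Finite F] (h₁ : Φ₁.IsO) (h₂ : Φ₂.IsSp) (hπ : ∀ c, Φ.π c = 0) (h2 : (2 : F) ≠ 0)
    (hE : Φ.Iso ≤ Φ.EG) (hW : 3 ≤ finrank F W) (hU : 3 ≤ finrank F U)
    (hq : ¬ (Nat.card F = 3 ∧ finrank F U = 3)) {w : W} (hw0 : w ≠ 0) : Loc T Φ₂ M w := by
  have hI := hG.trans Φ.EG_le_Iso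
  have hd : Φ₂.d + 2 ≤ finrank F W := by rw [h₂.d]; exact hW
  have hσ : ∀ a, Φ.σ a = a := fun a => by rw [← hT.σ₁, h₁.σ]
  have kL : ∀ a ∈ Φ₁.Iso, T.kr a 1 ∈ M := fun a ha =>
    hH ⟨T.kr_mem a 1, hE (T.swap_kr a 1 ▸ hT.swap.krR_Iso ha)⟩
  have hΛ : (∃ c, c ≠ 0 ∧ Φ₂.π c = 0) ∨ 5 ≤ finrank F W := Or.inl ⟨1, one_ne_zero, h₂.π 1⟩
  have ad : ∀ C ∈ T.cenG Φ₂ M, Φ₁.adj C = C := fun C hC => LinearMap.ext fun u => by
    simp [hT.adj_of_cenG hI (h₂.Q w) hw0 hC, h₂.ε]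
  have hZ : ∀ C ∈ T.cenG Φ₂ M, ∃ c : F, ∀ u, C u = c • u := fun C hC => by
    by_contra hc'
    refine hn (hT.EG_le_of_sym hH hG hσ (by rw [hT.ε, h₁.ε, h₂.ε, one_mul]) hπ h2 hd (by omega)
      (h₁.sym_mem h2 hU hq (hT.cenS hH hG hσ h2 hd) (fun b hb v => by rw [ad b hb])
        (fun a ha b hb => hT.cjL_mem_cenG (kL a ha) hb) (fun b hb c hc => ?_) hC hc'))
    have := hT.cenG_comm hH hI hd (fun w s hw hs h' => gen_of_cenG hw hs h' hc)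
      (fun w s hw hs h' => gen_of_cenG hw hs h' hb) 1
    rw [ad b hb, ad c hc] at this
    exact mem_of_ext this fun v => by simp [h₂.ε]
  refine hT.loc_of hH hd hΛ hZ (fun w s hp b hb => h₁.smul_of_cliff h2 hU _ (fun b hb => ?_)
    (fun a ha b hb => hT.cjL_mem_pureG (kL a ha) hb) (fun b hb => ?_) hb) (h₂.Q w) hw0
  · simpa [h₂.ε] using hZ _ (hT.pure_comm_id hH hI hd hb 1)
  · obtain ⟨μ, h0, h1⟩ := hT.pure_comm hH hI hd hΛ hp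
    obtain ⟨c, hc⟩ := hZ _ (h1 b hb b hb)
    refine ⟨(2 * μ)⁻¹ * c, fun v => ?_⟩
    rw [mul_smul, eq_inv_smul_iff₀ (mul_ne_zero h2 h0), ← hc]
    simp only [LinearMap.smul_apply, LinearMap.sub_apply, LinearMap.comp_apply, hσ, h₂.ε]
    module

omit hn in
theorem loc_of_o (h₂ : Φ₂.IsO) (h2 : (2 : F) ≠ 0) (hW : 5 ≤ finrank F W)
    (hZ : ∀ C ∈ T.cenG Φ₂ M, ∃ c : F, ∀ u, C u = c • u)
    (hA : ∀ R : AddSubgroup (U →ₗ[F] U), (∀ b ∈ R, ∀ v, Φ₁.adj b v = b v) →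
      (∀ a ∈ Φ₁.EG, ∀ b ∈ R, cjL a b ∈ R) → (∀ b ∈ R, ∀ c ∈ R, ∀ v, b (c v) = c (b v)) →
      ∀ b ∈ R, ∃ a : F, ∀ v, b v = a • v) {w : W} (hw : Φ₂.Q w = 0) (hw0 : w ≠ 0) :
    Loc T Φ₂ M w := by
  have hI := hG.trans Φ.EG_le_Iso
  have hd : Φ₂.d + 2 ≤ finrank F W := by rw [h₂.d]; exact hW
  have hσ : ∀ a, Φ.σ a = a := fun a => by rw [← hT.σ₂, h₂.σ]
  have z0 : ∀ C ∈ T.cenG Φ₂ M, ∀ u, C u = 0 := fun C hC u => by
    obtain ⟨c, hc⟩ := hZ C hC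
    have := hT.adj_of_cenG hI hw hw0 hC u
    rw [show C = c • LinearMap.id from LinearMap.ext hc, Φ₁.adj_smul, Φ₁.adj_id, hT.σ₁, hσ, h₂.ε,
      one_smul] at this
    rw [hc]
    exact (smul_eq_zero_iff_right h2).1 (by
      simp only [LinearMap.smul_apply, LinearMap.id_apply] at this
      linear_combination (norm := module) this)
  refine hT.loc_of hH hd (Or.inr hW) hZ (fun w s hp => ?_) hw hw0
  have ad : ∀ b ∈ T.pureG Φ₂ M hp, ∀ v, Φ₁.adj b v = b v := fun b hb v => by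
    simpa [h₂.ε, sub_eq_zero] using z0 _ (hT.pure_comm_id hH hI hd hb 1) v
  refine hA _ ad (fun a ha b hb => hT.cjL_mem_pureG (hT.krL_mem hH ha) hb) fun b hb c hc v => ?_
  obtain ⟨μ, h0, h1⟩ := hT.pure_comm hH hI hd (Or.inr hW) hp
  simpa [h₂.ε, sub_eq_zero, hσ, ad b hb, ad c hc, h0] using z0 _ (h1 c hc b hb) v

/-- The tensor product of two orthogonal spaces. -/
theorem loc_o_o [Finite F] (h₁ : Φ₁.IsO) (h₂ : Φ₂.IsO) (hπ : ∀ c, Φ.π c = 0 → c = 0)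
    (h2 : (2 : F) ≠ 0) (hW : 5 ≤ finrank F W) (hU : 3 ≤ finrank F U)
    (h4 : 5 ≤ finrank F U ∨ ∀ s v, ¬ Φ₁.Pair s v) (hq : ¬ (Nat.card F = 3 ∧ finrank F U = 3))
    {w : W} (hw : Φ₂.Q w = 0) (hw0 : w ≠ 0) : Loc T Φ₂ M w := by
  have hI := hG.trans Φ.EG_le_Iso
  have hd : Φ₂.d + 2 ≤ finrank F W := by rw [h₂.d]; exact hW
  have hσ : ∀ a, Φ.σ a = a := fun a => by rw [← hT.σ₂, h₂.σ]
  refine hT.loc_of_o hH hG h₂ h2 hW (fun C hC => ?_)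
    (fun R a1 a2 a3 b hb => h₁.smul_of_comm h2 hU hq R a1 a2 a3 hb) hw hw0
  by_contra hc'
  refine hn (hT.EG_le_of_cen hH hI hd (fun c hc => ⟨0, by simp [hπ c hc]⟩) (by omega) (Or.inl hU)
    fun x x' t c ht hc => hT.hasE_of_cenG (mem_of_ext (h₁.alt_mem h2 hU h4 (hT.cenS hH hG hσ h2 hd)
      (fun b hb v => by simp [hT.adj_of_cenG hI hw hw0 hb, h₂.ε])
      (fun a ha b hb => hT.cjL_mem_cenG (hT.krL_mem hH ha) hb) hC hc' x' x) fun v => ?_) ht)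
  simp [hπ c hc, hT.ε, h₁.ε, h₂.ε]

/-- `U` symplectic, `W` orthogonal. -/
theorem loc_sp_o (h₁ : Φ₁.IsSp) (h₂ : Φ₂.IsO) (hπ : ∀ c, Φ.π c = 0) (h2 : (2 : F) ≠ 0)
    (hW : 5 ≤ finrank F W) (hU : 2 ≤ finrank F U) {w : W} (hw : Φ₂.Q w = 0) (hw0 : w ≠ 0) :
    Loc T Φ₂ M w := by
  have hI := hG.trans Φ.EG_le_Iso
  have hd : Φ₂.d + 2 ≤ finrank F W := by rw [h₂.d]; exact hW
  have hσ : ∀ a, Φ.σ a = a := fun a => by rw [← hT.σ₂, h₂.σ]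
  refine hT.loc_of_o hH hG h₂ h2 hW (fun C hC => ?_)
    (fun R a1 a2 a3 b hb => h₁.smul_of_comm h2 R a1 a2 a3 hb) hw hw0
  by_contra hc'
  have k := h₁.rk_mem h2 (hT.cenS hH hG hσ h2 hd)
    (fun b hb v => by simp [hT.adj_of_cenG hI hw hw0 hb, h₂.ε])
    (fun a ha b hb => hT.cjL_mem_cenG (hT.krL_mem hH ha) hb) hC fun h => hc' ⟨0, by simp [h]⟩
  exact hn (hT.EG_le_of_sym hH hG hσ (by rw [hT.ε, h₁.ε, h₂.ε, mul_one]) hπ h2 hd hU fun x y =>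
    mem_of_ext (sub_mem (sub_mem (k (x + y)) (k x)) (k y)) fun v => by
      simp only [LinearMap.sub_apply, LinearMap.add_apply, Fm.rk_apply, Φ₁.bsimp]; module)

end TF

end Cfsg.Agent.Class.Max
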