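import Mathlib
import Cfsg.Agent.Class.Max.C4Loc

/-!
Tensor products of formed spaces: the global argument.
-/

set_option autoImplicit false
set_option linter.unusedSectionVars false

namespace Cfsg.Agent.Class.Max

open Module

variable {F U W V : Type*} [Field F] [AddCommGroup U] [Module F U] [AddCommGroup W]
  [Module F W] [AddCommGroup V] [Module F V] {T : Tn F U W V} {Φ₁ : Fm F U} {Φ₂ : Fm F W}
  {Φ : Fm F V} {M : Subgroup (V ≃ₗ[F] V)}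
  [FiniteDimensional F U] [FiniteDimensional F W] [FiniteDimensional F V]

theorem Fm.Skew.mem_range {θ : V →ₗ[F] V} (h : Φ.Skew θ) {x : V}
    (hx : ∀ y, θ y = 0 → Φ.B y x = 0) : x ∈ LinearMap.range θ :=
  Φ.perp_perp (LinearMap.range θ) ▸ fun y hy => hx y (h.eq_zero fun z => hy _ ⟨z, rfl⟩)

namespace Tn

variable (T)

theorem ts_inf (Y Y' : Submodule F W) : T.ts Y ⊓ T.ts Y' ≤ T.ts (Y ⊓ Y') := fun v hv =>
  T.mem_ts_iff.2 fun φ hφ => by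
    have : φ ∈ (Y ⊓ Y').dualAnnihilator := (Submodule.mem_dualAnnihilator φ).2 hφ
    rw [Subspace.dualAnnihilator_inf_eq] at this
    obtain ⟨α, hα, β, hβ, rfl⟩ := Submodule.mem_sup.1 this
    rw [map_add, LinearMap.add_apply, T.mem_ts_iff.1 hv.1 α ((Submodule.mem_dualAnnihilator α).1 hα),
      T.mem_ts_iff.1 hv.2 β ((Submodule.mem_dualAnnihilator β).1 hβ), add_zero]

theorem ts_bot : T.ts ⊥ = ⊥ := eq_bot_iff.2 (T.ts_le fun u y hy => by simp [(Submodule.mem_bot F).1 hy])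

theorem cjL_kr (a : U ≃ₗ[F] U) (d : W ≃ₗ[F] W) (δ : W →ₗ[F] W) :
    cjL (T.kr a d) (T.krL LinearMap.id δ) = T.krL LinearMap.id (cjL d δ) :=
  LinearMap.ext (T.ext fun u w => by simp [cjL_apply, T.kr_inv])

theorem krR_sub (d : W ≃ₗ[F] W) (v : V) :
    T.krR d v - v = T.krL LinearMap.id (d.toLinearMap - LinearMap.id) v :=
  T.ext (f := (T.krR d).toLinearMap - LinearMap.id) (fun u w => by simp) v

theorem cL_mem {Y : Submodule F W} (α : Dual F U) {v : V} (hv : v ∈ T.ts Y) : T.cL α v ∈ Y :=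
  T.ts_le (X := Y.comap (T.cL α)) (fun u y hy => by simpa using Y.smul_mem _ hy) hv

/-- A quadratic element `a ⊗ d` has a scalar factor. -/
theorem smul_of_quad (h2 : (2 : F) ≠ 0) {a : U ≃ₗ[F] U} {d : W ≃ₗ[F] W}
    (h : ∀ v, T.kr a d (T.kr a d v - v) = T.kr a d v - v) (ha : ¬ ∃ c : F, ∀ u, a u = c • u) :
    ∃ c : F, ∀ w, d w = c • w := by
  obtain ⟨u, hu⟩ := exists_not_eigen (A := a.toLinearMap) ha
  obtain ⟨α, h1, h3⟩ := exists_dual_zero_one hu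
  replace h3 : α (a u) = 1 := h3
  have k : ∀ w, α (a (a u)) • d w = (2 : F) • w := fun w => by
    have := congrArg (T.cL α) (h (T.tm u (d⁻¹ w)))
    simp only [map_sub, kr_tm, cL_tm, h1, h3, app_inv_app] at this
    linear_combination (norm := module) this
  refine ⟨(α (a (a u)))⁻¹ * 2, fun w => ?_⟩
  by_cases h0 : α (a (a u)) = 0
  · have := k w
    rw [h0, zero_smul, eq_comm, smul_eq_zero_iff_right h2] at this
    simp [this]
  · rw [mul_smul, eq_inv_smul_iff₀ h0, k]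

end Tn

namespace TF

variable (hT : TF T Φ₁ Φ₂ Φ)
include hT

theorem skew_krL {δ : W →ₗ[F] W} (h : Φ₂.Skew δ) : Φ.Skew (T.krL LinearMap.id δ) := fun x y =>
  T.induction (p := fun x => Φ.B (T.krL LinearMap.id δ x) y = -Φ.B x (T.krL LinearMap.id δ y))
    (by simp) (fun u w => T.ext (f := Φ.B (T.krL LinearMap.id δ (T.tm u w)))
      (g := -(Φ.B (T.tm u w) ∘ₗ T.krL LinearMap.id δ)) (fun u' w' => by simp [hT.B, h w w']) y)
    (fun x x' hx hx' => by simp [hx, hx', add_comm]) x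

theorem skew_of_krL {δ : W →ₗ[F] W} (h : Φ.Skew (T.krL LinearMap.id δ)) : Φ₂.Skew δ := fun x y => by
  obtain ⟨u, u', e⟩ := hT.exists_B_one
  simpa [hT.B, e] using h (T.tm u x) (T.tm u' y)

theorem exists_sim {a : U ≃ₗ[F] U} {d : W ≃ₗ[F] W} (h : T.kr a d ∈ Φ.Iso) :
    ∃ m, m ≠ 0 ∧ Φ.σ m = m ∧ ∀ x y, m * Φ₂.B (d x) (d y) = Φ₂.B x y := by
  obtain ⟨u, u', e⟩ := hT.exists_B_one
  obtain ⟨x, x', e'⟩ := hT.swap.exists_B_one
  have k : ∀ u u' x y, Φ₁.B (a u) (a u') * Φ₂.B (d x) (d y) = Φ₁.B u u' * Φ₂.B x y :=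
    fun u u' x y => by simpa [hT.B] using h.1 (T.tm u x) (T.tm u' y)
  have k1 := k u u' x x'
  have k2 := k u' u x x'
  rw [e, e', mul_one] at k1
  rw [e', Fm.B_eq_eps e, Φ₁.symm, hT.σ₁, mul_assoc] at k2
  refine ⟨_, left_ne_zero_of_mul_eq_one k1, mul_right_cancel₀ (right_ne_zero_of_mul_eq_one k1)
    ((mul_left_cancel₀ Φ₁.eps_ne k2).trans k1.symm), fun x y => by rw [k, e, one_mul]⟩

theorem exists_notMem_NG (hd : Φ.d + 2 ≤ finrank F V) (hd₂ : Φ₂.d + 2 ≤ finrank F W)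
    (h2 : 2 ≤ finrank F U) : ∃ g ∈ Φ.EG, g ∉ T.NG := by
  obtain ⟨w, -, hw0, hw⟩ := Φ₂.iso ⊤ (by rw [finrank_top]; omega)
  obtain ⟨w', s, s', -, q1, -, e1, e2, e3, e4, e5, -⟩ := Fm.exists_hyp2 hd₂ hw hw0
  obtain ⟨u, hu⟩ := hT.ne₁
  obtain ⟨u', hu'⟩ := exists_notMem_span h2 u
  have e6 : T.cR (Φ₂.B w') (T.tm u w + T.tm u' s) = Φ₂.ε • u := by simp [e5, Fm.B_eq_eps e1]
  obtain ⟨g, hg, e⟩ := Fm.move_EG hd (T.tm_ne_zero hu hw0) (y := T.tm u w + T.tm u' s)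
    (fun h => hu (by simpa [h, Φ₂.eps_ne] using e6.symm))
    (by rw [Φ.Q_add_perp (by simp [hT.B, e3]), hT.Q_tm _ q1, add_zero])
  refine ⟨g, hg, ?_⟩
  rintro ⟨a, d, rfl⟩
  have f1 := congrArg (T.cR (Φ₂.B s')) e
  rw [← e] at e6
  simp only [Tn.kr_tm, Tn.cR_tm, map_add, Φ₂.perp_symm e4, Fm.B_eq_eps e2] at e6 f1
  have f2 : Φ₂.B w' (d w) ≠ 0 := fun h => hu (by simpa [h, Φ₂.eps_ne] using e6.symm)
  refine hu' (Submodule.mem_span_singleton.2 ⟨Φ₂.B s' (d w) / Φ₂.B w' (d w), ?_⟩)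
  refine smul_right_injective U Φ₂.eps_ne ?_
  simp only
  rw [smul_comm, ← e6, smul_smul, div_mul_cancel₀ _ f2, f1]
  simp

variable (hH : T.NG ⊓ Φ.EG ≤ M) (hG : M ≤ Φ.EG)
  (hL : ∀ w, Φ₂.Q w = 0 → w ≠ 0 → Loc T Φ₂ M w) (h3 : 3 ≤ finrank F W)
include hH hG hL h3

theorem mem_of_sp {g : V ≃ₗ[F] V} (hg : g ∈ M) {w w' : W} (hw : Φ₂.Q w = 0) (hw0 : w ≠ 0)
    (hw0' : w' ≠ 0) (h : ∀ u, g (T.tm u w) ∈ T.sp w') : g ∈ T.NG := by
  have hw' : Φ₂.Q w' = 0 := by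
    have e : (T.sp w).map g.toLinearMap = T.sp w' := Submodule.eq_of_le_of_finrank_eq (by
      rintro _ ⟨_, ⟨u, rfl⟩, rfl⟩; exact h u) (by
        rw [LinearEquiv.finrank_map_eq, T.finrank_sp hw0, T.finrank_sp hw0'])
    refine hT.sing_of_perp fun u u' => ?_
    obtain ⟨_, ⟨x, rfl⟩, h1⟩ := e.ge (T.tm_mem_sp u w')
    obtain ⟨_, ⟨y, rfl⟩, h2⟩ := e.ge (T.tm_mem_sp u' w')
    rw [← h1, ← h2]
    exact ((Φ.EG_le_Iso (hG hg)).1 _ _).trans (by simp [hT.B, Φ₂.B_self hw])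
  obtain ⟨τ, hτ, c, c0, e⟩ := Fm.Rk.move_pt (Ψ := Φ₂) (Or.inl h3) hw' hw hw0' hw0
  have := (hL w hw hw0).mem_NG_of_stab hT hH hG h3 hw hw0 (M.mul_mem (hT.krR_mem hH hτ) hg)
    fun u => by
      obtain ⟨x, hx⟩ := h u
      exact ⟨c • x, by rw [mul_app, ← hx]; simp [e]⟩
  simpa using T.NG.mul_mem (T.NG.inv_mem (T.krR_mem τ)) this

theorem mem_of_sp' {g : V ≃ₗ[F] V} (hg : g ∈ M) {w w' : W} (hw : Φ₂.Q w = 0) (hw0 : w ≠ 0)
    (hw0' : w' ≠ 0) (h : ∀ u, g⁻¹ (T.tm u w') ∈ T.sp w) : g ∈ T.NG := by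
  have hw' : Φ₂.Q w' = 0 := hT.sing_of_perp fun u u' => by
    obtain ⟨x, h1⟩ := h u
    obtain ⟨y, h2⟩ := h u'
    rw [← (Φ.EG_le_Iso (hG (M.inv_mem hg))).1, ← h1, ← h2]
    simp [hT.B, Φ₂.B_self hw]
  simpa using T.NG.inv_mem (hT.mem_of_sp hH hG hL h3 (M.inv_mem hg) hw' hw0' hw0 h)

omit hL h3 in
/-- Consequences of the counting argument. -/
theorem exc [Finite F] {δ : W →ₗ[F] W} (D : Fm.QD Φ M (T.NG ⊓ Φ.EG) (T.krL LinearMap.id δ))
    (δ2 : ∀ η, Φ₂.Skew η → (∀ x, η x ∈ LinearMap.range δ) → ∃ c, Φ.σ c = c ∧ ∀ x, η x = c • δ x)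
    (δ3 : ∃ y, δ y = 0 ∧ y ∉ LinearMap.range δ) (hF : ∃ l, Φ.σ l = l ∧ l ≠ 0 ∧ l ≠ 1)
    {g : V ≃ₗ[F] V} (hg : g ∈ M) (hg' : g ∉ T.NG ⊓ Φ.EG)
    (h : Fm.QMax M (T.NG ⊓ Φ.EG) (T.krL LinearMap.id δ) (finrank F
      ↥(LinearMap.range (T.krL LinearMap.id δ) ⊓ LinearMap.range (cjL g (T.krL LinearMap.id δ))))) :
    (LinearMap.range (T.krL LinearMap.id δ) ⊓ LinearMap.range (cjL g (T.krL LinearMap.id δ)) = ⊥ ∧
      ∀ y, δ y = 0 → ∃ m ∈ LinearMap.range δ, ∀ u,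
        cjL g (T.krL LinearMap.id δ) (T.tm u (y - m)) = 0) ∨
    ∃ d : W ≃ₗ[F] W, Φ₂.Skew (cjL d δ) ∧ LinearMap.range δ ⊓ LinearMap.range (cjL d δ) ≠ ⊥ ∧
      ¬ LinearMap.range (cjL d δ) ≤ LinearMap.range δ ∧
      LinearMap.range (T.krL LinearMap.id δ) ⊓ LinearMap.range (cjL g (T.krL LinearMap.id δ)) ≤
        T.ts (LinearMap.range δ ⊓ LinearMap.range (cjL d δ)) ∧
      (∀ v, T.krL LinearMap.id (δ ∘ₗ cjL d δ + cjL d δ ∘ₗ δ) (cjL g (T.krL LinearMap.id δ) v) =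
        cjL g (T.krL LinearMap.id δ) (T.krL LinearMap.id (δ ∘ₗ cjL d δ + cjL d δ ∘ₗ δ) v)) ∧
      ∀ x ∈ LinearMap.range (cjL d δ), δ x = 0 → x ∈ LinearMap.range δ := by
  obtain ⟨γ, hγ, a1, a2, hc⟩ := D.exists_exc hF hg hg' h
  set θ := T.krL LinearMap.id δ with hθ
  set θ' := cjL g θ with hθ'
  have k1 := D.skew
  have k2 : Φ.Skew θ' := k1.cjL (D.iso hg)
  have k0 := hT.skew_of_krL k1
  have hI := D.iso (D.le hγ)
  obtain ⟨u₀, u₁, hu⟩ := hT.exists_B_one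
  have hu0 : u₀ ≠ 0 := fun e => by simp [e] at hu
  have tθ : ∀ u x, θ (T.tm u x) = T.tm u (δ x) := fun u x => T.krL_tm _ _ u x
  have q0 : ∀ x, δ (δ x) = 0 := fun x => T.right_inj hu0 (by rw [← tθ, ← tθ, D.sq, map_zero])
  have mL : ∀ {x}, T.tm u₀ x ∈ LinearMap.range θ → x ∈ LinearMap.range δ := fun h =>
    T.mem_of_tm_mem_ts hu0 (T.range_krL δ ▸ h)
  have rk : finrank F (LinearMap.range θ) = finrank F (LinearMap.range θ') := by
    rw [hθ', range_cjL, LinearEquiv.finrank_map_eq]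
  have dec : ∀ v, θ v = 0 → ∃ l ∈ LinearMap.range θ, θ (v - l) = 0 ∧ θ' (v - l) = 0 := fun v hv =>
    k1.exists_sub_ker k2 D.sq rk (fun v hv h1 => by
      rw [inf_comm] at h1 ⊢
      exact D.fact h hg M.one_mem (by simpa using hg') rfl inf_le_right inf_le_left hv h1) hv
  have hJ0 : ∀ x ∈ LinearMap.range θ ⊓ LinearMap.range θ', γ x = x := by
    rintro _ ⟨⟨a, rfl⟩, b, hb⟩
    exact a1 _ (D.sq a) (hb ▸ D.sq' g b)
  obtain ⟨a, d, e0⟩ := hγ.1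
  rcases hc with ⟨c1, c2, c3⟩ | ⟨c1, c2⟩
  · have t1 : ∀ v, θ v = 0 → γ v - v ∈ LinearMap.range θ := fun v hv => by
      obtain ⟨_, ⟨x, rfl⟩, h1, h2⟩ := dec v hv
      have := a1 _ h1 h2
      rw [map_sub, sub_eq_sub_iff_sub_eq_sub] at this
      exact this ▸ sub_mem (c1 x) ⟨x, rfl⟩
    obtain ⟨y₀, y1, y2⟩ := δ3
    obtain ⟨d', e⟩ := T.exists_krR_of_smul d hT.ne₁ (T.smul_of_fix y2 fun u =>
      T.range_krL δ ▸ (e0 ▸ t1) _ (by rw [tθ, y1, map_zero]))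
    obtain rfl : T.krR d' = γ := e.symm.trans e0.symm
    have t2 : ∀ y, δ y = 0 → d' y - y ∈ LinearMap.range δ := fun y hy =>
      mL (by simpa using t1 (T.tm u₀ y) (by rw [tθ, hy, map_zero]))
    obtain ⟨c, -, ec⟩ := δ2 (d'.toLinearMap ∘ₗ δ) (fun x y => by
      simpa [tθ, hT.B, hu] using c3 (T.tm u₀ x) (T.tm u₁ y)) fun x =>
        mL (by simpa [tθ] using c1 (T.tm u₀ x))
    replace ec : ∀ x, d' (δ x) = c • δ x := ec
    have ec' : ∀ l ∈ LinearMap.range θ, T.krR d' l = c • l := by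
      rintro _ ⟨v, rfl⟩
      exact T.ext (f := (T.krR d').toLinearMap ∘ₗ θ) (g := c • θ) (fun u x => by simp [tθ, ec]) v
    by_cases hc1 : c = 1
    · have hd' := hT.B_of_krR hI
      have t3 : ∀ x, d' x - x ∈ LinearMap.range δ := fun x => k0.mem_range fun y hy => by
        obtain ⟨l, hl, h1, h2⟩ := dec (T.tm u₀ y) (by rw [tθ, hy, map_zero])
        have := a1 _ h1 h2
        rw [map_sub, ec' l hl, hc1, one_smul, sub_left_inj, Tn.krR_tm] at this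
        rw [map_sub, ← hd'.1 y x, T.right_inj hu0 this, sub_self]
      obtain ⟨c', h1, h2⟩ := δ2 (d'.toLinearMap - LinearMap.id) (fun x y => by
        have e1 := k0.perp q0 (t3 x) (t3 y)
        simp only [LinearMap.sub_apply, LinearEquiv.coe_coe, LinearMap.id_apply, Φ₂.bsimp,
          hd'.1 x y] at e1 ⊢
        linear_combination -e1) t3
      refine absurd (fun v => eq_add_of_sub_eq' ?_) (c2 c' h1)
      rw [T.krR_sub]
      exact T.ext (g := c' • θ) (fun u x => by rw [Tn.krL_tm, h2]; simp [tθ]) v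
    have c0 := sub_ne_zero.2 hc1
    have z : ∀ l ∈ LinearMap.range θ, T.krR d' l = l → l = 0 := fun l hl e =>
      (smul_eq_zero_iff_right c0).1 (by rw [sub_smul, ← ec' l hl, e, one_smul, sub_self])
    refine Or.inl ⟨eq_bot_iff.2 fun x hx => z x hx.1 (hJ0 x hx), fun y hy => ?_⟩
    obtain ⟨x, hx⟩ := t2 y hy
    refine ⟨_, ⟨(c - 1)⁻¹ • x, rfl⟩, fun u => ?_⟩
    obtain ⟨l, hl, h1, h2⟩ := dec (T.tm u (y - δ ((c - 1)⁻¹ • x))) (by simp [tθ, hy, q0])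
    have e1 := a1 _ h1 h2
    rw [map_sub, Tn.krR_tm, show d' (y - δ ((c - 1)⁻¹ • x)) = y - δ ((c - 1)⁻¹ • x) by
      rw [map_sub, ec, eq_add_of_sub_eq hx.symm, map_smul]
      match_scalars <;> field_simp <;> ring, sub_right_inj] at e1
    rwa [z l hl e1, sub_zero] at h2
  subst e0
  have k3 := k1.cjL hI
  have eγ : cjL (T.kr a d) θ = T.krL LinearMap.id (cjL d δ) := T.cjL_kr a d δ
  have k4 := hT.skew_of_krL (eγ ▸ k3)
  have k5 : ∀ k, θ k = 0 → θ' k = 0 → cjL (T.kr a d) θ k = 0 := fun k h1 h2 => by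
    rw [← a1 k h1 h2, cjL_app, h1, map_zero]
  have hJ : LinearMap.range θ ⊓ LinearMap.range θ' ≤
      T.ts (LinearMap.range δ ⊓ LinearMap.range (cjL d δ)) := fun x hx => T.ts_inf _ _
    ⟨T.range_krL δ ▸ hx.1, by
      rw [← T.range_krL, ← eγ, range_cjL]
      exact ⟨x, hx.1, hJ0 x hx⟩⟩
  by_cases hb : LinearMap.range δ ⊓ LinearMap.range (cjL d δ) = ⊥
  swap
  · refine Or.inr ⟨d, k4, hb, fun hc => c1 fun v => ?_, hJ, fun v => ?_, fun x hx h0 => ?_⟩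
    · rw [← cjL_app, eγ, T.range_krL]
      exact T.krL_mem_ts _ (fun w => hc ⟨w, rfl⟩) _
    · have : ∀ v, T.krL LinearMap.id (δ ∘ₗ cjL d δ + cjL d δ ∘ₗ δ) v =
          θ (cjL (T.kr a d) θ v) + cjL (T.kr a d) θ (θ v) := T.ext
            (g := θ ∘ₗ cjL (T.kr a d) θ + cjL (T.kr a d) θ ∘ₗ θ) fun u x => by simp [eγ, tθ]
      rw [this, this, c2]
    · obtain ⟨l, hl, h1, h2⟩ := dec (T.tm u₀ x) (by rw [tθ, h0, map_zero])
      have hx' : T.tm u₀ x ∈ LinearMap.range (cjL (T.kr a d) θ) := by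
        rw [eγ, T.range_krL]; exact T.tm_mem_ts _ hx
      have := k1.mem_range (x := T.tm u₀ x - l) fun y hy => by
        obtain ⟨l', hl', h4, h5⟩ := dec y hy
        rw [← sub_add_cancel y l', Φ.B_add_left, k1.perp_of_eq_zero hl' h1, map_sub,
          Φ.perp_symm (k1.perp_of_eq_zero hl h4),
          Φ.perp_symm (k3.perp_of_eq_zero hx' (k5 _ h4 h5))]
        simp
      exact mL (by simpa using add_mem this hl)
  refine Or.inl ⟨eq_bot_iff.2 (by rwa [hb, T.ts_bot] at hJ), fun y hy => ?_⟩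
  have s1 : LinearMap.range θ ⊔ LinearMap.range (cjL (T.kr a d) θ) =
      LinearMap.range θ ⊔ LinearMap.range θ' := Submodule.eq_of_le_of_finrank_le
    (sup_le le_sup_left (by
      rw [range_cjL]
      rintro _ ⟨l, hl, rfl⟩
      simpa using add_mem (a2 l) (Submodule.mem_sup_left hl))) (by
      have e1 := Submodule.finrank_sup_add_finrank_inf_eq (LinearMap.range θ) (LinearMap.range θ')
      have e2 := Submodule.finrank_sup_add_finrank_inf_eq (LinearMap.range θ)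
        (LinearMap.range (cjL (T.kr a d) θ))
      have e3 : LinearMap.range θ ⊓ LinearMap.range (cjL (T.kr a d) θ) = ⊥ := eq_bot_iff.2 (by
        rw [eγ, hθ, T.range_krL, T.range_krL, ← T.ts_bot, ← hb]
        exact T.ts_inf _ _)
      rw [e3, finrank_bot, range_cjL, LinearEquiv.finrank_map_eq, ← range_cjL] at e2
      omega)
  obtain ⟨α, hα⟩ := exists_dual_eq_one (F := F) hu0
  obtain ⟨l, hl, h1, h2⟩ := dec (T.tm u₀ y) (by rw [tθ, hy, map_zero])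
  have e1 : y - T.cL α l = T.cL α (T.tm u₀ y - l) := by simp [hα]
  have e2 : ∀ η : W →ₗ[F] W, Φ₂.Skew η → T.krL LinearMap.id η (T.tm u₀ y - l) = 0 →
      η (y - T.cL α l) = 0 := fun η hη h0 => hη.eq_zero fun x => by
    rw [e1, T.cL_cR, hT.cR_eq_zero fun u => (hT.skew_krL hη).perp_of_eq_zero
      ⟨T.tm u x, T.krL_tm _ _ _ _⟩ h0, map_zero]
  refine ⟨T.cL α l, T.cL_mem α (T.range_krL δ ▸ hl), fun u => k2.eq_zero fun x => ?_⟩
  obtain ⟨p, hp, q, hq, e⟩ := Submodule.mem_sup.1 (s1.ge (Submodule.mem_sup_right ⟨x, rfl⟩))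
  rw [← e, Φ.B_add_left, k1.perp_of_eq_zero hp (by rw [tθ, e2 δ k0 h1, map_zero]),
    k3.perp_of_eq_zero hq (by
      rw [eγ, Tn.krL_tm, e2 _ k4 (by rw [← eγ]; exact k5 _ h1 h2), map_zero]), add_zero]

end TF

end Cfsg.Agent.Class.Max
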