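import Mathlib
import Cfsg.Agent.Class.Max.LowO

/-!
Small cases: non-degenerate splittings `3 + 4` and `4 + 4` of orthogonal spaces, `O₄` in `Sp₄`.
-/

set_option autoImplicit false

namespace Cfsg.Agent.Class.Max

open Module

variable {F V : Type*} [Field F] [AddCommGroup V] [Module F V]

theorem exists_sq_sub_sq [Finite F] (c : F) : ∃ a b : F, c = a * a - b * b := by
  by_cases h2 : (2 : F) = 0
  · obtain ⟨a, ha⟩ := exists_sq_of_two_eq_zero h2 c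
    exact ⟨a, 0, by rw [ha]; ring⟩
  · exact ⟨(c + 1) / 2, (c - 1) / 2, by field_simp; ring⟩

namespace Fm

variable {Φ : Fm F V} {M : Subgroup (V ≃ₗ[F] V)}

theorem TS.sup {S T : Submodule F V} (hS : Φ.TS S) (hT : Φ.TS T)
    (h : ∀ x ∈ S, ∀ y ∈ T, Φ.B x y = 0) : Φ.TS (S ⊔ T) := by
  refine ⟨fun x hx => ?_, fun x hx y hy => ?_⟩
  · obtain ⟨a, ha, b, hb, rfl⟩ := Submodule.mem_sup.1 hx
    rw [Φ.Q_add_perp (h a ha b hb), hS.1 a ha, hT.1 b hb, add_zero]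
  · obtain ⟨a, ha, b, hb, rfl⟩ := Submodule.mem_sup.1 hx
    obtain ⟨c, hc, d, hd, rfl⟩ := Submodule.mem_sup.1 hy
    simp [hS.2 a ha c hc, hT.2 b hb d hd, h a ha d hd, Φ.perp_symm (h c hc b hb)]

theorem Pair.ts {e z : V} (h : Φ.Pair e z) : Φ.TS (Submodule.span F {e, z}) :=
  ts_span (by rintro _ (rfl | rfl); exacts [h.q₁, h.q₂]) (by
    rintro _ (rfl | rfl) _ (rfl | rfl)
    exacts [Φ.B_self h.q₁, h.perp, Φ.perp_symm h.perp, Φ.B_self h.q₂])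

theorem Pair.finrank_span {e z : V} (h : Φ.Pair e z) : finrank F (Submodule.span F {e, z}) = 2 := by
  have e2 : LinearIndependent F ![e, z] := by
    rw [LinearIndependent.pair_iff]
    intro a b hab
    obtain ⟨y, h1, h2⟩ := h.ind
    have h3 := congrArg (Φ.B · y) hab
    simp only [Φ.bsimp, h1, mul_zero, zero_add, mul_eq_zero, h2, or_false, Φ.σ_eq_zero] at h3
    rw [h3, zero_smul, add_zero, smul_eq_zero] at hab
    exact ⟨hab.resolve_right h.ne, h3⟩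
  have e3 := finrank_span_eq_card e2
  rw [Matrix.range_cons, Matrix.range_cons, Matrix.range_empty, Set.union_empty,
    Set.singleton_union] at e3
  simpa using e3

theorem Pair.map {e z : V} (h : Φ.Pair e z) {g : V ≃ₗ[F] V} (hg : g ∈ Φ.Iso) :
    Φ.Pair (g e) (g z) :=
  ⟨by rw [Iso.Q hg, h.q₁], by rw [Iso.Q hg, h.q₂], by rw [Iso.B hg, h.perp],
    g.map_ne_zero_iff.2 h.ne, let ⟨y, h1, h2⟩ := h.ind; ⟨g y, by rwa [Iso.B hg], by rwa [Iso.B hg]⟩⟩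

/-- rigidity: the stabiliser of a singular point -/
theorem mem_stab_of_smul [FiniteDimensional F V] {U : Submodule F V} (h1 : stab U ⊓ Φ.EG ≤ M)
    (h2 : M ≤ Φ.EG) {e : V} (he : e ∈ U) (he0 : Φ.Q e = 0) (he1 : ∃ y ∈ U, Φ.B e y ≠ 0)
    (hA : ∀ w, Φ.InA M e w → w ∈ U) {h : V ≃ₗ[F] V} (hh : h ∈ M) {a : F} (ha : a ≠ 0)
    (hhe : h e = a • e) : h ∈ stab U := by
  have hI := Φ.EG_le_Iso (h2 hh)
  obtain ⟨f, hf, hf0, hef⟩ := exists_partner he he0 he1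
  have hef' : Φ.B e f ≠ 0 := by simp [hef]
  obtain ⟨c, hv, hc⟩ := exists_ef_eq (y := Φ.σ a • h f) he0 hef'
    (by rw [← Iso.B hI e f, hhe, Φ.B_smul_left, Φ.B_smul_right])
    (by rw [Φ.Q_smul_zero (by rw [Iso.Q hI, hf0]), hf0])
  have hon := (hasOn_stab_EG (Φ := Φ) (le_refl U)).mono h1 le_rfl
  have h3 : hv.eich⁻¹ * h ∈ stab U := mem_stab_of_mapsTo fun u hu => by
    have e1 : u = (u - Φ.B e u • f) + Φ.B e u • f := by abel
    have h5 := (hon.inA he (U.sub_mem hu (U.smul_mem (Φ.B e u) hf)) he0 (by simp [hef])).conj hh hI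
    rw [hhe] at h5
    have h6 := h5.of_smul_left ha
    rw [e1, map_add, map_smul]
    refine U.add_mem ?_ (U.smul_mem _ ?_) <;> rw [← U.smul_mem_iff (Φ.σ_ne ha), mul_app, ← map_smul]
    · change Φ.ef _ _ _ _ ∈ U
      rw [ef_apply_of_perp' h6.perp]
      exact U.sub_mem (hA _ h6) (U.smul_mem _ he)
    · rwa [inv_app_of_eq ((hv.eich_apply f).trans hc)]
  have h4 : hv.eich⁻¹ * h ∈ M := h1 ⟨h3, Φ.EG.mul_mem (Φ.EG.inv_mem hv.eich_mem) (h2 hh)⟩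
  have h5 : hv.eich ∈ M := by simpa using M.mul_mem hh (M.inv_mem h4)
  have h6 : hv.eich ∈ stab U := mem_stab_of_mapsTo fun u hu =>
    ef_mem c he (hA _ ⟨c, hv, hv.eich, h5, hv.eich_apply⟩) hu
  simpa using (stab U).mul_mem h6 h3

namespace IsO

variable (hO : Φ.IsO)
include hO

/-- the quadratic form -/
def qf : QuadraticForm F V where
  toFun := Φ.Q
  toFun_smul a x := by rw [hO.Q_smul, smul_eq_mul]
  exists_companion' := ⟨LinearMap.mk₂ F (fun x y => Φ.B x y) Φ.B_add_left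
    (fun c x y => by rw [Φ.B_smul_left, hO.σ, smul_eq_mul]) (fun x y z => map_add _ y z)
    (fun c x y => map_smul _ c y), hO.Q_add⟩

theorem exists_move_Iso {x y : V} (hx : Φ.Q x = 0) (hy : Φ.Q y = 0) (hx0 : x ≠ 0) (hy0 : y ≠ 0) :
    ∃ g ∈ Φ.Iso, g x = y := by
  have key : ∀ x y, Φ.Q x = 0 → Φ.Q y = 0 → Φ.B x y ≠ 0 → ∃ g ∈ Φ.Iso, g x = y :=
    fun x y hx hy h => by
      have h1 : Φ.Q (x - y) = -Φ.B x y := by rw [hO.Q_sub, hx, hy]; ring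
      refine ⟨refl (neg_ne_zero.2 h) ((hO.π _).trans h1.symm), refl_mem_Iso _ _, ?_⟩
      rw [refl_apply, Φ.B_sub_left, Φ.B_self hx, hO.symm x y, zero_sub,
        inv_mul_cancel₀ (neg_ne_zero.2 h), one_smul, sub_sub_cancel]
  by_cases h : Φ.B x y = 0
  · obtain ⟨s, -, hs, h1, h2⟩ := exists_sing_not_perp₂ ⊤ trivial hx h
      (let ⟨y, hy⟩ := Φ.exists_B_ne hx0; ⟨y, trivial, hy⟩)
      (let ⟨y, hy⟩ := Φ.exists_B_ne hy0; ⟨y, trivial, hy⟩)
    obtain ⟨g, hg, e1⟩ := key x s hx hs h1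
    obtain ⟨g', hg', e2⟩ := key s y hs hy (Φ.ne_symm h2)
    exact ⟨g' * g, mul_mem hg' hg, by rw [mul_app, e1, e2]⟩
  · exact key x y hx hy h

variable [FiniteDimensional F V]

theorem move_pt {U : Submodule F V} (hU : Φ.ND U) (h3 : 3 ≤ finrank F U) (hon : Φ.HasOn M U)
    {e e' : V} (he : e ∈ U) (he' : e' ∈ U) (q : Φ.Q e = 0) (q' : Φ.Q e' = 0) (h0 : e ≠ 0)
    (h0' : e' ≠ 0) : ∃ g ∈ M, ∃ a : F, a ≠ 0 ∧ g e = a • e' := by
  obtain ⟨s, hs, qs, h1, h2⟩ : ∃ s ∈ U, Φ.Q s = 0 ∧ Φ.B e s ≠ 0 ∧ Φ.B e' s ≠ 0 := by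
    by_cases h : Φ.B e e' = 0
    · exact exists_sing_not_perp₂ U he q h (hU.exists_ne he h0) (hU.exists_ne he' h0')
    have qf := Φ.Q_smul_zero q' (Φ.B e e')⁻¹
    obtain ⟨w, hw, qw, h1, h2⟩ := hO.exists_nonsing_perp hU h3 he (U.smul_mem _ he') q qf
      (by simp [h])
    have h4 : Φ.B e' w = 0 := by simpa [h] using h2
    refine ⟨e - (Φ.Q w / Φ.B e e') • e' + w, U.add_mem (U.sub_mem he (U.smul_mem _ he')) hw, ?_,
      by simp [Φ.B_self q, h1, h, qw], by simpa [Φ.B_self q', h4] using Φ.ne_symm h⟩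
    simp only [hO.Q_add, hO.Q_sub, hO.Q_smul, Φ.bsimp, q, q', h1, h4]
    field_simp
    ring
  have h4 := Φ.ne_symm h1
  have h5 := Φ.ne_symm h2
  obtain ⟨g, hg, e1⟩ := hon.exists_move (y := (Φ.B s e / Φ.B s e') • e') hs
    (U.sub_mem (U.smul_mem _ he') he) qs h4 (by simp [h5]) (by rw [Φ.Q_smul_zero q', q])
  exact ⟨g, hg, _, div_ne_zero h4 h5, e1⟩

theorem move_sq {U : Submodule F V} (hU : Φ.ND U) (h3 : 3 ≤ finrank F U) (hon : Φ.HasOn M U)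
    {e : V} (he : e ∈ U) (q : Φ.Q e = 0) (h0 : e ≠ 0) {a : F} (ha : a ≠ 0) :
    ∃ g ∈ M, g e = (a * a) • e := by
  obtain ⟨f, hf, qf, hef⟩ := exists_partner he q (hU.exists_ne he h0)
  obtain ⟨w, hw, qw, h1, h2⟩ := hO.exists_nonsing_perp hU h3 he hf q qf hef
  have key : ∀ t : F, t ≠ 0 → ∃ g ∈ M, g e = (-(t * t * Φ.Q w)) • f := fun t ht => by
    refine hon.exists_move (f := e - (t * t * Φ.Q w) • f + t • w)
      (U.add_mem (U.sub_mem he (U.smul_mem _ hf)) (U.smul_mem _ hw))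
      (U.sub_mem (U.smul_mem _ hf) he) ?_ ?_ ?_ (by rw [Φ.Q_smul_zero qf, q])
    · simp only [hO.Q_add, hO.Q_sub, hO.Q_smul, Φ.bsimp, q, qf, h1, h2, hef]; ring
    · simp [Φ.bsimp, Φ.B_self q, hO.symm e, hef, h1, ht, qw]
    · simp [Φ.bsimp, Φ.B_self q, Φ.B_self qf, hO.symm e, hef, h1, hO.σ, Φ.perp_symm h2]
  obtain ⟨g, hg, e1⟩ := key a ha
  obtain ⟨g', hg', e2⟩ := key 1 one_ne_zero
  refine ⟨g'⁻¹ * g, mul_mem (inv_mem hg') hg, ?_⟩
  rw [mul_app, e1]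
  refine inv_app_of_eq ?_
  rw [map_smul, e2]
  module

theorem inA_smul [Finite F] {U : Submodule F V} (hU : Φ.ND U) (h3 : 3 ≤ finrank F U)
    (h : Φ.HasOn M U) {e w : V} (he : e ∈ U) (q : Φ.Q e = 0) (h0 : e ≠ 0) (hw : Φ.InA M e w) (c : F) :
    Φ.InA M e (c • w) := by
  have key : ∀ a : F, Φ.InA M e ((a * a) • w) := fun a => by
    by_cases ha : a = 0
    · rw [ha, zero_mul, zero_smul]; exact inA_zero q
    obtain ⟨g, ⟨⟨hg, hI⟩, hT⟩, e1⟩ := hO.move_sq hU h3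
      ((h.inf (hasOn_Iso U)).inf (hasOn_trivMod U)) he q h0 ha
    have h1 := hw.conj hg hI
    rw [e1] at h1
    have h2 := h1.of_smul_left (mul_ne_zero ha ha)
    rw [hO.σ] at h2
    have h3 := h.inA he (U.smul_mem (a * a) (hT w)) q (by
      have := h2.perp
      rw [Φ.B_smul_right] at this
      rw [Φ.B_smul_right, map_sub, mul_sub, this, hw.perp, mul_zero, sub_zero])
    simpa [smul_sub] using h2.sub h3
  obtain ⟨a, b, rfl⟩ := exists_sq_sub_sq c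
  rw [sub_smul]
  exact (key a).sub (key b)

theorem exists_norm [Finite F] {U : Submodule F V} (hU : Φ.ND U) (h4 : 4 ≤ finrank F U) {e : V}
    (he : e ∈ U) (q : Φ.Q e = 0) (h0 : e ≠ 0) {c : F} (_hc : c ≠ 0) :
    ∃ b ∈ U, Φ.B e b = 0 ∧ Φ.Q b = c := by
  obtain ⟨f, hf, qf, hef⟩ := exists_partner he q (hU.exists_ne he h0)
  have hX := hU.inf_hyp he hf q qf hef
  have h2 := finrank_le_inf_ker₂ U (Φ.B e) (Φ.B f)
  generalize hXd : U ⊓ LinearMap.ker (Φ.B e) ⊓ LinearMap.ker (Φ.B f) = X at hX h2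
  suffices ∃ b ∈ X, Φ.Q b = c by
    obtain ⟨b, hb, h⟩ := this
    rw [← hXd] at hb
    exact ⟨b, hb.1.1, hb.1.2, h⟩
  by_cases h : ∃ s ∈ X, s ≠ 0 ∧ Φ.Q s = 0
  · obtain ⟨s, hs, hs0, qs⟩ := h
    obtain ⟨s', hs', qs', h1⟩ := exists_partner hs qs (hX.exists_ne hs hs0)
    exact ⟨s + c • s', X.add_mem hs (X.smul_mem _ hs'), by
      simp [hO.Q_add, hO.Q_smul, qs, qs', h1]⟩
  push Not at h
  have h1 : ∀ v : X, hO.qf.comp X.subtype v = 0 → v = 0 := fun v hv => by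
    by_contra h1
    exact h v v.2 (fun e => h1 (Subtype.ext e)) hv
  obtain ⟨ζ, hζ⟩ := QF.exists_aniso (F := F)
  obtain ⟨g, hg⟩ := QF.anisotropic_plane _
    (le_antisymm (QF.finrank_le_two_of_anisotropic _ h1) (by omega)) h1 hζ
  obtain ⟨x, y, h3⟩ := QF.binary_represents (a := 1) (b := 1) (c := ζ) (by simpa using hζ) c
  exact ⟨g ![x, y], (g _).2, (hg ![x, y]).trans (by simpa using h3)⟩

section Split

variable [Finite F] {U : Submodule F V} (hU : Φ.ND U) (h4 : 4 ≤ finrank F U)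
  (h3 : 3 ≤ finrank F (Φ.perp U)) (h1 : stab U ⊓ Φ.EG ≤ M) (h2 : M ≤ Φ.EG) (hn : ¬ Φ.EG ≤ M)
include hU h4 h3 h1 h2 hn

theorem mem_of_inA {e : V} (he : e ∈ U) (q : Φ.Q e = 0) (h0 : e ≠ 0) {w : V} (hw' : Φ.InA M e w) :
    w ∈ U := by
  by_contra hw
  have hon := (hasOn_stab_EG (Φ := Φ) (le_refl U)).mono h1 le_rfl
  have hd : Φ.d + 2 ≤ finrank F V := by
    have := hU.finrank_add
    rw [hO.d]; omega
  have hW := hU.perp
  have hp : ∀ u ∈ U, ∀ x ∈ Φ.perp U, Φ.B x u = 0 := fun u hu x hx => Φ.perp_symm (hx u hu)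
  let A : Submodule F V :=
    { carrier := {x | x ∈ Φ.perp U ∧ Φ.InA M e x}
      zero_mem' := ⟨zero_mem _, inA_zero q⟩
      add_mem' := fun ha hb => ⟨add_mem ha.1 hb.1, ha.2.add hb.2⟩
      smul_mem' := fun c _ ha => ⟨Submodule.smul_mem _ c ha.1,
        hO.inA_smul hU (by omega) hon he q h0 ha.2 c⟩ }
  have hdec : ∀ y, Φ.B e y = 0 → ∃ x ∈ U, y - x ∈ Φ.perp U ∧ Φ.InA M e x := fun y hy => by
    obtain ⟨x, hx, hx'⟩ := hU.exists_decomp y
    exact ⟨x, hx, hx', hon.inA he hx q (by simpa [hy] using hx' e he)⟩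
  have hconj : ∀ k ∈ M, k e = e → ∀ x ∈ A, k x ∈ Φ.perp U → k x ∈ A := fun k hk hke x hx hx' =>
    ⟨hx', by have := hx.2.conj hk (Φ.EG_le_Iso (h2 hk)); rwa [hke] at this⟩
  have hA : Φ.perp U ≤ A := hW.le_of_invariant (fun x hx => hx.1) (fun h => by
      obtain ⟨x, hx, h3, h4⟩ := hdec w hw'.perp
      have : w - x ∈ A := ⟨h3, hw'.sub h4⟩
      rw [h, Submodule.mem_bot, sub_eq_zero] at this
      exact hw (this ▸ hx))
    (fun s hs w' hw' c hv x hx => hconj hv.eich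
      ((((hasOn_stab_of_perp (Y := Φ.perp U) (Z := U) fun y hy z hz => hp z hz y hy).inf
        (hasOn_EG _)).mono h1 le_rfl s hs w' hw' c hv).mem hv.eich_apply)
      (ef_apply_of_perp (hp e he s hs) (hp e he w' hw')) x hx (ef_mem c hs hw' hx.1))
    (fun a ha c hc hca x hx hax => by
      obtain ⟨b, hb, heb, hcb⟩ := hO.exists_norm hU h4 he q h0 hc
      have hb0 : b ≠ 0 := fun h => hc (by rw [← hcb, h, Φ.Q_zero])
      replace hcb := (hO.π c).trans hcb.symm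
      have ha0 : a ≠ 0 := fun h => hax (by simp [h])
      have h3 := refl_mul_inv_mem_EG hd hc hca hcb ha0 hb0
      have h4 : ∀ y, (refl hc hca * (refl hc hcb)⁻¹) y =
          refl hc hca (y - ((Φ.ε * Φ.σ c)⁻¹ * Φ.B b y) • b) := fun _ => rfl
      have h5 : (refl hc hca * (refl hc hcb)⁻¹) x = x - (c⁻¹ * Φ.B a x) • a := by
        rw [h4, hx.1 b hb]; simp [refl_apply]
      have h6 := hconj _ (h1 ⟨mem_stab_of_mapsTo fun u hu => by
          have := U.sub_mem hu (U.smul_mem ((Φ.ε * Φ.σ c)⁻¹ * Φ.B b u) hb)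
          rw [h4, refl_apply, hp _ this a ha]
          simpa using this, h3⟩)
        (by rw [h4, Φ.perp_symm heb]; simp [refl_apply, hp e he a ha]) x hx
        (by rw [h5]; exact sub_mem hx.1 (Submodule.smul_mem _ _ ha))
      rw [h5, A.sub_mem_iff_right hx] at h6
      exact (A.smul_mem_iff (mul_ne_zero (inv_ne_zero hc) hax)).1 h6) (Or.inr (Or.inl (by omega)))
  have hF := hon.full he q fun y hy => by
    obtain ⟨x, hx, h3, h4⟩ := hdec y hy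
    simpa using h4.add (hA h3).2
  obtain ⟨f, hf, qf, hef⟩ := exists_partner he q (hU.exists_ne he h0)
  obtain ⟨g, ⟨hg, hI⟩, a, ha, e1⟩ := hO.move_pt hU (by omega) (hon.inf (hasOn_Iso U)) he hf q qf h0
    fun h => by simp [h] at hef
  exact hn (EG_le_of_full hF (hF.conj hg hI) q (by rw [Iso.Q hI, q]) (by simp [e1, hef, ha]))

theorem mem_stab_of_mem {e : V} (he : e ∈ U) (q : Φ.Q e = 0) (h0 : e ≠ 0) {h : V ≃ₗ[F] V}
    (hh : h ∈ M) (hhe : h e ∈ U) : h ∈ stab U := by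
  obtain ⟨g, hg, a, ha, e1⟩ := hO.move_pt hU (by omega) (hasOn_stab_EG le_rfl) hhe he
    (by rw [Iso.Q (Φ.EG_le_Iso (h2 hh)), q]) q (h.map_ne_zero_iff.2 h0) h0
  have := mem_stab_of_smul h1 h2 he q (hU.exists_ne he h0)
    (fun w => hO.mem_of_inA hU h4 h3 h1 h2 hn he q h0) (M.mul_mem (h1 hg) hh) ha e1
  simpa using (stab U).mul_mem ((stab U).inv_mem hg.1) this

end Split

/-- an Eichler transformation stabilising a non-degenerate subspace -/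
theorem mem_or_mem_of_ef {U : Submodule F V} (hU : Φ.ND U) {v w : V}
    (hw : ∃ y, Φ.B v y = 0 ∧ Φ.B w y ≠ 0) (h : Φ.Q w = 0 ∨ (2 : F) ≠ 0)
    (h1 : ∀ y ∈ U, Φ.ef v w (Φ.Q w) y ∈ U) (h2 : ∀ y ∈ Φ.perp U, Φ.ef v w (Φ.Q w) y ∈ Φ.perp U)
    (qv : Φ.Q v = 0) (hvw : Φ.B v w = 0) : v ∈ U ∨ v ∈ Φ.perp U := by
  by_contra hc
  push Not at hc
  have key : ∀ X : Submodule F V, (∀ y ∈ X, Φ.ef v w (Φ.Q w) y ∈ X) → (∃ y ∈ X, Φ.B v y ≠ 0) →
      ∃ y ∈ X, Φ.B v y = 1 ∧ w - (Φ.B w y + Φ.Q w) • v ∈ X := fun X hX ⟨y, hy, hy'⟩ => by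
    refine ⟨(Φ.B v y)⁻¹ • y, X.smul_mem _ hy, by simp [hy'], ?_⟩
    have := X.sub_mem (hX _ (X.smul_mem (Φ.B v y)⁻¹ hy)) (X.smul_mem (Φ.B v y)⁻¹ hy)
    rwa [hO.ef, show Φ.B v ((Φ.B v y)⁻¹ • y) = 1 by simp [hy'], one_smul, mul_one, add_sub_assoc,
      add_sub_cancel_left] at this
  obtain ⟨y, hy, h3, h4⟩ := key U h1 (by
    by_contra h3
    push Not at h3
    exact hc.2 fun x hx => Φ.perp_symm (h3 x hx))
  obtain ⟨y', -, -, h5⟩ := key _ h2 (by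
    by_contra h3
    push Not at h3
    exact hc.1 (Φ.perp_perp U ▸ fun x hx => Φ.perp_symm (h3 x hx)))
  have h6 : Φ.Q w = 0 := h.elim id fun h => (mul_eq_zero.1 (by
    simpa [Φ.bsimp, hvw, Φ.perp_symm hvw, Φ.B_self qv, hO.B_self w] using h5 _ h4)).resolve_left h
  have h7 := hU _ h4 fun x hx => by
    have h7 := h1 _ (U.sub_mem hx (U.smul_mem (Φ.B v x) hy))
    rw [ef_apply_of_perp' (by simp [h3]), U.sub_mem_iff_right (U.sub_mem hx (U.smul_mem _ hy))] at h7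
    by_contra h8
    refine hc.1 ((U.smul_mem_iff fun h9 => h8 ?_).1 h7)
    simp only [Φ.bsimp, hO.ε, hO.σ, h6] at h9 ⊢
    linear_combination h9
  obtain ⟨z, h8, h9⟩ := hw
  exact h9 (by simpa [h8] using congrArg (Φ.B · z) h7)

theorem nd_isMaximalIn_three_four [Finite F] (h2 : (2 : F) ≠ 0) {U : Submodule F V} (hU : Φ.ND U)
    (h4 : finrank F U = 4) (h3 : finrank F (Φ.perp U) = 3) :
    Geo.IsMaximalIn Φ.EG (stab U ⊓ Φ.EG) := by
  have hV := hU.finrank_add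
  refine isMaximalIn_of inf_le_right ?_ fun M h5 h6 g hg hg' => ?_
  · obtain ⟨g, hg, hg'⟩ := exists_EG_not_stab (Φ := Φ) (W := U) (by rw [hO.d]; omega)
      (by rintro rfl; simp at h4) (by rintro rfl; rw [finrank_top] at h4 hV; omega)
    exact ⟨g, hg, fun c => hg' c.1⟩
  by_contra hn
  have hI := Φ.EG_le_Iso (h6 hg)
  have hon := (hasOn_stab_EG (Φ := Φ) (le_refl U)).mono h5 le_rfl
  have rig := fun e he q h0 h hh => hO.mem_stab_of_mem hU h4.ge h3.ge h5 h6 hn (e := e) he q h0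
    (h := h) hh
  obtain ⟨e, he, f, hf, qe, -, hef⟩ := hU.exists_hyp (by rw [hO.d]; omega)
  refine not_swap_of_lt (W := Φ.perp U) (by omega) g (le_of_sing he qe ⟨f, hf, by simp [hef]⟩
    ((Φ.perp U).comap g.toLinearMap).toAddSubgroup fun s hs qs hs1 => ?_)
  change g s ∈ Φ.perp U
  have hs0 : s ≠ 0 := fun h => by simp [h] at hs1
  obtain ⟨u, hu, hu0, qu, h7⟩ := Φ.exists_sing_ker [Φ.B (g s)] U (by rw [hO.d]; simp; omega)
  obtain ⟨s', hs', qs', hss⟩ := exists_partner hs qs hs1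
  obtain ⟨w, hw, hw0, h8⟩ := exists_ne_zero_ker [Φ.B s, Φ.B s', Φ.B (g⁻¹ u)] U (by simp; omega)
  simp only [List.mem_cons, List.not_mem_nil, or_false, forall_eq_or_imp, forall_eq] at h7 h8
  obtain ⟨x, hx, ex⟩ := (hon s hs w hw _ (hO.valid qs h8.1)).conj hg hI
  have h9 := rig u hu qu hu0 x hx (by
    rwa [ex, ef_apply_of_perp h7 (by rw [← Iso.B_inv hI, Φ.perp_symm h8.2.2])])
  obtain ⟨y, hy, hwy⟩ := (hU.inf_hyp hs hs' qs qs' hss).exists_ne (x := w) ⟨⟨hw, h8.1⟩, h8.2.1⟩ hw0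
  rw [← Iso.Q hI w] at ex
  refine (hO.mem_or_mem_of_ef hU (w := g w) ⟨g y, by rw [Iso.B hI]; exact hy.1.2, by rwa [Iso.B hI]⟩
    (Or.inr h2) (fun y hy => ex y ▸ stab_apply h9 hy)
    (fun y hy => ex y ▸ stab_apply (Iso.stab_perp (Φ.EG_le_Iso (h6 hx)) h9) hy)
    (by rw [Iso.Q hI, qs]) (by rw [Iso.B hI, h8.1])).resolve_left fun h =>
      hg' ⟨rig s hs qs hs0 g hg h, h6 hg⟩

theorem exists_ts_four [Finite F] {X Y : Submodule F V} (hX : 2 ≤ finrank F X) (hY : 2 ≤ finrank F Y)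
    (aX : ∀ x ∈ X, x ≠ 0 → Φ.Q x ≠ 0) (aY : ∀ x ∈ Y, x ≠ 0 → Φ.Q x ≠ 0)
    (hXY : ∀ x ∈ X, ∀ y ∈ Y, Φ.B x y = 0) {a b : V} (h : Φ.Pair a b)
    (h1 : ∀ x ∈ X, Φ.B a x = 0 ∧ Φ.B b x = 0) (h2 : ∀ x ∈ Y, Φ.B a x = 0 ∧ Φ.B b x = 0) :
    ∃ T, Φ.TS T ∧ finrank F T = 4 := by
  obtain ⟨ζ, hζ⟩ := QF.exists_aniso (F := F)
  have a1 : ∀ v : X, hO.qf.comp X.subtype v = 0 → v = 0 := fun v hv => by
    by_contra h1
    exact aX v v.2 (fun e => h1 (Subtype.ext e)) hv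
  have a2 : ∀ v : Y, (-hO.qf.comp Y.subtype) v = 0 → v = 0 := fun v hv => by
    by_contra h1
    exact aY v v.2 (fun e => h1 (Subtype.ext e)) (neg_eq_zero.1 hv)
  obtain ⟨g, hg⟩ := QF.anisotropic_plane _
    (le_antisymm (QF.finrank_le_two_of_anisotropic _ a1) hX) a1 hζ
  obtain ⟨g', hg'⟩ := QF.anisotropic_plane _
    (le_antisymm (QF.finrank_le_two_of_anisotropic _ a2) hY) a2 hζ
  let T : (Fin 2 → F) →ₗ[F] V := X.subtype ∘ₗ g.toLinearMap + Y.subtype ∘ₗ g'.toLinearMap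
  have hT : ∀ z, T z = (g z : V) + g' z := fun _ => rfl
  have h3 : ∀ z, (∀ x ∈ X, Φ.B (T z) x = 0) → z = 0 := fun z hz => by
    have h3 : ∀ z', Φ.B (g z) (g z') = 0 := fun z' => by
      simpa [hT, Φ.perp_symm (hXY _ (g z').2 _ (g' z).2)] using hz _ (g z').2
    have h4 : ∀ z', Φ.Q (g (z + z') : V) = Φ.Q (g z : V) + Φ.Q (g z' : V) := fun z' => by
      rw [map_add, Submodule.coe_add, Φ.Q_add_perp (h3 z')]
    have h5 := h4 ![1, 0]
    have h6 := h4 ![0, 1]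
    have hg0 : ∀ z, Φ.Q (g z : V) = z 0 ^ 2 + 1 * z 0 * z 1 + ζ * z 1 ^ 2 := hg
    rw [hg0, hg0, hg0] at h5 h6
    simp only [Pi.add_apply, Matrix.cons_val_zero, Matrix.cons_val_one] at h5 h6
    have := hζ (z 0) (z 1) (by
      have h7 : z 1 = -2 * z 0 := by linear_combination h5
      have h8 := hζ 1 (-2)
      by_cases h9 : z 0 = 0
      · simp [h7, h9]
      · refine (one_ne_zero (h8 (mul_left_cancel₀ h9 ?_)).1).elim
        rw [h7] at h6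
        linear_combination -h6)
    ext i
    fin_cases i
    exacts [this.1, this.2]
  have hQ : ∀ x ∈ LinearMap.range T, Φ.Q x = 0 := by
    rintro _ ⟨z, rfl⟩
    have h4 : Φ.Q (g z : V) = _ := hg z
    have h5 : -Φ.Q (g' z : V) = _ := hg' z
    rw [hT, Φ.Q_add_perp (hXY _ (g z).2 _ (g' z).2), h4, ← h5, neg_add_cancel]
  have h4 : ∀ x ∈ Submodule.span F {a, b}, ∀ y, Φ.B a y = 0 ∧ Φ.B b y = 0 → Φ.B x y = 0 :=
    fun x hx y hy => by
      obtain ⟨s, t, rfl⟩ := Submodule.mem_span_pair.1 hx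
      simp [hy.1, hy.2]
  refine ⟨_, h.ts.sup ⟨hQ, B_eq_zero_of_inj (fun c h => (hO.π c).symm.trans h) hQ⟩ ?_, ?_⟩
  · rintro x hx _ ⟨z, rfl⟩
    rw [hT, map_add, h4 x hx _ (h1 _ (g z).2), h4 x hx _ (h2 _ (g' z).2), add_zero]
  · have h5 := Submodule.finrank_sup_add_finrank_inf_eq (Submodule.span F {a, b}) (LinearMap.range T)
    have h6 : Submodule.span F {a, b} ⊓ LinearMap.range T = ⊥ := eq_bot_iff.2 (by
      rintro _ ⟨hx, z, rfl⟩
      rw [h3 z fun x hx' => h4 _ hx x (h1 x hx'), map_zero]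
      exact zero_mem _)
    rw [h6, finrank_bot, h.finrank_span, LinearMap.finrank_range_of_inj
      ((injective_iff_map_eq_zero T).2 fun z hz => h3 z (by simp [hz]))] at h5
    simpa using h5

theorem nd_isMaximalIn_four_four [Finite F] {U : Submodule F V} (hU : Φ.ND U)
    (h4 : finrank F U = 4) (h4' : finrank F (Φ.perp U) = 4)
    (hm : ∀ T, Φ.TS T → finrank F T ≠ 4) : Geo.IsMaximalIn Φ.EG (stab U ⊓ Φ.EG) := by
  have hV := hU.finrank_add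
  have two : ∀ (X : Submodule F V) (a b : V), finrank F X = 4 →
      2 ≤ finrank F ↥(X ⊓ LinearMap.ker (Φ.B a) ⊓ LinearMap.ker (Φ.B b)) := fun X a b h => by
    have := finrank_le_inf_ker₂ X (Φ.B a) (Φ.B b)
    omega
  have fix : ∀ U : Submodule F V, finrank F U = 4 → finrank F (Φ.perp U) = 4 → ∀ a b, Φ.Pair a b →
      ∀ c d c' d', (∀ x ∈ U, Φ.B c x = 0 → Φ.B d x = 0 → Φ.B a x = 0 ∧ Φ.B b x = 0) →
      (∀ x ∈ Φ.perp U, Φ.B c' x = 0 → Φ.B d' x = 0 → Φ.B a x = 0 ∧ Φ.B b x = 0) →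
      (∃ s ∈ U, s ≠ 0 ∧ Φ.Q s = 0 ∧ Φ.B c s = 0 ∧ Φ.B d s = 0) ∨
        ∃ s ∈ Φ.perp U, s ≠ 0 ∧ Φ.Q s = 0 ∧ Φ.B c' s = 0 ∧ Φ.B d' s = 0 := by
    intro U h4 h4' a b hab c d c' d' h1 h2
    by_contra hc
    push Not at hc
    obtain ⟨T, hT, hT'⟩ := hO.exists_ts_four (two U c d h4) (two _ c' d' h4')
      (fun x hx h0 q => hc.1 x hx.1.1 h0 q hx.1.2 hx.2)
      (fun x hx h0 q => hc.2 x hx.1.1 h0 q hx.1.2 hx.2) (fun x hx y hy => hy.1.1 x hx.1.1) hab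
      (fun x hx => h1 x hx.1.1 hx.1.2 hx.2) fun x hx => h2 x hx.1.1 hx.1.2 hx.2
    exact hm T hT hT'
  have pair : ∀ U : Submodule F V, Φ.ND U → ∀ e ∈ U, ∀ f ∈ U, Φ.Q e = 0 → Φ.Q f = 0 → Φ.B e f = 1 →
      ∀ s ∈ U, s ≠ 0 → Φ.Q s = 0 → Φ.B e s = 0 → Φ.B f s = 0 → Φ.Pair e s :=
    fun U hU e he f hf qe qf hef s hs h0 qs h1 h2 => ⟨qe, qs, h1, fun h => by simp [h] at hef,
      let ⟨y, hy, h⟩ := (hU.inf_hyp he hf qe qf hef).exists_ne (x := s) ⟨⟨hs, h1⟩, h2⟩ h0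
      ⟨y, hy.1.2, h⟩⟩
  wlog hP : ∃ e ∈ U, ∃ z ∈ U, Φ.Pair e z generalizing U
  · rw [← stab_perp_inf]
    refine this hU.perp h4' (by rwa [Φ.perp_perp]) hU.perp.finrank_add ?_
    obtain ⟨e, he, f, hf, qe, qf, hef⟩ := hU.exists_hyp (by rw [hO.d]; omega)
    obtain ⟨e', he', f', hf', qe', qf', hef'⟩ := hU.perp.exists_hyp (by rw [hO.d]; omega)
    rcases fix U h4 h4' e e' ⟨qe, qe', he' e he, fun h => by simp [h] at hef, f', hf' e he,
      by simp [hef']⟩ e f e' f' (fun x hx h _ => ⟨h, Φ.perp_symm (he' x hx)⟩)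
      (fun x hx h _ => ⟨hx e he, h⟩) with ⟨s, hs, h0, qs, h1, h2⟩ | ⟨s, hs, h0, qs, h1, h2⟩
    · exact (hP ⟨e, he, s, hs, pair U hU e he f hf qe qf hef s hs h0 qs h1 h2⟩).elim
    · exact ⟨e', he', s, hs, pair _ hU.perp e' he' f' hf' qe' qf' hef' s hs h0 qs h1 h2⟩
  obtain ⟨e, he, z, hz, hP⟩ := hP
  refine isMaximalIn_of inf_le_right ?_ fun M h5 h6 g hg hg' => ?_
  · obtain ⟨g, hg, hg'⟩ := exists_EG_not_stab (Φ := Φ) (W := U) (by rw [hO.d]; omega)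
      (by rintro rfl; simp at h4) (by rintro rfl; rw [finrank_top] at h4 hV; omega)
    exact ⟨g, hg, fun c => hg' c.1⟩
  by_contra hn
  have hI := Φ.EG_le_Iso (h6 hg)
  have hon := (hasOn_stab_EG (Φ := Φ) (le_refl U)).mono h5 le_rfl
  have rig := fun e he q h0 h hh => hO.mem_stab_of_mem hU h4.ge (by omega) h5 h6 hn (e := e) he q h0
    (h := h) hh
  have key : ∀ e ∈ U, ∀ z ∈ U, Φ.Pair e z → g e ∈ Φ.perp U := fun e he z hz hP => by
    have hP' := hP.map hI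
    obtain ⟨x, hx, ex⟩ := (hon e he z hz _ (hO.valid hP.q₁ hP.perp)).conj hg hI
    have hxI := Φ.EG_le_Iso (h6 hx)
    have h9 : x ∈ stab U := by
      rcases fix U h4 h4' _ _ hP' _ _ _ _ (fun _ _ h h' => ⟨h, h'⟩) (fun _ _ h h' => ⟨h, h'⟩) with
        ⟨s, hs, h0, qs, h1, h2⟩ | ⟨s, hs, h0, qs, h1, h2⟩
      · exact rig s hs qs h0 x hx (by rwa [ex, ef_apply_of_perp h1 h2])
      · have := Iso.stab_perp hxI (hO.mem_stab_of_mem hU.perp h4'.ge (by rw [Φ.perp_perp]; omega)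
          (by rwa [stab_perp_inf]) h6 hn hs qs h0 hx (by rwa [ex, ef_apply_of_perp h1 h2]))
        rwa [Φ.perp_perp] at this
    rw [← Iso.Q hI z] at ex
    exact (hO.mem_or_mem_of_ef hU hP'.ind (Or.inl hP'.q₂) (fun y hy => ex y ▸ stab_apply h9 hy)
      (fun y hy => ex y ▸ stab_apply (Iso.stab_perp hxI h9) hy) hP'.q₁ hP'.perp).resolve_left
      fun h => hg' ⟨rig e he hP.q₁ hP.ne g hg h, h6 hg⟩
  have l1 : Submodule.span F {e, z} ≤ U := Submodule.span_le.2 (by rintro _ (rfl | rfl); exacts [he, hz])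
  have l2 : Submodule.span F {g e, g z} ≤ Φ.perp U := Submodule.span_le.2 (by
    rintro _ (rfl | rfl); exacts [key e he z hz hP, key z hz e he hP.symm])
  refine hm _ (hP.ts.sup (hP.map hI).ts fun x hx y hy => l2 hy x (l1 hx)) ?_
  have h7 := Submodule.finrank_sup_add_finrank_inf_eq (Submodule.span F {e, z})
    (Submodule.span F {g e, g z})
  rw [(hU.isCompl.1.mono l1 l2).eq_bot, finrank_bot, hP.finrank_span, (hP.map hI).finrank_span] at h7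
  exact h7

theorem EG_le_of_char_two {Ψ : Fm F V} (h2 : (2 : F) = 0) (hsq : ∀ a : F, ∃ b, b * b = a)
    (hB : ∀ x y, Ψ.B x y = Φ.B x y) (hΨ : ∀ c, Ψ.π c = 0) (hd : 3 ≤ finrank F V) (hM : Φ.Iso ≤ M)
    {g : V ≃ₗ[F] V}
    (hg : g ∈ M) (hg1 : g ∈ Ψ.Iso) (hg2 : g ∉ Φ.Iso) : Ψ.EG ≤ M := by
  have hπ := hO.π
  have hσ := hO.σ
  have hε : ∀ Θ : Fm F V, Θ.ε = 1 := fun Θ => by
    have : (Θ.ε - 1) ^ 2 = 0 := by linear_combination Θ.eps_sq + (1 - Θ.ε) * h2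
    exact sub_eq_zero.1 (pow_eq_zero_iff two_ne_zero |>.1 this)
  have hgB : ∀ x y, Φ.B (g⁻¹ x) (g⁻¹ y) = Φ.B x y := fun x y => by
    rw [← hB, ← hB, Iso.B (Ψ.Iso.inv_mem hg1)]
  obtain ⟨e, f, he, hf, hef⟩ := exists_hyp (Φ := Φ) (by rwa [hO.d])
  obtain ⟨b, hb, hb1⟩ : ∃ b, Φ.Q b = 0 ∧ Φ.Q (g⁻¹ b) ≠ 0 := by
    by_contra hc
    push Not at hc
    let A : AddSubgroup V :=
      { carrier := {v | Φ.Q (g⁻¹ v) = Φ.Q v}
        zero_mem' := by simp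
        add_mem' := fun {x y} hx hy => by
          change Φ.Q (g⁻¹ (x + y)) = _
          rw [map_add, Φ.add, Φ.add, hx, hy, hgB]
        neg_mem' := fun {x} hx => by
          change Φ.Q (g⁻¹ (-x)) = _
          rw [map_neg, Φ.Q_neg, Φ.Q_neg, hx] }
    have := le_of_sing (Y := ⊤) trivial he ⟨f, trivial, by simp [hef]⟩ A
      fun s _ hs _ => (hc s hs).trans hs.symm
    exact hg2 (by simpa using Φ.Iso.inv_mem (x := g⁻¹) ⟨hgB, fun x => this x trivial⟩)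
  have hb0 : b ≠ 0 := by rintro rfl; exact hb1 (by rw [map_zero, Φ.Q_zero])
  have h3 : HasTv M ((Φ.Q (g⁻¹ b))⁻¹ • Φ.B b) b := by
    have h4 : HasTv M ((Φ.Q (g⁻¹ b))⁻¹ • Φ.B (g⁻¹ b)) (g⁻¹ b) :=
      ⟨refl hb1 (hπ _), hM (refl_mem_Iso _ _), fun x => by
        rw [refl_apply, sub_eq_add_neg, ← neg_smul]
        congr 2
        simp only [LinearMap.smul_apply, smul_eq_mul]
        linear_combination (-((Φ.Q (g⁻¹ b))⁻¹ * Φ.B (g⁻¹ b) x)) * h2⟩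
    have h5 := h4.conj hg
    rw [app_inv_app] at h5
    exact h5.congr fun x => by
      simp only [LinearMap.comp_apply, LinearEquiv.coe_coe, LinearMap.smul_apply, hgB]
  have h4 : ∀ s, Φ.Q s = 0 → s ≠ 0 → ∀ c : F, HasTv M (c • Φ.B s) s := fun s hs hs0 c => by
    by_cases hc : c = 0
    · rw [hc, zero_smul]; exact hasTv_zero_left s
    obtain ⟨a, ha⟩ := hsq (c * Φ.Q (g⁻¹ b))
    have ha0 : a ≠ 0 := by rintro rfl; exact mul_ne_zero hc hb1 (by rw [← ha, zero_mul])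
    obtain ⟨t, hI, e1⟩ := hO.exists_move_Iso hb (Φ.Q_smul_zero hs a) hb0 (smul_ne_zero ha0 hs0)
    refine (h3.conj (hM hI)).congr fun x => ?_
    simp only [LinearMap.comp_apply, LinearEquiv.coe_coe, LinearMap.smul_apply, Iso.B_inv hI, e1,
      Φ.B_smul_left, hσ, smul_smul, smul_eq_mul]
    congr 1
    field_simp
    linear_combination Φ.B s x * ha
  have hQ : ∀ x, Ψ.Q x = 0 := fun x => by
    obtain ⟨a, ha⟩ := Ψ.range x
    rw [← ha, hΨ]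
  have h5 : ∀ s, Φ.Q s = 0 → s ≠ 0 → Ψ.Full M s := fun s hs hs0 w c hv => by
    have hv' : Φ.Valid s w (Φ.Q w) := ⟨hs, by rw [← hB, hv.perp], hπ _⟩
    obtain ⟨t, ht, e1⟩ := h4 s hs hs0 (Φ.Q w - c)
    refine ⟨hv'.eich * t, M.mul_mem (hM (hv'.mem_Iso hv'.eich_apply)) ht, fun x => ?_⟩
    rw [mul_app, e1, map_add, map_smul, hv'.eich_apply, hv'.eich_apply, hv'.ef_self]
    simp only [Fm.ef, hB, hε, LinearMap.smul_apply, smul_eq_mul]
    module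
  have hef0 : Φ.B e f ≠ 0 := by simp [hef]
  exact EG_le_of_full (h5 e he fun h => hef0 (by simp [h])) (h5 f hf fun h => hef0 (by simp [h]))
    (hQ e) (hQ f) (by rwa [hB])

end IsO

end Fm

theorem orth_isMaximalIn_sp_two [Fintype F] {m : ℕ} (hm : 2 ≤ m) (heven : ¬ Odd (Fintype.card F))
    {Q : (Fin m ⊕ Fin m → F) → F} (hQ : Geo.IsNondegenerateQuadraticForm Q)
    (hpol : ∀ u v, QuadraticMap.polar Q u v = sympForm m F u v) :
    Geo.IsMaximalIn (spGL m F) (Geo.quadSimilarityGroup Q ⊓ spGL m F) := by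
  have h2 := two_eq_zero_of_not_odd heven
  have hB : ∀ x y, (fmSpStd F m).B x y = (fmO hQ).B x y := fun x y => (hpol x y).symm
  have hd : 3 ≤ finrank F (Fin m ⊕ Fin m → F) := by simp; omega
  obtain ⟨e, f, he, hf, hef⟩ := Fm.exists_hyp (Φ := fmO hQ) hd
  refine isMaximalIn_of_equiv (glEquiv _ F) (mem_spGL_iff_Iso m) (H' := (fmO hQ).Iso)
    (fun g => ⟨fun ⟨⟨c, hc⟩, hg⟩ => ?_, fun hg => ⟨⟨1, fun v => ?_⟩, ?_⟩⟩)
    (isMaximalIn_of (fun g hg => ⟨fun x y => ?_, fun _ => rfl⟩) ?_ fun M h3 h4 g hg hg' => ?_)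
  · have h3 := ((mem_spGL_iff_Iso m g).1 hg).1
    simp only [hB] at h3
    have h4 : (c : F) = 1 := by
      have h5 := h3 e f
      rw [fmO_B, QuadraticMap.polar, ← map_add, glEquiv_apply, glEquiv_apply, glEquiv_apply,
        hc, hc, hc, hef] at h5
      rw [fmO_B, QuadraticMap.polar] at hef
      linear_combination h5 - c * hef
    exact ⟨h3, fun x => by rw [fmO_Q, glEquiv_apply, hc, h4, one_mul, fmO_Q]⟩
  · rw [Units.val_one, one_mul]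
    exact hg.2 v
  · exact (mem_spGL_iff_Iso m g).2 ⟨fun x y => by rw [hB, hB, hg.1], fun _ => rfl⟩
  · rw [hB, hB, hg.1]
  · have hv : (fmSpStd F m).Valid e 0 1 := ⟨rfl, map_zero _, rfl⟩
    refine ⟨hv.eich, hv.mem_Iso hv.eich_apply, fun h => ?_⟩
    have h3 := h.2 f
    have h4 : hv.eich f = f + e := by
      rw [hv.eich_apply, Fm.ef, hB, hB, hef]
      change f + (1 : F) • 0 - (-1 * (_ + 1 * 1)) • e = _
      simp
    rw [h4, (fmO hQ).add, he, (fmO hQ).symm e f, hef] at h3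
    change _ + _ + (1 : F) * 1 = _ at h3
    simp at h3
  · rw [← EG_fmSpStd]
    exact (isO_fmO hQ).EG_le_of_char_two h2 (exists_sq_of_two_eq_zero h2) hB (fun _ => rfl) hd h3 hg
      (h4 hg) hg'

theorem o_nd_isMaximalIn_seven {ι : Type} [Fintype ι] [DecidableEq ι] [Fintype F] {Q : (ι → F) → F}
    (hQ : Geo.IsNondegenerateQuadraticForm Q) (hn : 7 ≤ Fintype.card ι)
    (h2 : Fintype.card ι = 7 → (2 : F) ≠ 0) {W : Submodule F (ι → F)} (hW0 : W ≠ ⊥) (hW1 : W ≠ ⊤)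
    (hW : Geo.IsNondegenerateOn (QuadraticMap.polar Q) W)
    (hdim : 2 * finrank F W = Fintype.card ι → Even (finrank F W) ∧ ¬ Geo.IsPlusTypeOn Q ⊤)
    (hex : ¬ (Fintype.card F ≤ 3 ∧ (∃ U : Submodule F (ι → F), finrank F U = 2 ∧
      Geo.IsNondegenerateOn (QuadraticMap.polar Q) U ∧ Geo.IsPlusTypeOn Q U ∧
      (U = W ∨ (Geo.AreOrthogonalFor (QuadraticMap.polar Q) U W ∧
        finrank F U + finrank F W = Fintype.card ι))))) :
    Geo.IsMaximalIn (Geo.omegaGL Q) (Geo.subspaceStabilizer W ⊓ Geo.omegaGL Q) := by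
  refine stab_isMaximalIn_of (mem_omegaGL_iff hQ (by omega)) ?_
  have hW' : (fmO hQ).ND W := nd_of_on (Or.inl fun _ _ => rfl) hW
  have hO := isO_fmO hQ
  have e1 := (fmO hQ).finrank_add_perp W
  simp only [finrank_fintype_fun_eq_card] at e1
  by_cases h : 2 * finrank F W ≤ Fintype.card ι ∧ finrank F W + 5 ≤ Fintype.card ι
  · refine o_nd_isMaximalIn hQ hW0 hW' h.2
      (fun ⟨h1, h2, h3⟩ => hex ⟨h1, W, h2, hW, h3, Or.inl rfl⟩) fun g hg h1 => ?_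
    rcases h.1.lt_or_eq with h | h
    · exact Fm.not_swap_of_lt (by omega) g h1
    · exact (hdim h).2 (isPlusTypeOn_of_swap hQ hW' h (hdim h).1 hg h1)
  by_cases h' : 5 ≤ finrank F W
  · rw [← Fm.stab_perp_inf]
    refine o_nd_isMaximalIn hQ (fun h0 => hW1 ?_) hW'.perp (by omega)
      (fun ⟨h1, h2, h3⟩ => hex ⟨h1, _, h2, isNondegenerateOn_of_nd hQ hW'.perp, h3, Or.inr
        ⟨fun u hu v hv => (fmO hQ).perp_symm (hu v hv), by omega⟩⟩) fun g _ => ?_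
    · rw [h0, finrank_bot] at e1
      exact Submodule.eq_top_of_finrank_eq (by simpa using e1)
    · rw [Fm.perp_perp]
      exact Fm.not_swap_of_lt (by omega) g
  by_cases h7 : Fintype.card ι = 7
  · by_cases h4 : finrank F W = 4
    · exact hO.nd_isMaximalIn_three_four (h2 h7) hW' h4 (by omega)
    · rw [← Fm.stab_perp_inf]
      exact hO.nd_isMaximalIn_three_four (h2 h7) hW'.perp (by omega) (by rw [Fm.perp_perp]; omega)
  · exact hO.nd_isMaximalIn_four_four hW' (by omega) (by omega) fun T hT h4 => (hdim (by omega)).2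
      ⟨T, le_top, hT.1, by rw [finrank_top, finrank_fintype_fun_eq_card]; omega⟩

end Cfsg.Agent.Class.Max
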