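import Mathlib
import Cfsg.Agent.Class.Max.C4Glob
import Cfsg.Agent.Class.Max.LowNd

/-!
Tensor products of formed spaces whose second factor is symplectic or unitary.
-/

set_option autoImplicit false
set_option linter.unusedSectionVars false

namespace Cfsg.Agent.Class.Max

open Module

variable {F U W V : Type*} [Field F] [AddCommGroup U] [Module F U] [AddCommGroup W]
  [Module F W] [AddCommGroup V] [Module F V] {T : Tn F U W V} {Φ₁ : Fm F U} {Φ₂ : Fm F W}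
  {Φ : Fm F V} {M : Subgroup (V ≃ₗ[F] V)}
  [FiniteDimensional F U] [FiniteDimensional F W] [FiniteDimensional F V]

namespace Fm

theorem QD.mem_of_perp {H : Subgroup (V ≃ₗ[F] V)} {θ : V →ₗ[F] V} (D : QD Φ M H θ)
    {g : V ≃ₗ[F] V} (hg : g ∈ M) (h : ∀ v, θ (g (θ v)) = 0) : g ∈ H := by
  obtain ⟨z, hz, e⟩ := D.has 1 (map_one _)
  have := D.stab _ (M.mul_mem (M.inv_mem hg) (M.mul_mem (D.le hz) hg)) fun v =>
    ⟨v, by simp [mul_app, e, h]⟩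
  simpa using H.inv_mem (D.conj _ (M.inv_mem hg) 1 (map_one _) one_ne_zero
    ⟨_, this, fun v => by simp [mul_app, e, cjL_apply]⟩)

theorem IsO.eq_zero_of_skew (hO : Φ.IsO) (h2 : (2 : F) ≠ 0) {η : V →ₗ[F] V} (h : Φ.Skew η)
    (h1 : finrank F (LinearMap.range η) ≤ 1) : η = 0 := by
  obtain ⟨⟨v, hv⟩, h3⟩ := finrank_le_one_iff.1 h1
  refine LinearMap.ext fun x => Φ.nondeg _ fun y => ?_
  obtain ⟨a, ha⟩ := h3 ⟨_, x, rfl⟩
  obtain ⟨b, hb⟩ := h3 ⟨_, y, rfl⟩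
  have e1 : a • v = η x := congrArg Subtype.val ha
  have e2 : b • v = η y := congrArg Subtype.val hb
  have e3 := h x x
  have e4 := h x y
  simp only [← e1, ← e2, Φ.bsimp, hO.σ, hO.symm x v] at e3 e4 ⊢
  by_cases h0 : a = 0
  · simp [h0]
  · rw [e4, mul_left_cancel₀ (mul_ne_zero h2 h0) (show 2 * a * Φ.B x v = 2 * a * 0 by
      linear_combination e3), mul_zero, neg_zero]

variable {l : F} {w : V}

theorem skew_tv (hl : Φ.π l = 0) (w : V) : Φ.Skew (l • Φ.rk w w) := fun x y => by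
  simp only [LinearMap.smul_apply, rk_apply, Φ.bsimp, Φ.symm w x]
  linear_combination (Φ.ε * Φ.σ (Φ.B w x) * Φ.B w y) * Φ.lam_trace hl -
    Φ.σ l * Φ.σ (Φ.B w x) * Φ.B w y * Φ.eps_sq

theorem TV.exists_tv (htv : Φ.TV) (hl : Φ.π l = 0) (hw : Φ.Q w = 0) {c : F} (hc : Φ.σ c = c) :
    ∃ τ ∈ Φ.EG, ∀ x, τ x = x + c • (l • Φ.rk w w) x := by
  have hv := valid_tv hw (htv (-(Φ.ε * (c * l))) (by
    simp only [Φ.bsimp, hc]
    linear_combination -(Φ.ε * c) * Φ.lam_trace hl))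
  refine ⟨_, hv.eich_mem, fun x => ?_⟩
  simp only [Valid.eich_apply, ef, Φ.bsimp, LinearMap.smul_apply, rk_apply]
  linear_combination (norm := module) (c * l * Φ.B w x * Φ.eps_sq) • w

theorem range_tv (l0 : l ≠ 0) (hw0 : w ≠ 0) :
    LinearMap.range (l • Φ.rk w w) = Submodule.span F {w} := by
  obtain ⟨x, hx⟩ := Φ.exists_B_ne hw0
  refine le_antisymm ?_ ((Submodule.span_singleton_le_iff_mem _ _).2 ⟨(l * Φ.B w x)⁻¹ • x, ?_⟩)
  · rintro _ ⟨y, rfl⟩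
    exact Submodule.smul_mem _ _ (Submodule.smul_mem _ _ (Submodule.mem_span_singleton_self w))
  · simp only [map_smul, LinearMap.smul_apply, rk_apply, smul_smul]
    rw [inv_mul_cancel₀ (mul_ne_zero l0 hx), one_smul]

theorem eq_smul_tv (hl : Φ.π l = 0) (l0 : l ≠ 0) (hw0 : w ≠ 0) {η : V →ₗ[F] V} (h : Φ.Skew η)
    (h1 : ∀ x, η x ∈ Submodule.span F {w}) : ∃ c, Φ.σ c = c ∧ ∀ x, η x = c • (l • Φ.rk w w) x := by
  obtain ⟨x₁, hx⟩ := Φ.exists_B_ne hw0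
  obtain ⟨x₀, h0⟩ : ∃ x₀, Φ.B w x₀ = 1 := ⟨(Φ.B w x₁)⁻¹ • x₁, by simp [hx]⟩
  obtain ⟨a, ha⟩ := Submodule.mem_span_singleton.1 (h1 x₀)
  have e1 := h x₀ x₀
  simp only [← ha, Φ.bsimp, h0, B_eq_eps h0] at e1
  refine ⟨a / l, ?_, fun x => ?_⟩
  · rw [map_div₀, div_eq_div_iff (Φ.σ_ne l0) l0]
    linear_combination l * e1 - a * Φ.ε * Φ.lam_trace hl + a * Φ.σ l * Φ.eps_sq
  · have := h.eq_zero (v := x - Φ.B w x • x₀) fun y => by
      obtain ⟨b, hb⟩ := Submodule.mem_span_singleton.1 (h1 y)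
      simp [← hb, h0]
    rw [map_sub, sub_eq_zero, map_smul, ← ha] at this
    simp only [this, LinearMap.smul_apply, rk_apply, smul_smul]
    congr 1
    field_simp

end Fm

namespace TF

variable (hT : TF T Φ₁ Φ₂ Φ)
include hT

/-- Quadratic elements `a ⊗ d` with `a` not a scalar. -/
theorem exists_eta (h2 : (2 : F) ≠ 0) {a : U ≃ₗ[F] U} {d : W ≃ₗ[F] W} {N : V →ₗ[F] V}
    (e : ∀ v, T.kr a d v = v + N v) (hN : ∀ v, N (N v) = 0) (hs : Φ.Skew N)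
    (ha : ¬ ∃ c : F, ∀ u, a u = c • u) :
    ∃ η, Φ₁.Skew η ∧ LinearMap.range N = T.swap.ts (LinearMap.range η) := by
  obtain ⟨a', h⟩ := T.swap.exists_krR_of_smul a hT.ne₂
    (T.smul_of_quad h2 (d := d) (fun v => by simp [e, hN]) ha)
  obtain rfl : T.swap.krL LinearMap.id (a'.toLinearMap - LinearMap.id) = N :=
    LinearMap.ext fun v => by rw [← T.swap.krR_sub, ← h, T.swap_kr, e, add_sub_cancel_left]
  exact ⟨_, hT.swap.skew_of_krL hs, T.swap.range_krL _⟩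

theorem exists_mem_of_krR {d : W ≃ₗ[F] W} {v : V} (h : T.krR d v ≠ v) :
    ∃ y, y ≠ 0 ∧ ∃ x, ∀ u, T.tm u y = T.krR d (T.tm u x) - T.tm u x := by
  by_contra hc
  push Not at hc
  refine h (T.ext (f := (T.krR d).toLinearMap) (g := LinearMap.id) (fun u x => ?_) v)
  by_cases h0 : d x - x = 0
  · simp [sub_eq_zero.1 h0]
  · obtain ⟨u', hu⟩ := hc _ h0 x
    simp at hu

variable (hH : T.NG ⊓ Φ.EG ≤ M) (hG : M ≤ Φ.EG)
  (hL : ∀ w, Φ₂.Q w = 0 → w ≠ 0 → Loc T Φ₂ M w) (h3 : 3 ≤ finrank F W)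
include hH hG hL h3

theorem qd_pt {l : F} (hl : Φ₂.π l = 0) (l0 : l ≠ 0)
    (hns : finrank F U < finrank F W ∨ (Φ₁.IsO ∧ (2 : F) ≠ 0 ∧ Φ.Iso ≤ Φ.EG)) {w : W}
    (hw : Φ₂.Q w = 0) (hw0 : w ≠ 0) :
    Fm.QD Φ M (T.NG ⊓ Φ.EG) (T.krL LinearMap.id (l • Φ₂.rk w w)) := by
  have hr : LinearMap.range (T.krL LinearMap.id (l • Φ₂.rk w w)) = T.sp w := by
    rw [T.range_krL, Fm.range_tv l0 hw0, T.sp_eq_ts]
  have hs := hT.skew_krL (Fm.skew_tv hl w)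
  have hq : ∀ v, T.krL LinearMap.id (l • Φ₂.rk w w) (T.krL LinearMap.id (l • Φ₂.rk w w) v) = 0 :=
    T.ext (f := T.krL _ _ ∘ₗ T.krL _ _) (g := 0) fun u x => by simp [Φ₂.B_self hw]
  refine ⟨hH, hG.trans Φ.EG_le_Iso, hq, hs, fun c hc => ?_, fun g hg h => ⟨?_, hG hg⟩,
    fun g hg c hc c0 ⟨_, ⟨⟨a, d, rfl⟩, _⟩, e⟩ => ⟨?_, hG hg⟩⟩
  · obtain ⟨τ, hτ, e⟩ := hT.tv₂.exists_tv hl hw ((hT.σ₂ c).trans hc)
    exact ⟨_, ⟨T.krR_mem τ, hT.krR_EG hτ⟩, T.ext (f := (T.krR τ).toLinearMap)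
      (g := LinearMap.id + c • T.krL _ _) fun u x => by simp [e]⟩
  · refine hT.mem_of_sp hH hG hL h3 hg hw hw0 hw0 fun u => ?_
    obtain ⟨v, hv⟩ := hr.ge (T.tm_mem_sp u w)
    exact hv ▸ hr ▸ h v
  have hI := Φ.EG_le_Iso (hG hg)
  have hr' : LinearMap.range (c • cjL g (T.krL LinearMap.id (l • Φ₂.rk w w))) =
      (T.sp w).map g.toLinearMap := by rw [LinearMap.range_smul _ _ c0, range_cjL, hr]
  have hm : ∀ v, T.kr a d v - v ∈ (T.sp w).map g.toLinearMap := fun v =>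
    hr' ▸ ⟨v, by rw [e, add_sub_cancel_left]⟩
  have hf : finrank F ((T.sp w).map g.toLinearMap) = finrank F U := by
    rw [LinearEquiv.finrank_map_eq, T.finrank_sp hw0]
  obtain ⟨u₀, hu₀⟩ := hT.ne₁
  have hU : 0 < finrank F U := finrank_pos_iff_exists_ne_zero.2 hT.ne₁
  by_cases ha : ∃ c : F, ∀ u, a u = c • u
  · obtain ⟨d', e'⟩ := T.exists_krR_of_smul d hT.ne₁ ha
    obtain ⟨v, hv⟩ := hr'.ge ⟨_, T.tm_mem_sp u₀ w, rfl⟩
    obtain ⟨y, y0, x, hx⟩ := hT.exists_mem_of_krR (d := d') (v := v) (by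
      rw [← e', e, hv]
      simpa using T.tm_ne_zero hu₀ hw0)
    refine hT.mem_of_sp' hH hG hL h3 hg hw hw0 y0 fun u => ?_
    obtain ⟨z, hz, e1⟩ := hm (T.tm u x)
    rwa [hx, ← e', ← e1, LinearEquiv.coe_coe, inv_app_app]
  rcases hns with hns | ⟨hO, h2, hE⟩
  · have := T.finrank_le_of_not_smul ha hm
    omega
  obtain ⟨η, k1, k2⟩ := hT.exists_eta h2 e (fun v => by simp [cjL_apply, hq])
    ((hs.cjL hI).smul hc) ha
  have k3 := T.swap.finrank_ts (LinearMap.range η)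
  rw [← k2, hr', hf] at k3
  have k4 : 2 ≤ finrank F (LinearMap.range η) := by
    by_contra hc
    rw [hO.eq_zero_of_skew h2 k1 (by omega), LinearMap.range_zero, finrank_bot] at k3
    omega
  obtain ⟨z, hz, hz'⟩ : ∃ z ∈ Φ₁.perp (LinearMap.range η), Φ₁.Q z ≠ 0 := by
    by_contra hc
    push Not at hc
    have k5 : LinearMap.ker η ≤ LinearMap.range η := fun x hx => k1.mem_range fun y hy => by
      have k6 : ∀ x, η x = 0 → Φ₁.Q x = 0 := fun x hx =>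
        hc x fun y hy => k1.perp_of_eq_zero hy hx
      have := hO.Q_add y x
      rwa [k6 y hy, k6 x hx, k6 _ (by rw [map_add, hy, hx, add_zero]), add_zero, zero_add,
        eq_comm] at this
    have := Submodule.finrank_mono k5
    have := LinearMap.finrank_range_add_finrank_ker η
    nlinarith
  have k5 : T.kr (Fm.refl hz' (hO.π _)) 1 ∈ M := hH ⟨T.kr_mem _ _, hE (hT.kr_Iso
    fun u u' x x' => by rw [(Fm.refl_mem_Iso hz' (hO.π _)).1, one_app, one_app])⟩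
  have k6 : ∀ u, (g⁻¹ * (T.kr (Fm.refl hz' (hO.π _)) 1 * g)) (T.tm u w) = T.tm u w := fun u => by
    have := T.swap.eq_zero_on_ts (f := (T.kr (Fm.refl hz' (hO.π _)) 1).toLinearMap - LinearMap.id)
      (fun x y hy => by simp [Fm.refl_apply, Φ₁.perp_symm (hz y hy), one_app])
      (k2 ▸ hr'.ge ⟨_, T.tm_mem_sp u w, rfl⟩)
    rw [mul_app, mul_app, show T.kr _ 1 (g _) = g _ from sub_eq_zero.1 this, inv_app_app]
  obtain ⟨a', d', e'⟩ := hT.mem_of_sp hH hG hL h3 (M.mul_mem (M.inv_mem hg) (M.mul_mem k5 hg))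
    hw hw0 hw0 fun u => (k6 u).symm ▸ T.tm_mem_sp u w
  obtain ⟨d'', e''⟩ := T.exists_krR_of_smul d' hT.ne₁ (T.smul_of_fix (Y := ⊥) (y := w)
    (by simpa using hw0) fun u => by rw [← e', k6, sub_self]; exact zero_mem _)
  have z0 : z ≠ 0 := fun h => hz' (h ▸ Φ₁.Q_zero)
  obtain ⟨y, y0, x, hx⟩ := hT.exists_mem_of_krR (d := d'') (v := g⁻¹ (T.tm z w)) (by
    rw [← e'', ← e', mul_app, mul_app, app_inv_app, g⁻¹.injective.ne_iff, Tn.kr_tm, one_app]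
    intro h
    have := T.left_inj hw0 h
    rw [Fm.refl_apply, sub_eq_self, hO.B_self, smul_eq_zero_iff_left z0] at this
    simp [h2, hz'] at this)
  have k7 : T.sp y ≤ (T.swap.sp z).map (g⁻¹ : V ≃ₗ[F] V).toLinearMap := by
    rintro _ ⟨u, rfl⟩
    refine ⟨T.kr (Fm.refl hz' (hO.π _)) 1 (g (T.tm u x)) - g (T.tm u x), ?_, ?_⟩
    · generalize g (T.tm u x) = v
      refine T.induction (p := fun v => T.kr _ 1 v - v ∈ T.swap.sp z) (by simp) (fun p q => ?_)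
        (fun p q hp hq => by rw [map_add, add_sub_add_comm]; exact add_mem hp hq) v
      exact ⟨-(((Φ₁.Q z)⁻¹ * Φ₁.B z p) • q), by simp [Fm.refl_apply, one_app]⟩
    · change _ = T.tm u y
      simp [hx, ← e'', ← e', mul_app]
  have := Submodule.finrank_mono k7
  rw [LinearEquiv.finrank_map_eq, T.finrank_sp y0, T.swap.finrank_sp z0] at this
  nlinarith

omit hG hL in
theorem mem_of_perp_pt {l : F} (l0 : l ≠ 0) {w : W} (hw : Φ₂.Q w = 0) (hw0 : w ≠ 0)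
    (D : Fm.QD Φ M (T.NG ⊓ Φ.EG) (T.krL LinearMap.id (l • Φ₂.rk w w))) {g : V ≃ₗ[F] V}
    (hg : g ∈ M) {x y : W} (hx : Φ₂.Q x = 0) (x0 : x ≠ 0) (hy : Φ₂.Q y = 0) (y0 : y ≠ 0)
    (h : ∀ u u', Φ.B (T.tm u x) (g (T.tm u' y)) = 0) : g ∈ T.NG := by
  have hr : LinearMap.range (T.krL LinearMap.id (l • Φ₂.rk w w)) = T.sp w := by
    rw [T.range_krL, Fm.range_tv l0 hw0, T.sp_eq_ts]
  obtain ⟨a, ha, c, -, e⟩ := Fm.Rk.move_pt (Ψ := Φ₂) (Or.inl h3) hw hx hw0 x0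
  obtain ⟨b, hb, c', -, e'⟩ := Fm.Rk.move_pt (Ψ := Φ₂) (Or.inl h3) hw hy hw0 y0
  have := D.mem_of_perp (M.mul_mem (M.inv_mem (hT.krR_mem hH ha)) (M.mul_mem hg (hT.krR_mem hH hb)))
    fun v => D.skew.eq_zero fun p => by
      obtain ⟨u, hu⟩ := hr.le ⟨p, rfl⟩
      obtain ⟨u', hu'⟩ := hr.le ⟨v, rfl⟩
      rw [← hu, ← hu', mul_app, Fm.Iso.B_inv (hT.krR_Iso (Φ₂.EG_le_Iso ha))]
      simp [mul_app, e, e', h]
  simpa using T.NG.mul_mem (T.NG.mul_mem (T.krR_mem a) this.1) (T.NG.inv_mem (T.krR_mem b))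

omit hH hG hL h3 in
/-- Involutions in characteristic two fix a singular point. -/
theorem exists_fix [Finite F] (hF : ∀ l, Φ.σ l = l → l ≠ 0 → l = 1) {a : U ≃ₗ[F] U}
    {d : W ≃ₗ[F] W} (hI : T.kr a d ∈ Φ.Iso) (h : ∀ v, T.kr a d (T.kr a d v) = v) {w : W}
    (hw : Φ₂.Q w = 0) (hw0 : w ≠ 0) :
    ∃ x, Φ₂.Q x = 0 ∧ x ≠ 0 ∧ ∃ c : F, d x = c • x := by
  have h2 : (2 : F) = 0 := by linear_combination -hF (-1) (by simp) (by simp)
  obtain ⟨u, hu⟩ := hT.ne₁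
  obtain ⟨α, hα⟩ := exists_dual_eq_one (F := F) hu
  have k : ∀ y, α (a (a u)) • d (d y) = y := fun y => by
    simpa [hα] using congrArg (T.cL α) (h (T.tm u y))
  have k0 : α (a (a u)) ≠ 0 := fun e => hw0 (by rw [← k w, e, zero_smul])
  obtain ⟨μ, hμ⟩ := exists_sq_of_two_eq_zero h2 (α (a (a u)))⁻¹
  have k1 : ∀ y, d (d y) = (μ * μ) • y := fun y => by rw [hμ, eq_inv_smul_iff₀ k0, k]
  have m0 : μ ≠ 0 := fun e => inv_ne_zero k0 (by rw [← hμ, e, mul_zero])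
  obtain ⟨m, e0, e1, e2⟩ := hT.exists_sim hI
  simp only [hF m e1 e0, one_mul] at e2
  by_cases h0 : d w + μ • w = 0
  · exact ⟨w, hw, hw0, -μ, by rw [neg_smul, eq_neg_iff_add_eq_zero, h0]⟩
  refine ⟨_, hT.tv₂.Q_zero ?_, h0, μ, by rw [map_add, k1, map_smul]; module⟩
  have e3 := e2 (d w) w
  have e4 : μ * Φ₂.σ μ = 1 := hF _ (by rw [← hT.σ₂, map_mul, Φ₂.invol, mul_comm])
    (mul_ne_zero m0 (Φ₂.σ_ne m0))
  simp only [k1, Φ₂.bsimp, e2, Φ₂.B_self hw] at e3 ⊢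
  linear_combination -μ * e3 + Φ₂.σ μ * Φ₂.B w (d w) * (e4 + h2)

omit hH hG hL h3 in
theorem sing_of_invol (h2 : (2 : F) = 0) {d : W ≃ₗ[F] W} (hI : T.krR d ∈ Φ.Iso)
    (h : ∀ v, T.krR d (T.krR d v) = v) (v v' : V) : Φ.B (T.krR d v - v) (T.krR d v' - v') = 0 := by
  have := hI.1 (T.krR d v) v'
  rw [h] at this
  simp only [Φ.bsimp, hI.1 v v', ← this]
  linear_combination (Φ.B v v' - Φ.B v (T.krR d v')) * h2

omit h3 in
theorem le_NG_pt [Finite F] (hd : Φ₂.d + 2 ≤ finrank F W) {l : F} (hl : Φ₂.π l = 0) (l0 : l ≠ 0)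
    (hns : finrank F U < finrank F W ∨ (Φ₁.IsO ∧ (2 : F) ≠ 0 ∧ Φ.Iso ≤ Φ.EG)) : M ≤ T.NG := by
  intro g₀ hg₀
  by_contra hg₁
  have h3 : 3 ≤ finrank F W := by have := Φ₂.d_pos; omega
  obtain ⟨w, -, hw0, hw⟩ := Φ₂.iso ⊤ (by rw [finrank_top]; omega)
  obtain ⟨w', s, s', -, q1, -, e1, e2, e3, e4, -, -⟩ := Fm.exists_hyp2 hd hw hw0
  have D := hT.qd_pt hH hG hL h3 hl l0 hns hw hw0
  have key := @mem_of_perp_pt _ _ _ _ _ _ _ _ _ _ _ _ _ _ _ _ _ _ _ hT hH h3 l l0 w hw hw0 D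
  obtain ⟨g, hg, hg', h⟩ := Fm.exists_qMax (H := T.NG ⊓ Φ.EG) hg₀ (fun h => hg₁ h.1)
    (T.krL LinearMap.id (l • Φ₂.rk w w))
  have hI := D.iso hg
  have hr := Φ₂.range_tv l0 hw0
  obtain ⟨x₀, hx₀⟩ := hr.ge (Submodule.mem_span_singleton_self w)
  have hs : ∀ c : F, s - c • w ≠ 0 := fun c h => by
    rw [sub_eq_zero.1 h] at e2
    simp [e4] at e2
  by_cases hF : ∃ l, Φ.σ l = l ∧ l ≠ 0 ∧ l ≠ 1
  · rcases hT.exc hH hG D (fun η h1 h2 => by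
        simpa only [hT.σ₂] using Fm.eq_smul_tv hl l0 hw0 h1 (hr ▸ h2))
      ⟨s, by simp [e3], fun h => by
        obtain ⟨c, hc⟩ := Submodule.mem_span_singleton.1 (hr ▸ h)
        exact hs c (by rw [hc, sub_self])⟩ hF hg hg' h with ⟨-, h1⟩ | ⟨d, -, h1, h2, -⟩
    · obtain ⟨m, hm, h2⟩ := h1 s (by simp [e3])
      obtain ⟨c, rfl⟩ := Submodule.mem_span_singleton.1 (hr ▸ hm)
      refine hg' ⟨key hg (x := s - c • w) (by
        rw [Φ₂.Q_sub, q1, Φ₂.Q_smul_zero hw, map_smul, Φ₂.perp_symm e3]; simp) (hs c) hw hw0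
        fun u u' => Φ.perp_symm ((D.skew.cjL hI).perp_of_eq_zero ⟨g (T.tm u' x₀), ?_⟩ (h2 u)), hG hg⟩
      rw [cjL_app, Tn.krL_tm, hx₀, LinearMap.id_apply]
    · rw [range_cjL, hr, Submodule.map_span, Set.image_singleton] at h1 h2
      obtain ⟨x, ⟨h4, h5⟩, x0⟩ := Submodule.exists_mem_ne_zero_of_ne_bot h1
      obtain ⟨c, rfl⟩ := Submodule.mem_span_singleton.1 h5
      exact h2 ((Submodule.span_singleton_le_iff_mem _ _).2
        ((Submodule.smul_mem_iff _ (left_ne_zero_of_smul x0)).1 h4))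
  replace hF : ∀ l, Φ.σ l = l → l ≠ 0 → l = 1 := by simpa using hF
  have h2 : (2 : F) = 0 := by linear_combination -hF (-1) (by simp) (by simp)
  have add2 : ∀ v : V, v + v = 0 := fun v => by rw [← two_smul F, h2, zero_smul]
  have : Finite V := Module.finite_of_finite F
  have : Finite (V ≃ₗ[F] V) := DFunLike.finite _
  obtain ⟨σ₀, a0, b0⟩ := hT.tv₂.exists_tv hl hw (map_one _)
  obtain ⟨σ₁, a1, b1⟩ := hT.tv₂.exists_tv hl q1 (map_one _)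
  have D' := hT.qd_pt hH hG hL h3 hl l0 hns q1 (by simpa using hs 0)
  set θ := T.krL LinearMap.id (l • Φ₂.rk w w) with hθ
  set θ₁ := T.krL LinearMap.id (l • Φ₂.rk s s) with hθ₁
  have r0 : LinearMap.range θ = T.sp w := by rw [hθ, T.range_krL, hr, T.sp_eq_ts]
  have r1 : LinearMap.range θ₁ = T.sp s := by
    rw [hθ₁, T.range_krL, Φ₂.range_tv l0 (by simpa using hs 0), T.sp_eq_ts]
  have c0 : ∀ v, T.krR σ₀ v = v + θ v := T.ext (f := (T.krR σ₀).toLinearMap)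
    (g := LinearMap.id + θ) fun u x => by simp [b0, hθ]
  have c1 : ∀ v, T.krR σ₁ v = v + θ₁ v := T.ext (f := (T.krR σ₁).toLinearMap)
    (g := LinearMap.id + θ₁) fun u x => by simp [b1, hθ₁]
  have d0 : ∀ v, θ (θ₁ v) = 0 := T.ext (f := θ ∘ₗ θ₁) (g := 0) fun u x => by simp [hθ, hθ₁, e3]
  have d1 : ∀ v, θ₁ (θ v) = 0 := T.ext (f := θ₁ ∘ₗ θ) (g := 0) fun u x => by
    simp [hθ, hθ₁, Φ₂.perp_symm e3]
  have c2 : ∀ v, T.krR (σ₀ * σ₁) v = v + (θ + θ₁) v := fun v => by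
    rw [map_mul, mul_app, c0, c1, map_add, d0, LinearMap.add_apply]
    abel
  have d2 : ∀ v, (θ + θ₁) ((θ + θ₁) v) = 0 := fun v => by simp [D.sq, D'.sq, d0, d1]
  have dj : ∀ x y, θ x = θ₁ y → θ₁ y = 0 := fun x y e => by
    obtain ⟨u, hu⟩ := r0.le ⟨x, rfl⟩
    obtain ⟨u', hu'⟩ := r1.le ⟨y, rfl⟩
    have := congrArg (T.cR (Φ₂.B s')) ((hu.trans e).trans hu'.symm)
    simp only [LinearMap.flip_apply, Tn.cR_tm, Φ₂.perp_symm e4, zero_smul, Fm.B_eq_eps e2] at this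
    rw [← hu', (smul_eq_zero_iff_right Φ₂.eps_ne).1 this.symm, map_zero]
  set J := LinearMap.range θ ⊓ LinearMap.range (cjL g θ) with hJ
  have hP : ∀ t ∈ M, (∀ x ∈ J, t x = x) → ∀ a ∈ {m | m ∈ M ∧ J ≤ LinearMap.range (cjL m θ)},
      t * a ∈ {m | m ∈ M ∧ J ≤ LinearMap.range (cjL m θ)} := fun t ht h1 a ha =>
    ⟨M.mul_mem ht ha.1, fun x hx => by
      rw [cjL_mul, range_cjL]
      exact ⟨x, ha.2 hx, h1 x hx⟩⟩
  obtain ⟨z, z1, z2, ⟨⟨d₁, rfl⟩, z3⟩, ⟨d₂, z4⟩, z5⟩ := dihedral_fix (H := T.NG ⊓ Φ.EG)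
    (K := T.krR.range ⊓ Φ.EG) (g := g) (s := T.krR σ₀) (t := T.krR (σ₀ * σ₁))
    (inf_le_inf_right _ (by rintro _ ⟨d, rfl⟩; exact T.krR_mem d))
    (by
      rintro _ ⟨⟨a, d, rfl⟩, h1⟩ _ ⟨⟨k, rfl⟩, h2⟩
      exact ⟨⟨d * k * d⁻¹, T.ext' fun u x => by
        rw [T.kr_inv, Tn.krR_tm]; simp [mul_app]⟩, Φ.EG_normal (Φ.EG_le_Iso h1) h2⟩)
    ⟨⟨_, rfl⟩, hT.krR_EG a0⟩ ⟨⟨_, rfl⟩, hT.krR_EG (mul_mem a0 a1)⟩
    (LinearEquiv.ext fun v => by
      rw [mul_app, c0, c0, map_add, D.sq, add_zero, add_assoc, add2, add_zero, one_app])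
    (LinearEquiv.ext fun v => by
      rw [mul_app, c2, c2, map_add, d2, add_zero, add_assoc, add2, add_zero, one_app])
    (fun c hc => by
      have e : cjL c θ = θ + θ₁ := LinearMap.ext fun v => by
        rw [← add_right_inj v, ← c2, ← hc, mul_app, mul_app, c0, map_add, app_inv_app, cjL_apply]
      have f : T.sp w ⊔ T.sp s ≤ LinearMap.range (cjL c θ) := by
        obtain ⟨f, -, f1, f2⟩ := (show Φ₂.Pair w s from ⟨hw, q1, e3, hw0, s', e4, by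
          simp [e2]⟩).symm.exists_partner
        rw [e, sup_le_iff]
        constructor <;> rintro _ ⟨u, rfl⟩
        · exact ⟨T.tm u (l⁻¹ • f), by simp [hθ, hθ₁, f1, f2, l0]⟩
        · exact ⟨T.tm u (l⁻¹ • s'), by simp [hθ, hθ₁, e2, e4, l0]⟩
      have f1 := Submodule.finrank_sup_add_finrank_inf_eq (T.sp w) (T.sp s)
      have f2 : T.sp w ⊓ T.sp s = ⊥ := eq_bot_iff.2 (by
        rw [← r0, ← r1]
        rintro _ ⟨⟨x, rfl⟩, y, hy⟩
        exact hy ▸ dj x y hy.symm)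
      have f3 := Submodule.finrank_mono f
      have f4 : 0 < finrank F U := finrank_pos_iff_exists_ne_zero.2 hT.ne₁
      rw [range_cjL, LinearEquiv.finrank_map_eq, r0] at f3
      rw [f2, finrank_bot, T.finrank_sp (w := s) (by simpa using hs 0)] at f1
      omega)
    {m | m ∈ M ∧ J ≤ LinearMap.range (cjL m θ)} ⟨M.one_mem, inf_le_left⟩ ⟨hg, inf_le_right⟩
    (hP _ (hT.krR_mem hH a0) (by rintro _ ⟨⟨x, rfl⟩, -⟩; rw [c0, D.sq, add_zero]))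
    (hP _ (mul_mem (mul_mem hg (hT.krR_mem hH (mul_mem a0 a1))) (inv_mem hg)) (by
      rintro _ ⟨-, x, rfl⟩
      simp [mul_app, cjL_apply, c0, c1, D.sq, d1]))
    (by
      rintro r hr a ⟨a2, a3⟩ b ⟨b2, b3⟩ hc
      have hm := M.mul_mem (M.inv_mem b2) a2
      rcases hr with rfl | rfl
      · exact D.conj _ hm 1 (map_one _) one_ne_zero ⟨_, hc, fun v => by
          simp [mul_app, c0, cjL_apply]⟩
      have j1 : ∀ m, J ≤ LinearMap.range (cjL m θ) →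
          J.map (b⁻¹ : V ≃ₗ[F] V).toLinearMap ≤ LinearMap.range (cjL (b⁻¹ * m) θ) := fun m h1 => by
        rw [cjL_mul, range_cjL]
        exact Submodule.map_mono h1
      have j2 := j1 a a3
      have j3 := j1 b b3
      have j4 := LinearEquiv.finrank_map_eq b⁻¹ J
      rw [inv_mul_cancel, cjL_one, r0] at j3
      generalize b⁻¹ * a = c at hc hm j2 ⊢
      generalize J.map (b⁻¹ : V ≃ₗ[F] V).toLinearMap = J₁ at j2 j3 j4
      obtain ⟨⟨p, d, e⟩, hE⟩ := hc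
      have n1 : ∀ v, T.kr p d v = v + (cjL c θ v + cjL c θ₁ v) := fun v => by
        simp [← e, mul_app, c0, c1, d0, cjL_apply, add_assoc, add_comm, add_left_comm]
      have n2 : ∀ v, cjL c θ (cjL c θ v + cjL c θ₁ v) + cjL c θ₁ (cjL c θ v + cjL c θ₁ v) = 0 :=
        fun v => by simp [cjL_apply, D.sq, D'.sq, d0, d1]
      obtain ⟨x, x1, x0, ⟨μ, x2⟩, x3⟩ : ∃ x, Φ₂.Q x = 0 ∧ x ≠ 0 ∧ (∃ μ : F, d x = μ • x) ∧
          J₁ ≤ T.sp x := by
        by_cases hb : J₁ = ⊥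
        · obtain ⟨x, x1, x0, x2⟩ := hT.exists_fix hF (e ▸ Φ.EG_le_Iso hE) (fun v => by
            rw [n1, n1, map_add, map_add (cjL c θ₁), add_add_add_comm (cjL c θ v), n2, add_zero,
              add_assoc, add2, add_zero]) hw hw0
          exact ⟨x, x1, x0, x2, hb ▸ bot_le⟩
        obtain ⟨v, hv, v0⟩ := Submodule.exists_mem_ne_zero_of_ne_bot hb
        obtain ⟨u, rfl⟩ := j3 hv
        obtain ⟨y, hy⟩ := j2 hv
        have : T.tm (p u) (d w) = T.tm u w := by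
          have := n1 (cjL c θ y)
          rw [D.sq', show cjL c θ₁ (cjL c θ y) = 0 by simp [cjL_apply, d1], hy] at this
          simpa using this
        obtain ⟨μ, hμ⟩ := Submodule.mem_span_singleton.1 (T.mem_of_tm_mem_ts (u := p u)
          (fun h => v0 (by simp [p.map_eq_zero_iff.1 h])) (this ▸ T.sp_eq_ts w ▸ T.tm_mem_sp u w))
        exact ⟨w, hw, hw0, ⟨μ, hμ.symm⟩, j3⟩
      obtain ⟨k, hk, ν, ν0, ek⟩ := Fm.Rk.move_pt (Ψ := Φ₂) (Or.inl h3) hw x1 hw0 x0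
      have hk' : T.krR k ∈ T.NG ⊓ Φ.EG := ⟨T.krR_mem k, hT.krR_EG hk⟩
      have rk : LinearMap.range (cjL (T.krR k) θ) = T.sp x := by
        rw [range_cjL, r0, ← T.sp_smul ν0 x, ← ek]
        exact T.map_kr_sp 1 k w
      suffices (T.krR k)⁻¹ * c ∈ T.NG ⊓ Φ.EG by simpa using mul_mem hk' this
      by_contra hab
      have f : ∀ v ∈ T.sp x, cjL c θ v + cjL c θ₁ v ∈ J₁ → v ∈ J₁ := fun v hv h1 => by
        obtain ⟨y, hy⟩ := j2 h1
        have : cjL c θ₁ v = 0 := by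
          rw [← sub_eq_iff_eq_add', ← map_sub] at hy
          rw [cjL_apply, dj _ (c⁻¹ v) (c.injective hy), map_zero]
        exact D.fact h hm (hH hk') hab j4 j2 (rk ▸ x3) (rk ▸ hv) (by simpa [this] using h1)
      refine hab (D.mem_of_map_eq (M.mul_mem (M.inv_mem (hH hk')) hm) fun v hv => ?_)
      rw [cjL_mul, range_cjL]
      have : T.krR k v ∈ T.sp x := by
        rw [← rk, range_cjL]
        exact ⟨v, hv, rfl⟩
      refine ⟨_, j2 (f _ this (f _ ?_ (by rw [n2]; exact zero_mem _))), inv_app_app _ _⟩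
      obtain ⟨u, hu⟩ := this
      rw [← sub_eq_iff_eq_add'.2 (n1 _), ← hu]
      exact ⟨μ • p u - u, by simp [x2]⟩)
  have z6 : ∀ v, T.krR d₁ (T.krR d₁ v) = v := fun v => by rw [← mul_app, z2, one_app]
  have z7 : ∀ v, g (T.krR d₂ v) = T.krR d₁ (g v) := fun v => by simp [z4, mul_app]
  have z8 : ∀ v, T.krR d₂ (T.krR d₂ v) = v := fun v => g.injective (by rw [z7, z7, z6])
  obtain ⟨v, hv⟩ : ∃ v, T.krR d₁ v ≠ v := by
    by_contra hc
    push Not at hc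
    exact z1 (LinearEquiv.ext hc)
  obtain ⟨y₁, y1, x₁, e₁⟩ := hT.exists_mem_of_krR hv
  obtain ⟨y₂, y2, x₂, e₂⟩ := hT.exists_mem_of_krR (d := d₂) (v := g⁻¹ v) fun h =>
    hv (by simpa only [h, app_inv_app] using (z7 (g⁻¹ v)).symm)
  have p1 := hT.sing_of_invol h2 (Φ.EG_le_Iso z3) z6
  have p2 := hT.sing_of_invol h2 (z4 ▸ Φ.EG_le_Iso z5) z8
  exact hg' ⟨key hg (hT.sing_of_perp fun u u' => by rw [e₁, e₁, p1]) y1
    (hT.sing_of_perp fun u u' => by rw [e₂, e₂, p2]) y2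
    fun u u' => by rw [e₁, e₂, map_sub g, z7, p1], hG hg⟩

end TF

end Cfsg.Agent.Class.Max
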