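import Mathlib
import Cfsg.Agent.Class.Max.C5Fm

/-!
Class `C₅` for symplectic, unitary and orthogonal groups.
-/

set_option autoImplicit false

namespace Cfsg.Agent.Class.Max

open Module

variable {F V : Type*} [Field F] [AddCommGroup V] [Module F V]
variable {ι : Type} [Fintype ι] {θ₀ : F ≃+* F} {F₀ : Subfield F}

variable (F₀) in
/-- The rational vectors with respect to a basis. -/
noncomputable def ratMap (b : Basis ι F V) : (ι → F₀) →ₛₗ[F₀.subtype] V where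
  toFun x := ∑ i, (x i : F) • b i
  map_add' x y := by simp [add_smul, Finset.sum_add_distrib]
  map_smul' c x := by simp [Finset.smul_sum, mul_smul]

theorem repr_ratMap (b : Basis ι F V) (x : ι → F₀) (i : ι) : b.repr (ratMap F₀ b x) i = x i :=
  congrFun (b.repr_sum_self fun i => (x i : F)) i

theorem frob_eq_iff_ratMap (hθ : ∀ c, θ₀ c = c ↔ c ∈ F₀) (b : Basis ι F V) (v : V) :
    frob θ₀ b v = v ↔ ∃ x, ratMap F₀ b x = v := by
  rw [frob_eq_iff]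
  refine ⟨fun h => ⟨fun i => ⟨_, (hθ _).1 (h i)⟩, b.sum_repr v⟩, ?_⟩
  rintro ⟨x, rfl⟩ i
  rw [repr_ratMap, hθ]
  exact (x i).2

theorem span_ratMap (b : Basis ι F V) : Submodule.span F (Set.range (ratMap F₀ b)) = ⊤ := by
  classical
  rw [eq_top_iff, ← b.span_eq]
  refine Submodule.span_mono ?_
  rintro _ ⟨i, rfl⟩
  refine ⟨Pi.single i 1, b.ext_elem fun k => ?_⟩
  rw [repr_ratMap, b.repr_self, Finsupp.single_apply, Pi.single_apply]
  simp only [eq_comm (a := k)]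
  split_ifs <;> rfl

theorem frob_frob (h : ∀ c, θ₀ (θ₀ c) = c) (b : Basis ι F V) (v : V) :
    frob θ₀ b (frob θ₀ b v) = v := b.ext_elem fun i => by rw [repr_frob, repr_frob, h]

theorem ratMap_colBasis [DecidableEq ι] (P : GL ι F) (x : ι → F₀) :
    ratMap F₀ (colBasis P) x = Matrix.mulVec (P : Matrix ι ι F) fun i => x i := by
  rw [← glEquiv_apply]
  refine (colBasis P).ext_elem fun i => ?_
  rw [repr_ratMap, colBasis_repr, ← mul_app, ← map_mul, inv_mul_cancel, map_one, one_app]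

namespace Fm

variable (Φ : Fm F V) (b : Basis ι F V)

/-- The form on the rational vectors. -/
noncomputable def ratB {σ₀ : F₀ →+* F₀} (hσ : ∀ a : F₀, Φ.σ a = σ₀ a)
    (hB : ∀ x y, Φ.B (ratMap F₀ b x) (ratMap F₀ b y) ∈ F₀) :
    (ι → F₀) →ₛₗ[σ₀] (ι → F₀) →ₗ[F₀] F₀ :=
  LinearMap.mk₂'ₛₗ σ₀ (RingHom.id F₀) (fun x y => ⟨_, hB x y⟩)
    (fun x x' y => Subtype.ext (by simp)) (fun c x y => Subtype.ext (by simp [hσ]))
    (fun x y y' => Subtype.ext (by simp)) (fun c x y => Subtype.ext (by simp))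

theorem ratB_nondeg {σ₀ : F₀ →+* F₀} (hσ : ∀ a : F₀, Φ.σ a = σ₀ a)
    (hB : ∀ x y, Φ.B (ratMap F₀ b x) (ratMap F₀ b y) ∈ F₀) (x : ι → F₀)
    (h : ∀ y, Φ.ratB b hσ hB x y = 0) : x = 0 := by
  have h1 : ratMap F₀ b x = 0 := Φ.nondeg _ fun v => by
    have := LinearMap.ext_on_range (span_ratMap (F₀ := F₀) b) (f := Φ.B (ratMap F₀ b x)) (g := 0)
      fun y => congrArg Subtype.val (h y)
    rw [this]; rfl
  funext i
  have := repr_ratMap b x i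
  rw [h1] at this
  exact Subtype.ext (by simpa using this.symm)

theorem exists_eq_sub_conj {δ : F} (hδ : δ ≠ Φ.ε * Φ.σ δ) {c : F} (hc : Φ.π c = 0) :
    ∃ β, c = β - Φ.ε * Φ.σ β := by
  have h1 := sub_ne_zero.2 hδ
  have h2 : Φ.σ (δ - Φ.ε * Φ.σ δ) = -Φ.ε * (δ - Φ.ε * Φ.σ δ) := by
    simp only [Φ.bsimp]; linear_combination -Φ.σ δ * Φ.eps_sq
  have h3 : Φ.σ c = -Φ.ε * c := by
    linear_combination Φ.ε * Φ.lam_trace hc - Φ.σ c * Φ.eps_sq
  refine ⟨c / (δ - Φ.ε * Φ.σ δ) * δ, ?_⟩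
  rw [map_mul, map_div₀, h2, h3, mul_div_mul_left _ _ (neg_ne_zero.2 Φ.eps_ne)]
  field_simp

variable [Finite F] (hθ : IsFrob θ₀ F₀)
include hθ

theorem alt_sub_isMaximalIn (hn : 5 ≤ Fintype.card ι) (hσ : ∀ a : F₀, Φ.σ a = a) (hε : Φ.ε = -1)
    (hB : ∀ x y, Φ.B (ratMap F₀ b x) (ratMap F₀ b y) ∈ F₀) (hQ : ∀ x, Φ.Q (ratMap F₀ b x) = 0)
    (hπ : ∀ c : F₀, Φ.π c = 0)
    (hΛ : ∀ c, Φ.π c = 0 → ∃ β a, c = β - Φ.ε * Φ.σ β + a * Φ.σ a) :
    Geo.IsMaximalIn Φ.EG (Nfrob (frob θ₀ b) ⊓ Φ.EG) := by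
  have := Module.Finite.of_basis b
  let Φ₀ := fmAlt (Φ.ratB b (σ₀ := RingHom.id F₀) hσ hB)
    (fun x => Subtype.ext (Φ.B_self (hQ x))) (Φ.ratB_nondeg b _ _)
  have hS : Sub Φ Φ₀ (frob θ₀ b) (ratMap F₀ b) :=
    ⟨hθ, frob_eq_iff_ratMap hθ.fix b, span_ratMap b, hσ, hε, fun _ _ => rfl,
      fun c x => ⟨fun _ => rfl, fun _ => by rw [hπ, hQ]⟩, fun c hc =>
        let ⟨β, a, h⟩ := hΛ c hc; ⟨β, a, 1, rfl, by simpa using h⟩⟩
  have hd : Φ₀.d + 4 ≤ finrank F₀ (ι → F₀) := by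
    rw [Module.finrank_fintype_fun_eq_card]; exact hn
  exact hS.isMaximalIn_of_le hd fun M hH hM hR => hS.le_Nfrob_of_tv hd hH hM hR
    (by rwa [finrank_eq_card_basis b]) (c₀ := 1) one_ne_zero rfl

theorem herm_sub_isMaximalIn (hn : 6 ≤ Fintype.card ι) {δ : F} (hδ : δ ∈ F₀) (hδ' : Φ.σ δ ≠ δ)
    (hε : Φ.ε = 1) (hB : ∀ x y, Φ.B (ratMap F₀ b x) (ratMap F₀ b y) ∈ F₀)
    (hQ : ∀ x, Φ.Q x = Φ.B x x) (hπ : ∀ c, Φ.π c = c + Φ.σ c) :
    Geo.IsMaximalIn Φ.EG (Nfrob (frob θ₀ b) ⊓ Φ.EG) := by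
  have := Module.Finite.of_basis b
  let σ₀ : F₀ →+* F₀ := Φ.σ.restrict F₀ F₀ fun a ha => by
    rw [← hθ.fix, hθ.comm, (hθ.fix a).2 ha]
  let Φ₀ := fmHerm (σ := σ₀)
    (fun h => hδ' (congrArg Subtype.val (RingHom.congr_fun h ⟨δ, hδ⟩)))
    (fun a => Subtype.ext (Φ.invol a)) (Φ.ratB b (fun _ => rfl) hB)
    (fun x y => Subtype.ext (by
      change Φ.B _ _ = Φ.σ (Φ.B _ _)
      rw [Φ.symm, hε, one_mul])) (Φ.ratB_nondeg b _ _)
  have hS : Sub Φ Φ₀ (frob θ₀ b) (ratMap F₀ b) :=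
    ⟨hθ, frob_eq_iff_ratMap hθ.fix b, span_ratMap b, fun _ => rfl, hε, fun _ _ => rfl,
      fun c x => by rw [hπ, hQ]; exact (Subtype.ext_iff (a1 := Φ₀.π c) (a2 := Φ₀.Q x)).symm, fun c hc =>
        let ⟨β, h⟩ := Φ.exists_eq_sub_conj (by rw [hε, one_mul]; exact hδ'.symm) hc
        ⟨β, 0, 0, map_zero _, by simpa using h⟩⟩
  have hd : Φ₀.d + 4 ≤ finrank F₀ (ι → F₀) := by
    rw [Module.finrank_fintype_fun_eq_card]; exact hn
  exact hS.isMaximalIn_of_le hd fun M hH hM hR => hS.le_Nfrob_of_tv hd hH hM hR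
    (by rw [finrank_eq_card_basis b]; omega) (c₀ := ⟨δ, hδ⟩ - σ₀ ⟨δ, hδ⟩)
    (fun h => hδ' (sub_eq_zero.1 (show δ - Φ.σ δ = 0 from Subtype.ext_iff.1 h)).symm)
    (by rw [← one_mul (σ₀ _)]; exact Φ₀.π_sub_conj ⟨δ, hδ⟩)

theorem quad_herm_isMaximalIn (hn : 7 ≤ Fintype.card ι) (h2 : (2 : F) ≠ 0)
    (hσ : ∀ a, Φ.σ a = θ₀ a) (hε : Φ.ε = 1)
    (hB : ∀ x y, Φ.B (ratMap F₀ b x) (ratMap F₀ b y) ∈ F₀)
    (hQ : ∀ x, Φ.Q x = Φ.B x x) (hπ : ∀ c, Φ.π c = c + Φ.σ c) :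
    Geo.IsMaximalIn Φ.EG (Nfrob (frob θ₀ b) ⊓ Φ.EG) := by
  have := Module.Finite.of_basis b
  have hσ' : ∀ a : F₀, Φ.σ a = RingHom.id F₀ a := fun a => by rw [hσ, (hθ.fix a).2 a.2]; rfl
  have h2' : (2 : F₀) ≠ 0 := fun h => h2 (congrArg Subtype.val h)
  let B₀ := Φ.ratB b hσ' hB
  have hs : ∀ x y, B₀ y x = B₀ x y := fun x y => Subtype.ext (by
    change Φ.B _ _ = _
    rw [Φ.symm, hε, one_mul]
    exact hσ' (B₀ x y))
  let Q₀ : QuadraticForm F₀ (ι → F₀) := LinearMap.BilinMap.toQuadraticMap ((2 : F₀)⁻¹ • B₀)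
  have hp : ∀ x y, QuadraticMap.polar Q₀ x y = B₀ x y := fun x y => by
    rw [LinearMap.BilinMap.polar_toQuadraticMap]
    simp only [LinearMap.smul_apply, hs x y, smul_eq_mul]
    field_simp
    ring
  let Φ₀ := fmQuad Q₀ fun x hx => Φ.ratB_nondeg b _ _ x fun y => (hp x y).symm.trans (hx y)
  obtain ⟨δ, hδ⟩ := hθ.ne
  have hS : Sub Φ Φ₀ (frob θ₀ b) (ratMap F₀ b) :=
    ⟨hθ, frob_eq_iff_ratMap hθ.fix b, span_ratMap b, hσ', hε,
      fun x y => congrArg Subtype.val (hp x y).symm, fun c x => by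
        rw [hπ, hQ, hσ']
        change ((c + c : F₀) : F) = B₀ x x ↔ c = 2⁻¹ * B₀ x x
        rw [Subtype.coe_inj, eq_inv_mul_iff_mul_eq₀ h2', two_mul], fun c hc =>
        let ⟨β, h⟩ := Φ.exists_eq_sub_conj (δ := δ)
          (by rw [hε, one_mul, hσ]; exact fun h => hδ ((hθ.fix δ).1 h.symm)) hc
        ⟨β, 0, 0, map_zero _, by simpa using h⟩⟩
  have hd : Φ₀.d + 4 ≤ finrank F₀ (ι → F₀) := by
    rw [Module.finrank_fintype_fun_eq_card]; exact hn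
  exact hS.isMaximalIn_of_le hd fun M hH hM hR => hS.le_Nfrob_of_sq hd hH hM hR
    (frob_frob (fun c => by rw [← hσ, ← hσ, Φ.invol]) b)

theorem quad_sub_isMaximalIn (hn : 8 ≤ Fintype.card ι) (hσ : ∀ a, Φ.σ a = a) (hε : Φ.ε = 1)
    (hQ : ∀ x, Φ.Q (ratMap F₀ b x) ∈ F₀) (hπ : ∀ c, Φ.π c = c) :
    Geo.IsMaximalIn Φ.EG (Nfrob (frob θ₀ b) ⊓ Φ.EG) := by
  have := Module.Finite.of_basis b
  have hB : ∀ x y, Φ.B (ratMap F₀ b x) (ratMap F₀ b y) ∈ F₀ := fun x y => by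
    have := hQ (x + y)
    rw [map_add, Φ.add, hπ] at this
    simpa using F₀.sub_mem this (F₀.add_mem (hQ x) (hQ y))
  let B₀ := Φ.ratB b (σ₀ := RingHom.id F₀) (fun a => hσ a) hB
  let Q₀ : QuadraticForm F₀ (ι → F₀) :=
    { toFun x := ⟨_, hQ x⟩
      toFun_smul a x := Subtype.ext (by simp [Φ.smul, hσ])
      exists_companion' := ⟨B₀, fun x y => Subtype.ext (by
        change Φ.Q _ = Φ.Q _ + Φ.Q _ + Φ.B _ _
        rw [map_add, Φ.add, hπ])⟩ }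
  have hp : ∀ x y, QuadraticMap.polar Q₀ x y = B₀ x y := fun x y => Subtype.ext (by
    change Φ.Q _ - Φ.Q _ - Φ.Q _ = Φ.B _ _
    rw [map_add, Φ.add, hπ]
    ring)
  let Φ₀ := fmQuad Q₀ fun x hx => Φ.ratB_nondeg b _ _ x fun y => (hp x y).symm.trans (hx y)
  have hS : Sub Φ Φ₀ (frob θ₀ b) (ratMap F₀ b) :=
    ⟨hθ, frob_eq_iff_ratMap hθ.fix b, span_ratMap b, fun a => hσ a, hε,
      fun x y => congrArg Subtype.val (hp x y).symm,
      fun c x => by rw [hπ]; exact (Subtype.ext_iff (a1 := Φ₀.π c) (a2 := Φ₀.Q x)).symm, fun c hc =>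
        ⟨0, 0, 0, map_zero _, by simpa [hπ] using hc⟩⟩
  have hd : Φ₀.d + 4 ≤ finrank F₀ (ι → F₀) := by
    rw [Module.finrank_fintype_fun_eq_card]; exact le_trans (by decide : 3 + 4 ≤ 8) hn
  exact hS.isMaximalIn_of_le hd fun M hH hM hR => hS.le_Nfrob_of_orth hd hH hM hR
    (by rwa [finrank_eq_card_basis b]) hσ hε

end Fm

section Matrices

variable [Fintype F]

omit [Fintype F] in
theorem subfield_isMaximalIn_of [DecidableEq ι] [Nonempty ι] (hθ : IsFrob θ₀ F₀) {P : GL ι F}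
    {K : Subgroup (GL ι F)} {Φ : Fm F (ι → F)} (hK : ∀ g, g ∈ K ↔ glEquiv ι F g ∈ Φ.EG)
    (h : Geo.IsMaximalIn Φ.EG (Nfrob (frob θ₀ (colBasis P)) ⊓ Φ.EG)) :
    Geo.IsMaximalIn K (Geo.subfieldSubgroup F₀ P ⊓ K) :=
  isMaximalIn_of_equiv (glEquiv ι F) hK (fun g => by
    rw [Subgroup.mem_inf, Subgroup.mem_inf, hK, mem_subfieldSubgroup_iff hθ.fix]) h

theorem subfield_isMaximalIn_sp {m : ℕ} (hm : 3 ≤ m) (F₀ : Subfield F) {r : ℕ} (hr : r.Prime)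
    (hcard : Fintype.card F = Nat.card F₀ ^ r) (P : GL (Fin m ⊕ Fin m) F) {ζ : F} (hζ : ζ ≠ 0)
    (hP : Geo.IsFormRationalStructure (sympForm m F) F₀ ζ P) :
    Geo.IsMaximalIn (spGL m F) (Geo.subfieldSubgroup F₀ P ⊓ spGL m F) := by
  obtain ⟨θ₀, hθ, -⟩ := exists_isFrob F₀ hr hcard
  have : Nonempty (Fin m ⊕ Fin m) := ⟨.inl ⟨0, by omega⟩⟩
  let Φ := (fmSpStd F m).scale ζ 1 hζ one_ne_zero rfl
  have hε : Φ.ε = -1 := mul_div_cancel_right₀ _ hζ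
  have hπ : ∀ c, Φ.π c = 0 := fun c => mul_zero _
  refine subfield_isMaximalIn_of hθ (Φ := Φ)
    (fun g => (mem_spGL_iff m g).trans (by rw [show Φ.EG = _ from Fm.EG_scale _ _ _]))
    (Φ.alt_sub_isMaximalIn _ hθ (by simp; omega) (fun _ => rfl) hε (fun x y => ?_)
      (fun _ => mul_zero _) (fun _ => hπ _) fun c hc => ?_)
  · rw [ratMap_colBasis, ratMap_colBasis]
    exact hP _ _ (fun i => (x i).2) fun i => (y i).2
  · by_cases h2 : (2 : F) = 0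
    · obtain ⟨a, ha⟩ := exists_sq_of_two_eq_zero h2 c
      exact ⟨0, a, by rw [map_zero, mul_zero, sub_zero, zero_add]; exact ha.symm⟩
    · obtain ⟨β, h⟩ := Φ.exists_eq_sub_conj (δ := 1)
        (fun h => h2 (by rw [hε, map_one] at h; linear_combination h)) hc
      exact ⟨β, 0, by simpa using h⟩

theorem subfield_isMaximalIn_su {n q : ℕ} (hF : Fintype.card F = q ^ 2) (hn : 6 ≤ n)
    (F₀ : Subfield F) {r : ℕ} (hr : r.Prime) (hro : Odd r)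
    (hcard : Fintype.card F = Nat.card F₀ ^ r) (P : GL (Fin n) F)
    (hP : Geo.IsFormRationalStructure (hermForm n F q) F₀ 1 P) :
    Geo.IsMaximalIn (GU n F q ⊓ Geo.specialLinear (Fin n) F)
      (Geo.subfieldSubgroup F₀ P ⊓ (GU n F q ⊓ Geo.specialLinear (Fin n) F)) := by
  obtain ⟨θ₀, hθ, hθ'⟩ := exists_isFrob F₀ hr hcard
  have := U.UF.of_card hF
  have : Nonempty (Fin n) := ⟨⟨0, by omega⟩⟩
  obtain ⟨δ, hδ, hδ'⟩ : ∃ δ ∈ F₀, U.conj F q δ ≠ δ := by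
    by_contra hc
    push Not at hc
    rcases hθ.max (RingHom.eqLocus (U.conj F q) (RingHom.id F)) hc with h | h
    · obtain ⟨c, hc'⟩ := hθ.ne
      have h1 : ∀ c, θ₀ (θ₀ c) = c := fun c => by
        have h2 := (hθ.fix _).2 (h (c + U.conj F q c) (by
          change U.conj F q _ = _; rw [map_add, U.conj_conj, add_comm]; rfl))
        have h3 := (hθ.fix _).2 (h (c * U.conj F q c) (by
          change U.conj F q _ = _; rw [map_mul, U.conj_conj, mul_comm]; rfl))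
        rw [map_add] at h2
        rw [map_mul] at h3
        have h4 : (θ₀ c - c) * (θ₀ c - U.conj F q c) = 0 := by
          linear_combination θ₀ c * h2 - h3
        rcases mul_eq_zero.1 h4 with h5 | h5 <;> rw [sub_eq_zero] at h5
        · rw [h5, h5]
        · rw [h5, hθ.comm, h5, U.conj_conj]
      obtain ⟨k, rfl⟩ := hro
      have h2 : ∀ k, c ^ Nat.card F₀ ^ (2 * k) = c := fun k => by
        induction k with
        | zero => simp
        | succ k ih => rw [mul_add, mul_one, pow_add, pow_mul c, ih, sq, pow_mul, ← hθ', ← hθ', h1]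
      have h3 := FiniteField.pow_card c
      rw [hcard, pow_succ, pow_mul c, h2, ← hθ'] at h3
      exact hc' ((hθ.fix c).1 h3)
    · exact U.conj_ne_id F q (RingHom.ext h)
  refine subfield_isMaximalIn_of hθ (mem_SU_iff n q)
    (Fm.herm_sub_isMaximalIn _ _ hθ (by simpa using hn) hδ hδ' rfl (fun x y => ?_)
      (fun _ => rfl) fun _ => rfl)
  rw [ratMap_colBasis, ratMap_colBasis]
  have := hP _ _ (fun i => (y i).2) fun i => (x i).2
  rwa [one_mul] at this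

theorem card_eq_of_sq {q : ℕ} (hF : Fintype.card F = q ^ 2)
    (hcard : Fintype.card F = Nat.card F₀ ^ 2) : Nat.card F₀ = q :=
  Nat.pow_left_injective two_ne_zero (hcard.symm.trans hF)

theorem orth_isMaximalIn_su {n q : ℕ} (hF : Fintype.card F = q ^ 2) (hn : 7 ≤ n) (hodd : Odd q)
    (F₀ : Subfield F) (hcard : Fintype.card F = Nat.card F₀ ^ 2) (P : GL (Fin n) F)
    (hP : Geo.IsFormRationalStructure (hermForm n F q) F₀ 1 P) :
    Geo.IsMaximalIn (GU n F q ⊓ Geo.specialLinear (Fin n) F)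
      (Geo.subfieldSubgroup F₀ P ⊓ (GU n F q ⊓ Geo.specialLinear (Fin n) F)) := by
  obtain ⟨θ₀, hθ, hθ'⟩ := exists_isFrob F₀ Nat.prime_two hcard
  have := U.UF.of_card hF
  have : Nonempty (Fin n) := ⟨⟨0, by omega⟩⟩
  refine subfield_isMaximalIn_of hθ (mem_SU_iff n q)
    (Fm.quad_herm_isMaximalIn _ _ hθ (by simpa using hn) (two_ne_zero_of_odd (hF ▸ hodd.pow))
      (fun a => by rw [hθ', card_eq_of_sq hF hcard]; rfl) rfl (fun x y => ?_)
      (fun _ => rfl) fun _ => rfl)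
  rw [ratMap_colBasis, ratMap_colBasis]
  have := hP _ _ (fun i => (y i).2) fun i => (x i).2
  rwa [one_mul] at this

theorem sp_isMaximalIn_su {n q : ℕ} (hF : Fintype.card F = q ^ 2) (hn : 5 ≤ n)
    (F₀ : Subfield F) (hcard : Fintype.card F = Nat.card F₀ ^ 2) {ζ : F} (hζ0 : ζ ≠ 0)
    (hζ : ζ + ζ ^ q = 0) (P : GL (Fin n) F)
    (hP : Geo.IsFormRationalStructure (hermForm n F q) F₀ ζ P)
    (halt : ∀ u : Fin n → F, (∀ i, u i ∈ F₀) → hermForm n F q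
      (Matrix.mulVec (P : Matrix (Fin n) (Fin n) F) u)
      (Matrix.mulVec (P : Matrix (Fin n) (Fin n) F) u) = 0) :
    Geo.IsMaximalIn (GU n F q ⊓ Geo.specialLinear (Fin n) F)
      (Geo.subfieldSubgroup F₀ P ⊓ (GU n F q ⊓ Geo.specialLinear (Fin n) F)) := by
  obtain ⟨θ₀, hθ, hθ'⟩ := exists_isFrob F₀ Nat.prime_two hcard
  have := U.UF.of_card hF
  have : Nonempty (Fin n) := ⟨⟨0, by omega⟩⟩
  have h1 : (fmUStd F n q).σ ζ = -ζ := eq_neg_of_add_eq_zero_right hζ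
  have h2 : ∀ a : F₀, (fmUStd F n q).σ a = a := fun a => by
    have := (hθ.fix a).2 a.2
    rwa [hθ', card_eq_of_sq hF hcard] at this
  let Φ := (fmUStd F n q).scale ζ 1 hζ0 one_ne_zero (by rw [h1]; ring)
  have hε : Φ.ε = -1 := by
    change 1 * ζ / (fmUStd F n q).σ ζ = _
    rw [h1]; field_simp
  refine subfield_isMaximalIn_of hθ (Φ := Φ)
    (fun g => (mem_SU_iff n q g).trans (by rw [show Φ.EG = _ from Fm.EG_scale _ _ _]))
    (Φ.alt_sub_isMaximalIn _ hθ (by simpa using hn) h2 hε (fun x y => ?_)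
      (fun x => ?_) (fun c => ?_) fun c hc => ?_)
  · rw [ratMap_colBasis, ratMap_colBasis]
    exact hP _ _ (fun i => (y i).2) fun i => (x i).2
  · rw [ratMap_colBasis]
    exact (one_mul _).trans (halt _ fun i => (x i).2)
  · change 1 * (ζ⁻¹ * c + (fmUStd F n q).σ (ζ⁻¹ * c)) = 0
    rw [map_mul, map_inv₀, h1, h2]
    ring
  · obtain ⟨x, hx⟩ := U.exists_conj_ne F q
    obtain ⟨β, h⟩ := Φ.exists_eq_sub_conj (δ := ζ * x) (fun h => hx (by
      change _ = _ * (fmUStd F n q).σ _ at h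
      rw [hε, map_mul, h1] at h
      exact (mul_left_cancel₀ hζ0 (h.trans (by rw [neg_one_mul, neg_mul, neg_neg]; rfl))).symm)) hc
    exact ⟨β, 0, by simpa using h⟩

theorem subfield_isMaximalIn_omega [DecidableEq ι] (hn : 8 ≤ Fintype.card ι) {Q : (ι → F) → F}
    (hQ : Geo.IsNondegenerateQuadraticForm Q) (F₀ : Subfield F) {r : ℕ} (hr : r.Prime)
    (hcard : Fintype.card F = Nat.card F₀ ^ r) (P : GL ι F) {ζ : F} (hζ : ζ ≠ 0)
    (hP : Geo.IsQuadFormRationalStructure (fun v => ζ * Q v) F₀ P) :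
    Geo.IsMaximalIn (Geo.omegaGL Q) (Geo.subfieldSubgroup F₀ P ⊓ Geo.omegaGL Q) := by
  obtain ⟨θ₀, hθ, -⟩ := exists_isFrob F₀ hr hcard
  have : Nonempty ι := Fintype.card_pos_iff.1 (by omega)
  let Φ := (fmO hQ).scale ζ ζ hζ hζ rfl
  refine subfield_isMaximalIn_of hθ (Φ := Φ)
    (fun g => (mem_omegaGL_iff hQ (by omega) g).trans (by rw [show Φ.EG = _ from Fm.EG_scale _ _ _]))
    (Φ.quad_sub_isMaximalIn _ hθ hn (fun _ => rfl) (mul_div_cancel_right₀ _ hζ) (fun x => ?_)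
      fun c => mul_inv_cancel_left₀ hζ c)
  rw [ratMap_colBasis]
  exact hP _ fun i => (x i).2

end Matrices

end Cfsg.Agent.Class.Max
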