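import Mathlib
import Cfsg.Agent.Class.Max.C4Pt
import Cfsg.Agent.Class.Max.C5Inst
import Cfsg.Agent.Class.Asch.FormTens

/-!
Class `C₄` for unitary groups and for tensor products with a large symplectic factor.
-/

set_option autoImplicit false
set_option linter.unusedSectionVars false

namespace Cfsg.Agent.Class.Max

open Module

section Abstract

variable {F U W V : Type*} [Field F] [AddCommGroup U] [Module F U] [AddCommGroup W]
  [Module F W] [AddCommGroup V] [Module F V] {T : Tn F U W V} {Φ₁ : Fm F U} {Φ₂ : Fm F W}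
  {Φ : Fm F V} [FiniteDimensional F U] [FiniteDimensional F W] [FiniteDimensional F V]

theorem Tn.finrank_eq (T : Tn F U W V) : finrank F V = finrank F U * finrank F W := by
  rw [← T.e.finrank_eq, Module.finrank_tensorProduct]

namespace TF

variable (hT : TF T Φ₁ Φ₂ Φ)
include hT

theorem isMaximalIn_of_key (hd : Φ.d ≤ 3) (hd₂ : Φ₂.d + 2 ≤ finrank F W) (h2 : 2 ≤ finrank F U)
    (key : ∀ M, T.NG ⊓ Φ.EG ≤ M → M ≤ Φ.EG → ¬ Φ.EG ≤ M → M ≤ T.NG) :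
    Geo.IsMaximalIn Φ.EG (T.NG ⊓ Φ.EG) := by
  refine isMaximalIn_of inf_le_right ?_ fun M h1 h3 g hg hg' => ?_
  · obtain ⟨g, h1, h3⟩ := hT.exists_notMem_NG (by
      have := Φ₂.d_pos
      rw [T.finrank_eq]
      nlinarith) hd₂ h2
    exact ⟨g, h1, fun h => h3 h.1⟩
  · by_contra hc
    exact hg' ⟨key M h1 h3 hc hg, h3 hg⟩

variable [Finite F]

/-- The tensor product of two unitary spaces. -/
theorem herm_isMaximalIn {δ : F} (hδ : Φ.σ δ ≠ δ) (hε₁ : Φ₁.ε = 1) (hε₂ : Φ₂.ε = 1) (hd : Φ.d ≤ 3)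
    (hd₁ : Φ₁.d = 2) (hd₂ : Φ₂.d = 2) (h2 : 2 ≤ finrank F U) (h12 : finrank F U < finrank F W)
    (h4 : 4 ≤ finrank F W) (hq : 3 ≤ finrank F U ∨ ∃ c, c ≠ 0 ∧ c ≠ 1 ∧ Φ.σ c = c) :
    Geo.IsMaximalIn Φ.EG (T.NG ⊓ Φ.EG) := by
  have c0 : δ - Φ.σ δ ≠ 0 := sub_ne_zero.2 hδ.symm
  have e₁ : Φ₁.π (δ - Φ.σ δ) = 0 := by simpa [hε₁, hT.σ₁] using Φ₁.π_sub_conj δ
  have e₂ : Φ₂.π (δ - Φ.σ δ) = 0 := by simpa [hε₂, hT.σ₂] using Φ₂.π_sub_conj δ
  refine hT.isMaximalIn_of_key hd (by omega) h2 fun M hH hG hn => hT.le_NG_pt hH hG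
    (fun w hw hw0 => hT.loc_herm hH hG hn hδ (by omega) (fun c hc => Φ.exists_eq_sub_conj
      (δ := δ) (by simpa [hT.ε, hε₁, hε₂] using hδ.symm) hc) ⟨_, c0, e₂⟩ c0 e₁
      (hq.imp_right fun ⟨c, h0, h1, hc⟩ => ⟨c * (δ - Φ.σ δ), mul_ne_zero h0 c0,
        fun h => h1 (mul_right_cancel₀ c0 (h.trans (one_mul _).symm)), ?_⟩) (by omega) hw hw0)
    (by omega) e₂ c0 (Or.inl h12)
  simpa [hε₁, hT.σ₁, hc, mul_sub] using Φ₁.π_sub_conj (c * δ)

/-- The tensor product of two symplectic spaces. -/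
theorem sp_sp_isMaximalIn (h₁ : Φ₁.IsSp) (h₂ : Φ₂.IsSp) (hO : Φ.IsO) (h2 : 2 ≤ finrank F U)
    (h12 : finrank F U < finrank F W) (h5 : 5 ≤ finrank F W)
    (hq : 3 ≤ finrank F U ∨ ∃ c : F, c ≠ 0 ∧ c ≠ 1) : Geo.IsMaximalIn Φ.EG (T.NG ⊓ Φ.EG) :=
  hT.isMaximalIn_of_key hO.d.le (by rw [h₂.d]; omega) h2 fun M hH hG hn => hT.le_NG_pt hH hG
    (fun w _ hw0 => hT.loc_sp_sp hH hG hn h₁ h₂ (fun c hc => (hO.π c).symm.trans hc) h5 hq hw0)
    (by rw [h₂.d]; omega) (h₂.π 1) one_ne_zero (Or.inl h12)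

/-- The tensor product of an orthogonal space and a symplectic space of dimension at least four. -/
theorem o_sp_isMaximalIn (h₁ : Φ₁.IsO) (h₂ : Φ₂.IsSp) (hS : Φ.IsSp) (h2 : (2 : F) ≠ 0)
    (hE : Φ.Iso ≤ Φ.EG) (hW : 3 ≤ finrank F W) (hU : 3 ≤ finrank F U)
    (hq : ¬ (Nat.card F = 3 ∧ finrank F U = 3)) : Geo.IsMaximalIn Φ.EG (T.NG ⊓ Φ.EG) :=
  hT.isMaximalIn_of_key (by rw [hS.d]; omega) (by rw [h₂.d]; omega) (by omega)
    fun M hH hG hn => hT.le_NG_pt hH hG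
      (fun w _ hw0 => hT.loc_o_sp hH hG hn h₁ h₂ hS.π h2 hE hW hU hq hw0)
      (by rw [h₂.d]; omega) (h₂.π 1) one_ne_zero (Or.inr ⟨h₁, h2, hE⟩)

end TF

end Abstract

section Matrices

open Cfsg.Agent.Class.Asch

variable {ι κ : Type} [Fintype ι] [DecidableEq ι] [Fintype κ] [DecidableEq κ] {F : Type*} [Field F]
  {k l : ℕ} {e : ι ≃ Fin k × Fin l} {P : GL ι F} {f : (ι → F) → (ι → F) → F}
  {f₁ : (Fin k → F) → (Fin k → F) → F} {f₂ : (Fin l → F) → (Fin l → F) → F}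

theorem exists_tm_eq {σ : F ≃+* F} (h₁ : IsSesq σ f₁) (h₂ : IsSesq σ f₂)
    (h : Geo.IsTensorFormStructure σ f f₁ f₂ e P) : ∃ c : F, c ≠ 0 ∧ ∀ x y x' y',
      f ((tnOf e P).tm x y) ((tnOf e P).tm x' y') = c * f₁ x x' * f₂ y y' := by
  obtain ⟨c, c0, h⟩ := h
  exact ⟨c, c0, fun x y x' y' => by
    rw [tnOf_tm, tnOf_tm, h, frm_kron_tens, ← h₁.eq_frm, ← h₂.eq_frm, mul_assoc]⟩

theorem nondeg_smul {g : (κ → F) → (κ → F) → F} (hg : Geo.IsNondegenerateForm g) {c : F}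
    (c0 : c ≠ 0) : Geo.IsNondegenerateForm fun x y => c * g x y := fun v hv =>
  ⟨let ⟨x, hx⟩ := (hg v hv).1; ⟨x, mul_ne_zero c0 hx⟩,
    let ⟨x, hx⟩ := (hg v hv).2; ⟨x, mul_ne_zero c0 hx⟩⟩

theorem bilinear_smul {g : (κ → F) → (κ → F) → F} (hg : Geo.IsBilinearForm g) (c : F) :
    Geo.IsBilinearForm fun x y => c * g x y :=
  ⟨fun x y v => by rw [hg.add_left, mul_add], fun a x v => by rw [hg.smul_left, mul_left_comm],
    fun x y v => by rw [hg.add_right, mul_add], fun a x v => by rw [hg.smul_right, mul_left_comm]⟩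

theorem symplectic_smul {g : (κ → F) → (κ → F) → F} (hg : Geo.IsSymplecticForm g) {c : F}
    (c0 : c ≠ 0) : Geo.IsSymplecticForm fun x y => c * g x y :=
  ⟨bilinear_smul hg.bilinear c, fun v w => by rw [hg.skew, mul_neg],
    fun v => by rw [hg.alternating, mul_zero], nondeg_smul hg.nondegenerate c0⟩

theorem symmetric_smul {g : (κ → F) → (κ → F) → F} (hg : Geo.IsSymmetricForm g) {c : F}
    (c0 : c ≠ 0) : Geo.IsSymmetricForm fun x y => c * g x y :=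
  ⟨bilinear_smul hg.bilinear c, fun v w => by rw [hg.symm], nondeg_smul hg.nondegenerate c0⟩

theorem unitary_smul {σ : F ≃+* F} {g : (κ → F) → (κ → F) → F} (hg : Geo.IsUnitaryForm σ g) {c : F}
    (c0 : c ≠ 0) (hc : σ c = c) : Geo.IsUnitaryForm σ fun x y => c * g x y :=
  ⟨hg.ne_refl, hg.involutive, fun x y v => by rw [hg.add_left, mul_add],
    fun a x v => by rw [hg.smul_left, mul_left_comm], fun v w => by rw [hg.herm, map_mul, hc],
    nondeg_smul hg.nondegenerate c0⟩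

theorem isSp_fmSp {g : (κ → F) → (κ → F) → F} (hg : Geo.IsSymplecticForm g) : (fmSp hg).IsSp :=
  ⟨fun _ => rfl, rfl, fun _ => rfl, rfl⟩

theorem tv_fmU [Finite F] {σ : F ≃+* F} {g : (κ → F) → (κ → F) → F} (hg : Geo.IsUnitaryForm σ g) :
    (fmU hg).TV := fun c h => (congrArg (c + ·) (one_mul _)).symm.trans h

/-- The formed space of a symmetric form in odd characteristic. -/
noncomputable def fmSym [Finite F] (h2 : (2 : F) ≠ 0) {g : (κ → F) → (κ → F) → F}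
    (hg : Geo.IsSymmetricForm g) : Fm F (κ → F) :=
  fmO (Q := fun x => 2⁻¹ * g x x) (by
    have e : QuadraticMap.polar (fun x => 2⁻¹ * g x x) = g := funext₂ fun x y => by
      simp only [QuadraticMap.polar, hg.bilinear.add_left, hg.bilinear.add_right, hg.symm y x]
      field_simp
      ring
    exact ⟨fun c v => by rw [hg.bilinear.smul_left, hg.bilinear.smul_right]; ring,
      e.symm ▸ hg.bilinear, e.symm ▸ hg.nondegenerate⟩)

theorem isO_fmSym [Finite F] (h2 : (2 : F) ≠ 0) {g : (κ → F) → (κ → F) → F}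
    (hg : Geo.IsSymmetricForm g) : (fmSym h2 hg).IsO := isO_fmO _

theorem fmSym_B [Finite F] (h2 : (2 : F) ≠ 0) {g : (κ → F) → (κ → F) → F}
    (hg : Geo.IsSymmetricForm g) (x y : κ → F) : (fmSym h2 hg).B x y = g x y := by
  rw [fmSym, fmO_B]
  simp only [QuadraticMap.polar, hg.bilinear.add_left, hg.bilinear.add_right, hg.symm y x]
  field_simp
  ring

theorem exists_ne_zero_fin (hk : 0 < k) : ∃ x : Fin k → F, x ≠ 0 :=
  finrank_pos_iff_exists_ne_zero.1 (by rwa [Module.finrank_fin_fun])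

theorem isMaximalIn_of_NG {Φ : Fm F (ι → F)} {G : Subgroup (GL ι F)}
    (hG : ∀ g, g ∈ G ↔ glEquiv ι F g ∈ Φ.EG)
    (h : Geo.IsMaximalIn Φ.EG ((tnOf e P).NG ⊓ Φ.EG)) :
    Geo.IsMaximalIn G (Geo.tensorProductSubgroup k l e P ⊓ G) :=
  isMaximalIn_of_equiv (glEquiv ι F) hG (fun g => by
    rw [Subgroup.mem_inf, Subgroup.mem_inf, hG, mem_tensorProductSubgroup_iff_NG]) h

variable [Fintype F]

theorem exists_ne_zero_ne_one (h : Fintype.card F ≠ 2) : ∃ c : F, c ≠ 0 ∧ c ≠ 1 := by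
  classical
  by_contra hc
  push Not at hc
  have : (Finset.univ : Finset F) = {0, 1} := Finset.ext fun c => by
    by_cases h0 : c = 0 <;> simp [h0, hc c]
  exact h (by rw [← Finset.card_univ, this, Finset.card_pair zero_ne_one])

theorem su_tensor_isMaximalIn {n q : ℕ} (hF : Fintype.card F = q ^ 2) (h2 : 2 ≤ k) (h12 : k < l)
    (h4 : 4 ≤ l) (hex : ¬ (k = 2 ∧ q = 2)) (e : Fin n ≃ Fin k × Fin l) (P : GL (Fin n) F)
    (hf₁ : Geo.IsUnitaryFormPow q f₁) (hf₂ : Geo.IsUnitaryFormPow q f₂)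
    (hT : Geo.IsTensorFormStructure (fun x : F => x ^ q) (hermForm n F q) f₁ f₂ e P) :
    Geo.IsMaximalIn (GU n F q ⊓ Geo.specialLinear (Fin n) F)
      (Geo.tensorProductSubgroup k l e P ⊓ (GU n F q ⊓ Geo.specialLinear (Fin n) F)) := by
  have : U.UF F q := U.UF.of_card hF
  have h₁ := isUnitaryForm_of_pow hf₁
  have h₂ := isUnitaryForm_of_pow hf₂
  obtain ⟨c, c0, h⟩ := exists_tm_eq (isSesq_of_unitary h₁) (isSesq_of_unitary h₂) hT
  obtain ⟨x, hx⟩ := exists_ne_zero_fin (F := F) (k := k) (by omega)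
  obtain ⟨y, hy⟩ := exists_ne_zero_fin (F := F) (k := l) (by omega)
  have hc : conjEquiv F q c = c := by
    obtain ⟨x', h3⟩ := (h₁.nondegenerate x hx).1
    obtain ⟨y', h4⟩ := (h₂.nondegenerate y hy).1
    have := (isUnitaryForm_hermForm n q).herm ((tnOf e P).tm x' y') ((tnOf e P).tm x y)
    rw [h, h, map_mul, map_mul, ← h₁.herm, ← h₂.herm] at this
    exact (mul_right_cancel₀ h3 (mul_right_cancel₀ h4 this)).symm
  have hT' : TF (tnOf e P) (fmU (unitary_smul h₁ c0 hc)) (fmU h₂) (fmUStd F n q) :=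
    ⟨fun _ => rfl, fun _ => rfl, (one_mul 1).symm, fun u w u' w' => h _ _ _ _,
      ⟨1, fun u w => (h _ _ _ _).trans (one_mul _).symm⟩, tv_fmU _, tv_fmU _, ⟨x, hx⟩, y, hy⟩
  obtain ⟨δ, hδ⟩ := U.exists_conj_ne F q
  refine isMaximalIn_of_NG (mem_SU_iff n q) (hT'.herm_isMaximalIn hδ rfl rfl
    (Nat.le_succ 2) rfl rfl (by simpa) (by simpa) (by simpa) ?_)
  rw [Module.finrank_fin_fun]
  by_cases h3 : 3 ≤ k
  · exact Or.inl h3
  refine Or.inr (by_contra fun hc => ?_)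
  push Not at hc
  have : Subsingleton {x : F // x ≠ 0 ∧ U.conj F q x = x} := ⟨fun a b => Subtype.ext
    ((by_contra fun h => hc a a.2.1 h a.2.2).trans (by_contra fun h => hc b b.2.1 h b.2.2).symm)⟩
  have h5 := Finite.card_le_one_iff_subsingleton.2 this
  have := U.two_le_q F q
  rw [U.card_fixed_ne_zero] at h5
  omega

theorem o_sp_sp_isMaximalIn {Q : (ι → F) → F} (hQ : Geo.IsNondegenerateQuadraticForm Q)
    (h0 : 0 < k) (h12 : k < l) (h5 : 5 ≤ l) (hex : ¬ (Fintype.card F = 2 ∧ k = 2))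
    (hf₁ : Geo.IsSymplecticForm f₁) (hf₂ : Geo.IsSymplecticForm f₂)
    (hT : Geo.IsTensorFormStructure id (QuadraticMap.polar Q) f₁ f₂ e P)
    (hp : ∀ x y, Q ((P : Matrix ι ι F).mulVec (tens x y ∘ e)) = 0) :
    Geo.IsMaximalIn (Geo.omegaGL Q) (Geo.tensorProductSubgroup k l e P ⊓ Geo.omegaGL Q) := by
  obtain ⟨c, c0, h⟩ := exists_tm_eq (isSesq_of_bilinear hf₁.bilinear)
    (isSesq_of_bilinear hf₂.bilinear) hT
  have h₁ := isSp_fmSp (symplectic_smul hf₁ c0)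
  have hT' : TF (tnOf e P) (fmSp (symplectic_smul hf₁ c0)) (fmSp hf₂) (fmO hQ) :=
    ⟨fun _ => rfl, fun _ => rfl, show (1 : F) = -1 * -1 by ring, h,
      ⟨0, fun u w => by rw [fmO_Q, tnOf_tm, hp, zero_mul]⟩, h₁.tv, (isSp_fmSp _).tv,
      exists_ne_zero_fin h0, exists_ne_zero_fin (by omega)⟩
  have h2 : 2 ≤ k := by
    obtain ⟨x, y, hxy⟩ := hT'.exists_B_one
    by_contra hc
    obtain ⟨v, hv⟩ := (finrank_le_one_iff (K := F) (V := Fin k → F)).1 (by simp; omega)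
    obtain ⟨a, rfl⟩ := hv x
    obtain ⟨b, rfl⟩ := hv y
    simp [h₁.B_self] at hxy
  have := Fintype.card_congr e
  refine isMaximalIn_of_NG (mem_omegaGL_iff hQ (by simp at this; nlinarith))
    (hT'.sp_sp_isMaximalIn h₁ (isSp_fmSp _) (isO_fmO hQ) (by simpa) (by simpa) (by simpa) ?_)
  rw [Module.finrank_fin_fun]
  by_cases h3 : 3 ≤ k
  · exact Or.inl h3
  · exact Or.inr (exists_ne_zero_ne_one fun h => hex ⟨h, by omega⟩)

theorem tf_sp_o {m : ℕ} (h2 : (2 : F) ≠ 0) (h0 : 0 < k) (h0' : 0 < l)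
    {e : (Fin m ⊕ Fin m) ≃ Fin k × Fin l} {P : GL (Fin m ⊕ Fin m) F}
    (hf₁ : Geo.IsSymplecticForm f₁) (hf₂ : Geo.IsSymmetricForm f₂)
    (hT : Geo.IsTensorFormStructure id (sympForm m F) f₁ f₂ e P) :
    ∃ Φ₁ : Fm F (Fin k → F), Φ₁.IsSp ∧ TF (tnOf e P) Φ₁ (fmSym h2 hf₂) (fmSpStd F m) := by
  obtain ⟨c, c0, h⟩ := exists_tm_eq (isSesq_of_bilinear hf₁.bilinear)
    (isSesq_of_bilinear hf₂.bilinear) hT
  have h₁ := isSp_fmSp (symplectic_smul hf₁ c0)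
  exact ⟨_, h₁, fun _ => rfl, fun _ => rfl, (mul_one _).symm, fun u w u' w' => by
    rw [fmSym_B]; exact h _ _ _ _, ⟨0, fun u w => (zero_mul _).symm⟩, h₁.tv,
    (isO_fmSym h2 hf₂).tv h2, exists_ne_zero_fin h0, exists_ne_zero_fin h0'⟩

theorem sp_sp_o_isMaximalIn {m : ℕ} (hodd : Odd (Fintype.card F)) (h3 : 3 ≤ k) (h3' : 3 ≤ l)
    (hex : ¬ (Fintype.card F = 3 ∧ l = 3)) (e : (Fin m ⊕ Fin m) ≃ Fin k × Fin l)
    (P : GL (Fin m ⊕ Fin m) F) (hf₁ : Geo.IsSymplecticForm f₁) (hf₂ : Geo.IsSymmetricForm f₂)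
    (hT : Geo.IsTensorFormStructure id (sympForm m F) f₁ f₂ e P) :
    Geo.IsMaximalIn (spGL m F) (Geo.tensorProductSubgroup k l e P ⊓ spGL m F) := by
  have h2 := two_ne_zero_of_odd hodd
  obtain ⟨Φ₁, h₁, hT'⟩ := tf_sp_o h2 (by omega) (by omega) hf₁ hf₂ hT
  refine isMaximalIn_of_NG (mem_spGL_iff m) ?_
  rw [← Tn.swap_NG]
  exact hT'.swap.o_sp_isMaximalIn (isO_fmSym h2 hf₂) h₁ (isSp_fmSp _) h2 (EG_fmSpStd m).ge
    (by simpa) (by simpa) (by simpa using hex)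

end Matrices

end Cfsg.Agent.Class.Max
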