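import Mathlib
import Cfsg.Agent.Class.Max.Quad

/-!
Pairs of quadratic elements: the counting argument for full root subgroups.
-/

set_option autoImplicit false
set_option linter.unusedSectionVars false

namespace Cfsg.Agent.Class.Max

open Module

variable {F V : Type*} [Field F] [AddCommGroup V] [Module F V]

namespace Fm

variable {Φ : Fm F V}

/-- The data of the quadratic argument, for full root subgroups. -/
structure QE (Φ : Fm F V) (M H : Subgroup (V ≃ₗ[F] V)) (θ : V →ₗ[F] V) : Prop where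
  le : H ≤ M
  iso : M ≤ Φ.Iso
  sq : ∀ v, θ (θ v) = 0
  skew : Φ.Skew θ
  has : ∀ c, Φ.σ c = c → HasU H (c • θ)
  stab : ∀ g ∈ M, (∀ v, g (θ v) ∈ LinearMap.range θ) → g ∈ H
  conj : ∀ g ∈ M, (∀ c, Φ.σ c = c → HasU H (c • cjL g θ)) → g ∈ H

variable [FiniteDimensional F V] {M H : Subgroup (V ≃ₗ[F] V)} {θ : V →ₗ[F] V}

theorem QE.sq' (D : QE Φ M H θ) (g : V ≃ₗ[F] V) (v : V) : cjL g θ (cjL g θ v) = 0 := by
  simp [cjL_apply, D.sq]

theorem QE.mem_of_map_eq (D : QE Φ M H θ) {g : V ≃ₗ[F] V} (hg : g ∈ M)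
    (h : LinearMap.range θ ≤ LinearMap.range (cjL g θ)) : g ∈ H := by
  have := Submodule.eq_of_le_of_finrank_eq h (by rw [range_cjL, LinearEquiv.finrank_map_eq])
  exact D.stab g hg fun v => this ▸ ⟨g v, cjL_app g θ v⟩

theorem QE.mem_of_smul (D : QE Φ M H θ) {g : V ≃ₗ[F] V} (hg : g ∈ M) {c d : F} (c0 : c ≠ 0)
    (h : ∀ v, c • cjL g θ v = d • θ v) : g ∈ H :=
  D.stab g hg fun v => ⟨(c⁻¹ * d) • g v, by
    rw [map_smul, mul_smul, ← h, cjL_app, inv_smul_smul₀ c0]⟩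

theorem QE.hasU (D : QE Φ M H θ) {g : V ≃ₗ[F] V} (hg : g ∈ M) {c : F} (hc : Φ.σ c = c) :
    HasU M (c • cjL g θ) :=
  let ⟨z, hz, e⟩ := D.has c hc
  HasU.cjL ⟨z, D.le hz, e⟩ hg

theorem QE.fact (D : QE Φ M H θ) {j : ℕ} (h : QMax M H θ j) {a b : V ≃ₗ[F] V} (ha : a ∈ M)
    (hb : b ∈ M) (hab : b⁻¹ * a ∉ H) {J : Submodule F V} (hJ : finrank F J = j)
    (h1 : J ≤ LinearMap.range (cjL a θ)) (h2 : J ≤ LinearMap.range (cjL b θ)) {v : V}
    (hv : v ∈ LinearMap.range (cjL b θ)) (h3 : cjL a θ v ∈ J) : v ∈ J := by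
  by_contra hc
  refine hab (D.conj _ (M.mul_mem (M.inv_mem hb) ha) fun c hc' => ?_)
  obtain ⟨t, ht, e'⟩ := D.hasU ha hc'
  refine ⟨_, h.conj_mem hb ht hJ h2 (fun x hx => by
    obtain ⟨y, rfl⟩ := h1 hx
    simp [e', D.sq']) hv hc (by simpa [e'] using J.smul_mem c h3), fun x => ?_⟩
  simp [mul_app, e', cjL_apply]

theorem QE.mem_of_perp (D : QE Φ M H θ) {g : V ≃ₗ[F] V} (hg : g ∈ M)
    (h : ∀ v, θ (g (θ v)) = 0) : g ∈ H := by
  simpa using H.inv_mem (D.conj _ (M.inv_mem hg) fun c hc => by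
    obtain ⟨z, hz, e⟩ := D.has c hc
    exact ⟨_, D.stab _ (M.mul_mem (M.inv_mem hg) (M.mul_mem (D.le hz) hg)) fun v =>
      ⟨v, by simp [mul_app, e, h]⟩, fun v => by simp [mul_app, e, cjL_apply]⟩)

/-- The counting argument. -/
theorem QE.exists_exc [Finite F] (D : QE Φ M H θ) (h3 : ∃ l, Φ.σ l = l ∧ l ≠ 0 ∧ l ≠ 1)
    {g : V ≃ₗ[F] V} (hg : g ∈ M) (hg' : g ∉ H)
    (h : QMax M H θ (finrank F ↥(LinearMap.range θ ⊓ LinearMap.range (cjL g θ)))) :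
    ∃ γ ∈ H, (∀ v, θ v = 0 → cjL g θ v = 0 → γ v = v) ∧
      (∀ v, γ v - v ∈ LinearMap.range θ ⊔ LinearMap.range (cjL g θ)) ∧
      (((∀ v, γ (θ v) ∈ LinearMap.range θ) ∧ (∀ c, Φ.σ c = c → ¬ ∀ v, γ v = v + c • θ v) ∧
          ∀ x y, Φ.B (γ (θ x)) y = - Φ.B x (γ (θ y))) ∨
        ((¬ ∀ v, γ (θ v) ∈ LinearMap.range θ) ∧ ∀ v, θ (cjL γ θ (cjL g θ v)) +
          cjL γ θ (θ (cjL g θ v)) = cjL g θ (θ (cjL γ θ v) + cjL γ θ (θ v)))) := by
  have : Finite V := Module.finite_of_finite F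
  have : Finite (V ≃ₗ[F] V) := DFunLike.finite _
  set θ' := cjL g θ with hθ'
  set J := LinearMap.range θ ⊓ LinearMap.range θ' with hJ
  have k1 := D.skew
  have k2 : Φ.Skew θ' := k1.cjL (D.iso hg)
  have q1 := D.sq
  have q2 : ∀ v, θ' (θ' v) = 0 := D.sq' g
  let S : Set (V ≃ₗ[F] V) :=
    {x | ∃ c, Φ.σ c = c ∧ ((∀ v, x v = v + c • θ v) ∨ ∀ v, x v = v + c • θ' v)}
  let Γ := Subgroup.closure S
  have hΓM : Γ ≤ M := (Subgroup.closure_le _).2 (by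
    rintro x ⟨c, hc, e | e⟩
    · obtain ⟨y, hy, e'⟩ := D.has c hc
      rw [show x = y from LinearEquiv.ext fun v => by rw [e, e']; rfl]
      exact D.le hy
    · obtain ⟨z, hz, e₁⟩ := D.has c hc
      obtain ⟨y, hy, e'⟩ := HasU.cjL (θ := θ) (c := c) ⟨z, D.le hz, e₁⟩ hg
      rw [show x = y from LinearEquiv.ext fun v => by rw [e, e']; rfl]
      exact hy)
  have hΓ : ∀ γ ∈ Γ, (∀ v, θ v = 0 → θ' v = 0 → γ v = v) ∧
      (∀ v, γ v - v ∈ LinearMap.range θ ⊔ LinearMap.range θ') ∧ Φ.QA θ θ' γ := fun γ hγ => by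
    have step : ∀ x ∈ S, ∀ y : V ≃ₗ[F] V, ((∀ v, θ v = 0 → θ' v = 0 → y v = v) ∧
        (∀ v, y v - v ∈ LinearMap.range θ ⊔ LinearMap.range θ') ∧ Φ.QA θ θ' y) →
        ((∀ v, θ v = 0 → θ' v = 0 → (x * y) v = v) ∧
        (∀ v, (x * y) v - v ∈ LinearMap.range θ ⊔ LinearMap.range θ') ∧ Φ.QA θ θ' ⇑(x * y)) := by
      rintro x ⟨c, hc, e | e⟩ y ⟨a1, a2, a3⟩
      · refine ⟨fun v h1 h2 => by simp [mul_app, e, a1 v h1 h2, h1], fun v => ?_, ?_⟩
        · rw [mul_app, e, add_sub_right_comm]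
          exact add_mem (a2 v) (Submodule.mem_sup_left (Submodule.smul_mem _ _ ⟨_, rfl⟩))
        · rw [show ⇑(x * y) = fun v => y v + c • θ (y v) from funext fun v => e _]
          exact a3.left q1 hc
      · refine ⟨fun v h1 h2 => by simp [mul_app, e, a1 v h1 h2, h2], fun v => ?_, ?_⟩
        · rw [mul_app, e, add_sub_right_comm]
          exact add_mem (a2 v) (Submodule.mem_sup_right (Submodule.smul_mem _ _ ⟨_, rfl⟩))
        · rw [show ⇑(x * y) = fun v => y v + c • θ' (y v) from funext fun v => e _]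
          exact a3.left' k1 k2 q1 q2 hc
    induction hγ using Subgroup.closure_induction_left with
    | one => exact ⟨fun _ _ _ => rfl, fun v => by simp [one_app],
        _, _, _, _, qc_id, qc_zero, qc_zero, qc_zero, fun v => by simp [one_app]⟩
    | mul_left x hx y _ ih => exact step x hx y ih
    | inv_mul_cancel x hx y _ ih =>
      refine step x⁻¹ ?_ y ih
      obtain ⟨c, hc, e | e⟩ := hx
      · exact ⟨-c, by rw [map_neg, hc], Or.inl fun v => by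
          rw [inv_apply_of_unip (A := c • θ) (fun v => by simp [q1]) e]; simp [sub_eq_add_neg]⟩
      · exact ⟨-c, by rw [map_neg, hc], Or.inr fun v => by
          rw [inv_apply_of_unip (A := c • θ') (fun v => by simp [q2]) e]; simp [sub_eq_add_neg]⟩
  have hJ0 : ∀ x ∈ J, θ x = 0 ∧ θ' x = 0 := by
    rintro _ ⟨⟨a, rfl⟩, b, hb⟩
    exact ⟨q1 a, hb ▸ q2 b⟩
  have f1 : ∀ v ∈ LinearMap.range θ, θ' v ∈ J → v ∈ J := fun v hv =>
    D.fact h hg M.one_mem (by simpa using hg') rfl inf_le_right inf_le_left hv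
  have hLJ : ¬ LinearMap.range θ ≤ J := fun hc => hg' (D.mem_of_map_eq hg (hc.trans inf_le_right))
  have unit : ∀ c, Φ.σ c = c → ∃ x ∈ Γ, ∀ v, x v = v + c • θ v := fun c hc =>
    ⟨unip (c • θ) fun v => by simp [q1], Subgroup.subset_closure ⟨c, hc, Or.inl fun _ => rfl⟩,
      fun _ => rfl⟩
  by_contra hcon
  push Not at hcon
  have A : ∀ γ ∈ Γ, γ ∈ H → ∃ c, Φ.σ c = c ∧ ∀ v, γ v = v + c • θ v := fun γ hγ hγH => by
    obtain ⟨a1, a2, r₀, r₁, r₂, r₃, b₀, -, b₂, b₃, e⟩ := hΓ γ hγ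
    obtain ⟨c1, c2⟩ := hcon γ hγH a1 a2
    by_cases hs : ∀ v, γ (θ v) ∈ LinearMap.range θ
    · by_contra hn
      push Not at hn
      have b₄ := b₀.add (b₃.eta k1 k2 q1 q2)
      have e1 : ∀ v, γ (θ v) = (r₀ + r₃ ∘ₗ (θ ∘ₗ θ' + θ' ∘ₗ θ)) (θ v) + θ' (θ (r₂ v)) := fun v => by
        simp [e, q1, b₂.c, b₂.c', add_right_comm]
      have e2 : ∀ v, θ' (θ (r₂ v)) = 0 := fun v =>
        (hJ0 _ (f1 _ ⟨_, rfl⟩ ⟨by
          have := sub_mem (hs v) ⟨_, (b₄.c v).symm⟩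
          rwa [e1, add_sub_cancel_left] at this, _, rfl⟩)).2
      obtain ⟨x, y, hxy⟩ := c1 hs hn
      exact hxy (by rw [e1, e1, e2, e2, add_zero, add_zero, b₄.sa, k1, b₄.c])
    · obtain ⟨z, hz, ez⟩ := unit 1 (map_one _)
      obtain ⟨-, -, s₀, s₁, s₂, s₃, d₀, d₁, d₂, d₃, e'⟩ :=
        hΓ _ (Γ.mul_mem (Γ.mul_mem hγ hz) (Γ.inv_mem hγ))
      have k3 := k1.cjL (D.iso (D.le hγH))
      have e1 : ∀ v, cjL γ θ v = s₀ v - v + s₁ (θ v) + s₂ (θ' v) + s₃ (θ (θ' v)) := fun v => by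
        have := e' v
        rw [mul_app, mul_app, ez, one_smul, map_add, app_inv_app, ← cjL_apply] at this
        rw [eq_sub_of_add_eq' this]; abel
      have e2 : ∀ v, s₀ v - v + (s₀ v - v) + s₃ (θ (θ' v) + θ' (θ v)) = 0 := fun v =>
        Φ.nondeg _ fun y => by
          have := k3 v y
          rw [e1, e1] at this
          simp only [map_add s₃, Φ.bsimp, d₀.sa, d₁.sa, d₂.sa, d₃.sa, k1 _ _, k2 _ _] at this ⊢
          simp only [d₁.c, d₂.c', d₃.c, d₃.c'] at this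
          linear_combination this
      have e3 : ∀ v, θ (cjL γ θ v) + cjL γ θ (θ v) = s₂ (θ (θ' v) + θ' (θ v)) := fun v => by
        have := e2 (θ v)
        simp only [e1, map_add, map_sub, ← d₀.c, ← d₁.c, ← d₂.c, ← d₃.c, q1, map_zero] at this ⊢
        linear_combination (norm := module) this
      obtain ⟨v, hv⟩ := c2 (by simpa using hs)
      exact absurd (by rw [e3, e3, ← d₂.c']; simp [q2]) hv
  let Z : Subgroup Γ :=
    { carrier := {x | ∃ c, Φ.σ c = c ∧ ∀ v, x.1 v = v + c • θ v}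
      one_mem' := ⟨0, map_zero _, fun v => by simp [one_app]⟩
      mul_mem' := by
        rintro x y ⟨c, hc, e⟩ ⟨d, hd, e'⟩
        exact ⟨c + d, by rw [map_add, hc, hd], fun v => by
          rw [Subgroup.coe_mul, mul_app, e, e']; simp [q1, add_smul]; abel⟩
      inv_mem' := by
        rintro x ⟨c, hc, e⟩
        exact ⟨-c, by rw [map_neg, hc], fun v => by
          rw [Subgroup.coe_inv, inv_apply_of_unip (A := c • θ) (fun v => by simp [q1]) e]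
          simp [sub_eq_add_neg]⟩ }
  obtain ⟨v₀, hv₀⟩ : ∃ v, θ v ≠ 0 := by
    by_contra hc
    push Not at hc
    exact hLJ (by rintro _ ⟨v, rfl⟩; rw [hc]; exact J.zero_mem)
  have ne1 : ∀ {x : Γ} {c : F}, (∀ v, x.1 v = v + c • θ v) → (x ≠ 1 ↔ c ≠ 0) := fun {x c} e =>
    not_congr ⟨fun h => by simpa [h, one_app, hv₀] using e v₀,
      fun h => Subtype.ext (LinearEquiv.ext fun v => by simp [e, h, one_app])⟩
  have cjZ : ∀ (γ z : Γ) (c : F), (∀ v, z.1 v = v + c • θ v) →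
      ∀ v, (γ * z * γ⁻¹).1 v = v + c • cjL γ θ v := fun γ z c e v => by
    simp [mul_app, e, cjL_apply]
  obtain ⟨l, l1, l2, l3⟩ := h3
  obtain ⟨x, hx, ex⟩ := unit 1 (map_one _)
  obtain ⟨x', hx', ex'⟩ := unit l l1
  obtain ⟨γ, hγ, z, ⟨c, hc, ez⟩, z1, δ, y, ⟨d, hd, ey⟩, e⟩ := frob_count (Z := Z)
    ⟨⟨unip θ' q2, Subgroup.subset_closure ⟨1, map_one _, Or.inr fun v => by simp [unip_apply]⟩⟩,
      fun ⟨c, _, e⟩ => hg' (D.mem_of_smul hg one_ne_zero (d := c) fun v => by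
        simpa [unip_apply] using e v)⟩
    (x := ⟨x, hx⟩) (x' := ⟨x', hx'⟩) ⟨1, map_one _, ex⟩ ((ne1 ex).2 one_ne_zero) ⟨l, l1, ex'⟩
    ((ne1 ex').2 l2) (fun h => l3 (smul_left_injective F hv₀ (by
      have := congrArg (fun t : Γ => t.1 v₀) h
      simpa [ex, ex'] using this.symm)))
    (fun γ z ⟨c, hc, ez⟩ z1 ⟨d, _, hz⟩ => A _ γ.2 (D.mem_of_smul (hΓM γ.2) ((ne1 ez).1 z1)
      fun v => add_left_cancel ((cjZ γ z c ez v).symm.trans (hz v))))
  have hγH : γ.1 ∉ H := fun hc => hγ (A _ γ.2 hc)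
  have hγM := hΓM γ.2
  have k3 := k1.cjL (D.iso hγM)
  have k4 := (k1.cjL (D.iso (hΓM δ.2))).smul hd
  have e1 : ∀ v, (d • cjL δ θ) v = c • cjL γ θ v + θ v + c • θ (cjL γ θ v) := fun v => by
    have := congrArg (fun t : Γ => t.1 v) e
    change ((⟨x, hx⟩ * (γ * z * γ⁻¹) : Γ)).1 v = (δ * y * δ⁻¹).1 v at this
    rw [cjZ δ y d ey, Subgroup.coe_mul, mul_app, cjZ γ z c ez, ex] at this
    rw [LinearMap.smul_apply, eq_sub_of_add_eq' this.symm]
    simp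
    abel
  have e3 : ∀ v, θ (cjL γ θ v) + cjL γ θ (θ v) = 0 := fun v => Φ.nondeg _ fun y => by
    have := k4 v y
    rw [e1, e1] at this
    simp only [Φ.bsimp, k1 _ _, k3 _ _, hc] at this ⊢
    exact mul_left_cancel₀ ((ne1 ez).1 z1) (by linear_combination this)
  have e2 : ∀ v, θ (cjL γ θ (θ v)) = 0 := fun v => by simpa [q1] using e3 (θ v)
  have hJγ : J ≤ LinearMap.range (cjL γ θ) := fun x hx => by
    rw [range_cjL]
    exact ⟨x, hx.1, (hΓ γ γ.2).1 x (hJ0 x hx).1 (hJ0 x hx).2⟩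
  refine hLJ ?_
  rintro _ ⟨v, rfl⟩
  exact D.fact h hγM M.one_mem (by simpa using hγH) rfl hJγ inf_le_left ⟨_, rfl⟩
    (D.fact h M.one_mem hγM (by simpa using hγH) rfl inf_le_left hJγ ⟨_, rfl⟩
      (by rw [cjL_one, e2]; exact J.zero_mem))

end Fm

end Cfsg.Agent.Class.Max
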