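import Mathlib
import Cfsg.Agent.TT.InvUtil

/-!
Involutions with unique fixed points lying in several commuting factors.
-/

set_option autoImplicit false

namespace Cfsg.Agent.Class.Max

variable {G : Type*} [Group G] {ι : Type*}

theorem dih_cases [Finite G] {K : Subgroup G} {x y : G} (hx : x * x = 1) (hy : y * y = 1)
    (hxK : x ∈ K) (hyK : y ∈ K) : (∃ c ∈ K, c * x * c⁻¹ = y) ∨ ∃ z ∈ K, z ≠ 1 ∧ z * z = 1 ∧
      x * z = z * x ∧ y * z = z * y ∧ ∃ c ∈ K, ∃ d ∈ K,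
        (c * x * c⁻¹ = x * z ∧ d * y * d⁻¹ = y * z) ∨ (c * y * c⁻¹ = x * z ∧ d * x * d⁻¹ = y * z) := by
  have hp : ∀ m : ℕ, (x * y) ^ m ∈ K := fun m => K.pow_mem (K.mul_mem hxK hyK) m
  have hp' : ∀ m : ℕ, (y * x) ^ m ∈ K := fun m => K.pow_mem (K.mul_mem hyK hxK) m
  rcases Nat.even_or_odd (orderOf (x * y)) with h | h
  · obtain ⟨k, k1, k2, k3, k4, -⟩ := TT.exists_central_of_even_orderOf_mul hx hy h
    have e : (y * x) ^ k = (x * y) ^ k := by
      rw [← inv_eq_of_mul_eq_one_right k2, ← inv_pow, mul_inv_rev, inv_eq_of_mul_eq_one_right hx,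
        inv_eq_of_mul_eq_one_right hy]
    refine Or.inr ⟨_, hp k, k1, k2, k3, k4, ?_⟩
    rcases Nat.even_or_odd' k with ⟨m, rfl | rfl⟩
    · exact ⟨_, K.inv_mem (hp m), _, K.inv_mem (hp' m), Or.inl
        ⟨by rw [TT.invol_mul_pow_even hx hy, inv_inv], by
          rw [← e, TT.invol_mul_pow_even hy hx, inv_inv]⟩⟩
    · exact ⟨_, K.inv_mem (hp m), _, K.inv_mem (hp' m), Or.inr
        ⟨by rw [TT.invol_mul_pow_odd hx hy, inv_inv], by
          rw [← e, TT.invol_mul_pow_odd hy hx, inv_inv]⟩⟩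
  · obtain ⟨m, hm⟩ := TT.conj_of_odd_orderOf_mul hx hy h
    exact Or.inl ⟨_, hp m, hm⟩

/-- Involutions `I i` in commuting factors permuted by `H`; `B i` contains the other factors. -/
structure InvD (H : Subgroup G) (I : ι → Set G) (B : ι → Subgroup G) : Prop where
  sq : ∀ i, ∀ s ∈ I i, s * s = 1
  le : ∀ i, ∀ s ∈ I i, s ∈ H
  cj : ∀ h ∈ H, ∀ i, ∃ j, (∀ s ∈ I i, h * s * h⁻¹ ∈ I j) ∧ ∀ b ∈ B i, h * b * h⁻¹ ∈ B j
  mem : ∀ i j, i ≠ j → ∀ s ∈ I j, s ∈ B i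
  comm : ∀ i, ∀ s ∈ I i, ∀ b ∈ B i, s * b = b * s
  nmem : ∀ i, ∀ s ∈ I i, s ∉ B i
  inj : ∀ i, ∀ s ∈ I i, ∀ s' ∈ I i, s * s' ∈ B i → s = s'
  uniq : ∀ i, ∀ s ∈ I i, ∀ g, g * s * g⁻¹ ∈ H → g ∈ H
  cl : ∀ i, ∀ s ∈ I i, ∀ s' ∈ I i, s ≠ s' → s * s' = s' * s →
    ∀ g, g * (s * s') = s * s' * g → g ∈ H
  par : ∀ i, ∀ s ∈ I i, ∃ d ∈ I i, d ≠ s ∧ d * s = s * d

namespace InvD

variable {H : Subgroup G} {I : ι → Set G} {B : ι → Subgroup G} (D : InvD H I B)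
include D

theorem idx {i j : ι} {s : G} (hi : s ∈ I i) (hj : s ∈ I j) : i = j := by
  by_contra h
  exact D.nmem i s hi (D.mem i j h s hj)

theorem mem_of_comm {i : ι} {s g : G} (hs : s ∈ I i) (h : g * s = s * g) : g ∈ H :=
  D.uniq i s hs g (by rw [h, mul_inv_cancel_right]; exact D.le i s hs)

theorem conj_mem {i : ι} {s g : G} (hs : s ∈ I i) (h : g * s * g⁻¹ ∈ H) :
    ∃ j, g * s * g⁻¹ ∈ I j :=
  let ⟨j, hj, _⟩ := D.cj g (D.uniq i s hs g h) i
  ⟨j, hj s hs⟩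

theorem eq_of_fix {i : ι} {s b x : G} (hs : s ∈ I i) (hb : b ∈ B i)
    (hx : x * (b * s) = b * s * x) (h : x * s * x⁻¹ ∈ I i) : x * s * x⁻¹ = s := by
  obtain ⟨j, h1, h2⟩ := D.cj x (D.uniq i s hs x (D.le i _ h)) i
  obtain rfl := D.idx (h1 s hs) h
  refine D.inj _ _ h s hs ?_
  have e : x * s * x⁻¹ * s = (x * b * x⁻¹)⁻¹ * b := by
    rw [eq_inv_mul_iff_mul_eq, ← mul_assoc,
      show x * b * x⁻¹ * (x * s * x⁻¹) = x * (b * s) * x⁻¹ by group, hx, mul_inv_cancel_right,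
      mul_assoc, D.sq _ s hs, mul_one]
  exact e ▸ (B j).mul_mem ((B j).inv_mem (h2 b hb)) hb

theorem eq_or_eq {i j : ι} (hij : i ≠ j) {s t x : G} (hs : s ∈ I i) (ht : t ∈ I j) (hx : x ∈ H)
    (h : x * (s * t) = s * t * x) : x * s * x⁻¹ = s ∨ x * s * x⁻¹ = t := by
  have hst := D.comm i s hs t (D.mem i j hij t ht)
  obtain ⟨k, h1, h2⟩ := D.cj x hx i
  have e : x * s * x⁻¹ = s * t * (x * t * x⁻¹)⁻¹ := by
    rw [eq_mul_inv_iff_mul_eq, show x * s * x⁻¹ * (x * t * x⁻¹) = x * (s * t) * x⁻¹ by group, h,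
      mul_inv_cancel_right]
  have hb := (B k).inv_mem (h2 t (D.mem i j hij t ht))
  by_cases hk : k = i
  · subst hk
    exact Or.inl (D.eq_of_fix hs (D.mem _ j hij t ht) (by rwa [← hst]) (h1 s hs))
  by_cases hk' : k = j
  · subst hk'
    refine Or.inr (D.inj k t ht _ (h1 s hs) ?_).symm
    rw [e, hst, ← mul_assoc, ← mul_assoc, D.sq k t ht, one_mul]
    exact (B k).mul_mem (D.mem k i hk s hs) hb
  · exact absurd (e ▸ (B k).mul_mem ((B k).mul_mem (D.mem k i hk s hs) (D.mem k j hk' t ht)) hb)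
      (D.nmem k _ (h1 s hs))

variable [Finite G]

theorem mem_of_comm_two {i j : ι} (hij : i ≠ j) {s t g : G} (hs : s ∈ I i) (ht : t ∈ I j)
    (hg : g * (s * t) = s * t * g) : g ∈ H := by
  by_contra hg'
  have htB := D.mem i j hij t ht
  have hst := D.comm i s hs t htB
  have s2 := D.sq i s hs
  obtain ⟨d, hd, hds, hc⟩ := D.par i s hs
  have hdt := D.comm i d hd t htB
  let K := Subgroup.centralizer {s * t}
  have mK : ∀ x, x ∈ K ↔ x * (s * t) = s * t * x := fun x => Subgroup.mem_centralizer_singleton_iff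
  have hgK : g ∈ K := (mK g).2 hg
  have hsK : s ∈ K := (mK s).2 (by rw [mul_assoc, ← hst])
  have hdK : d ∈ K := (mK d).2 (by rw [← mul_assoc, hc, mul_assoc, hdt, mul_assoc])
  have hyK : g * s * g⁻¹ ∈ K := K.mul_mem (K.mul_mem hgK hsK) (K.inv_mem hgK)
  have hy : g * s * g⁻¹ ∉ H := fun h => hg' (D.uniq i s hs g h)
  rcases dih_cases (D.sq i d hd) (by
      rw [show g * s * g⁻¹ * (g * s * g⁻¹) = g * (s * s) * g⁻¹ by group, s2]; group) hdK hyK with
    ⟨c, hc1, hc2⟩ | ⟨z, hz, z1, -, z2, z3, c, hc1, c', hc2, ⟨e1, e2⟩ | ⟨e1, -⟩⟩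
  · have e : c⁻¹ * g * s * (c⁻¹ * g)⁻¹ = d := by
      rw [show c⁻¹ * g * s * (c⁻¹ * g)⁻¹ = c⁻¹ * (g * s * g⁻¹) * c by group, ← hc2]; group
    exact hds (e.symm.trans (D.eq_of_fix hs htB (by
      rw [← hst]; exact (mK _).1 (K.mul_mem (K.inv_mem hc1) hgK)) (e ▸ hd)))
  · have h1 : g⁻¹ * z * g ∈ H := D.mem_of_comm hs (by
      rw [show g⁻¹ * z * g * s = g⁻¹ * (z * (g * s * g⁻¹)) * g by group, ← z3]; group)
    have e3 : g⁻¹ * c' * g * s * (g⁻¹ * c' * g)⁻¹ = s * (g⁻¹ * z * g) := by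
      rw [show g⁻¹ * c' * g * s * (g⁻¹ * c' * g)⁻¹ = g⁻¹ * (c' * (g * s * g⁻¹) * c'⁻¹) * g by group,
        e2]; group
    rcases D.eq_or_eq hij hs ht (D.uniq i s hs _ (e3 ▸ H.mul_mem (D.le i s hs) h1))
      ((mK _).1 (K.mul_mem (K.mul_mem (K.inv_mem hgK) hc2) hgK)) with h | h
    · rw [e3, mul_eq_left] at h
      exact z1 (by rw [show z = g * (g⁻¹ * z * g) * g⁻¹ by group, h]; group)
    have e4 : z = s * t := by
      rw [show z = g * (g⁻¹ * z * g) * g⁻¹ by group, show g⁻¹ * z * g = s * t by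
        rw [← h, e3, ← mul_assoc s s, s2, one_mul], hg, mul_inv_cancel_right]
    obtain ⟨k, hk⟩ := D.conj_mem hd (e1 ▸ H.mul_mem (D.le i d hd) (D.mem_of_comm hd z2.symm))
    rw [e1, e4] at hk
    by_cases hki : k = i
    · subst hki
      refine D.nmem j t ht ?_
      have := (B j).mul_mem (D.mem j k hij.symm s hs)
        ((B j).mul_mem (D.mem j k hij.symm d hd) (D.mem j k hij.symm _ hk))
      rwa [← mul_assoc d d, D.sq k d hd, one_mul, ← mul_assoc, s2, one_mul] at this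
    · refine hds (D.inj i d hd s hs ?_)
      have := (B i).mul_mem (D.mem i k (Ne.symm hki) _ hk) htB
      rwa [mul_assoc, mul_assoc, D.sq j t ht, mul_one] at this
  · have e3 : c * g * s * (c * g)⁻¹ = d * z := by rw [← e1]; group
    have h1 : ∀ y : G, y * z = z * y → y * (s * t) = s * t * y → y * (d * s) = d * s * y := fun y y1 y2 => by
      rcases D.eq_or_eq hij hs ht (D.uniq i s hs _ (e3 ▸ H.mul_mem (D.le i d hd)
        (D.mem_of_comm hd z2.symm))) ((mK _).1 (K.mul_mem hc1 hgK)) with h | h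
      · rwa [show d * s = z by rw [← h, e3, ← mul_assoc, D.sq i d hd, one_mul]]
      · have : d * s = z * (s * t) := by
          rw [show z = d * t by rw [← h, e3, ← mul_assoc, D.sq i d hd, one_mul], hst, mul_assoc,
            ← mul_assoc t t, D.sq j t ht, one_mul]
        rw [this, ← mul_assoc, y1, mul_assoc, y2, ← mul_assoc]
    exact hy (D.cl i d hd s hs hds hc _ (h1 _ z3 ((mK _).1 hyK)))

theorem mem_of_comm_pair {i j : ι} {s t g : G} (hs : s ∈ I i) (ht : t ∈ I j) (hne : s ≠ t)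
    (hc : s * t = t * s) (hg : g * (s * t) = s * t * g) : g ∈ H := by
  by_cases h : i = j
  · subst h
    exact D.cl i s hs t ht hne hc g hg
  · exact D.mem_of_comm_two h hs ht hg

theorem mem_of_central {i : ι} {d z c y : G} (hd : d ∈ I i) (z1 : z ≠ 1) (hz : d * z = z * d)
    {j : ι} {s : G} (hs : s ∈ I j) (e : c * s * c⁻¹ = d * z) (hy : y * z = z * y) : y ∈ H := by
  obtain ⟨k, hk⟩ := D.conj_mem hs (e ▸ H.mul_mem (D.le i d hd) (D.mem_of_comm hd hz.symm))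
  rw [e] at hk
  refine D.mem_of_comm_pair hd hk (fun h => z1 (left_eq_mul.1 h)) (by rw [mul_assoc, hz]) ?_
  rwa [← mul_assoc d d, D.sq i d hd, one_mul]

/-- Involutions with different fixed points are conjugate in the group they generate. -/
theorem exists_conj {K : Subgroup G} {i j : ι} {d s g : G} (hd : d ∈ I i) (hs : s ∈ I j)
    (hg : g ∉ H) (h1 : d ∈ K) (h2 : g * s * g⁻¹ ∈ K) : ∃ c ∈ K, c * d * c⁻¹ = g * s * g⁻¹ := by
  refine (dih_cases (D.sq i d hd) (by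
    rw [show g * s * g⁻¹ * (g * s * g⁻¹) = g * (s * s) * g⁻¹ by group, D.sq j s hs]; group)
      h1 h2).resolve_right ?_
  rintro ⟨z, -, z1, -, z2, z3, c, -, -, -, ⟨e, -⟩ | ⟨e, -⟩⟩
  · exact hg (D.uniq j s hs g (D.mem_of_central hd z1 z2 hd e z3))
  · exact hg (D.uniq j s hs g (D.mem_of_central (c := c * g) hd z1 z2 hs (by rw [← e]; group) z3))

theorem mem_of_comm_mul {i : ι} {s b g : G} (hs : s ∈ I i) (hb : b ∈ B i)
    (hg : g * (b * s) = b * s * g) : g ∈ H := by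
  by_contra hg'
  obtain ⟨d, hd, hds, hc⟩ := D.par i s hs
  let K := Subgroup.centralizer {b * s}
  have mK : ∀ x, x ∈ K ↔ x * (b * s) = b * s * x := fun x => Subgroup.mem_centralizer_singleton_iff
  have hgK : g ∈ K := (mK g).2 hg
  obtain ⟨c, hc1, hc2⟩ := D.exists_conj (K := K) hd hs hg'
    ((mK d).2 (by rw [← mul_assoc, D.comm i d hd b hb, mul_assoc, hc, mul_assoc]))
    (K.mul_mem (K.mul_mem hgK ((mK s).2 (by rw [← mul_assoc, D.comm i s hs b hb]))) (K.inv_mem hgK))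
  have e : c⁻¹ * g * s * (c⁻¹ * g)⁻¹ = d := by
    rw [show c⁻¹ * g * s * (c⁻¹ * g)⁻¹ = c⁻¹ * (g * s * g⁻¹) * c by group, ← hc2]; group
  exact hds (e.symm.trans (D.eq_of_fix hs hb ((mK _).1 (K.mul_mem (K.inv_mem hc1) hgK)) (e ▸ hd)))

theorem conj_mul_mem {i j : ι} {s t k g : G} (hs : s ∈ I i) (ht : t ∈ I j) (hk : k ∈ B j)
    (k1 : k ≠ 1) (k2 : k * k = 1) (hg : g ∉ H)
    (h : ∀ l, ∀ r ∈ I l, r * (k * t) = k * t * r → g⁻¹ * s * g * (k * t * r) = k * t * r * (g⁻¹ * s * g) →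
      g⁻¹ * s * g ∈ H) : g * (k * t) * g⁻¹ ∈ H := by
  have hkt := D.comm j t ht k hk
  have hs' : g⁻¹ * s * g⁻¹⁻¹ ∉ H := fun h => hg (by simpa using H.inv_mem (D.uniq i s hs _ h))
  have q : k * t * (k * t) = 1 := by
    rw [mul_assoc, ← mul_assoc t, hkt, mul_assoc, D.sq j t ht, mul_one, k2]
  have hH : k * t ∈ H := D.mem_of_comm ht (by rw [mul_assoc, ← mul_assoc t, hkt, mul_assoc])
  rcases dih_cases (K := ⊤) (D.sq i s hs) (y := g * (k * t) * g⁻¹) (by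
      rw [show g * (k * t) * g⁻¹ * (g * (k * t) * g⁻¹) = g * (k * t * (k * t)) * g⁻¹ by group, q]
      group) trivial trivial with
    ⟨c, -, hc⟩ | ⟨z, -, z1, -, z2, z3, c, -, c', -, ⟨e, -⟩ | ⟨-, e⟩⟩
  · have e : g⁻¹ * c * s * (g⁻¹ * c)⁻¹ = k * t := by
      rw [show g⁻¹ * c * s * (g⁻¹ * c)⁻¹ = g⁻¹ * (c * s * c⁻¹) * g by group, hc]; group
    obtain ⟨l, hl⟩ := D.conj_mem hs (e ▸ hH)
    rw [e] at hl
    by_cases hlj : l = j
    · subst hlj
      exact absurd (D.inj l _ hl t ht (by rwa [mul_assoc, D.sq l t ht, mul_one]))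
        fun h => k1 (mul_eq_right.1 h)
    · have := (B j).mul_mem hk (D.mem j l (Ne.symm hlj) _ hl)
      rw [← mul_assoc, k2, one_mul] at this
      exact absurd this (D.nmem j t ht)
  · exact D.mem_of_central hs z1 z2 hs e z3
  · have z4 : g⁻¹ * z * g * (k * t) = k * t * (g⁻¹ * z * g) := by
      rw [show g⁻¹ * z * g * (k * t) = g⁻¹ * (z * (g * (k * t) * g⁻¹)) * g by group, ← z3]; group
    have e1 : g⁻¹ * c' * s * (g⁻¹ * c')⁻¹ = k * t * (g⁻¹ * z * g) := by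
      rw [show g⁻¹ * c' * s * (g⁻¹ * c')⁻¹ = g⁻¹ * (c' * s * c'⁻¹) * g by group, e]; group
    obtain ⟨l, hl⟩ := D.conj_mem hs (e1 ▸ H.mul_mem hH (D.mem_of_comm_mul ht hk z4))
    rw [e1] at hl
    have := h l _ hl (by rw [mul_assoc, z4]) (by
      rw [← mul_assoc (k * t), q, one_mul,
        show g⁻¹ * s * g * (g⁻¹ * z * g) = g⁻¹ * (s * z) * g by group, z2]
      group)
    exact absurd (by simpa using this) hs'

/-- Two factors containing involutions. -/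
theorem mem_of_two {i j : ι} (hij : i ≠ j) {t : G} (ht : t ∈ I j) {s₀ : G} (hs₀ : s₀ ∈ I i) {g : G}
    (h : (∀ s ∈ I i, ∀ s' ∈ I i, g * (s * s') * g⁻¹ ∈ H) → g ∈ H) : g ∈ H := by
  by_contra hg
  have key : ∀ s ∈ I i, g * (s * t) * g⁻¹ ∈ H := fun s hs =>
    D.conj_mul_mem hs₀ ht (D.mem j i hij.symm s hs)
      (fun e => D.nmem i s hs (e ▸ (B i).one_mem)) (D.sq i s hs) hg fun l r hr h1 h2 => by
        by_cases hl : l = j
        · subst hl
          have hb := (B i).mul_mem (D.mem i l hij t ht) (D.mem i l hij r hr)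
          rw [mul_assoc s t r, D.comm i s hs _ hb] at h2
          exact D.mem_of_comm_mul hs hb h2
        · have hr' := D.mem j l (Ne.symm hl) r hr
          rw [mul_assoc s t r, D.comm j t ht r hr', ← mul_assoc s r t] at h2
          exact D.mem_of_comm_mul ht ((B j).mul_mem (D.mem j i hij.symm s hs) hr') h2
  refine hg (h fun s hs s' hs' => ?_)
  have := H.mul_mem (key s hs) (H.inv_mem (key s' hs'))
  rwa [show g * (s * t) * g⁻¹ * (g * (s' * t) * g⁻¹)⁻¹ = g * (s * s'⁻¹) * g⁻¹ by group,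
    inv_eq_of_mul_eq_one_right (D.sq i s' hs')] at this

end InvD

end Cfsg.Agent.Class.Max
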