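import Mathlib
import Cfsg.Agent.Class.Max.TensFm
import Cfsg.Agent.Class.Max.Inv

/-!
Tensor powers: slots, the wreath product as the group permuting the slots.
-/

set_option autoImplicit false
set_option linter.unusedSectionVars false

namespace Cfsg.Agent.Class.Max

open Module

section General

variable {F W : Type*} [Field F] [AddCommGroup W] [Module F W]

theorem exists_ker_notMem_span [FiniteDimensional F W] (h3 : 3 ≤ finrank F W) (φ : Dual F W)
    (y : W) : ∃ z, φ z = 0 ∧ z ∉ Submodule.span F {y} := by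
  by_contra hc
  push Not at hc
  have h1 := Submodule.finrank_mono (show LinearMap.ker φ ≤ Submodule.span F {y} from hc)
  have h2 := finrank_span_le_card (R := F) ({y} : Set W)
  have h4 := LinearMap.finrank_range_add_finrank_ker φ
  have h5 := Submodule.finrank_le (LinearMap.range φ)
  simp only [Set.toFinset_singleton, Finset.card_singleton, finrank_self] at h2 h5
  omega

/-- Nilpotent maps of rank one generate the endomorphism ring. -/
theorem end_induction [FiniteDimensional F W] (h3 : 3 ≤ finrank F W) {p : End F W → Prop}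
    (h0 : p 0) (ha : ∀ x y, p x → p y → p (x + y)) (hm : ∀ x y, p x → p y → p (x * y))
    (h1 : ∀ (w : W) (φ : Dual F W), w ≠ 0 → φ w = 0 → p (φ.smulRight w)) (x : End F W) : p x := by
  have k : ∀ (w : W) (φ : Dual F W), p (φ.smulRight w) := fun w φ => by
    by_cases hw : w = 0
    · rwa [show φ.smulRight w = 0 from LinearMap.ext fun v => by simp [hw]]
    obtain ⟨z, z1, z2⟩ := exists_ker_notMem_span h3 φ w
    obtain ⟨ψ, p1, p2⟩ := exists_dual_zero_one z2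
    have := hm _ _ (h1 w ψ hw p1) (h1 z φ (fun e => z2 (by simp [e])) z1)
    rwa [show ψ.smulRight w * φ.smulRight z = φ.smulRight w from
      LinearMap.ext fun v => by simp [p2]] at this
  let b := Module.finBasis F W
  rw [show x = ∑ j, (b.coord j).smulRight (x (b j)) from LinearMap.ext fun v => by
    conv_lhs => rw [← b.sum_repr v, map_sum]
    simp]
  exact Finset.sum_induction _ p ha h0 fun j _ => k _ _

/-- Connectivity of the set of incident point-hyperplane pairs. -/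
theorem pairs_all [FiniteDimensional F W] (h3 : 3 ≤ finrank F W) {P : W → Dual F W → Prop}
    (r1 : ∀ v β v' (γ : Dual F W), β v = 0 → P v β → γ v = 1 → γ v' = 0 → β v' = 0 → P v' β)
    (r2 : ∀ v β z (γ : Dual F W), β v = 0 → P v β → β z = 1 → γ z = 0 → γ v = 0 → P v γ)
    {v : W} {β : Dual F W} (hv : v ≠ 0) (hβ : β ≠ 0) (h : β v = 0) (hP : P v β) (v' : W)
    (β' : Dual F W) (hβ' : β' ≠ 0) (h' : β' v' = 0) : P v' β' := by
  have k1 : ∀ v β, β ≠ 0 → β v = 0 → P v β → ∀ γ : Dual F W, γ ≠ 0 → γ v = 0 → P v γ :=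
    fun v β hβ h hP γ hγ h' => by
      obtain ⟨y, hy⟩ := DFunLike.ne_iff.1 hβ
      replace hy : β y ≠ 0 := hy
      by_cases hz : γ y = 0
      · exact r2 v β ((β y)⁻¹ • y) γ h hP (by simp [hy]) (by simp [hz]) h'
      obtain ⟨ψ, z, p1, p2, p3⟩ := exists_dual_vanish h3 v y
      obtain ⟨z', z1, z2⟩ := exists_one_zero p2 hz (y := z) (by simp [p3])
      exact r2 v ψ z' γ p1 (r2 v β ((β y)⁻¹ • y) ψ h hP (by simp [hy]) (by simp [p2]) p1) z1 z2 h'
  have k2 : ∀ v β, β ≠ 0 → β v = 0 → P v β → ∀ (v' : W) (γ : Dual F W), γ v = 1 → γ v' = 0 →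
      ∀ β' : Dual F W, β' ≠ 0 → β' v' = 0 → P v' β' := fun v β hβ h hP v' γ g1 g2 β' hβ' h' => by
    obtain ⟨ψ, z, p1, p2, p3⟩ := exists_dual_vanish h3 v v'
    have p0 : ψ ≠ 0 := fun e => by simp [e] at p3
    exact k1 v' ψ p0 p2 (r1 v ψ v' γ p1 (k1 v β hβ h hP ψ p0 p1) g1 g2 p2) β' hβ' h'
  obtain ⟨γ, hγ⟩ := exists_dual_eq_one (F := F) hv
  obtain ⟨y, y1, y2⟩ := exists_ker_notMem_span h3 γ v'
  obtain ⟨γ', g1, g2⟩ := exists_dual_zero_one y2
  obtain ⟨ψ, z, p1, -, p3⟩ := exists_dual_vanish h3 y y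
  have p0 : ψ ≠ 0 := fun e => by simp [e] at p3
  exact k2 y ψ p0 p1 (k2 v β hβ h hP y γ hγ y1 ψ p0 p1) v' γ' g2 g1 β' hβ' h'

end General

variable {F U W V : Type*} [Field F] [AddCommGroup U] [Module F U] [AddCommGroup W]
  [Module F W] [AddCommGroup V] [Module F V]

namespace Tn

variable (T T' : Tn F U W V)

/-- `x ↦ 1 ⊗ x`. -/
def sl : End F W →ₐ[F] End F V where
  toFun x := T.krL LinearMap.id x
  map_one' := LinearMap.ext (T.ext fun u w => by simp)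
  map_mul' x y := LinearMap.ext (T.ext fun u w => by simp)
  map_zero' := LinearMap.ext (T.ext fun u w => by simp)
  map_add' x y := LinearMap.ext (T.ext fun u w => by simp)
  commutes' c := LinearMap.ext (T.ext fun u w => by simp)

@[simp] theorem sl_tm (x : End F W) (u : U) (w : W) : T.sl x (T.tm u w) = T.tm u (x w) :=
  T.krL_tm _ _ u w

theorem sl_rk (φ : Dual F W) (w : W) (v : V) : T.sl (φ.smulRight w) v = T.tm (T.cR φ v) w :=
  T.ext (f := T.sl (φ.smulRight w)) (g := T.xl LinearMap.id w φ) (fun u x => by simp [xl_apply]) v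

theorem cR_sl (φ : Dual F W) (x : End F W) (v : V) : T.cR φ (T.sl x v) = T.cR (φ ∘ₗ x) v :=
  T.cR_krL φ _ x v

theorem krR_eq_sl (d : W ≃ₗ[F] W) (v : V) : T.krR d v = T.sl d.toLinearMap v :=
  T.ext (f := (T.krR d).toLinearMap) (fun u w => by simp) v

theorem sl_sl (x y : End F W) (v : V) : T.sl x (T.sl y v) = T.sl (x * y) v := by
  rw [map_mul]; rfl

theorem sl_inj (hU : ∃ u : U, u ≠ 0) {x y : End F W} (h : ∀ v, T.sl x v = T.sl y v) : x = y :=
  let ⟨u, hu⟩ := hU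
  LinearMap.ext fun w => T.right_inj hu (by simpa using h (T.tm u w))

theorem range_sl_rk {φ : Dual F W} (hφ : φ ≠ 0) (w : W) :
    LinearMap.range (T.sl (φ.smulRight w)) = T.sp w := by
  obtain ⟨y, hy⟩ := DFunLike.ne_iff.1 hφ
  replace hy : φ y ≠ 0 := hy
  refine le_antisymm ?_ ?_
  · rintro _ ⟨v, rfl⟩
    exact ⟨_, (T.sl_rk φ w v).symm⟩
  · rintro _ ⟨u, rfl⟩
    exact ⟨T.tm u ((φ y)⁻¹ • y), by simp [hy]⟩

/-- `b` commutes with the slot. -/
def Cm (b : End F V) : Prop := ∀ x v, b (T.sl x v) = T.sl x (b v)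

variable {T T'}

theorem Cm.add {b c : End F V} (hb : T.Cm b) (hc : T.Cm c) : T.Cm (b + c) := fun x v => by
  simp [hb x v, hc x v]

theorem Cm.smul {b : End F V} (hb : T.Cm b) (a : F) : T.Cm (a • b) := fun x v => by simp [hb x v]

theorem Cm.mul {b c : End F V} (hb : T.Cm b) (hc : T.Cm c) : T.Cm (b * c) := fun x v => by
  simp [hc x v, hb x]

theorem Cm.exists_left {b : End F V} (hb : T.Cm b) (hW : ∃ w : W, w ≠ 0) :
    ∃ a : End F U, ∀ u w, b (T.tm u w) = T.tm (a u) w := by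
  obtain ⟨w₀, hw₀⟩ := hW
  obtain ⟨φ, hφ⟩ := exists_dual_eq_one (F := F) hw₀
  refine ⟨T.cR φ ∘ₗ b ∘ₗ T.tm.flip w₀, fun u w => ?_⟩
  have := hb (φ.smulRight w) (T.tm u w₀)
  rw [sl_tm, sl_rk] at this
  simpa [hφ] using this

theorem cm_krL (a : End F U) : T.Cm (T.krL a LinearMap.id) := fun x =>
  T.ext (f := T.krL a LinearMap.id ∘ₗ T.sl x) (g := T.sl x ∘ₗ T.krL a LinearMap.id) fun u w => by simp

theorem Cm.cR {b : End F V} {a : End F U} (e : ∀ u w, b (T.tm u w) = T.tm (a u) w) (φ : Dual F W)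
    (v : V) : T.cR φ (b v) = a (T.cR φ v) :=
  T.ext (f := T.cR φ ∘ₗ b) (g := a ∘ₗ T.cR φ) (fun u w => by simp [e]) v

theorem exists_sl_of [FiniteDimensional F W] (hU : ∃ u : U, u ≠ 0) {b : End F V}
    (hc : ∀ (φ : Dual F W) (w : W), ∃ c : F, ∀ u, T.cR φ (b (T.tm u w)) = c • u) :
    ∃ x, ∀ v, b v = T.sl x v := by
  obtain ⟨u₀, hu₀⟩ := hU
  obtain ⟨α, hα⟩ := exists_dual_eq_one (F := F) hu₀
  refine ⟨T.cL α ∘ₗ b ∘ₗ T.tm u₀, T.ext fun u w => T.eq_of_cR fun φ => ?_⟩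
  obtain ⟨c, hc⟩ := hc φ w
  rw [hc, sl_tm, cR_tm, LinearMap.comp_apply, cL_cR, LinearMap.comp_apply, hc, map_smul, hα,
    smul_eq_mul, mul_one]

variable (T)

/-- A matrix coefficient of `b`. -/
def co (b : End F V) (β : Dual F W) (y : W) : End F V :=
  T.krL (T.cR β ∘ₗ b ∘ₗ T.tm.flip y) LinearMap.id

@[simp] theorem co_tm (b : End F V) (β : Dual F W) (y : W) (u : U) (w : W) :
    T.co b β y (T.tm u w) = T.tm (T.cR β (b (T.tm u y))) w := T.krL_tm _ _ u w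

theorem cm_co (b : End F V) (β : Dual F W) (y : W) : T.Cm (T.co b β y) := cm_krL _

theorem co_mul (b : End F V) (β α : Dual F W) (y z : W) :
    T.co b β y * T.sl (α.smulRight z) = T.sl (β.smulRight z) * b * T.sl (α.smulRight y) :=
  LinearMap.ext fun v => by simp [sl_rk]

variable {T} in
theorem co_comm (hW : ∃ w : W, w ≠ 0) {b c : End F V} (hc : T.Cm c) (h : ∀ v, b (c v) = c (b v))
    (β : Dual F W) (y : W) (v : V) : T.co b β y (c v) = c (T.co b β y v) := by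
  obtain ⟨a, e⟩ := hc.exists_left hW
  exact T.ext (f := T.co b β y ∘ₗ c) (g := c ∘ₗ T.co b β y) (fun u w => by
    simp only [LinearMap.comp_apply, e, co_tm]
    rw [← e, h, Cm.cR e]) v

theorem eq_sum_co [FiniteDimensional F W] (b : End F V) :
    b = ∑ i, ∑ j, T.co b ((finBasis F W).coord i) (finBasis F W j) *
      T.sl (((finBasis F W).coord j).smulRight (finBasis F W i)) := by
  have : ∑ j, T.sl (((finBasis F W).coord j).smulRight (finBasis F W j)) = 1 := by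
    rw [← map_sum, ← map_one T.sl]
    exact congrArg _ (LinearMap.ext fun v => by simp)
  simp only [co_mul, ← Finset.mul_sum, ← Finset.sum_mul, this, one_mul, mul_one]

/-- `g` maps the slot of `T` to the slot of `T'`. -/
def Mv (T' : Tn F U W V) (g : V ≃ₗ[F] V) : Prop := ∀ x, ∃ x', ∀ v, g (T.sl x v) = T'.sl x' (g v)

variable {T} {T'' : Tn F U W V} {g h : V ≃ₗ[F] V}

theorem Mv.mul (h1 : T'.Mv T'' g) (h2 : T.Mv T' h) : T.Mv T'' (g * h) := fun x =>
  let ⟨x', e⟩ := h2 x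
  let ⟨x'', e'⟩ := h1 x'
  ⟨x'', fun v => by rw [mul_app, e, e', mul_app]⟩

theorem Cm.mv (h : T.Cm g.toLinearMap) : T.Mv T g := fun x => ⟨x, h x⟩

theorem mv_of_NG (h : g ∈ T.NG) : T.Mv T g := by
  obtain ⟨a, d, rfl⟩ := h
  exact fun x => ⟨cjL d x, T.ext (f := (T.kr a d).toLinearMap ∘ₗ T.sl x)
    (g := T.sl (cjL d x) ∘ₗ (T.kr a d).toLinearMap) fun u w => by simp [cjL_app]⟩

theorem Mv.cm (h : T.Mv T' g) {b b' : End F V} (hb : T'.Cm b') (e : ∀ v, g (b v) = b' (g v)) :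
    T.Cm b := fun x v => g.injective (by
  obtain ⟨x', e'⟩ := h x
  rw [e, e', e', e, hb])

variable [FiniteDimensional F U] [FiniteDimensional F W] [FiniteDimensional F V]

theorem Mv.inv (hU : ∃ u : U, u ≠ 0) (h : T.Mv T' g) : T'.Mv T g⁻¹ := by
  choose f hf using h
  have key : ∀ x x', (∀ v, g (T.sl x v) = T'.sl x' (g v)) → f x = x' := fun x x' e =>
    T'.sl_inj hU fun v => by rw [← app_inv_app g v, ← hf, e]
  let f' : End F W →ₗ[F] End F W :=
    { toFun := f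
      map_add' := fun x y => key _ _ fun v => by simp [hf]
      map_smul' := fun c x => key _ _ fun v => by simp [hf] }
  have : Function.Surjective f' := LinearMap.injective_iff_surjective.1 fun x y e =>
    T.sl_inj hU fun v => g.injective (by rw [hf, hf, show f x = f y from e])
  intro x'
  obtain ⟨x, rfl⟩ := this x'
  exact ⟨x, fun v => g.injective (by rw [app_inv_app, hf, app_inv_app]; rfl)⟩

theorem map_sp_eq {w w' : W} (hw : w ≠ 0) (hw' : w' ≠ 0)
    (h : T'.sp w' ≤ (T.sp w).map g.toLinearMap) : (T.sp w).map g.toLinearMap = T'.sp w' :=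
  (Submodule.eq_of_le_of_finrank_eq h (by
    rw [LinearEquiv.finrank_map_eq, T.finrank_sp hw, T'.finrank_sp hw'])).symm

theorem exists_left' {w w' : W} (hw : w ≠ 0) (hw' : w' ≠ 0)
    (h : ∀ u, g (T.tm u w) ∈ T'.sp w') : ∃ a : U ≃ₗ[F] U, ∀ u, g (T.tm u w) = T'.tm (a u) w' := by
  obtain ⟨φ, hφ⟩ := exists_dual_eq_one (F := F) hw'
  let a : U →ₗ[F] U := T'.cR φ ∘ₗ g.toLinearMap ∘ₗ T.tm.flip w
  have e : ∀ u, g (T.tm u w) = T'.tm (a u) w' := fun u => by
    obtain ⟨u', hu'⟩ := h u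
    change T'.tm u' w' = _ at hu'
    change _ = T'.tm (T'.cR φ (g (T.tm u w))) w'
    rw [← hu', cR_tm, hφ, one_smul]
  refine ⟨LinearEquiv.ofInjectiveEndo a fun u u' huu => T.left_inj hw (g.injective ?_), e⟩
  rw [e, e, huu]

/-- The image of a rank one element of a slot. -/
theorem exists_sp_of_sl (hU : ∃ u : U, u ≠ 0) {φ : Dual F W} (hφ : φ ≠ 0) {w : W} (hw : w ≠ 0)
    {x : End F W} (e : ∀ v, g (T.sl (φ.smulRight w) v) = T'.sl x (g v)) :
    ∃ w', w' ≠ 0 ∧ (T.sp w).map g.toLinearMap = T'.sp w' := by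
  obtain ⟨z, hz⟩ : ∃ z, x z ≠ 0 := by
    by_contra hc
    push Not at hc
    obtain ⟨u, hu⟩ := hU
    obtain ⟨v, hv⟩ := (T.range_sl_rk hφ w).ge (T.tm_mem_sp u w)
    have := e v
    rw [hv, show x = 0 from LinearMap.ext hc, map_zero, LinearMap.zero_apply, g.map_eq_zero_iff] at this
    exact T.tm_ne_zero hu hw this
  refine ⟨_, hz, map_sp_eq hw hz ?_⟩
  rintro _ ⟨u, rfl⟩
  exact ⟨_, (T.range_sl_rk hφ w).le ⟨g⁻¹ (T'.tm u z), rfl⟩, (e _).trans (by simp)⟩

theorem Mv.exists_tm (hU : ∃ u : U, u ≠ 0) (hW : ∃ w : W, w ≠ 0) (h : T.Mv T' g) :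
    ∃ (a : U ≃ₗ[F] U) (d : W ≃ₗ[F] W), ∀ u w, g (T.tm u w) = T'.tm (a u) (d w) := by
  obtain ⟨w₀, hw₀⟩ := hW
  obtain ⟨φ, hφ⟩ := exists_dual_eq_one (F := F) hw₀
  obtain ⟨x, e⟩ := h (φ.smulRight w₀)
  obtain ⟨w₁, hw₁, e₁⟩ := exists_sp_of_sl hU (fun e => by simp [e] at hφ) hw₀ e
  obtain ⟨a, ea⟩ := exists_left' (g := g) (T' := T') hw₀ hw₁ fun u =>
    e₁.le ⟨_, T.tm_mem_sp u w₀, rfl⟩
  obtain ⟨u₀, hu₀⟩ := hU
  obtain ⟨α, hα⟩ := exists_dual_eq_one (F := F) (a.map_ne_zero_iff.2 hu₀)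
  let d : W →ₗ[F] W := T'.cL α ∘ₗ g.toLinearMap ∘ₗ T.tm u₀
  have ed : ∀ u w, g (T.tm u w) = T'.tm (a u) (d w) := fun u w => by
    obtain ⟨y, ey⟩ := h (φ.smulRight w)
    have k : ∀ u, g (T.tm u w) = T'.tm (a u) (y w₁) := fun u => by
      simpa [hφ, ea] using ey (T.tm u w₀)
    rw [k, show d w = y w₁ by simp [d, k, hα]]
  exact ⟨a, LinearEquiv.ofInjectiveEndo d fun w w' e => T.right_inj hu₀
    (g.injective (by rw [ed, ed, e])), ed⟩

theorem Mv.mem_NG (hU : ∃ u : U, u ≠ 0) (hW : ∃ w : W, w ≠ 0) (h : T.Mv T g) : g ∈ T.NG :=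
  let ⟨a, d, e⟩ := h.exists_tm hU hW
  ⟨a, d, T.ext' fun u w => by rw [e, kr_tm]⟩

/-- An element of small support in `GL(U) ∘ GL(W)`. -/
theorem smul_of_rank (h3 : 3 ≤ finrank F W) {a : U ≃ₗ[F] U} {d : W ≃ₗ[F] W} {L : Submodule F V}
    (hL : ∀ v, T.kr a d v - v ∈ L) (hr : finrank F L ≤ finrank F U)
    (hd : ¬ ∃ c : F, ∀ w, d w = c • w) : ∃ c : F, ∀ u, a u = c • u := by
  obtain ⟨z, hz⟩ := exists_not_eigen (A := d.toLinearMap) hd
  obtain ⟨β, h1, h2⟩ := exists_dual_zero_one hz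
  replace h2 : β (d z) = 1 := h2
  have h4 : Function.Injective (T.cR β ∘ₗ L.subtype) :=
    (LinearMap.injective_iff_surjective_of_finrank_eq_finrank (le_antisymm hr ?_)).2 ?_
  · obtain ⟨y, -, y0, hy⟩ := exists_ne_zero_ker [β, β ∘ₗ d.toLinearMap] (⊤ : Submodule F W)
      (by simp; omega)
    have y1 : β y = 0 := hy β (by simp)
    have y2 : β (d y) = 0 := hy (β ∘ₗ d.toLinearMap) (by simp)
    obtain ⟨γ, hγ⟩ := exists_dual_eq_one (F := F) (d.map_ne_zero_iff.2 y0)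
    refine ⟨γ y, fun u => ?_⟩
    have := (injective_iff_map_eq_zero _).1 h4 ⟨_, hL (T.tm u y)⟩ (by simp [y1, y2])
    simpa [hγ, sub_eq_zero] using congrArg (fun x : L => T.cR γ x.1) this
  all_goals have h5 : Function.Surjective (T.cR β ∘ₗ L.subtype) := fun u =>
    ⟨⟨_, hL (T.tm (a⁻¹ u) z)⟩, by simp [h1, h2]⟩
  · exact LinearMap.finrank_le_finrank_of_surjective h5
  · exact h5

end Tn

/-- A tensor power: commuting slots whose common centraliser consists of scalars. -/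
structure TP {ι : Type*} (T : ι → Tn F U W V) : Prop where
  cm : ∀ i j, i ≠ j → ∀ x, (T i).Cm ((T j).sl x)
  scal : ∀ b : End F V, (∀ i, (T i).Cm b) → ∃ c : F, ∀ v, b v = c • v
  neU : ∃ u : U, u ≠ 0
  two : 2 ≤ finrank F W

namespace TP

open Tn

variable {ι : Type*} {T : ι → Tn F U W V} (hT : TP T) {g h : V ≃ₗ[F] V} {i j l : ι}
include hT

theorem neW : ∃ w : W, w ≠ 0 :=
  let ⟨w, hw⟩ := exists_notMem_span hT.two (0 : W)
  ⟨w, fun e => hw (by simp [e])⟩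

theorem cm_co (hij : i ≠ j) {b : End F V} (hb : (T i).Cm b) (β : Dual F W) (y : W) :
    (T i).Cm ((T j).co b β y) := fun x => co_comm hT.neW (hT.cm j i hij.symm x) (hb x) β y

theorem smul_of_eq (hij : i ≠ j) {x y : End F W} (e : ∀ v, (T i).sl x v = (T j).sl y v) :
    ∃ c : F, ∀ w, x w = c • w := by
  refine exists_smul_of_comm fun w => ?_
  by_contra hc
  obtain ⟨φ, h1, h2⟩ := exists_dual_zero_one (K := F) (x := w) (u := x w) fun h => by
    obtain ⟨c, hc'⟩ := Submodule.mem_span_singleton.1 h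
    exact hc ⟨c, hc'.symm⟩
  obtain ⟨u, hu⟩ := hT.neU
  have := hT.cm i j hij y (φ.smulRight w) ((T i).tm u w)
  rw [← e, ← e] at this
  exact (T i).tm_ne_zero hu (fun e => by simp [e] at h2 : w ≠ 0) (by simpa [h1, h2] using this.symm)

theorem not_smul : ∃ x : End F W, ¬ ∃ c : F, ∀ w, x w = c • w := by
  obtain ⟨w, hw⟩ := hT.neW
  obtain ⟨z, hz⟩ := exists_notMem_span hT.two w
  obtain ⟨φ, hφ⟩ := exists_dual_eq_one (F := F) hw
  exact ⟨φ.smulRight z, fun ⟨c, hc⟩ => hz (Submodule.mem_span_singleton.2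
    ⟨c, by simpa [hφ] using (hc w).symm⟩)⟩

variable [FiniteDimensional F U] [FiniteDimensional F W] [FiniteDimensional F V]

theorem exists_sl {b : End F V} (hb : ∀ i, i ≠ j → (T i).Cm b) : ∃ x, ∀ v, b v = (T j).sl x v := by
  refine exists_sl_of hT.neU fun φ w => ?_
  obtain ⟨c, hc⟩ := hT.scal ((T j).co b φ w) fun i => by
    by_cases h : i = j
    · exact h ▸ (T i).cm_co b φ w
    · exact hT.cm_co h (hb i h) φ w
  obtain ⟨y, hy⟩ := hT.neW
  exact ⟨c, fun u => (T j).left_inj hy (by simpa using hc ((T j).tm u y))⟩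

theorem mv_inj (h1 : (T i).Mv (T l) g) (h2 : (T j).Mv (T l) g) : i = j := by
  by_contra hij
  obtain ⟨x, hx⟩ := hT.not_smul
  obtain ⟨y, e⟩ := (h2.inv hT.neU).mul h1 x
  exact hx (hT.smul_of_eq hij (by simpa [one_app] using e))

theorem mv_unique (h1 : (T i).Mv (T j) g) (h2 : (T i).Mv (T l) g) : j = l :=
  hT.mv_inj (h1.inv hT.neU) (h2.inv hT.neU)

/-- If all slots other than `j` are images of slots other than `i`, then `i` goes to `j`. -/
theorem mv_of_others (h : ∀ k, k ≠ j → ∃ k', k' ≠ i ∧ (T k').Mv (T k) g) : (T i).Mv (T j) g :=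
  fun x => by
    obtain ⟨y, e⟩ := hT.exists_sl (j := j) (b := cjL g ((T i).sl x)) fun k hk => by
      obtain ⟨k', h1, h2⟩ := h k hk
      exact (h2.inv hT.neU).cm (hT.cm k' i h1 x) fun v => by simp [cjL_apply]
    exact ⟨y, fun v => by rw [← e, cjL_app]⟩

/-- The group permuting the slots. -/
def WR [Finite ι] : Subgroup (V ≃ₗ[F] V) where
  carrier := {g | ∀ i, ∃ j, (T i).Mv (T j) g}
  one_mem' i := ⟨i, fun x => ⟨x, fun _ => rfl⟩⟩
  mul_mem' {a b} ha hb i :=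
    let ⟨j, hj⟩ := hb i
    let ⟨l, hl⟩ := ha j
    ⟨l, hl.mul hj⟩
  inv_mem' {a} ha j := by
    choose f hf using ha
    obtain ⟨i, rfl⟩ := Finite.injective_iff_surjective.1
      (show Function.Injective f from fun i i' e => hT.mv_inj (hf i) (e ▸ hf i')) j
    exact ⟨i, (hf i).inv hT.neU⟩

/-- Intersections of subspaces attached to different slots. -/
theorem finrank_inf (hij : i ≠ j) (Y Z : Submodule F W) :
    finrank F ↥((T i).ts Y ⊓ (T j).ts Z) * finrank F W ≤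
      finrank F U * (finrank F Y * finrank F Z) := by
  obtain ⟨Y', hY⟩ := Y.exists_isCompl
  obtain ⟨a, ea⟩ := (hT.cm j i hij.symm (Y.subtype ∘ₗ Y.projectionOnto Y' hY)).exists_left hT.neW
  have e : ∀ v, (T i).sl (Y.subtype ∘ₗ Y.projectionOnto Y' hY) v =
      (T j).swap.krL LinearMap.id a v := (T j).ext fun u w => by
    rw [ea, ← swap_tm (T j) w u, krL_tm, swap_tm, LinearMap.id_apply]
  have h1 : (T i).ts Y = (T j).swap.ts (LinearMap.range a) := by
    rw [← range_krL, ← LinearMap.ext e]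
    refine Eq.trans ?_ ((T i).range_krL _).symm
    rw [LinearMap.range_comp, Submodule.range_projectionOnto, Submodule.map_subtype_top]
  have h2 := (T i).finrank_ts Y
  rw [h1, finrank_ts] at h2
  let T' : Tn F (LinearMap.range a) Z (TensorProduct F (LinearMap.range a) Z) := ⟨LinearEquiv.refl _ _⟩
  have h3 : (T i).ts Y ⊓ (T j).ts Z ≤ LinearMap.range
      (T'.lift ((T j).tm.compl₁₂ (LinearMap.range a).subtype Z.subtype)) := fun v hv => by
    have k1 : ∀ v ∈ (T j).ts Z, (T j).swap.krL LinearMap.id a v ∈ LinearMap.range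
        (T'.lift ((T j).tm.compl₁₂ (LinearMap.range a).subtype Z.subtype)) := fun v hv =>
      (T j).ts_le (X := Submodule.comap ((T j).swap.krL LinearMap.id a) (LinearMap.range _))
        (fun u z hz => ⟨T'.tm ⟨_, u, rfl⟩ ⟨z, hz⟩, by rw [← e, ea]; simp⟩) hv
    have k2 : (T i).sl (Y.subtype ∘ₗ Y.projectionOnto Y' hY) v - v = 0 :=
      (T i).eq_zero_on_ts (f := (T i).sl (Y.subtype ∘ₗ Y.projectionOnto Y' hY) - LinearMap.id)
        (fun u y hy => by simp [Submodule.projectionOnto_apply_left hY ⟨y, hy⟩]) hv.1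
    simpa only [← e, sub_eq_zero.1 k2] using k1 v hv.2
  have h4 := (Submodule.finrank_mono h3).trans (LinearMap.finrank_range_le _)
  rw [finrank_tensorProduct] at h4
  nlinarith

/-- Elements moving a slot have large support. -/
theorem finrank_lt_four (hij : i ≠ j) (h : (T i).Mv (T j) g) {L : Submodule F V}
    (hL : ∀ v, g v - v ∈ L) (hr : finrank F L ≤ finrank F U) : finrank F W < 4 := by
  obtain ⟨a, d, e⟩ := h.exists_tm hT.neU hT.neW
  obtain ⟨y, hy⟩ := hT.neW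
  obtain ⟨z, hz⟩ := exists_notMem_span hT.two y
  obtain ⟨u, hu⟩ := hT.neU
  have z0 : z ≠ 0 := fun e => hz (by simp [e])
  let Y := Submodule.span F (Set.range ![y, z])
  have hY : finrank F Y = 2 := by
    rw [finrank_span_eq_card ((LinearIndependent.pair_iff' hy).2 fun c hc =>
      hz (Submodule.mem_span_singleton.2 ⟨c, hc⟩)), Fintype.card_fin]
  have yY : y ∈ Y := Submodule.subset_span ⟨0, rfl⟩
  have zY : z ∈ Y := Submodule.subset_span ⟨1, rfl⟩
  let f := (g.toLinearMap - LinearMap.id).domRestrict ((T i).ts Y)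
  have h1 := LinearMap.finrank_range_add_finrank_ker f
  have h2 : finrank F (LinearMap.range f) ≤ finrank F L := Submodule.finrank_mono (by
    rintro _ ⟨v, rfl⟩; exact hL v)
  have h3 := hT.finrank_inf hij Y (Y.map d.toLinearMap)
  have m1 : ∀ v ∈ (T i).ts Y, g v ∈ (T j).ts (Y.map d.toLinearMap) := fun v hv =>
    (T i).ts_le (X := ((T j).ts (Y.map d.toLinearMap)).comap g.toLinearMap) (fun u y hy => by
      rw [Submodule.mem_comap, LinearEquiv.coe_coe, e]; exact (T j).tm_mem_ts _ ⟨y, hy, rfl⟩) hv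
  obtain ⟨φ, hφ⟩ := exists_dual_eq_one (F := F) hy
  obtain ⟨b, eb⟩ := (hT.cm j i hij.symm (φ.smulRight y)).exists_left hT.neW
  obtain ⟨u', hu'⟩ : ∃ u', b u' ≠ 0 := by
    by_contra hc
    push Not at hc
    have := (T j).ext (f := (T i).sl (φ.smulRight y)) (g := 0) (fun u w => by simp [eb, hc])
      ((T i).tm u y)
    exact (T i).tm_ne_zero hu hy (by simpa [hφ] using this)
  have e1 := (eb u' (d z)).symm.trans ((T i).sl_rk φ y _)
  have h4 : (LinearMap.ker f).map ((T i).ts Y).subtype < (T i).ts Y ⊓ (T j).ts (Y.map d.toLinearMap) := by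
    refine SetLike.lt_iff_le_and_exists.2 ⟨?_, (T j).tm (b u') (d z), ⟨e1 ▸ (T i).tm_mem_ts _ yY,
      (T j).tm_mem_ts _ ⟨z, zY, rfl⟩⟩, ?_⟩
    · rintro _ ⟨v, hv, rfl⟩
      have := m1 v v.2
      rw [show g v = v from sub_eq_zero.1 hv] at this
      exact ⟨v.2, this⟩
    · rintro ⟨v, hv, e2⟩
      replace hv : g v = v := sub_eq_zero.1 hv
      rw [show v.1 = _ from e2] at hv
      conv_lhs at hv => rw [e1, e]
      obtain ⟨c, hc⟩ := Submodule.mem_span_singleton.1 ((T j).mem_of_tm_mem_ts hu'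
        (Y := Submodule.span F {d y}) (hv ▸ (T j).tm_mem_ts _ (Submodule.mem_span_singleton_self _)))
      exact hz (Submodule.mem_span_singleton.2 ⟨c, d.injective (by rw [map_smul, hc])⟩)
  have h5 := Submodule.finrank_lt_finrank_of_lt h4
  rw [Submodule.finrank_map_subtype_eq] at h5
  rw [finrank_ts, hY] at h1
  rw [LinearEquiv.finrank_map_eq, hY] at h3
  nlinarith

theorem exists_krR_of_fix (h3 : 3 ≤ finrank F W) (hg : ∀ i, (T i).Mv (T i) g) {L : Submodule F V}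
    (hL : ∀ v, g v - v ∈ L) (hr : finrank F L ≤ finrank F U) (i : ι) (hne : ∃ v, g v ≠ v) :
    ∃ l d, g = (T l).krR d := by
  by_contra hc
  push Not at hc
  obtain ⟨c, e⟩ := hT.scal g.toLinearMap fun l => by
    obtain ⟨a, d, rfl⟩ := (hg l).mem_NG hT.neU hT.neW
    obtain ⟨c, hd⟩ : ∃ c : F, ∀ w, d w = c • w := by
      by_contra hd
      obtain ⟨d', e⟩ := (T l).exists_krR_of_smul d hT.neU (smul_of_rank h3 hL hr hd)
      exact hc l d' e
    exact fun x => (T l).ext (f := ((T l).kr a d).toLinearMap ∘ₗ (T l).sl x)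
      (g := (T l).sl x ∘ₗ ((T l).kr a d).toLinearMap) fun u w => by simp [hd]
  replace e : ∀ v, g v = c • v := e
  obtain ⟨v, hv⟩ := hne
  have c1 : c - 1 ≠ 0 := fun h => hv (by rw [e, sub_eq_zero.1 h, one_smul])
  have h1 : L = ⊤ := eq_top_iff.2 fun x _ => by
    have := L.smul_mem (c - 1)⁻¹ (hL x)
    rwa [e, show c • x - x = (c - 1) • x by module, smul_smul, inv_mul_cancel₀ c1, one_smul] at this
  have h2 : 0 < finrank F U := finrank_pos_iff_exists_ne_zero.2 hT.neU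
  rw [h1, finrank_top, ← (T i).e.finrank_eq, finrank_tensorProduct] at hr
  nlinarith

theorem exists_sl_ne_zero (hij : i ≠ j) {x y : End F W} (hx : x ≠ 0) (hy : y ≠ 0) :
    ∃ v, (T i).sl x ((T j).sl y v) ≠ 0 := by
  obtain ⟨b, eb⟩ := (hT.cm j i hij.symm x).exists_left hT.neW
  obtain ⟨u, hu⟩ : ∃ u, b u ≠ 0 := by
    by_contra hc
    push Not at hc
    exact hx ((T i).sl_inj hT.neU ((T j).ext fun u w => by simp [eb, hc]))
  obtain ⟨w, hw⟩ := DFunLike.ne_iff.1 hy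
  exact ⟨(T j).tm u w, by rw [sl_tm, eb]; exact (T j).tm_ne_zero hu hw⟩

/-- An involution of small support interchanging two slots of dimension three. -/
theorem swap_fix (hij : i ≠ j) (h : (T i).Mv (T j) g) (h2 : ∀ v, g (g v) = v) {L : Submodule F V}
    (hL : ∀ v, g v - v ∈ L) (hr : finrank F L ≤ finrank F U) (b : Basis (Fin 3) F W) {u : V}
    (hu : u ∈ L) (hf : ∀ a c, a ≠ c → c ≠ 0 → ∀ n, n = (T i).sl ((b.coord c).smulRight (b a)) →
      n u + g (n (g u)) + n (g (n (g u))) = 0) : u = 0 := by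
  let E : Fin 3 → Fin 3 → End F V := fun a c => (T i).sl ((b.coord c).smulRight (b a))
  have E1 : ∀ a c d v, E a c (E c d v) = E a d v := fun a c d v => by simp [E, sl_rk]
  have E0 : ∀ a c c' d v, c ≠ c' → E a c (E c' d v) = 0 := fun a c c' d v h => by
    simp [E, sl_rk, h.symm]
  have E2 : ∀ v, E 0 0 v + E 1 1 v + E 2 2 v = v := (T i).ext
    (f := E 0 0 + E 1 1 + E 2 2) (g := LinearMap.id) fun u w => by
      conv_rhs => rw [← b.sum_repr w, Fin.sum_univ_three]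
      simp [E]
  have cm : ∀ a c a' c' v, g (E a' c' (g (E a c v))) = E a c (g (E a' c' (g v))) :=
    fun a c a' c' v => by
      obtain ⟨x, e⟩ := h ((b.coord c').smulRight (b a'))
      simp only [E, e, h2]
      exact hT.cm i j hij x _ v
  let p : End F V := E 0 0 * g * E 1 1 * g + E 1 1 * g * E 2 2 * g + E 2 2 * g * E 0 0 * g
  have ep : ∀ v, p v = E 0 0 (g (E 1 1 (g v))) + E 1 1 (g (E 2 2 (g v))) + E 2 2 (g (E 0 0 (g v))) :=
    fun _ => rfl
  have k1 : finrank F V ≤ 3 * finrank F (LinearMap.range p) := by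
    let c : End F V := E 1 0 + E 2 1 + E 0 2
    have : ⊤ ≤ LinearMap.range p ⊔ (LinearMap.range p).map g.toLinearMap ⊔
        (LinearMap.range p).map c := fun v _ => by
      have e : v = p v + g (p (g v)) + c (p ((E 0 1 + E 1 2 + E 2 0) v)) := by
        have f := fun x => congrArg g (E2 (g x))
        simp only [map_add, h2] at f
        simp only [ep, c, LinearMap.add_apply, map_add, h2, cm, E1, E0, ne_eq, Fin.reduceEq,
          not_false_eq_true, map_zero]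
        rw [← E2 v, ← f v]
        simp only [map_add, cm, E1, E0, ne_eq, Fin.reduceEq, not_false_eq_true, map_zero, h2]
        abel
      rw [e]
      exact add_mem (Submodule.mem_sup_left (add_mem (Submodule.mem_sup_left ⟨_, rfl⟩)
        (Submodule.mem_sup_right ⟨_, ⟨_, rfl⟩, rfl⟩))) (Submodule.mem_sup_right ⟨_, ⟨_, rfl⟩, rfl⟩)
    have h1 := Submodule.finrank_mono this
    have h3 := Submodule.finrank_add_le_finrank_add_finrank
      (LinearMap.range p ⊔ (LinearMap.range p).map g.toLinearMap) ((LinearMap.range p).map c)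
    have h4 := Submodule.finrank_add_le_finrank_add_finrank (LinearMap.range p)
      ((LinearMap.range p).map g.toLinearMap)
    have h5 := Submodule.finrank_map_le c (LinearMap.range p)
    rw [finrank_top] at h1
    rw [LinearEquiv.finrank_map_eq] at h4
    omega
  have k2 : (LinearMap.range p).map (g.toLinearMap - LinearMap.id) = L := by
    refine Submodule.eq_of_le_of_finrank_le (by rintro _ ⟨v, -, rfl⟩; exact hL v) ?_
    rw [← LinearMap.range_domRestrict, LinearMap.finrank_range_of_inj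
      ((injective_iff_map_eq_zero _).2 ?_)]
    · rw [← (T i).e.finrank_eq, finrank_tensorProduct, finrank_eq_card_basis b,
        Fintype.card_fin] at k1
      omega
    rintro ⟨_, v, rfl⟩ hv
    have e1 : p (p v) = p (g (p v)) := by rw [show g (p v) = p v from sub_eq_zero.1 hv]
    simpa [ep, h2, cm, E1, E0] using e1
  obtain ⟨_, ⟨v, rfl⟩, e⟩ := k2.ge hu
  replace e : g (p v) - p v = u := e
  have k3 : g u = -u := by rw [← e, map_sub, h2, neg_sub]
  have k4 : ∀ a c d, a ≠ c → c ≠ 0 → d ≠ a → E c c (g (E d d u)) = 0 := fun a c d h1 h3 h4 => by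
    have := congrArg (fun x => E c a (g (E d d (g x)))) (hf a c h1 h3 (E a c) rfl)
    simpa [cm, h2, E1, E0 _ _ _ _ _ h4, k3] using this
  have k5 : ∀ c, c ≠ 0 → E c c u = 0 := fun c hc => by
    have := congrArg (fun x => E c c (g x)) (E2 u)
    simp only [map_add, k3, map_neg] at this
    rw [← neg_eq_zero, ← this]
    fin_cases c
    · exact absurd rfl hc
    · simp [k4 2 1 0, k4 0 1 1, k4 0 1 2]
    · simp [k4 1 2 0, k4 0 2 1, k4 0 2 2]
  have k6 : E 0 0 u = u := by simpa [k5] using E2 u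
  have k7 : E 0 0 (g (E 0 0 (g u))) = 0 := by simp [← e, ep, h2, cm, E1, E0]
  rwa [k3, map_neg, k6, map_neg, k3, neg_neg, k6] at k7

variable [Fintype ι] [DecidableEq ι] {M : Subgroup (V ≃ₗ[F] V)}

/-- Descending induction on the set of normalised slots. -/
theorem le_WR (hp : ∀ j l, j ≠ l → (∃ i, i ≠ j ∧ i ≠ l) → ∃ p ∈ M, p ∈ hT.WR ∧ (T j).Mv (T l) p ∧
      ∀ i, i ≠ j → i ≠ l → (T i).Mv (T i) p)
    (step : ∀ (A : Finset ι) (j₁ j₂ : ι), j₁ ≠ j₂ → j₁ ∉ A → j₂ ∉ A →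
      (∀ j ∉ A, ∀ l, ∀ g ∈ M, (∀ i ∈ A, (T i).Mv (T i) g) → (T j).Mv (T l) g → g ∈ hT.WR) →
      ∀ g ∈ M, (∀ i ∈ A, (T i).Mv (T i) g) → g ∈ hT.WR) : M ≤ hT.WR := by
  have key : ∀ n, ∀ A : Finset ι, Aᶜ.card = n → ∀ g ∈ M, (∀ i ∈ A, (T i).Mv (T i) g) →
      g ∈ hT.WR := fun n => by
    induction n using Nat.strong_induction_on with | h n ih => ?_
    rintro A rfl
    by_cases h : ∃ j₁ j₂, j₁ ≠ j₂ ∧ j₁ ∉ A ∧ j₂ ∉ A
    · obtain ⟨j₁, j₂, h1, h2, h3⟩ := h
      refine step A j₁ j₂ h1 h2 h3 fun j hj l g hg hA hl => ?_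
      have ih' := ih _ (Finset.card_lt_card (Finset.compl_ssubset_compl.2 (Finset.ssubset_insert hj)))
        _ rfl
      by_cases hjl : j = l
      · subst hjl
        exact ih' g hg (by simpa [hl] using hA)
      by_cases h3 : ∃ i, i ≠ j ∧ i ≠ l
      · obtain ⟨p, p1, p2, p3, p4⟩ := hp j l hjl h3
        have := ih' _ (M.mul_mem (M.inv_mem p1) hg) (Finset.forall_mem_insert _ _ _ |>.2
          ⟨(p3.inv hT.neU).mul hl, fun i hi => ((p4 i (fun e => hj (e ▸ hi)) fun e =>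
            hjl (hT.mv_inj hl (e ▸ hA i hi))).inv hT.neU).mul (hA i hi)⟩)
        simpa using hT.WR.mul_mem p2 this
      · push Not at h3
        intro i
        by_cases hi : i = j
        · exact ⟨l, hi ▸ hl⟩
        · exact ⟨j, hT.mv_of_others fun k hk => ⟨j, Ne.symm hi, (h3 k hk).symm ▸ hl⟩⟩
    · push Not at h
      intro g _ hA i
      by_cases hi : i ∈ A
      · exact ⟨i, hA i hi⟩
      · exact ⟨i, hT.mv_of_others fun k hk => ⟨k, hk, hA k (h i k (Ne.symm hk) hi)⟩⟩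
  exact fun g hg => key _ ∅ rfl g hg (by simp)

omit [Fintype ι] in
theorem cm_krR (hij : i ≠ j) (d : W ≃ₗ[F] W) : (T i).Cm ((T j).krR d).toLinearMap := fun x v => by
  simp only [LinearEquiv.coe_coe, krR_eq_sl]
  exact hT.cm i j hij _ x v

/-- The argument with involutions. -/
theorem le_WR_of_inv [Finite F] (R : Set (W ≃ₗ[F] W))
    (hp : ∀ j l, j ≠ l → (∃ i, i ≠ j ∧ i ≠ l) → ∃ p ∈ M, p ∈ hT.WR ∧ (T j).Mv (T l) p ∧
      ∀ i, i ≠ j → i ≠ l → (T i).Mv (T i) p)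
    (hR : ∀ i, ∀ ρ ∈ R, (T i).krR ρ ∈ M) (sq : ∀ ρ ∈ R, ρ * ρ = 1)
    (ns : ∀ ρ ∈ R, ¬ ∃ c : F, ∀ w, ρ w = c • w)
    (inj : ∀ ρ ∈ R, ∀ ρ' ∈ R, (∃ c : F, ∀ w, (ρ * ρ') w = c • w) → ρ = ρ')
    (par : ∀ ρ ∈ R, ∃ ρ' ∈ R, ρ' ≠ ρ ∧ ρ' * ρ = ρ * ρ') (ne : R.Nonempty)
    (cj : ∀ h ∈ M, ∀ i j (a : U ≃ₗ[F] U) (d : W ≃ₗ[F] W),
      (∀ u w, h ((T i).tm u w) = (T j).tm (a u) (d w)) → ∀ ρ ∈ R, d * ρ * d⁻¹ ∈ R)
    (uniq : ∀ g ∈ M, ∀ i, ∀ ρ ∈ R, g * (T i).krR ρ * g⁻¹ ∈ hT.WR → ∃ l, (T i).Mv (T l) g)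
    (cl : ∀ g ∈ M, ∀ i, ∀ ρ ∈ R, ∀ ρ' ∈ R, ρ ≠ ρ' → ρ * ρ' = ρ' * ρ →
      g * (T i).krR (ρ * ρ') = (T i).krR (ρ * ρ') * g → ∃ l, (T i).Mv (T l) g)
    (fin : ∀ g ∈ M, ∀ i, (∀ ρ ∈ R, ∀ ρ' ∈ R, g * (T i).krR (ρ * ρ') * g⁻¹ ∈ hT.WR) →
      ∃ l, (T i).Mv (T l) g) : M ≤ hT.WR := by
  have : Finite V := Module.finite_of_finite F
  have : Finite (V ≃ₗ[F] V) := DFunLike.finite _
  refine hT.le_WR hp fun A j₁ j₂ h12 h1 h2 K g hg hA => ?_
  let N : Subgroup (V ≃ₗ[F] V) :=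
    { carrier := {g | g ∈ M ∧ ∀ i ∈ A, (T i).Mv (T i) g}
      one_mem' := ⟨M.one_mem, fun i _ x => ⟨x, fun _ => rfl⟩⟩
      mul_mem' := fun ha hb => ⟨M.mul_mem ha.1 hb.1, fun i hi => (ha.2 i hi).mul (hb.2 i hi)⟩
      inv_mem' := fun ha => ⟨M.inv_mem ha.1, fun i hi => (ha.2 i hi).inv hT.neU⟩ }
  let I : ι → Set N := fun i => {s | i ∉ A ∧ ∃ ρ ∈ R, s.1 = (T i).krR ρ}
  let B : ι → Subgroup N := fun i =>
    { carrier := {b | (T i).Cm b.1.toLinearMap}
      one_mem' := fun _ _ => rfl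
      mul_mem' := fun ha hb => ha.mul hb
      inv_mem' := fun {a} ha x v => a.1.injective (by
        change a.1 (a.1⁻¹ _) = a.1.toLinearMap ((T i).sl x (a.1⁻¹ v))
        rw [ha, LinearEquiv.coe_coe, app_inv_app, app_inv_app]) }
  have mk : ∀ i ∉ A, ∀ ρ ∈ R, (T i).krR ρ ∈ N := fun i hi ρ hρ =>
    ⟨hR i ρ hρ, fun k hk => (hT.cm_krR (fun e : k = i => hi (e ▸ hk)) ρ).mv⟩
  have ki : ∀ i, Function.Injective (T i).krR := fun i ρ ρ' e => LinearEquiv.toLinearMap_injective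
    ((T i).sl_inj hT.neU fun v => by rw [← krR_eq_sl, ← krR_eq_sl, e])
  have kc : ∀ i (ρ : W ≃ₗ[F] W), (T i).Cm ((T i).krR ρ).toLinearMap → ∃ c : F, ∀ w, ρ w = c • w :=
    fun i ρ h => by
      obtain ⟨a, e⟩ := h.exists_left hT.neW
      obtain ⟨u, hu⟩ := hT.neU
      obtain ⟨α, hα⟩ := exists_dual_eq_one (F := F) hu
      exact ⟨α (a u), fun w => by simpa [hα] using congrArg ((T i).cL α) (e u w)⟩
  have D : InvD (hT.WR.subgroupOf N) I B := by
    refine ⟨?_, ?_, fun h hh i => ?_, ?_, ?_, ?_, ?_, ?_, ?_, ?_⟩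
    · rintro i s ⟨-, ρ, hρ, e⟩
      exact Subtype.ext (by rw [Subgroup.coe_mul, e, ← map_mul, sq ρ hρ, map_one]; rfl)
    · rintro i s ⟨-, ρ, hρ, e⟩ k
      refine ⟨k, (e ▸ ?_ : (T k).Mv (T k) s.1)⟩
      by_cases hk : k = i
      · exact hk ▸ mv_of_NG ((T k).krR_mem ρ)
      · exact (hT.cm_krR hk ρ).mv
    · obtain ⟨j, hj : (T i).Mv (T j) h.1⟩ := hh i
      obtain ⟨a, d, e⟩ := hj.exists_tm hT.neU hT.neW
      refine ⟨j, ?_, fun b hb => (hj.inv hT.neU).cm hb fun v => by simp⟩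
      rintro s ⟨hi, ρ, hρ, es⟩
      refine ⟨fun hjA => hi (hT.mv_inj hj (h.2.2 j hjA) ▸ hjA), _, cj h h.2.1 i j a d e ρ hρ, ?_⟩
      rw [Subgroup.coe_mul, Subgroup.coe_mul, Subgroup.coe_inv, mul_inv_eq_iff_eq_mul, es]
      exact (T i).ext' fun u w => by simp only [mul_app, e, krR_tm, inv_app_app]
    · rintro i j hij s ⟨-, ρ, -, e⟩
      exact (e ▸ hT.cm_krR hij ρ : (T i).Cm s.1.toLinearMap)
    · rintro i s ⟨-, ρ, -, e⟩ b hb
      exact Subtype.ext (LinearEquiv.ext fun v => by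
        simp only [Subgroup.coe_mul, mul_app, e, krR_eq_sl]; exact (hb _ v).symm)
    · rintro i s ⟨-, ρ, hρ, e⟩ hb
      exact ns ρ hρ (kc i ρ (e ▸ hb))
    · rintro i s ⟨-, ρ, hρ, e⟩ s' ⟨-, ρ', hρ', e'⟩ hb
      refine Subtype.ext (e.trans (inj ρ hρ ρ' hρ' (kc i _ ?_) ▸ e'.symm))
      rw [map_mul, ← e, ← e']
      exact hb
    · rintro i s ⟨hi, ρ, hρ, e⟩ g hg
      obtain ⟨l, hl⟩ := uniq g g.2.1 i ρ hρ (e ▸ hg)
      exact K i hi l g g.2.1 g.2.2 hl
    · rintro i s ⟨hi, ρ, hρ, e⟩ s' ⟨-, ρ', hρ', e'⟩ hne hc g hg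
      obtain ⟨l, hl⟩ := cl g g.2.1 i ρ hρ ρ' hρ' (fun h => hne (Subtype.ext (by rw [e, e', h])))
        (ki i (by rw [map_mul, map_mul, ← e, ← e']; exact congrArg Subtype.val hc))
        (by rw [map_mul, ← e, ← e']; exact congrArg Subtype.val hg)
      exact K i hi l g g.2.1 g.2.2 hl
    · rintro i s ⟨hi, ρ, hρ, e⟩
      obtain ⟨ρ', h1, h2, h3⟩ := par ρ hρ
      exact ⟨⟨_, mk i hi ρ' h1⟩, ⟨hi, ρ', h1, rfl⟩, fun h => h2 (ki i (e ▸ congrArg Subtype.val h)),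
        Subtype.ext (by simp only [Subgroup.coe_mul, e, ← map_mul, h3])⟩
  obtain ⟨ρ, hρ⟩ := ne
  refine D.mem_of_two (g := ⟨g, hg, hA⟩) h12 (t := ⟨_, mk j₂ h2 ρ hρ⟩) ⟨h2, ρ, hρ, rfl⟩
    (s₀ := ⟨_, mk j₁ h1 ρ hρ⟩) ⟨h1, ρ, hρ, rfl⟩ fun h => ?_
  obtain ⟨l, hl⟩ := fin g hg j₁ fun ρ hρ ρ' hρ' => by
    simpa [Subgroup.mem_subgroupOf] using
      h ⟨_, mk j₁ h1 ρ hρ⟩ ⟨h1, ρ, hρ, rfl⟩ ⟨_, mk j₁ h1 ρ' hρ'⟩ ⟨h1, ρ', hρ', rfl⟩
  exact K j₁ h1 l g hg hA hl

end TP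

end Cfsg.Agent.Class.Max
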