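import Mathlib
import Cfsg.Agent.Class.Max.C4Pt
import Cfsg.Agent.Class.Max.TPow

/-!
Tensor decompositions with a symplectic or unitary second factor: groups containing only the
classical group of that factor.
-/

set_option autoImplicit false
set_option linter.unusedSectionVars false

namespace Cfsg.Agent.Class.Max

open Module

namespace Fm

variable {F V : Type*} [Field F] [AddCommGroup V] [Module F V] {Φ : Fm F V}

theorem TV.π_eq (h : Φ.TV) {c : F} {x : V} (e : c + Φ.ε * Φ.σ c = Φ.B x x) : Φ.π c = Φ.Q x := by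
  obtain ⟨d, hd⟩ := Φ.range x
  have := h (c - d) (by rw [map_sub]; linear_combination e - Φ.trace d x hd)
  rwa [map_sub, hd, sub_eq_zero] at this

theorem TV.π_mul (h : Φ.TV) {l c : F} (hl : Φ.π l = 0) (hc : Φ.σ c = c) : Φ.π (c * l) = 0 :=
  h _ (by rw [map_mul, hc]; linear_combination c * Φ.lam_trace hl)

theorem fixed_div {l c : F} (hl : Φ.π l = 0) (l0 : l ≠ 0) (hc : Φ.π c = 0) :
    Φ.σ (c / l) = c / l := by
  rw [map_div₀, div_eq_div_iff (Φ.σ_ne l0) l0]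
  linear_combination (Φ.ε * l) * Φ.lam_trace hc - (Φ.ε * c) * Φ.lam_trace hl -
    (Φ.σ c * l - c * Φ.σ l) * Φ.eps_sq

/-- Similarities normalise the group generated by Eichler maps. -/
theorem TV.EG_conj (h : Φ.TV) {d : V ≃ₗ[F] V} {m : F} (m0 : m ≠ 0) (hm : Φ.σ m = m)
    (e : ∀ x y, m * Φ.B (d x) (d y) = Φ.B x y) {τ : V ≃ₗ[F] V} (hτ : τ ∈ Φ.EG) :
    d * τ * d⁻¹ ∈ Φ.EG :=
  EG_le (M := Φ.EG.comap (MulAut.conj d).toMonoidHom) (fun x y c hv => by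
    have hv' : Φ.Valid (d x) (m • d y) (c * m) :=
      ⟨h.Q_zero (mul_left_cancel₀ m0 (by rw [e, Φ.B_self hv.sing, mul_zero])),
        by rw [map_smul, smul_eq_mul, e, hv.perp], h.π_eq (by
          simp only [Φ.bsimp, hm, e]
          linear_combination m * Φ.trace c y hv.norm)⟩
    refine ⟨hv.eich, hv'.hasE.mem fun z => ?_, hv.eich_apply⟩
    obtain ⟨z, rfl⟩ := d.surjective z
    change d (hv.eich (d⁻¹ (d z))) = _
    simp only [inv_app_app, hv.eich_apply, ef, Φ.bsimp, hm, map_sub, map_add, map_smul, ← e x z,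
      ← e y z]
    module) hτ

theorem exists_EG_smul {w w' y y' : V} {c c' : F} (hw : Φ.Q w = 0) (e : Φ.B w w' = 1)
    (hv : Φ.Valid w' y c) (hv' : Φ.Valid w' y' c') (hy : Φ.B w y = 0) (hy' : Φ.B w y' = 0)
    (c0 : c ≠ 0) (c0' : c' ≠ 0) : ∃ κ ∈ Φ.EG, κ w = (c / c') • w := by
  have key : ∀ {y : V} {c : F}, Φ.Valid w' y c → Φ.B w y = 0 → c ≠ 0 →
      ∃ g ∈ Φ.EG, g w = (-c) • w' := fun {y c} hv hy c0 => by
    have e1 : Φ.B w (Φ.ef w' y c w) = -c := by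
      simp only [ef, Φ.bsimp, Φ.B_self hw, hy, Φ.perp_symm hy, e, B_eq_eps e]
      linear_combination (-c) * Φ.eps_sq
    obtain ⟨c₁, h1, h2⟩ := exists_ef_eq (y := (-c) • w') hw (x := Φ.ef w' y c w) (by simpa [e1])
      (by simp [e, e1]) (by rw [hv.Q_ef, hw, Φ.Q_smul_zero hv.sing])
    exact ⟨h1.eich * hv.eich, mul_mem h1.eich_mem hv.eich_mem, h2⟩
  obtain ⟨g, hg, e1⟩ := key hv hy c0
  obtain ⟨g', hg', e2⟩ := key hv' hy' c0'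
  refine ⟨g'⁻¹ * g, mul_mem (inv_mem hg') hg, g'.injective ?_⟩
  rw [mul_app, app_inv_app, e1, map_smul, e2, smul_smul]
  congr 1
  field_simp

theorem TV.exists_torus [FiniteDimensional F V] (h : Φ.TV) {l : F} (hl : Φ.π l = 0) (l0 : l ≠ 0) {w : V} (hw : Φ.Q w = 0)
    (hw0 : w ≠ 0) {c : F} (c0 : c ≠ 0) (hc : Φ.σ c = c) : ∃ κ ∈ Φ.EG, κ w = c • w := by
  obtain ⟨w', hw', e⟩ := exists_partner' hw hw0
  simpa [l0] using exists_EG_smul hw e (valid_tv hw' (h.π_mul hl hc)) (valid_tv hw' hl) (map_zero _)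
    (map_zero _) (mul_ne_zero c0 l0) l0

theorem exists_sq_sub_sq [Finite F] {c : F} (hc : Φ.σ c = c) :
    ∃ a b, Φ.σ a = a ∧ Φ.σ b = b ∧ c = a * a - b * b := by
  by_cases h2 : (2 : F) = 0
  · obtain ⟨b, hb⟩ := exists_sq_of_two_eq_zero h2 c
    refine ⟨b, 0, ?_, map_zero _, by rw [hb]; ring⟩
    have : Φ.σ b * Φ.σ b = b * b := by rw [← map_mul, hb, hc]
    exact sub_eq_zero.1 (pow_eq_zero_iff two_ne_zero |>.1 (by
      linear_combination this + (b * b - b * Φ.σ b) * h2))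
  · exact ⟨(c + 1) / 2, (c - 1) / 2, by simp [hc, map_ofNat], by simp [hc, map_ofNat],
      by field_simp; ring⟩

variable (Φ) in
/-- Either the Witt index is at least two, or the torus acts non-trivially on the root group. -/
def Reg : Prop := Φ.d + 2 ≤ finrank F V ∨ (finrank F V ≤ 3 ∧ (∀ w s, ¬ Φ.Pair w s) ∧
  ∀ w, Φ.Q w = 0 → w ≠ 0 → ∃ κ ∈ Φ.EG, ∃ c : F, κ w = c • w ∧ c * Φ.σ c ≠ 1)

theorem exists_dec [FiniteDimensional F V] (h3 : finrank F V ≤ 3) {w y y' : V} (hw0 : w ≠ 0)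
    (hw : Φ.B w w = 0) (hy : Φ.B w y = 0) (hy' : Φ.B w y' = 0) (h : ∀ c : F, y ≠ c • w) :
    ∃ a c : F, y' = a • y + c • w := by
  obtain ⟨z, hz⟩ := Φ.exists_B_ne hw0
  have h1 : LinearIndependent F ![w, y] := (LinearIndependent.pair_iff' hw0).2 fun c hc => h c hc.symm
  have h2 := finrank_span_eq_card h1
  have h4 : LinearMap.ker (Φ.B w) < ⊤ := lt_top_iff_ne_top.2 fun e => hz (e.ge trivial)
  have h5 := Submodule.finrank_lt_finrank_of_lt h4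
  have h6 : Submodule.span F (Set.range ![w, y]) = LinearMap.ker (Φ.B w) :=
    Submodule.eq_of_le_of_finrank_le (Submodule.span_le.2 (by
      rintro _ ⟨i, rfl⟩; fin_cases i <;> simpa)) (by simp at h2 h5; omega)
  have h7 : y' ∈ Submodule.span F (Set.range ![w, y]) := h6.ge hy'
  rw [Matrix.range_cons, Matrix.range_cons, Matrix.range_empty, Set.union_empty,
    Set.singleton_union, Submodule.mem_span_pair] at h7
  obtain ⟨a, b, rfl⟩ := h7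
  exact ⟨b, a, add_comm _ _⟩

end Fm

variable {F U W V : Type*} [Field F] [AddCommGroup U] [Module F U] [AddCommGroup W]
  [Module F W] [AddCommGroup V] [Module F V]

/-- `M` contains the classical group of the symplectic or unitary factor `W`. -/
structure WK (T : Tn F U W V) (Φ₁ : Fm F U) (Φ₂ : Fm F W) (Φ : Fm F V)
    (M : Subgroup (V ≃ₗ[F] V)) (l : F) : Prop where
  tf : TF T Φ₁ Φ₂ Φ
  R : ∀ τ ∈ Φ₂.EG, T.krR τ ∈ M
  I : M ≤ Φ.Iso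
  l0 : l ≠ 0
  hl : Φ₂.π l = 0

variable {T : Tn F U W V} {Φ₁ : Fm F U} {Φ₂ : Fm F W} {Φ : Fm F V} {M : Subgroup (V ≃ₗ[F] V)}
  {l : F} [FiniteDimensional F U] [FiniteDimensional F W] [FiniteDimensional F V]

theorem TF.Loc.mono {N : Subgroup (V ≃ₗ[F] V)} {w : W} (h : TF.Loc T Φ₂ M w) (hN : N ≤ M) :
    TF.Loc T Φ₂ N w :=
  ⟨fun A ⟨h1, x, hx, e⟩ => h.A A ⟨h1, x, hN hx, e⟩, fun C ⟨x, hx, e⟩ => h.Z C ⟨x, hN hx, e⟩⟩

theorem TF.exists_cR (hT : TF T Φ₁ Φ₂ Φ) {w : W} {A : V →ₗ[F] U} (h0 : ∀ u, A (T.tm u w) = 0)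
    (hA : ∀ y, Φ₂.B w y = 0 → ∃ c : F, ∀ u, A (T.tm u y) = c • u) :
    ∃ y, Φ₂.B w y = 0 ∧ ∀ v, T.cR (Φ₂.B w) v = 0 → A v = T.cR (Φ₂.B y) v := by
  obtain ⟨u₀, hu₀⟩ := hT.ne₁
  obtain ⟨α, hα⟩ := exists_dual_eq_one (F := F) hu₀
  obtain ⟨y, hy⟩ := Φ₂.exists_eq_dual (α ∘ₗ A ∘ₗ T.tm u₀)
  refine ⟨y, Φ₂.perp_symm (by simp [hy, h0]), fun v => hT.eq_on_perp fun u z hz => ?_⟩
  obtain ⟨c, hc⟩ := hA z hz
  simp [hy, hc, hα]

namespace WK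

variable (h : WK T Φ₁ Φ₂ Φ M l)
include h

theorem mono {N : Subgroup (V ≃ₗ[F] V)} (hN : N ≤ M) (hR : ∀ τ ∈ Φ₂.EG, T.krR τ ∈ N) :
    WK T Φ₁ Φ₂ Φ N l := ⟨h.tf, hR, hN.trans h.I, h.l0, h.hl⟩

theorem rk : Φ₂.Rk := Or.inr ⟨l, h.l0, h.hl⟩

omit h in
theorem gen_cR {w y : W} (hw : Φ₂.Q w = 0) (hy : Φ₂.B w y = 0) :
    ∃ τ ∈ Φ₂.EG, τ w = w ∧
      ∀ v, T.cR (Φ₂.B w) v = 0 → T.krR τ v = v + T.tm (T.cR (Φ₂.B y) v) w := by
  obtain ⟨c, hv⟩ := Fm.exists_valid (w := -(Φ₂.ε • y)) hw (by simp [hy])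
  refine ⟨hv.eich, hv.eich_mem, hv.ef_self, fun v h => ?_⟩
  rw [TF.krR_ef hv.eich_apply, h]
  simp [smul_smul, Φ₂.σ_eps, Φ₂.eps_sq]

theorem hasU_tv {w : W} (hw : Φ₂.Q w = 0) {c : F} (hc : Φ.σ c = c) :
    ∃ τ ∈ Φ₂.EG, ∀ v, T.krR τ v = v + (c • T.sl (l • Φ₂.rk w w)) v := by
  obtain ⟨τ, hτ, e⟩ := h.tf.tv₂.exists_tv h.hl hw ((h.tf.σ₂ c).trans hc)
  exact ⟨τ, hτ, T.ext (f := (T.krR τ).toLinearMap) (g := LinearMap.id + c • T.sl _)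
    fun u x => by simp [e]⟩

theorem hasU_move {w : W} {C : U →ₗ[F] U} (hC : HasU M (T.xl C w (Φ₂.B w))) {τ : W ≃ₗ[F] W}
    (hτ : τ ∈ Φ₂.EG) : HasU M (T.xl C (τ w) (Φ₂.B (τ w))) :=
  hC.conj' (h.R τ hτ) fun v => by
    rw [Tn.xl_apply, Tn.xl_apply, h.tf.cR_krR_iso (Φ₂.EG_le_Iso hτ), Tn.krR_tm]

/-- An element of the unipotent radical normalising enough of `M`. -/
theorem mem_NG_of_norm (hr : Φ₂.Reg) (hL : ∀ w, Φ₂.Q w = 0 → w ≠ 0 → TF.Loc T Φ₂ M w) {w : W}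
    (hw : Φ₂.Q w = 0) (hw0 : w ≠ 0) {x : V ≃ₗ[F] V} (hx : x ∈ Φ.Iso)
    (h1 : ∀ u, x (T.tm u w) = T.tm u w) (h2 : ∀ v, T.cR (Φ₂.B w) v = 0 → x v - v ∈ T.sp w)
    (hn : ∀ κ ∈ Φ₂.EG, x * T.krR κ * x⁻¹ ∈ M) : x ∈ T.NG := by
  have hT := h.tf
  obtain ⟨A, ⟨a0, -⟩, e⟩ := hT.exists_gen (M := ⊤) trivial hw0 h1 h2
  have e' : ∀ v, T.cR (Φ₂.B w) v = 0 → x⁻¹ v = v - T.tm (A v) w := fun v hv => x.injective (by
    rw [app_inv_app, map_sub, h1, e v hv, add_sub_cancel_right])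
  let S : Submodule F W :=
    { carrier := {y | ∃ c : F, ∀ u, A (T.tm u y) = c • u}
      zero_mem' := ⟨0, by simp⟩
      add_mem' := fun ⟨c, hc⟩ ⟨d, hd⟩ => ⟨c + d, fun u => by simp [hc, hd, add_smul]⟩
      smul_mem' := fun a _ ⟨c, hc⟩ => ⟨a * c, fun u => by simp [hc, mul_smul]⟩ }
  have wS : w ∈ S := ⟨0, by simp [a0]⟩
  have k1 : ∀ κ ∈ Φ₂.EG, ∀ c : F, κ w = c • w → ∀ y, Φ₂.B w y = 0 → κ y - c • y ∈ S :=
    fun κ hκ c ec y hy => by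
      have hI := Φ₂.EG_le_Iso hκ
      have c0 : c ≠ 0 := fun e => hw0 (by simpa [e] using ec)
      have p : ∀ v, T.cR (Φ₂.B w) v = 0 ↔ T.cR (Φ₂.B w) (T.krR κ v) = 0 := fun v => by
        rw [← hT.cR_krR_iso hI w v, ec]; simp [c0]
      obtain ⟨a, ha⟩ := (hL w hw hw0).A (A - c • A ∘ₗ ((T.krR κ)⁻¹ : V ≃ₗ[F] V).toLinearMap)
        ⟨fun u => by
          have : κ⁻¹ w = c⁻¹ • w := κ.injective (by simp [ec, smul_smul, c0])
          simp [← map_inv, this, a0], _, M.mul_mem (hn κ hκ) (M.inv_mem (h.R κ hκ)), fun v hv => by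
          obtain ⟨v, rfl⟩ := (T.krR κ).surjective v
          rw [mul_app, inv_app_app, mul_app, mul_app, e' v ((p v).2 hv), map_sub, map_sub, e _ hv]
          simp [ec, h1]
          abel⟩ (κ y) (by
            have := hI.1 w y
            rwa [ec, hy, Φ₂.B_smul_left, mul_eq_zero, or_iff_right (Φ₂.σ_ne c0)] at this)
      exact ⟨a, fun u => by simpa [← map_inv] using ha u⟩
  have k2 : ∀ y, Φ₂.B w y = 0 → y ∈ S := fun y hy => by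
    rcases hr with hd | ⟨h3, hp, ht⟩
    · refine Fm.mem_of_pair hd hw hw0 S.toAddSubgroup (fun s hp => ?_) hy
      obtain ⟨f, -, f1, f2⟩ := hp.exists_partner
      have hv := Fm.valid_tv hp.q₂ h.hl
      have := k1 _ hv.eich_mem 1 (by
        simp [hv.eich_apply, Fm.ef, Φ₂.perp_symm hp.perp]) f f2
      simpa [hv.eich_apply, Fm.ef, f1, S.smul_mem_iff, Φ₂.eps_ne, h.l0] using this
    · by_cases hc : ∃ c : F, y = c • w
      · obtain ⟨c, rfl⟩ := hc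
        exact S.smul_mem c wS
      obtain ⟨κ, hκ, c, ec, hc'⟩ := ht w hw hw0
      have hI := Φ₂.EG_le_Iso hκ
      have c0 : c ≠ 0 := fun e => hw0 (by simpa [e] using ec)
      obtain ⟨a, b, e1⟩ := Fm.exists_dec h3 hw0 (Φ₂.B_self hw) hy (y' := κ y) (by
        have := hI.1 w y
        rwa [ec, hy, Φ₂.B_smul_left, mul_eq_zero, or_iff_right (Φ₂.σ_ne c0)] at this)
        (by simpa using hc)
      have ac : a - c ≠ 0 := fun e => by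
        have := hI.1 y y
        simp only [e1, Φ₂.bsimp, hy, Φ₂.perp_symm hy, Φ₂.B_self hw, sub_eq_zero.1 e] at this
        exact (Fm.pair_or_eq_smul hw hw0 (hT.tv₂.Q_zero (mul_left_cancel₀ (sub_ne_zero.2 hc')
          (by linear_combination this))) hy).elim (hp _ _) hc
      have := S.sub_mem (k1 κ hκ c ec y hy) (S.smul_mem b wS)
      rwa [e1, show a • y + b • w - c • y - b • w = (a - c) • y by module, S.smul_mem_iff ac] at this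
  obtain ⟨y, hy, e1⟩ := hT.exists_cR a0 k2
  obtain ⟨τ, hτ, e0, eτ⟩ := gen_cR (T := T) hw hy
  have hI := hT.krR_Iso (Φ₂.EG_le_Iso hτ)
  obtain ⟨C, hC⟩ := hT.exists_nu (Φ.Iso.mul_mem hx (Φ.Iso.inv_mem hI)) hw0 fun v hv => by
    obtain ⟨v, rfl⟩ := (T.krR τ).surjective v
    have : T.cR (Φ₂.B w) v = 0 := by rw [← hT.cR_krR_iso (Φ₂.EG_le_Iso hτ), e0, hv]
    rw [mul_app, inv_app_app, e v this, eτ v this, e1 v this]
  set z := x * (T.krR τ)⁻¹ with hz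
  have k3 : ∀ κ ∈ Φ₂.EG, Φ₂.B w (κ w) = 0 →
      HasU M (T.xl C (κ w) (Φ₂.B (κ w)) - T.xl C w (Φ₂.B w)) := fun κ hκ hκw => by
    have := M.mul_mem (h.R κ hκ) (M.inv_mem (hn _ (mul_mem (mul_mem (inv_mem hτ) hκ) hτ)))
    refine ⟨_, this, fun v => ?_⟩
    have q : ∀ v, z⁻¹ v = v - T.xl C w (Φ₂.B w) v :=
      inv_apply_of_unip (fun v => by simp [Tn.xl_apply, Φ₂.B_self hw]) hC
    rw [show T.krR κ * (x * T.krR (τ⁻¹ * κ * τ) * x⁻¹)⁻¹ = T.krR κ * z * (T.krR κ)⁻¹ * z⁻¹ by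
      simp only [hz, map_mul, map_inv]; group, mul_app, mul_app, mul_app, hC, map_add, app_inv_app,
      Tn.xl_apply, Tn.krR_tm, ← hT.cR_krR_iso (Φ₂.EG_le_Iso hκ), app_inv_app, q]
    simp [Tn.xl_apply, Φ₂.perp_symm hκw]
    abel
  obtain ⟨c, hc⟩ : ∃ c : F, ∀ u, C u = c • u := by
    rcases hr with hd | ⟨-, -, ht⟩
    · obtain ⟨w', s, s', -, q1, -, e1, e2, e3, e4, e5, -⟩ := Fm.exists_hyp2 hd hw hw0
      have s0 : s ≠ 0 := fun e => by simp [e] at e2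
      obtain ⟨κ, hκ, eκ⟩ := Fm.move_EG hd hw0 (y := w + s) (fun e => Φ₂.eps_ne (by
        simpa [Φ₂.perp_symm e4, Fm.B_eq_eps e2] using congrArg (Φ₂.B s') e))
        (by rw [Φ₂.Q_add_perp e3, q1, add_zero])
      obtain ⟨g, hg, eg⟩ := k3 κ hκ (by simp [eκ, e3, Φ₂.B_self hw])
      simpa [e1] using (hL s q1 s0).A (C ∘ₗ T.cR (Φ₂.B w)) ⟨fun u => by simp [e3], g, hg,
        fun v hv => by simp [eg, eκ, Tn.xl_apply, hv]⟩ w' (Φ₂.perp_symm e5)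
    · obtain ⟨κ, hκ, c, ec, hc'⟩ := ht w hw hw0
      obtain ⟨a, ha⟩ := (hL w hw hw0).Z ((c * Φ₂.σ c - 1) • C)
        ((k3 κ hκ (by simp [ec, Φ₂.B_self hw])).congr fun v => by
          simp [ec, Tn.xl_apply, sub_smul, mul_smul])
      exact ⟨(c * Φ₂.σ c - 1)⁻¹ * a, fun u => by
        rw [mul_smul, eq_inv_smul_iff₀ (sub_ne_zero.2 hc')]; exact ha u⟩
  have h4 : z = T.krR (unip ((c • Φ₂.B w).smulRight w) fun v => by
      simp [Φ₂.B_self hw]) := LinearEquiv.ext fun v => by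
    rw [hC, T.krR_apply_of_tv (φ := c • Φ₂.B w) (w := w) fun _ => rfl]
    simp [Tn.xl_apply, hc]
  rw [mul_inv_eq_iff_eq_mul.1 h4]
  exact T.NG.mul_mem (T.krR_mem _) (T.krR_mem _)

/-- The stabiliser of `U ⊗ w`. -/
theorem mem_NG_of_stab (hr : Φ₂.Reg) (hL : ∀ w, Φ₂.Q w = 0 → w ≠ 0 → TF.Loc T Φ₂ M w) {w : W}
    (hw : Φ₂.Q w = 0) (hw0 : w ≠ 0) {g : V ≃ₗ[F] V} (hh : g ∈ M)
    (hE : ∀ u, g (T.tm u w) ∈ T.sp w) : g ∈ T.NG := by
  have hT := h.tf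
  have hI := h.I
  obtain ⟨a, ea⟩ := T.exists_left (h := g) hw0 (by rintro _ ⟨u, rfl⟩; exact hE u)
  have ea' : ∀ u, g⁻¹ (T.tm u w) = T.tm (a⁻¹ u) w := fun u => g.injective (by simp [ea])
  have p1 : ∀ v, T.cR (Φ₂.B w) v = 0 → T.cR (Φ₂.B w) (g v) = 0 := fun v hv =>
    hT.cR_eq_zero fun u => by rw [← Fm.Iso.B_inv_left (hI hh), ea', hT.B_tm, hv, map_zero]
  have p2 : ∀ y, Φ₂.B w y = 0 → ∃ y', ∀ v, T.cR (Φ₂.B w) v = 0 →
      T.cR (Φ₂.B y) (g v) = a (T.cR (Φ₂.B y') v) := fun y hy => by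
    obtain ⟨τ, hτ, e0, eτ⟩ := gen_cR (T := T) hw hy
    have e1 : ∀ v, T.cR (Φ₂.B w) v = 0 →
        (g⁻¹ * T.krR τ * g) v = v + T.tm (a⁻¹ (T.cR (Φ₂.B y) (g v))) w := fun v hv => by
      rw [mul_app, mul_app, eτ _ (p1 v hv), map_add, inv_app_app, ea']
    obtain ⟨y', -, e⟩ := (hL w hw hw0).exists_cR hT
      (A := (a⁻¹ : U ≃ₗ[F] U).toLinearMap ∘ₗ T.cR (Φ₂.B y) ∘ₗ g.toLinearMap)
      ⟨fun u => by simp [ea, Φ₂.perp_symm hy], _,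
        M.mul_mem (M.mul_mem (M.inv_mem hh) (h.R τ hτ)) hh, e1⟩
    exact ⟨y', fun v hv => by rw [← e v hv]; simp⟩
  obtain ⟨u₀, u₁, hu⟩ := hT.exists_B_one
  obtain ⟨α, hα⟩ := exists_dual_eq_one (F := F) (show a u₀ ≠ 0 from fun e => by
    simp [a.map_eq_zero_iff.1 e] at hu)
  let d : W →ₗ[F] W := T.cL α ∘ₗ g.toLinearMap ∘ₗ T.tm u₀
  have d1 : d w = w := by simp [d, ea, hα]
  have d2 : ∀ z, Φ₂.B w z = 0 → Φ₂.B w (d z) = 0 := fun z hz => by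
    change Φ₂.B w (T.cL α (g (T.tm u₀ z))) = 0
    rw [T.cL_cR, p1 _ (by simp [hz]), map_zero]
  have d3 : ∀ u z, Φ₂.B w z = 0 → g (T.tm u z) - T.tm (a u) (d z) ∈ T.sp w := fun u z hz =>
    hT.mem_sp_of fun y hy => by
      obtain ⟨y', e⟩ := p2 y hy
      have : Φ₂.B y (d z) = Φ₂.B y' z := by
        change Φ₂.B y (T.cL α (g (T.tm u₀ z))) = _
        rw [T.cL_cR, e _ (by simp [hz])]
        simp [hα]
      rw [map_sub, e _ (by simp [hz])]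
      simp [this]
  have d4 : ∀ u u' z z', Φ₂.B w z = 0 → Φ₂.B w z' = 0 →
      Φ₁.B (a u) (a u') * Φ₂.B (d z) (d z') = Φ₁.B u u' * Φ₂.B z z' := fun u u' z z' hz hz' => by
    obtain ⟨x, hx⟩ := d3 u z hz
    obtain ⟨x', hx'⟩ := d3 u' z' hz'
    rw [← hT.B u, ← (hI hh).1, eq_add_of_sub_eq hx.symm, eq_add_of_sub_eq hx'.symm]
    simp [hT.B, Φ₂.B_self hw, d2 z' hz', Φ₂.perp_symm (d2 z hz)]
  obtain ⟨w', hw', e1⟩ := Fm.exists_partner' hw hw0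
  have e2 := Fm.B_eq_eps e1
  set m := Φ₁.B (a u₀) (a u₁) with hm
  have m2 : ∀ u u', Φ₁.B (a u) (a u') = m * Φ₁.B u u' := by
    obtain ⟨τ, hτ, e⟩ := h.hasU_tv hw (map_one _)
    obtain ⟨c, hc⟩ := (hL w hw hw0).Z (l • a.toLinearMap ∘ₗ Φ₁.adj a.toLinearMap)
      (HasU.conj' ⟨_, h.R τ hτ, e⟩ hh fun v => by
        have : Φ₁.adj a.toLinearMap (T.cR (Φ₂.B w) (g v)) = T.cR (Φ₂.B w) v := Fm.adj_eq fun y => by
          rw [Φ₁.symm y, Φ₁.symm _ (T.cR _ _), ← hT.B_tm, ← hT.B_tm, LinearEquiv.coe_coe, ← ea,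
            (hI hh).1]
        simp [Tn.xl_apply, this, Fm.rk, Tn.sl_rk, ea])
    have k : ∀ u u', Φ₁.B (a u) (a u') = Φ₁.σ (l⁻¹ * c) * Φ₁.B u u' := fun u u' => by
      have : Φ₁.adj a.toLinearMap (a u) = (l⁻¹ * c) • u := a.injective (by
        rw [map_smul, mul_smul, eq_inv_smul_iff₀ h.l0]; exact hc _)
      rw [← Φ₁.B_smul_left, ← this, Φ₁.B_adj, LinearEquiv.coe_coe]
    intro u u'
    rw [hm, k, k, hu, mul_one]
  have m0 : m ≠ 0 := fun e => by simpa [e, hu] using m2 (a⁻¹ u₀) (a⁻¹ u₁)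
  have m3 : Φ₂.σ m = m := by
    have := m2 u₁ u₀
    rw [Φ₁.symm, ← hm, Fm.B_eq_eps hu, mul_comm m, ← hT.σ₁₂] at this
    exact mul_left_cancel₀ Φ₁.eps_ne this
  let p : W →ₗ[F] W := LinearMap.id - (Φ₂.B w).smulRight w' - (Φ₂.ε • Φ₂.B w').smulRight w
  have ep : ∀ x, p x = x - Φ₂.B w x • w' - (Φ₂.ε * Φ₂.B w' x) • w := fun _ => rfl
  have p3 : ∀ x, Φ₂.B w (p x) = 0 ∧ Φ₂.B w' (p x) = 0 := Fm.sub_mem_ker_hyp hw hw' e1
  have p4 : ∀ x y, Φ₂.B (p x) (p y) = Φ₂.B x y - Φ₂.B x w * Φ₂.ε * Φ₂.B w' y -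
      Φ₂.B x w' * Φ₂.B w y := fun x y => by
    rw [ep x]
    simp only [Φ₂.bsimp, (p3 y).1, (p3 y).2]
    simp only [Φ₂.bsimp, ep y]
    ring
  let d' : W →ₗ[F] W := p ∘ₗ d ∘ₗ p + (Φ₂.ε • Φ₂.B w').smulRight w + (m⁻¹ • Φ₂.B w).smulRight w'
  have ed : ∀ x, d' x = p (d (p x)) + (Φ₂.ε * Φ₂.B w' x) • w + (m⁻¹ * Φ₂.B w x) • w' :=
    fun _ => rfl
  have d5 : ∀ x y, m * Φ₂.B (d' x) (d' y) = Φ₂.B x y := fun x y => by
    have f1 := d4 u₀ u₁ _ _ (p3 x).1 (p3 y).1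
    have f2 := p4 (d (p x)) (d (p y))
    rw [d2 _ (p3 y).1, Φ₂.perp_symm (d2 _ (p3 x).1)] at f2
    rw [← hm, hu, p4, Φ₂.symm w x, Φ₂.symm w' x] at f1
    simp only [ed, Φ₂.bsimp, (p3 _).1, (p3 _).2, Φ₂.perp_symm (p3 _).1, Φ₂.perp_symm (p3 _).2, f2,
      e1, e2, Φ₂.B_self hw, Φ₂.B_self hw', m3]
    field_simp
    linear_combination m * f1
  let d'' := LinearEquiv.ofInjectiveEndo d' ((injective_iff_map_eq_zero d').2 fun x hx =>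
    Φ₂.nondeg x fun y => by rw [← d5, hx]; simp)
  have ed' : ∀ x, d'' x = d' x := fun _ => rfl
  have g1 : T.kr a d'' ∈ Φ.Iso := hT.kr_Iso fun u u' x y => by
    rw [ed', ed', m2, ← d5 x y]; ring
  have pw : p w = 0 := by simp [ep, Φ₂.B_self hw, e2, Φ₂.eps_sq]
  have dw : d'' w = w := by simp [ed', ed, pw, Φ₂.B_self hw, e2, Φ₂.eps_sq]
  have g0 : ∀ u, (T.kr a d'')⁻¹ (T.tm u w) = T.tm (a⁻¹ u) w := fun u =>
    (T.kr a d'').injective (by simp [dw])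
  have g3 : ∀ v, T.cR (Φ₂.B w) v = 0 → g v - T.kr a d'' v ∈ T.sp w := fun v hv => by
    rw [← Submodule.Quotient.eq]
    refine hT.eq_on_perp (f := (T.sp w).mkQ ∘ₗ g.toLinearMap)
      (g := (T.sp w).mkQ ∘ₗ (T.kr a d'').toLinearMap) (fun u z hz => ?_) hv
    refine (Submodule.Quotient.eq _).2 ?_
    have := add_mem (d3 u z hz) (T.tm_mem_sp ((Φ₂.ε * (Φ₂.B w' (d z) - Φ₂.B w' z)) • a u) w)
    convert this using 1
    simp only [LinearEquiv.coe_coe, Tn.kr_tm, ed', ed, ep z, hz, map_sub, map_add, map_smul, d1,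
      pw, ep (d z), d2 z hz, LinearMap.smul_apply, map_zero]
    module
  have := h.mem_NG_of_norm hr hL hw hw0 (Φ.Iso.mul_mem (hI hh) (Φ.Iso.inv_mem g1))
    (fun u => by simp [mul_app, ea, g0]) (fun v hv => by
      simpa [mul_app] using g3 ((T.kr a d'')⁻¹ v) (hT.cR_eq_zero fun u => by
        rw [Fm.Iso.B_inv g1, Tn.kr_tm, dw, hT.B_tm, hv, map_zero])) fun κ hκ => by
      have := M.mul_mem (M.mul_mem hh (h.R _ (hT.tv₂.EG_conj (d := d''⁻¹) (inv_ne_zero m0)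
        (by rw [map_inv₀, m3]) (fun x y => by
          rw [← d5, ← ed', ← ed', app_inv_app, app_inv_app, inv_mul_cancel_left₀ m0]) hκ)))
        (M.inv_mem hh)
      rw [show T.krR (d''⁻¹ * κ * d''⁻¹⁻¹) = (T.kr a d'')⁻¹ * T.krR κ * T.kr a d'' from
        T.ext' fun u x => by rw [Tn.krR_tm, T.kr_inv]; simp [mul_app]] at this
      simpa [mul_assoc] using this
  simpa using T.NG.mul_mem this (T.kr_mem a d'')

theorem mem_of_sp (hr : Φ₂.Reg) (hL : ∀ w, Φ₂.Q w = 0 → w ≠ 0 → TF.Loc T Φ₂ M w)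
    {g : V ≃ₗ[F] V} (hg : g ∈ M) {w w' : W} (hw : Φ₂.Q w = 0) (hw0 : w ≠ 0)
    (hw' : Φ₂.Q w' = 0) (hw0' : w' ≠ 0) (e : ∀ u, g (T.tm u w) ∈ T.sp w') : g ∈ T.NG := by
  obtain ⟨τ, hτ, c, c0, e'⟩ := h.rk.move_pt hw' hw hw0' hw0
  have := h.mem_NG_of_stab hr hL hw hw0 (M.mul_mem (h.R τ hτ) hg) fun u => by
    obtain ⟨x, hx⟩ := e u
    exact ⟨c • x, by rw [mul_app, ← hx]; simp [e']⟩
  simpa using T.NG.mul_mem (T.NG.inv_mem (T.krR_mem τ)) this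

theorem hasU_smul [Finite F] {w : W} (hw : Φ₂.Q w = 0) {C : U →ₗ[F] U}
    (hC : HasU M (T.xl C w (Φ₂.B w))) {c : F} (hc : Φ₂.σ c = c) :
    HasU M (T.xl (c • C) w (Φ₂.B w)) := by
  by_cases hw0 : w = 0
  · exact hasU_zero.congr fun v => by simp [Tn.xl_apply, hw0]
  have k : ∀ a, Φ₂.σ a = a → HasU M (T.xl ((a * a) • C) w (Φ₂.B w)) := fun a ha => by
    by_cases a0 : a = 0
    · exact hasU_zero.congr fun v => by simp [Tn.xl_apply, a0]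
    obtain ⟨κ, hκ, e⟩ := h.tf.tv₂.exists_torus h.hl h.l0 hw hw0 a0 ha
    exact (h.hasU_move hC hκ).congr fun v => by simp [Tn.xl_apply, e, ha, mul_smul]
  obtain ⟨a, b, ha, hb, rfl⟩ := Fm.exists_sq_sub_sq hc
  exact ((k a ha).sub (k b hb) (fun v => by simp [Tn.xl_apply, Φ₂.B_self hw])
    fun v => by simp [Tn.xl_apply, Φ₂.B_self hw]).congr fun v => by simp [Tn.xl_apply, sub_smul]

theorem mem_cenG [Finite F] {w : W} (hw : Φ₂.Q w = 0) (hw0 : w ≠ 0)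
    {C : U →ₗ[F] U} (hC : HasU M (T.xl C w (Φ₂.B w))) : C ∈ T.cenG Φ₂ M := fun w' hw' => by
  by_cases h0 : w' = 0
  · exact hasU_zero.congr fun v => by simp [Tn.xl_apply, h0]
  obtain ⟨τ, hτ, a, a0, e⟩ := h.rk.move_pt hw hw' hw0 h0
  exact (h.hasU_move (h.hasU_smul hw hC (c := (a * Φ₂.σ a)⁻¹) (by
    rw [map_inv₀, map_mul, Φ₂.invol, mul_comm])) hτ).congr fun v => by
      simp [Tn.xl_apply, e, smul_smul, a0, Φ₂.σ_ne a0]

theorem smul_mem_cenG [Finite F] {C : U →ₗ[F] U} (hC : C ∈ T.cenG Φ₂ M) {c : F}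
    (hc : Φ₂.σ c = c) : c • C ∈ T.cenG Φ₂ M := fun w hw => h.hasU_smul hw (hC w hw) hc

theorem gen_id {w s : W} (hw : Φ₂.Q w = 0) (hs : Φ₂.B w s = 0) :
    T.Gen Φ₂ M w (LinearMap.id ∘ₗ T.cR (Φ₂.B s)) :=
  let ⟨_, hτ, _, e⟩ := gen_cR (T := T) hw hs
  ⟨fun u => by simp [Φ₂.perp_symm hs], _, h.R _ hτ, e⟩

end WK

end Cfsg.Agent.Class.Max
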