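import Mathlib
import Cfsg.Agent.Class.Max.C7W
import Cfsg.Agent.Class.Max.C7Q

/-!
Tensor decompositions with a symplectic or unitary factor: the global argument over fields with
at least three elements.
-/

set_option autoImplicit false
set_option linter.unusedSectionVars false

namespace Cfsg.Agent.Class.Max

open Module

variable {F U W V : Type*} [Field F] [AddCommGroup U] [Module F U] [AddCommGroup W]
  [Module F W] [AddCommGroup V] [Module F V] {T : Tn F U W V} {Φ₁ : Fm F U} {Φ₂ : Fm F W}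
  {Φ : Fm F V} {M H : Subgroup (V ≃ₗ[F] V)} {l : F}
  [FiniteDimensional F U] [FiniteDimensional F W] [FiniteDimensional F V]

theorem Fm.sing_induction {e : V} (he : Φ.Q e = 0) (he0 : e ≠ 0) (A : AddSubgroup V)
    (h : ∀ s, Φ.Q s = 0 → s ≠ 0 → s ∈ A) (y : V) : y ∈ A :=
  let ⟨z, hz⟩ := Φ.exists_B_ne he0
  Fm.le_of_sing (Y := ⊤) trivial he ⟨z, trivial, hz⟩ A
    (fun s _ hs ⟨_, _, h1⟩ => h s hs fun e => h1 (by simp [e])) y trivial

theorem Fm.mem_of_rk (R : Submodule F (End F V)) (h : ∀ x z, Φ.rk x z ∈ R) (x : End F V) :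
    x ∈ R := by
  let b := Module.finBasis F V
  rw [show x = ∑ j, (b.coord j).smulRight (x (b j)) from LinearMap.ext fun v => by
    conv_lhs => rw [← b.sum_repr v, map_sum]
    simp]
  refine R.sum_mem fun j _ => ?_
  obtain ⟨z, hz⟩ := Φ.exists_eq_dual (b.coord j)
  exact hz ▸ h _ z

theorem Fm.mem_of_rk_sing {e : V} (he : Φ.Q e = 0) (he0 : e ≠ 0) (R : Submodule F (End F V))
    (h : ∀ x z, Φ.Q x = 0 → Φ.Q z = 0 → x ≠ 0 → z ≠ 0 → Φ.rk x z ∈ R) (x : End F V) : x ∈ R :=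
  Fm.mem_of_rk R (fun x z => Fm.sing_induction he he0
    (R.comap (LinearMap.smulRightₗ (Φ.B z))).toAddSubgroup (fun x hx x0 => Fm.sing_induction he he0
      (R.toAddSubgroup.comap (AddMonoidHom.mk' (fun z => Φ.rk x z) fun a b => LinearMap.ext fun v => by
        simp [add_smul])) (fun z hz z0 => h x z hx hz x0 z0) z) x) x

/-- The root elements generate the endomorphism ring. -/
theorem Fm.Rk.mem_of_rk (hk : Φ.Rk) {e : V} (he : Φ.Q e = 0) (he0 : e ≠ 0)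
    (R : Submodule F (End F V)) (hm : ∀ x ∈ R, ∀ y ∈ R, x * y ∈ R)
    (h : ∀ w, Φ.Q w = 0 → w ≠ 0 → Φ.rk w w ∈ R) (x : End F V) : x ∈ R :=
  Fm.mem_of_rk_sing he he0 R (fun x z hx hz x0 z0 => by
    obtain ⟨t, ht, h1, h2⟩ := hk.exists_sing_not_perp hx hz x0 z0
    have t0 : t ≠ 0 := fun e => h1 (by simp [e])
    refine mem_of_ext (R.smul_mem (Φ.B x t * Φ.B t z)⁻¹
      (hm _ (hm _ (h x hx x0) _ (h t ht t0)) _ (h z hz z0))) fun v => ?_
    have := Φ.ne_symm h1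
    simp only [LinearMap.smul_apply, End.mul_apply, Fm.rk_apply, map_smul, smul_smul, smul_eq_mul]
    congr 1
    field_simp) x

namespace TF

variable (hT : TF T Φ₁ Φ₂ Φ)
include hT

/-- Consequences of the counting argument. -/
theorem exc' [Finite F] {δ : W →ₗ[F] W} (D : Fm.QE Φ M H (T.krL LinearMap.id δ))
    (hmv : ∀ γ ∈ H, γ ∈ T.NG ∨ ∃ x ∈ LinearMap.range (cjL γ (T.krL LinearMap.id δ)),
      T.krL LinearMap.id δ x = 0 ∧ x ∉ LinearMap.range (T.krL LinearMap.id δ))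
    (δ2 : ∀ η, Φ₂.Skew η → (∀ x, η x ∈ LinearMap.range δ) → ∃ c, Φ.σ c = c ∧ ∀ x, η x = c • δ x)
    (δ3 : ∃ y, δ y = 0 ∧ y ∉ LinearMap.range δ) (hF : ∃ l, Φ.σ l = l ∧ l ≠ 0 ∧ l ≠ 1)
    {g : V ≃ₗ[F] V} (hg : g ∈ M) (hg' : g ∉ H)
    (h : Fm.QMax M H (T.krL LinearMap.id δ) (finrank F
      ↥(LinearMap.range (T.krL LinearMap.id δ) ⊓ LinearMap.range (cjL g (T.krL LinearMap.id δ))))) :
    (LinearMap.range (T.krL LinearMap.id δ) ⊓ LinearMap.range (cjL g (T.krL LinearMap.id δ)) = ⊥ ∧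
      ∀ y, δ y = 0 → ∃ m ∈ LinearMap.range δ, ∀ u,
        cjL g (T.krL LinearMap.id δ) (T.tm u (y - m)) = 0) ∨
    ∃ d : W ≃ₗ[F] W, LinearMap.range δ ⊓ LinearMap.range (cjL d δ) ≠ ⊥ ∧
      ¬ LinearMap.range (cjL d δ) ≤ LinearMap.range δ := by
  obtain ⟨γ, hγ, a1, a2, hc⟩ := D.exists_exc hF hg hg' h
  set θ := T.krL LinearMap.id δ with hθ
  set θ' := cjL g θ with hθ'
  have k1 := D.skew
  have k2 : Φ.Skew θ' := k1.cjL (D.iso hg)
  have k0 := hT.skew_of_krL k1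
  have hI := D.iso (D.le hγ)
  obtain ⟨u₀, u₁, hu⟩ := hT.exists_B_one
  have hu0 : u₀ ≠ 0 := fun e => by simp [e] at hu
  have tθ : ∀ u x, θ (T.tm u x) = T.tm u (δ x) := fun u x => T.krL_tm _ _ u x
  have q0 : ∀ x, δ (δ x) = 0 := fun x => T.right_inj hu0 (by rw [← tθ, ← tθ, D.sq, map_zero])
  have mL : ∀ {x}, T.tm u₀ x ∈ LinearMap.range θ → x ∈ LinearMap.range δ := fun h =>
    T.mem_of_tm_mem_ts hu0 (T.range_krL δ ▸ h)
  have rk : finrank F (LinearMap.range θ) = finrank F (LinearMap.range θ') := by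
    rw [hθ', range_cjL, LinearEquiv.finrank_map_eq]
  have dec : ∀ v, θ v = 0 → ∃ l ∈ LinearMap.range θ, θ (v - l) = 0 ∧ θ' (v - l) = 0 := fun v hv =>
    k1.exists_sub_ker k2 D.sq rk (fun v hv h1 => by
      rw [inf_comm] at h1 ⊢
      exact D.fact h hg M.one_mem (by simpa using hg') rfl inf_le_right inf_le_left hv h1) hv
  have hJ0 : ∀ x ∈ LinearMap.range θ ⊓ LinearMap.range θ', γ x = x := by
    rintro _ ⟨⟨a, rfl⟩, b, hb⟩
    exact a1 _ (D.sq a) (hb ▸ D.sq' g b)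
  have k3 := k1.cjL hI
  have k5 : ∀ k, θ k = 0 → θ' k = 0 → cjL γ θ k = 0 := fun k h1 h2 => by
    rw [← a1 k h1 h2, cjL_app, h1, map_zero]
  obtain ⟨a, d, e0⟩ := (hmv γ hγ).resolve_right fun ⟨x, hx, h0, hx'⟩ => hx' (by
    obtain ⟨l, hl, h1, h2⟩ := dec x h0
    simpa using add_mem (k1.mem_range (x := x - l) fun y hy => by
      obtain ⟨l', hl', h4, h5⟩ := dec y hy
      rw [← sub_add_cancel y l', Φ.B_add_left, k1.perp_of_eq_zero hl' h1, map_sub,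
        Φ.perp_symm (k1.perp_of_eq_zero hl h4), Φ.perp_symm (k3.perp_of_eq_zero hx (k5 _ h4 h5))]
      simp) hl)
  rcases hc with ⟨c1, c2, c3⟩ | ⟨c1, c2⟩
  · have t1 : ∀ v, θ v = 0 → γ v - v ∈ LinearMap.range θ := fun v hv => by
      obtain ⟨_, ⟨x, rfl⟩, h1, h2⟩ := dec v hv
      have := a1 _ h1 h2
      rw [map_sub, sub_eq_sub_iff_sub_eq_sub] at this
      exact this ▸ sub_mem (c1 x) ⟨x, rfl⟩
    obtain ⟨y₀, y1, y2⟩ := δ3
    obtain ⟨d', e⟩ := T.exists_krR_of_smul d hT.ne₁ (T.smul_of_fix y2 fun u =>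
      T.range_krL δ ▸ (e0 ▸ t1) _ (by rw [tθ, y1, map_zero]))
    obtain rfl : T.krR d' = γ := e.symm.trans e0.symm
    have t2 : ∀ y, δ y = 0 → d' y - y ∈ LinearMap.range δ := fun y hy =>
      mL (by simpa using t1 (T.tm u₀ y) (by rw [tθ, hy, map_zero]))
    obtain ⟨c, -, ec⟩ := δ2 (d'.toLinearMap ∘ₗ δ) (fun x y => by
      simpa [tθ, hT.B, hu] using c3 (T.tm u₀ x) (T.tm u₁ y)) fun x =>
        mL (by simpa [tθ] using c1 (T.tm u₀ x))
    replace ec : ∀ x, d' (δ x) = c • δ x := ec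
    have ec' : ∀ l ∈ LinearMap.range θ, T.krR d' l = c • l := by
      rintro _ ⟨v, rfl⟩
      exact T.ext (f := (T.krR d').toLinearMap ∘ₗ θ) (g := c • θ) (fun u x => by simp [tθ, ec]) v
    by_cases hc1 : c = 1
    · have hd' := hT.B_of_krR hI
      have t3 : ∀ x, d' x - x ∈ LinearMap.range δ := fun x => k0.mem_range fun y hy => by
        obtain ⟨l, hl, h1, h2⟩ := dec (T.tm u₀ y) (by rw [tθ, hy, map_zero])
        have := a1 _ h1 h2
        rw [map_sub, ec' l hl, hc1, one_smul, sub_left_inj, Tn.krR_tm] at this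
        rw [map_sub, ← hd'.1 y x, T.right_inj hu0 this, sub_self]
      obtain ⟨c', h1, h2⟩ := δ2 (d'.toLinearMap - LinearMap.id) (fun x y => by
        have e1 := k0.perp q0 (t3 x) (t3 y)
        simp only [LinearMap.sub_apply, LinearEquiv.coe_coe, LinearMap.id_apply, Φ₂.bsimp,
          hd'.1 x y] at e1 ⊢
        linear_combination -e1) t3
      refine absurd (fun v => eq_add_of_sub_eq' ?_) (c2 c' h1)
      rw [T.krR_sub]
      exact T.ext (g := c' • θ) (fun u x => by rw [Tn.krL_tm, h2]; simp [tθ]) v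
    have c0 := sub_ne_zero.2 hc1
    have z : ∀ l ∈ LinearMap.range θ, T.krR d' l = l → l = 0 := fun l hl e =>
      (smul_eq_zero_iff_right c0).1 (by rw [sub_smul, ← ec' l hl, e, one_smul, sub_self])
    refine Or.inl ⟨eq_bot_iff.2 fun x hx => z x hx.1 (hJ0 x hx), fun y hy => ?_⟩
    obtain ⟨x, hx⟩ := t2 y hy
    refine ⟨_, ⟨(c - 1)⁻¹ • x, rfl⟩, fun u => ?_⟩
    obtain ⟨l, hl, h1, h2⟩ := dec (T.tm u (y - δ ((c - 1)⁻¹ • x))) (by simp [tθ, hy, q0])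
    have e1 := a1 _ h1 h2
    rw [map_sub, Tn.krR_tm, show d' (y - δ ((c - 1)⁻¹ • x)) = y - δ ((c - 1)⁻¹ • x) by
      rw [map_sub, ec, eq_add_of_sub_eq hx.symm, map_smul]
      match_scalars <;> field_simp <;> ring, sub_right_inj] at e1
    rwa [z l hl e1, sub_zero] at h2
  subst e0
  have eγ : cjL (T.kr a d) θ = T.krL LinearMap.id (cjL d δ) := T.cjL_kr a d δ
  have k4 := hT.skew_of_krL (eγ ▸ k3)
  have hJ : LinearMap.range θ ⊓ LinearMap.range θ' ≤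
      T.ts (LinearMap.range δ ⊓ LinearMap.range (cjL d δ)) := fun x hx => T.ts_inf _ _
    ⟨T.range_krL δ ▸ hx.1, by
      rw [← T.range_krL, ← eγ, range_cjL]
      exact ⟨x, hx.1, hJ0 x hx⟩⟩
  by_cases hb : LinearMap.range δ ⊓ LinearMap.range (cjL d δ) = ⊥
  swap
  · refine Or.inr ⟨d, hb, fun hc => c1 fun v => ?_⟩
    rw [← cjL_app, eγ, T.range_krL]
    exact T.krL_mem_ts _ (fun w => hc ⟨w, rfl⟩) _
  refine Or.inl ⟨eq_bot_iff.2 (by rwa [hb, T.ts_bot] at hJ), fun y hy => ?_⟩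
  have s1 : LinearMap.range θ ⊔ LinearMap.range (cjL (T.kr a d) θ) =
      LinearMap.range θ ⊔ LinearMap.range θ' := Submodule.eq_of_le_of_finrank_le
    (sup_le le_sup_left (by
      rw [range_cjL]
      rintro _ ⟨l, hl, rfl⟩
      simpa using add_mem (a2 l) (Submodule.mem_sup_left hl))) (by
      have e1 := Submodule.finrank_sup_add_finrank_inf_eq (LinearMap.range θ) (LinearMap.range θ')
      have e2 := Submodule.finrank_sup_add_finrank_inf_eq (LinearMap.range θ)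
        (LinearMap.range (cjL (T.kr a d) θ))
      have e3 : LinearMap.range θ ⊓ LinearMap.range (cjL (T.kr a d) θ) = ⊥ := eq_bot_iff.2 (by
        rw [eγ, hθ, T.range_krL, T.range_krL, ← T.ts_bot, ← hb]
        exact T.ts_inf _ _)
      rw [e3, finrank_bot, range_cjL, LinearEquiv.finrank_map_eq, ← range_cjL] at e2
      omega)
  obtain ⟨α, hα⟩ := exists_dual_eq_one (F := F) hu0
  obtain ⟨l, hl, h1, h2⟩ := dec (T.tm u₀ y) (by rw [tθ, hy, map_zero])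
  have e1 : y - T.cL α l = T.cL α (T.tm u₀ y - l) := by simp [hα]
  have e2 : ∀ η : W →ₗ[F] W, Φ₂.Skew η → T.krL LinearMap.id η (T.tm u₀ y - l) = 0 →
      η (y - T.cL α l) = 0 := fun η hη h0 => hη.eq_zero fun x => by
    rw [e1, T.cL_cR, hT.cR_eq_zero fun u => (hT.skew_krL hη).perp_of_eq_zero
      ⟨T.tm u x, T.krL_tm _ _ _ _⟩ h0, map_zero]
  refine ⟨T.cL α l, T.cL_mem α (T.range_krL δ ▸ hl), fun u => k2.eq_zero fun x => ?_⟩
  obtain ⟨p, hp, q, hq, e⟩ := Submodule.mem_sup.1 (s1.ge (Submodule.mem_sup_right ⟨x, rfl⟩))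
  rw [← e, Φ.B_add_left, k1.perp_of_eq_zero hp (by rw [tθ, e2 δ k0 h1, map_zero]),
    k3.perp_of_eq_zero hq (by
      rw [eγ, Tn.krL_tm, e2 _ k4 (by rw [← eγ]; exact k5 _ h1 h2), map_zero]), add_zero]

end TF

namespace WK

variable (h : WK T Φ₁ Φ₂ Φ M l)
include h

theorem range_tv {w : W} (hw0 : w ≠ 0) : LinearMap.range (T.sl (l • Φ₂.rk w w)) = T.sp w :=
  (T.range_krL _).trans (by rw [Fm.range_tv h.l0 hw0, T.sp_eq_ts])

theorem skew_tv (w : W) : Φ.Skew (T.sl (l • Φ₂.rk w w)) := h.tf.skew_krL (Fm.skew_tv h.hl w)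

omit h in
theorem tv_apply (w : W) (v : V) : T.sl (l • Φ₂.rk w w) v = l • T.tm (T.cR (Φ₂.B w) v) w := by
  rw [map_smul, LinearMap.smul_apply, Fm.rk, Tn.sl_rk]

omit h in
theorem sq_tv {w : W} (hw : Φ₂.Q w = 0) (v : V) :
    T.sl (l • Φ₂.rk w w) (T.sl (l • Φ₂.rk w w) v) = 0 := by
  simp only [tv_apply]; simp [Φ₂.B_self hw]

theorem mem_of_perp (hK : ∀ τ ∈ Φ₂.EG, T.krR τ ∈ H) {w : W} (hw : Φ₂.Q w = 0) (hw0 : w ≠ 0)
    (D : Fm.QE Φ M H (T.sl (l • Φ₂.rk w w))) {g : V ≃ₗ[F] V}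
    (hg : g ∈ M) {x y : W} (hx : Φ₂.Q x = 0) (x0 : x ≠ 0) (hy : Φ₂.Q y = 0) (y0 : y ≠ 0)
    (hp : ∀ u u', Φ.B (T.tm u x) (g (T.tm u' y)) = 0) : g ∈ H := by
  have hr := h.range_tv hw0
  obtain ⟨a, ha, c, -, e⟩ := h.rk.move_pt hw hx hw0 x0
  obtain ⟨b, hb, c', -, e'⟩ := h.rk.move_pt hw hy hw0 y0
  have := D.mem_of_perp (M.mul_mem (M.inv_mem (h.R a ha)) (M.mul_mem hg (h.R b hb)))
    fun v => D.skew.eq_zero fun p => by
      obtain ⟨u, hu⟩ := hr.le ⟨p, rfl⟩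
      obtain ⟨u', hu'⟩ := hr.le ⟨v, rfl⟩
      rw [← hu, ← hu', mul_app, Fm.Iso.B_inv (h.tf.krR_Iso (Φ₂.EG_le_Iso ha))]
      simp [mul_app, e, e', hp]
  simpa using H.mul_mem (H.mul_mem (hK a ha) this) (H.inv_mem (hK b hb))

/-- The global argument for factors of dimension at least three. -/
theorem le_of_three [Finite F] (hK : ∀ τ ∈ Φ₂.EG, T.krR τ ∈ H) (h3 : 3 ≤ finrank F W)
    (hd : Φ₂.d ≤ 2) (hF : ∃ c, Φ.σ c = c ∧ c ≠ 0 ∧ c ≠ 1) {w : W} (hw : Φ₂.Q w = 0) (hw0 : w ≠ 0)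
    (D : Fm.QE Φ M H (T.sl (l • Φ₂.rk w w)))
    (hmv : ∀ γ ∈ H, γ ∈ T.NG ∨ ∃ x ∈ LinearMap.range (cjL γ (T.sl (l • Φ₂.rk w w))),
      T.sl (l • Φ₂.rk w w) x = 0 ∧ x ∉ LinearMap.range (T.sl (l • Φ₂.rk w w))) : M ≤ H := by
  intro g₀ hg₀
  by_contra hg₁
  have hT := h.tf
  have hr := Φ₂.range_tv h.l0 hw0
  obtain ⟨y, y1, y2⟩ := exists_ker_notMem_span h3 (Φ₂.B w) w
  set θ := T.sl (l • Φ₂.rk w w) with hθ
  have k1 : ∀ g ∈ M, g ∉ H → Fm.QMax M H θ (finrank F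
      ↥(LinearMap.range θ ⊓ LinearMap.range (cjL g θ))) →
      LinearMap.range θ ⊓ LinearMap.range (cjL g θ) = ⊥ ∧
        ∃ x, x ≠ 0 ∧ Φ₂.B w x = 0 ∧ ∀ u, cjL g θ (T.tm u x) = 0 := fun g hg hg' hq => by
    rcases hT.exc' D hmv (fun η h1 h2 => by
        simpa only [hT.σ₂] using Fm.eq_smul_tv h.hl h.l0 hw0 h1 (hr ▸ h2))
      ⟨y, by simp [y1], hr ▸ y2⟩ hF hg hg' hq with ⟨h0, h1⟩ | ⟨d, h1, h2⟩
    · obtain ⟨m, hm, h2⟩ := h1 y (by simp [y1])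
      obtain ⟨c, rfl⟩ := Submodule.mem_span_singleton.1 (hr ▸ hm)
      exact ⟨h0, _, fun e => y2 (by rw [sub_eq_zero.1 e]; exact hr ▸ hm), by simp [y1, Φ₂.B_self hw], h2⟩
    · rw [range_cjL, hr, Submodule.map_span, Set.image_singleton] at h1 h2
      obtain ⟨x, ⟨h4, h5⟩, x0⟩ := Submodule.exists_mem_ne_zero_of_ne_bot h1
      obtain ⟨c, rfl⟩ := Submodule.mem_span_singleton.1 h5
      exact absurd ((Submodule.span_singleton_le_iff_mem _ _).2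
        ((Submodule.smul_mem_iff _ (left_ne_zero_of_smul x0)).1 h4)) h2
  obtain ⟨g₁, a1, a2, a3⟩ := Fm.exists_qMax hg₀ hg₁ θ
  rw [(k1 g₁ a1 a2 a3).1, finrank_bot] at a3
  have k2 := fun g hg hg' => (k1 g hg hg' fun g' h1 h2 => (a3 g' h1 h2).trans (Nat.zero_le _)).2
  let P : Submodule F W := ⨅ u, LinearMap.ker (cjL g₀ θ ∘ₗ T.tm u)
  have mP : ∀ x, x ∈ P ↔ ∀ u, cjL g₀ θ (T.tm u x) = 0 := fun x => by simp [P]
  obtain ⟨x₀, hx₀⟩ := hr.ge (Submodule.mem_span_singleton_self w)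
  have k3 : finrank F P ≤ 1 := by
    by_contra hc
    obtain ⟨x, hx, x0, q⟩ := Φ₂.iso P (by omega)
    refine hg₁ (h.mem_of_perp hK hw hw0 D hg₀ q x0 hw hw0 fun u u' => Φ.perp_symm
      ((D.skew.cjL (D.iso hg₀)).perp_of_eq_zero ⟨g₀ (T.tm u' x₀), ?_⟩ ((mP x).1 hx u)))
    rw [cjL_app, Tn.sl_tm, hx₀]
  obtain ⟨⟨z, hz⟩, k4⟩ := finrank_le_one_iff.1 k3
  have k5 : ∀ s, Φ₂.Q s = 0 → s ≠ 0 → z ≠ 0 ∧ Φ₂.B z s = 0 := fun s hs s0 => by
    obtain ⟨τ, hτ, c, c0, e⟩ := h.rk.move_pt hw hs hw0 s0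
    obtain ⟨x, x0, x1, x2⟩ := k2 _ (M.mul_mem (M.inv_mem (h.R τ hτ)) hg₀) fun hc =>
      hg₁ (by simpa using H.mul_mem (hK τ hτ) hc)
    obtain ⟨a, ha⟩ := k4 ⟨τ x, (mP _).2 fun u => by
      simpa [cjL_mul, cjL_apply (T.krR τ)⁻¹] using x2 u⟩
    replace ha : a • z = τ x := congrArg Subtype.val ha
    have x3 := τ.map_ne_zero_iff.2 x0
    rw [← (Φ₂.EG_le_Iso hτ).1, e, ← ha] at x1
    rw [← ha] at x3
    exact ⟨right_ne_zero_of_smul x3, Φ₂.perp_symm (by simpa [c0, left_ne_zero_of_smul x3] using x1)⟩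
  exact (k5 w hw hw0).1 (Φ₂.nondeg z (Fm.sing_induction hw hw0 (LinearMap.ker (Φ₂.B z)).toAddSubgroup
    fun s hs s0 => (k5 s hs s0).2))

end WK

end Cfsg.Agent.Class.Max
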