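import Mathlib
import Cfsg.Agent.Class.Max.C7G

/-!
Tensor powers of symplectic and unitary spaces: root elements of the wreath product, and the
global argument for factors of dimension at least three.
-/

set_option autoImplicit false
set_option linter.unusedSectionVars false

namespace Cfsg.Agent.Class.Max

open Module

variable {F U W V : Type*} [Field F] [AddCommGroup U] [Module F U] [AddCommGroup W]
  [Module F W] [AddCommGroup V] [Module F V]
  [FiniteDimensional F U] [FiniteDimensional F W] [FiniteDimensional F V]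

namespace Tn

variable {T : Tn F U W V}

theorem smul_of_cm_sl (hU : ∃ u : U, u ≠ 0) (hW : ∃ w : W, w ≠ 0) {y : End F W}
    (h : T.Cm (T.sl y)) : ∃ c : F, ∀ w, y w = c • w := by
  obtain ⟨a, e⟩ := h.exists_left hW
  obtain ⟨u, hu⟩ := hU
  obtain ⟨α, hα⟩ := exists_dual_eq_one (F := F) hu
  exact ⟨α (a u), fun w => by simpa [hα] using congrArg (T.cL α) (e u w)⟩

/-- Quadratic elements of small rank in `GL(U) ∘ GL(W)`. -/
theorem sl_or_cm (h : (2 : F) ≠ 0 ∨ 3 ≤ finrank F W) (hU : ∃ u : U, u ≠ 0) {x : V ≃ₗ[F] V}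
    (hx : x ∈ T.NG) {N : End F V} (e : ∀ v, x v = v + N v) (hN : ∀ v, N (N v) = 0)
    (hr : finrank F (LinearMap.range N) ≤ finrank F U) : (∃ η, ∀ v, N v = T.sl η v) ∨ T.Cm N := by
  obtain ⟨a, d, rfl⟩ := hx
  by_cases ha : ∃ c : F, ∀ u, a u = c • u
  · obtain ⟨d', e'⟩ := T.exists_krR_of_smul d hU ha
    exact Or.inl ⟨d'.toLinearMap - 1, fun v => by
      rw [map_sub, LinearMap.sub_apply, ← krR_eq_sl, ← e', e]; simp⟩
  obtain ⟨c, hc⟩ : ∃ c : F, ∀ w, d w = c • w := h.elim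
    (fun h2 => T.smul_of_quad h2 (fun v => by rw [e v, add_sub_cancel_left, e, hN, add_zero]) ha) fun h3 => by_contra fun hd =>
      ha (smul_of_rank h3 (L := LinearMap.range N) (fun v => ⟨v, by rw [e, add_sub_cancel_left]⟩) hr hd)
  refine Or.inr fun y v => ?_
  rw [← add_right_inj (T.sl y v), ← e, ← map_add, ← e]
  exact T.ext (f := (T.kr a d).toLinearMap ∘ₗ T.sl y) (g := T.sl y ∘ₗ (T.kr a d).toLinearMap)
    (fun u w => by simp [hc]) v

theorem mv_of_sl_or_cm {x : V ≃ₗ[F] V} {N : End F V} {c : F} (e : ∀ v, x v = v + c • N v)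
    (hN : ∀ v, N (N v) = 0) (h : (∃ η, ∀ v, N v = T.sl η v) ∨ T.Cm N) : T.Mv T x := by
  rcases h with ⟨η, h⟩ | h
  · refine fun y => ⟨(1 + c • η) * y * (1 - c • η), fun v => ?_⟩
    have := hN v
    simp only [e, h, map_mul, map_add, map_sub, map_smul, map_one, End.mul_apply,
      LinearMap.add_apply, LinearMap.sub_apply, LinearMap.smul_apply, End.one_apply] at this ⊢
    simp [this]
  · exact fun y => ⟨y, fun v => by simp [e, h y v]⟩

end Tn

/-- The hypotheses of the global argument. -/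
structure WP {ι : Type*} (T : ι → Tn F U W V) (Φ₁ : ι → Fm F U) (Φ₂ : Fm F W) (Φ : Fm F V)
    (M : Subgroup (V ≃ₗ[F] V)) (l : F) : Prop where
  tp : TP T
  wk : ∀ i, WK (T i) (Φ₁ i) Φ₂ Φ M l
  reg : Φ₂.Reg
  loc : ∀ i w, Φ₂.Q w = 0 → w ≠ 0 → TF.Loc (T i) Φ₂ M w
  dich : (2 : F) ≠ 0 ∨ 3 ≤ finrank F W

variable {ι : Type*} {T : ι → Tn F U W V} {Φ₁ : ι → Fm F U} {Φ₂ : Fm F W} {Φ : Fm F V}
  {M : Subgroup (V ≃ₗ[F] V)} {l : F} {i j k : ι} {g : V ≃ₗ[F] V}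

theorem TP.cm_cjL (hT : TP T) (hij : j ≠ i) (h : (T i).Mv (T j) g) (y : End F W) :
    (T i).Cm (cjL g ((T i).sl y)) := by
  obtain ⟨y', e⟩ := h y
  rw [show cjL g ((T i).sl y) = (T j).sl y' from LinearMap.ext fun v => by
    rw [cjL_apply, e, app_inv_app]]
  exact hT.cm i j hij.symm y'

/-- Root subgroups of small rank fix all slots. -/
theorem TP.mv_self [Finite ι] (hT : TP T) (hd : (2 : F) ≠ 0 ∨ 3 ≤ finrank F W)
    (hns : (2 : F) ≠ 0 ∨ 4 ≤ finrank F W ∨ ∃ a, Φ.σ a = a ∧ a ≠ 0 ∧ a ≠ 1) {N : End F V}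
    (hN : ∀ v, N (N v) = 0) (hr : finrank F (LinearMap.range N) ≤ finrank F U)
    (hc : ∀ c, Φ.σ c = c → HasU hT.WR (c • N)) (i : ι) :
    (∃ η, ∀ v, N v = (T i).sl η v) ∨ (T i).Cm N := by
  have key : ∀ c, Φ.σ c = c → c ≠ 0 → ((∃ η, ∀ v, N v = (T i).sl η v) ∨ (T i).Cm N) ∨
      ∃ j, j ≠ i ∧ ∃ x : V ≃ₗ[F] V, (∀ v, x v = v + c • N v) ∧ (T i).Mv (T j) x := fun c h1 c0 => by
    obtain ⟨x, hx, e⟩ := hc c h1
    obtain ⟨j, hj⟩ := hx i
    by_cases hij : j = i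
    · subst hij
      rcases Tn.sl_or_cm hd hT.neU (hj.mem_NG hT.neU hT.neW) e (fun v => by simp [hN])
        (by rwa [LinearMap.range_smul _ _ c0]) with ⟨η, h⟩ | h
      · exact Or.inl (Or.inl ⟨c⁻¹ • η, fun v => by simp [← h, c0]⟩)
      · exact Or.inl (Or.inr (by simpa [c0] using h.smul c⁻¹))
    · exact Or.inr ⟨j, hij, x, e, hj⟩
  by_contra hn
  have k2 : ∀ c, Φ.σ c = c → c ≠ 0 → ∀ y, (T i).Cm ((T i).sl y + c • (N * (T i).sl y -
      (T i).sl y * N) - (c * c) • (N * (T i).sl y * N)) := fun c h1 c0 y => by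
    obtain ⟨j, hij, x, e, hj⟩ := (key c h1 c0).resolve_left hn
    convert hT.cm_cjL hij hj y using 1
    refine LinearMap.ext fun v => ?_
    rw [cjL_apply, inv_apply_of_unip (A := c • N) (fun v => by simp [hN]) e, e]
    simp only [LinearMap.sub_apply, LinearMap.add_apply, LinearMap.smul_apply, End.mul_apply,
      map_sub, map_smul]
    module
  by_cases h2 : (2 : F) = 0
  · rcases hns.resolve_left (not_not.2 h2) with h4 | ⟨a, a1, a0, a2⟩
    · obtain ⟨j, hij, x, e, hj⟩ := (key 1 (map_one _) one_ne_zero).resolve_left hn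
      have := hT.finrank_lt_four hij.symm hj (L := LinearMap.range N) (fun v => ⟨v, by simp [e]⟩) hr
      omega
    · obtain ⟨y, hy⟩ := hT.not_smul
      refine hy (Tn.smul_of_cm_sl (T := T i) hT.neU hT.neW ?_)
      convert ((k2 1 (map_one _) one_ne_zero y).add (k2 a a1 a0 y)).add
        (k2 (a + 1) (by simp [a1]) (fun e => a2 (by linear_combination e - h2)) y) using 1
      match_scalars
      · linear_combination -h2
      · linear_combination (-1 - a) * h2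
      · linear_combination (1 + a) * h2
      · linear_combination (1 + a + a ^ 2) * h2
  · obtain ⟨y, hy⟩ := hT.neW
    obtain ⟨φ, hφ⟩ := exists_dual_eq_one (F := F) hy
    obtain ⟨z', hz⟩ := exists_notMem_span hT.two y
    have z0 : z' - φ z' • y ≠ 0 := fun e => hz (by
      rw [sub_eq_zero.1 e]; exact Submodule.smul_mem _ _ (Submodule.mem_span_singleton_self y))
    set E := (T i).sl (φ.smulRight y) with hE
    obtain ⟨a, ea⟩ := (((k2 1 (map_one _) one_ne_zero (φ.smulRight y)).add (k2 (-1) (by simp)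
      (by simp) (φ.smulRight y))).smul 2⁻¹).exists_left hT.neW
    have e1 : ∀ u w, N (E (N ((T i).tm u w))) = φ w • (T i).tm u y - (T i).tm (a u) w := fun u w => by
      rw [← ea]
      simp only [← hE, LinearMap.sub_apply, LinearMap.add_apply, LinearMap.smul_apply, End.mul_apply,
        show E ((T i).tm u w) = φ w • (T i).tm u y by simp [hE]]
      match_scalars <;> field_simp <;> ring
    obtain ⟨u, hu⟩ := hT.neU
    have q : ∀ v, N (E (N (N (E (N v))))) = 0 := fun v => by rw [hN, map_zero, map_zero]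
    have e2 : ∀ u, a (a u) = 0 := fun u => (T i).left_inj z0 (by
      have := q ((T i).tm u (z' - φ z' • y))
      rw [e1, show φ (z' - φ z' • y) = 0 by simp [hφ], zero_smul, zero_sub, ← LinearMap.neg_apply,
        ← map_neg, e1] at this
      simpa [hφ] using this)
    have e3 : ∀ u, u - (2 : F) • a u = 0 := fun u => (T i).left_inj hy (by
      have := q ((T i).tm u y)
      rw [e1, hφ, one_smul, ← LinearMap.sub_apply, ← map_sub, e1, hφ, map_sub a, e2] at this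
      simp only [map_sub, map_smul, map_zero, LinearMap.sub_apply, LinearMap.smul_apply,
        LinearMap.zero_apply] at this ⊢
      linear_combination (norm := module) this)
    have := e3 (a u)
    rw [e2, smul_zero, sub_zero] at this
    exact hu (by simpa [this] using e3 u)

namespace WP

variable (h : WP T Φ₁ Φ₂ Φ M l)
include h

theorem mem_NG {w : W} (hw : Φ₂.Q w = 0) (hw0 : w ≠ 0) (hg : g ∈ M)
    (e : ∀ v, g ((T j).sl (l • Φ₂.rk w w) v) ∈ LinearMap.range ((T j).sl (l • Φ₂.rk w w))) :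
    g ∈ (T j).NG :=
  (h.wk j).mem_NG_of_stab h.reg (h.loc j) hw hw0 hg fun u => by
    obtain ⟨v, hv⟩ := ((h.wk j).range_tv hw0).ge ((T j).tm_mem_sp u w)
    exact hv ▸ (h.wk j).range_tv hw0 ▸ e v

theorem finrank_tv {w : W} (hw0 : w ≠ 0) (g : V ≃ₗ[F] V) :
    finrank F (LinearMap.range (cjL g ((T j).sl (l • Φ₂.rk w w)))) = finrank F U := by
  rw [range_cjL, LinearEquiv.finrank_map_eq, (h.wk j).range_tv hw0, (T j).finrank_sp hw0]

/-- An element mapping a root element of a slot into a slot maps slot to slot. -/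
theorem mv_of_sl {w : W} (hw : Φ₂.Q w = 0) (hw0 : w ≠ 0) (hg : g ∈ M) {η : End F W}
    (e : ∀ v, cjL g ((T j).sl (l • Φ₂.rk w w)) v = (T k).sl η v) : (T j).Mv (T k) g := by
  set θ := (T j).sl (l • Φ₂.rk w w) with hθ
  have e' : ∀ v, θ v = g⁻¹ ((T k).sl η (g v)) := fun v => by rw [← e, cjL_app, inv_app_app]
  have tv0 : ∀ s : W, s ≠ 0 → l • Φ₂.rk s s ≠ 0 := fun s s0 e => s0 (by
    simpa [e] using (Φ₂.range_tv (h.wk j).l0 s0).ge (Submodule.mem_span_singleton_self s))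
  have η0 : η ≠ 0 := fun e0 => tv0 w hw0 ((T j).sl_inj h.tp.neU fun v => by simp [← hθ, e', e0])
  have key : ∀ i, i ≠ k → ∀ y, (T j).Cm (cjL g⁻¹ ((T i).sl y)) := fun i hi y => by
    let R : Submodule F (End F W) :=
      { carrier := {y | (T j).Cm (cjL g⁻¹ ((T i).sl y))}
        zero_mem' := fun x v => by simp [cjL_apply]
        add_mem' := fun ha hb x v => by simpa [cjL_apply] using (ha.add hb) x v
        smul_mem' := fun c _ ha x v => by simpa [cjL_apply] using (ha.smul c) x v }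
    refine (h.wk j).rk.mem_of_rk hw hw0 R
      (fun _ ha _ hb x v => by simpa [cjL_apply] using (ha.mul hb) x v) (fun s hs s0 => ?_) y
    rw [← R.smul_mem_iff (h.wk j).l0]
    obtain ⟨τ, hτ, eτ⟩ := (h.wk i).hasU_tv hs (map_one _)
    obtain ⟨x, hx, ex⟩ := HasU.cjL ⟨_, (h.wk i).R τ hτ, eτ⟩ (M.inv_mem hg)
    rw [one_smul] at ex
    set N := cjL g⁻¹ ((T i).sl (l • Φ₂.rk s s)) with hN
    have cm : ∀ v, N (θ v) = θ (N v) := fun v => by
      simp only [hN, cjL_apply, e', inv_inv, app_inv_app]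
      rw [h.tp.cm i k hi]
    have q : ∀ v, N (N v) = 0 := fun v => by simp only [hN, cjL_apply, inv_inv, app_inv_app,
      WK.sq_tv hs, map_zero]
    refine (Tn.sl_or_cm h.dich h.tp.neU (h.mem_NG hw hw0 hx fun v => ⟨x v, by
      rw [ex, ex, map_add, cm]⟩) ex q (h.finrank_tv s0 _).le).resolve_left fun ⟨ζ, eζ⟩ => ?_
    obtain ⟨y, hy⟩ := (Φ₂.range_tv (h.wk j).l0 hw0).ge (Submodule.mem_span_singleton_self w)
    have c1 : ζ * (l • Φ₂.rk w w) = (l • Φ₂.rk w w) * ζ := (T j).sl_inj h.tp.neU fun v => by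
      rw [← Tn.sl_sl, ← Tn.sl_sl, ← eζ, ← eζ, cm]
    have c2 : ζ w = (l * Φ₂.B w (ζ y)) • w := by
      have := LinearMap.congr_fun c1 y
      rwa [End.mul_apply, hy, End.mul_apply, LinearMap.smul_apply, Fm.rk_apply, smul_smul] at this
    have c3 : ζ (ζ w) = 0 := LinearMap.congr_fun ((T j).sl_inj h.tp.neU (x := ζ * ζ) (y := 0)
      fun v => by rw [← Tn.sl_sl, ← eζ, ← eζ, q, map_zero, LinearMap.zero_apply]) w
    have c4 : ζ w = 0 := by
      rw [c2, map_smul, c2, smul_smul, smul_eq_zero_iff_left hw0, mul_self_eq_zero] at c3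
      rw [c2, c3, zero_smul]
    obtain ⟨v, hv⟩ := h.tp.exists_sl_ne_zero hi (tv0 s s0) η0
    refine hv (g⁻¹.injective ?_)
    have := eζ (θ (g⁻¹ v))
    rw [hθ, WK.tv_apply, map_smul ((T j).sl ζ), Tn.sl_tm, c4, ← WK.tv_apply, ← hθ, e'] at this
    simpa [hN, cjL_apply] using this
  intro x
  obtain ⟨y, ey⟩ := h.tp.exists_sl (j := k) (b := cjL g ((T j).sl x)) fun i hi y v => by
    have := congrArg g (key i hi y x (g⁻¹ v))
    simpa [cjL_apply] using this.symm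
  exact ⟨y, fun v => by rw [← ey, cjL_app]⟩

variable [Finite ι] (hns : (2 : F) ≠ 0 ∨ 4 ≤ finrank F W ∨ ∃ a, Φ.σ a = a ∧ a ≠ 0 ∧ a ≠ 1)
include hns

theorem uniq {w : W} (hw : Φ₂.Q w = 0) (hw0 : w ≠ 0) (hg : g ∈ M)
    (hc : ∀ c, Φ.σ c = c → HasU h.tp.WR (c • cjL g ((T j).sl (l • Φ₂.rk w w)))) :
    ∃ k, (T j).Mv (T k) g := by
  have q : ∀ v, cjL g ((T j).sl (l • Φ₂.rk w w)) (cjL g ((T j).sl (l • Φ₂.rk w w)) v) = 0 :=
    fun v => by simp only [cjL_apply, inv_app_app, WK.sq_tv hw, map_zero]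
  have key := h.tp.mv_self h.dich hns q (h.finrank_tv hw0 g).le hc
  by_cases hs : ∃ k η, ∀ v, cjL g ((T j).sl (l • Φ₂.rk w w)) v = (T k).sl η v
  · obtain ⟨k, η, e⟩ := hs
    exact ⟨k, h.mv_of_sl hw hw0 hg e⟩
  obtain ⟨c, e⟩ := h.tp.scal _ fun i => (key i).resolve_left fun hi => hs ⟨i, hi⟩
  obtain ⟨u, hu⟩ := h.tp.neU
  have := q ((T j).tm u w)
  rw [e, e, smul_smul, smul_eq_zero_iff_left ((T j).tm_ne_zero hu hw0), mul_self_eq_zero] at this
  have h1 := h.finrank_tv (j := j) hw0 g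
  rw [show cjL g ((T j).sl (l • Φ₂.rk w w)) = 0 from LinearMap.ext fun v => by
    rw [e, this, zero_smul, LinearMap.zero_apply],
    LinearMap.range_zero, finrank_bot] at h1
  exact absurd h1 (finrank_pos_iff_exists_ne_zero.2 h.tp.neU).ne

theorem qe {N : Subgroup (V ≃ₗ[F] V)} (hN : N ≤ M) (hR : ∀ τ ∈ Φ₂.EG, (T j).krR τ ∈ N)
    (hK : ∀ k, ∀ g ∈ N, (T j).Mv (T k) g → g ∈ h.tp.WR) {w : W} (hw : Φ₂.Q w = 0) (hw0 : w ≠ 0) :
    Φ.QE N (h.tp.WR ⊓ N) ((T j).sl (l • Φ₂.rk w w)) :=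
  ⟨inf_le_right, hN.trans (h.wk j).I, WK.sq_tv hw, (h.wk j).skew_tv w, fun _ hc =>
    let ⟨τ, hτ, e⟩ := (h.wk j).hasU_tv hw hc
    ⟨_, ⟨hK j _ (hR τ hτ) (Tn.mv_of_NG ((T j).krR_mem τ)), hR τ hτ⟩, e⟩,
    fun g hg e => ⟨hK j g hg (Tn.mv_of_NG (h.mem_NG hw hw0 (hN hg) e)), hg⟩, fun g hg hc =>
      let ⟨k, e⟩ := h.uniq hns hw hw0 (hN hg) fun c h1 => let ⟨x, hx, e⟩ := hc c h1; ⟨x, hx.1, e⟩
      ⟨hK k g hg e, hg⟩⟩

omit h hns in
/-- Reduction to the subgroups normalising a set of slots. -/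
theorem le_WR (hT : TP T) (hR : ∀ i, ∀ τ ∈ Φ₂.EG, (T i).krR τ ∈ M)
    (hp : ∀ j k, j ≠ k → (∃ i, i ≠ j ∧ i ≠ k) → ∃ p ∈ M,
      ∀ i x v, p ((T i).sl x v) = (T (open Classical in Equiv.swap j k i)).sl x (p v))
    (step : ∀ N ≤ M, ∀ j, (∀ τ ∈ Φ₂.EG, (T j).krR τ ∈ N) →
      (∀ k, ∀ g ∈ N, (T j).Mv (T k) g → g ∈ hT.WR) → N ≤ hT.WR ⊓ N) : M ≤ hT.WR := by
  classical
  have := Fintype.ofFinite ι
  refine hT.le_WR (fun j k hjk h3 => ?_) fun A j _ _ hj _ K g hg hA => ?_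
  · obtain ⟨p, hp, e⟩ := hp j k hjk h3
    refine ⟨p, hp, fun i => ⟨_, fun x => ⟨x, e i x⟩⟩, fun x => ⟨x, by simpa using e j x⟩,
      fun i h1 h2 x => ⟨x, by simpa [Equiv.swap_apply_of_ne_of_ne h1 h2] using e i x⟩⟩
  let N : Subgroup (V ≃ₗ[F] V) :=
    { carrier := {g | g ∈ M ∧ ∀ i ∈ A, (T i).Mv (T i) g}
      one_mem' := ⟨M.one_mem, fun i _ x => ⟨x, fun _ => rfl⟩⟩
      mul_mem' := fun ha hb => ⟨M.mul_mem ha.1 hb.1, fun i hi => (ha.2 i hi).mul (hb.2 i hi)⟩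
      inv_mem' := fun ha => ⟨M.inv_mem ha.1, fun i hi => (ha.2 i hi).inv hT.neU⟩ }
  exact (step N (fun _ h => h.1) j (fun τ hτ => ⟨hR j τ hτ, fun i hi =>
    (hT.cm_krR (fun e : i = j => hj (e ▸ hi)) τ).mv⟩)
    (fun k g hg e => K j hj k g hg.1 hg.2 e) ⟨hg, hA⟩).1

omit hns in
theorem le_WR_three [Finite F] (h3 : 3 ≤ finrank F W) (hd : Φ₂.d ≤ 2)
    (hF : ∃ c, Φ.σ c = c ∧ c ≠ 0 ∧ c ≠ 1)
    (hp : ∀ j k, j ≠ k → (∃ i, i ≠ j ∧ i ≠ k) → ∃ p ∈ M,
      ∀ i x v, p ((T i).sl x v) = (T (open Classical in Equiv.swap j k i)).sl x (p v)) :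
    M ≤ h.tp.WR := by
  obtain ⟨w, -, hw0, hw⟩ := Φ₂.iso ⊤ (by rw [finrank_top]; omega)
  refine le_WR h.tp (fun i => (h.wk i).R) hp fun N hN j hR hK => ((h.wk j).mono hN hR).le_of_three
    (fun τ hτ => ⟨hK j _ (hR τ hτ) (Tn.mv_of_NG ((T j).krR_mem τ)), hR τ hτ⟩) h3 hd hF hw hw0
    (h.qe (Or.inr (Or.inr hF)) hN hR hK hw hw0) fun γ hγ => ?_
  obtain ⟨k, hk⟩ := hγ.1 j
  by_cases hjk : k = j
  · exact Or.inl ((hjk ▸ hk).mem_NG h.tp.neU h.tp.neW)
  obtain ⟨η, e⟩ := hk (l • Φ₂.rk w w)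
  obtain ⟨y, y1, y2⟩ := exists_ker_notMem_span h3 (Φ₂.B w) w
  have y0 : y ≠ 0 := fun e => y2 (by simp [e])
  obtain ⟨φ, hφ⟩ := exists_dual_eq_one (F := F) y0
  obtain ⟨u, hu⟩ := h.tp.neU
  obtain ⟨v, hv⟩ := h.tp.exists_sl_ne_zero (Ne.symm hjk) (x := φ.smulRight y) (y := η)
    (fun e => y0 (by simpa [hφ] using LinearMap.congr_fun e y)) fun e0 => by
      obtain ⟨v, hv⟩ := ((h.wk j).range_tv hw0).ge ((T j).tm_mem_sp u w)
      exact (T j).tm_ne_zero hu hw0 (by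
        have := e v
        rwa [hv, e0, map_zero, LinearMap.zero_apply, γ.map_eq_zero_iff] at this)
  refine Or.inr ⟨(T j).sl (φ.smulRight y) ((T k).sl η v), ⟨(T j).sl (φ.smulRight y) v, ?_⟩, ?_,
    fun hc => ?_⟩
  · rw [cjL_apply, e, app_inv_app, h.tp.cm j k (Ne.symm hjk)]
  · rw [WK.tv_apply, Tn.sl_rk, Tn.cR_tm, y1]; simp
  · rw [(h.wk j).range_tv hw0] at hc
    exact y2 ((T j).mem_of_tm_mem_ts hu ((T j).sp_eq_ts w ▸ (T j).sp_eq_of_mem hv hc
      ⟨_, ((T j).sl_rk φ y _).symm⟩ ▸ (T j).tm_mem_sp u y))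

end WP

end Cfsg.Agent.Class.Max
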