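import Mathlib
import Cfsg.Agent.Class.Max.C7U

/-!
Tensor powers of symplectic and unitary spaces: the global argument over the smallest fields.
-/

set_option autoImplicit false
set_option linter.unusedSectionVars false

namespace Cfsg.Agent.Class.Max

open Module

variable {F U W V : Type*} [Field F] [AddCommGroup U] [Module F U] [AddCommGroup W]
  [Module F W] [AddCommGroup V] [Module F V]
  [FiniteDimensional F U] [FiniteDimensional F W] [FiniteDimensional F V]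

theorem TF.exists_sim' {T T' : Tn F U W V} {Φ₁ Φ₁' : Fm F U} {Φ₂ : Fm F W} {Φ : Fm F V}
    (hT : TF T Φ₁ Φ₂ Φ) (hT' : TF T' Φ₁' Φ₂ Φ) {g : V ≃ₗ[F] V} (hg : g ∈ Φ.Iso) {a : U ≃ₗ[F] U}
    {d : W ≃ₗ[F] W} (e : ∀ u w, g (T.tm u w) = T'.tm (a u) (d w)) :
    ∃ m, m ≠ 0 ∧ Φ₂.σ m = m ∧ (∀ x y, m * Φ₂.B (d x) (d y) = Φ₂.B x y) ∧
      ∀ u u', Φ₁'.B (a u) (a u') = m * Φ₁.B u u' := by
  obtain ⟨u, u', e1⟩ := hT.exists_B_one
  obtain ⟨x, x', e2⟩ := hT.swap.exists_B_one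
  have k : ∀ u u' x y, Φ₁'.B (a u) (a u') * Φ₂.B (d x) (d y) = Φ₁.B u u' * Φ₂.B x y :=
    fun u u' x y => by rw [← hT'.B, ← hT.B, ← e, ← e, hg.1]
  have k1 : ∀ x y, Φ₁'.B (a u) (a u') * Φ₂.B (d x) (d y) = Φ₂.B x y := fun x y => by
    rw [k, e1, one_mul]
  have k2 := (k1 x x').trans e2
  have k3 := k1 x' x
  rw [Φ₂.symm (d x), Φ₂.symm x, ← k1 x x', map_mul] at k3
  refine ⟨_, left_ne_zero_of_mul_eq_one k2, mul_right_cancel₀ (mul_ne_zero Φ₂.eps_ne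
    (Φ₂.σ_ne (right_ne_zero_of_mul_eq_one k2))) (by linear_combination -k3), k1, fun v v' => ?_⟩
  have := k v v' x x'
  rw [e2] at this
  linear_combination Φ₁'.B (a u) (a u') * this - Φ₁'.B (a v) (a v') * k2

variable {ι : Type*} {T : ι → Tn F U W V} {Φ₁ : ι → Fm F U} {Φ₂ : Fm F W} {Φ : Fm F V}
  {M : Subgroup (V ≃ₗ[F] V)} {l : F}

/-- The transvection with centre `w`. -/
def Fm.tvE (Φ₂ : Fm F W) (l : F) {w : W} (hw : Φ₂.Q w = 0) : W ≃ₗ[F] W :=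
  unip (l • Φ₂.rk w w) fun v => by simp [Φ₂.B_self hw]

theorem Fm.tvE_apply {w : W} (hw : Φ₂.Q w = 0) (x : W) :
    Φ₂.tvE l hw x = x + (l * Φ₂.B w x) • w := by simp [Fm.tvE, unip_apply, mul_smul]

theorem Tn.krR_tvE (T : Tn F U W V) {w : W} (hw : Φ₂.Q w = 0) (v : V) :
    T.krR (Φ₂.tvE l hw) v = v + T.sl (l • Φ₂.rk w w) v :=
  T.ext (f := (T.krR _).toLinearMap) (g := LinearMap.id + T.sl _) (fun u x => by
    simp [Fm.tvE_apply, mul_smul]) v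

/-- Some transvection is a product of an even number of transvections. -/
theorem Fm.TV.exists_tvE_mem (h : Φ₂.TV) (hd : Φ₂.d + 2 ≤ finrank F W)
    (hF : ∀ c, Φ₂.σ c = c → c ≠ 0 → c = 1)
    (hf : ((∀ a, Φ₂.σ a = a) ∧ Φ₂.d + 4 ≤ finrank F W) ∨ ∃ ω, Φ₂.σ ω ≠ ω) (P : Subgroup (W ≃ₗ[F] W))
    (hm : ∀ {a b : W} (ha : Φ₂.Q a = 0) (hb : Φ₂.Q b = 0), a ≠ 0 → b ≠ 0 →
      Φ₂.tvE l ha * Φ₂.tvE l hb ∈ P) : ∃ w, ∃ hw : Φ₂.Q w = 0, w ≠ 0 ∧ Φ₂.tvE l hw ∈ P := by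
  have h2 : (2 : F) = 0 := by linear_combination -hF (-1) (by simp) (by simp)
  obtain ⟨w₀, -, hw0, hw⟩ := Φ₂.iso ⊤ (by rw [finrank_top]; omega)
  have k1 : ∀ {a b : W}, Φ₂.Q a = 0 → Φ₂.Q b = 0 → a ≠ 0 → b ≠ 0 → Φ₂.B a b = 0 →
      HasU P (l • (Φ₂.rk a a + Φ₂.rk b b)) := fun ha hb a0 b0 e =>
    ⟨_, hm ha hb a0 b0, fun x => by simp [mul_app, Fm.tvE_apply, e, mul_smul]; abel⟩
  have k2 : ∀ {a : W} (ha : Φ₂.Q a = 0), HasU P (l • Φ₂.rk a a) → Φ₂.tvE l ha ∈ P :=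
    fun ha ⟨g, hg, e⟩ => by rwa [show Φ₂.tvE l ha = g from LinearEquiv.ext fun x => (e x).symm]
  rcases hf with ⟨h1, h3⟩ | ⟨ω, hω⟩
  · obtain ⟨f₁, -, b, -, f₂, -, c, -, f₃, -, H⟩ := Φ₂.nd_top.exists_hyp3 (by rwa [finrank_top])
      trivial hw0 hw
    have Hs := H.simp
    have q : ∀ x y z : F, Φ₂.Q (x • w₀ + y • b + z • c) = 0 := fun x y z =>
      h.Q_zero (by simp only [Φ₂.bsimp, Hs]; ring)
    have n : ∀ x y z : F, x ≠ 0 ∨ y ≠ 0 ∨ z ≠ 0 → x • w₀ + y • b + z • c ≠ 0 := fun x y z h0 e => by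
      have e1 := congrArg (Φ₂.B f₁) e
      have e2 := congrArg (Φ₂.B f₂) e
      have e3 := congrArg (Φ₂.B f₃) e
      simp only [Φ₂.bsimp, Hs, mul_zero, add_zero, zero_add, mul_eq_zero, Φ₂.eps_ne,
        or_false] at e1 e2 e3
      simp [e1, e2, e3] at h0
    have p : ∀ x y z x' y' z' : F, Φ₂.B (x • w₀ + y • b + z • c) (x' • w₀ + y' • b + z' • c) = 0 :=
      fun x y z x' y' z' => by simp only [Φ₂.bsimp, Hs]; ring
    refine ⟨_, q 1 1 1, n 1 1 1 (by simp), k2 _ ((((k1 (q 1 0 0) (q 0 1 0) (n _ _ _ (by simp))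
      (n _ _ _ (by simp)) (p ..)).add (k1 (q 0 0 1) (q 1 1 0) (n _ _ _ (by simp)) (n _ _ _ (by simp))
      (p ..)) fun v => ?_).add (k1 (q 1 0 1) (q 0 1 1) (n _ _ _ (by simp)) (n _ _ _ (by simp))
      (p ..)) fun v => ?_).congr fun x => ?_)⟩
    iterate 2 simp [Hs]
    simp only [LinearMap.smul_apply, LinearMap.add_apply, Fm.rk_apply, Φ₂.bsimp]
    match_scalars
    · linear_combination (l * Φ₂.B w₀ x) * h2
    · linear_combination (l * Φ₂.B b x) * h2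
    · linear_combination (l * Φ₂.B c x) * h2
  · obtain ⟨w', s, s', -, q1, -, e1, e2, e3, e4, e5, -⟩ := Fm.exists_hyp2 hd hw hw0
    have o1 : Φ₂.σ ω = ω + 1 := by
      have := hF (ω + Φ₂.σ ω) (by rw [map_add, Φ₂.invol, add_comm]) fun e =>
        hω (by linear_combination e - ω * h2)
      linear_combination this - ω * h2
    have q : ∀ y : F, Φ₂.Q (w₀ + y • s) = 0 := fun y => by
      rw [Φ₂.Q_add_perp (by simp [e3]), hw, Φ₂.Q_smul_zero q1, add_zero]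
    have n : ∀ y : F, w₀ + y • s ≠ 0 := fun y e => Φ₂.eps_ne (by
      simpa [e5, Fm.B_eq_eps e1] using congrArg (Φ₂.B w') e)
    have e6 := Φ₂.perp_symm e3
    refine ⟨_, q (ω + 1), n _, k2 _ (((k1 hw q1 hw0 (fun e => by simp [e] at e2) e3).add
      (k1 (q 1) (q ω) (n _) (n _) (by simp [e3, e6, Φ₂.B_self hw, Φ₂.B_self q1]))
      fun v => by simp [e3, e6, Φ₂.B_self hw, Φ₂.B_self q1]).congr fun x => ?_)⟩
    simp only [LinearMap.smul_apply, LinearMap.add_apply, Fm.rk_apply, Φ₂.bsimp, o1]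
    match_scalars
    · linear_combination (l * Φ₂.B w₀ x) * h2
    · linear_combination -(l * Φ₂.B s x * ω) * h2

theorem WP.le_WR_two [Finite ι] [Finite F] (h : WP T Φ₁ Φ₂ Φ M l) (hd : Φ₂.d + 2 ≤ finrank F W)
    (h4 : 4 ≤ finrank F W) (hF : ∀ c, Φ.σ c = c → c ≠ 0 → c = 1)
    (hf : ((∀ a, Φ.σ a = a) ∧ Φ₂.d + 4 ≤ finrank F W) ∨ ∃ ω, Φ.σ ω ≠ ω)
    (hp : ∀ j k, j ≠ k → (∃ i, i ≠ j ∧ i ≠ k) → ∃ p ∈ M,
      ∀ i x v, p ((T i).sl x v) = (T (open Classical in Equiv.swap j k i)).sl x (p v)) :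
    M ≤ h.tp.WR := by
  classical
  have := Fintype.ofFinite ι
  by_cases hι : IsEmpty ι
  · exact fun g _ i => hι.elim i
  obtain ⟨i₀⟩ := not_isEmpty_iff.1 hι
  have l0 := (h.wk i₀).l0
  have hσ := (h.wk i₀).tf.σ₂
  have h2 : (2 : F) = 0 := by linear_combination -hF (-1) (by simp) (by simp)
  have nm : ∀ c, c ≠ 0 → c * Φ₂.σ c = 1 := fun c c0 => hF _
    (by rw [← hσ, map_mul, Φ₂.invol, mul_comm]) (mul_ne_zero c0 (Φ₂.σ_ne c0))
  obtain ⟨w₀, -, hw0, hw⟩ := Φ₂.iso ⊤ (by rw [finrank_top]; omega)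
  have sq : ∀ {w : W} (hw : Φ₂.Q w = 0), Φ₂.tvE l hw * Φ₂.tvE l hw = 1 := fun {w} hw =>
    LinearEquiv.ext fun x => by
      simp only [mul_app, Fm.tvE_apply, Φ₂.bsimp, Φ₂.B_self hw, one_app]
      linear_combination (norm := module) (l * Φ₂.B w x * h2) • w
  have un : ∀ g ∈ M, ∀ i {w : W} (hw : Φ₂.Q w = 0), w ≠ 0 →
      g * (T i).krR (Φ₂.tvE l hw) * g⁻¹ ∈ h.tp.WR → ∃ k, (T i).Mv (T k) g := fun g hg i w hw hw0 e =>
    h.uniq (Or.inr (Or.inl h4)) hw hw0 hg fun c hc => by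
      by_cases c0 : c = 0
      · simpa [c0] using hasU_zero
      · exact ⟨_, e, fun v => by simp [mul_app, Tn.krR_tvE, hF c hc c0, cjL_apply]⟩
  refine h.tp.le_WR_of_inv {ρ | ∃ w, ∃ hw : Φ₂.Q w = 0, w ≠ 0 ∧ ρ = Φ₂.tvE l hw}
    (fun j k hjk h3 => ?_) ?_ ?_ ?_ ?_ ?_ ⟨_, w₀, hw, hw0, rfl⟩ ?_ ?_ ?_ fun g hg i hc => ?_
  · obtain ⟨p, hp, e⟩ := hp j k hjk h3
    refine ⟨p, hp, fun i => ⟨_, fun x => ⟨x, e i x⟩⟩, fun x => ⟨x, by simpa using e j x⟩,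
      fun i h1 h2 x => ⟨x, by simpa [Equiv.swap_apply_of_ne_of_ne h1 h2] using e i x⟩⟩
  · rintro i _ ⟨w, hw, -, rfl⟩
    obtain ⟨τ, hτ, e⟩ := (h.wk i).hasU_tv hw (map_one _)
    rw [show (T i).krR (Φ₂.tvE l hw) = (T i).krR τ from LinearEquiv.ext fun v => by
      rw [e, Tn.krR_tvE, one_smul]]
    exact (h.wk i).R τ hτ
  · rintro _ ⟨w, hw, -, rfl⟩
    exact sq hw
  · rintro _ ⟨w, hw, hw0, rfl⟩ ⟨c, hc⟩
    obtain ⟨x, hx⟩ := Φ₂.exists_B_ne hw0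
    have h1 := hc w
    rw [Fm.tvE_apply, Φ₂.B_self hw, mul_zero, zero_smul, add_zero] at h1
    simpa [Fm.tvE_apply, smul_left_injective F hw0 (h1.symm.trans (one_smul F w).symm), l0, hx, hw0]
      using hc x
  · rintro _ ⟨w, hw, -, rfl⟩ _ ⟨s, hs, -, rfl⟩ ⟨c, hc⟩
    obtain ⟨y, y0, y1, y2⟩ := Fm.exists_perp_pair (Ψ := Φ₂) (by omega) w s
    have h1 := hc y
    simp only [mul_app, Fm.tvE_apply, y1, y2, mul_zero, zero_smul, add_zero] at h1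
    have := smul_left_injective F y0 (h1.symm.trans (one_smul F y).symm)
    exact mul_right_cancel ((LinearEquiv.ext fun x => by rw [hc, this, one_smul, one_app]).trans
      (sq hs).symm)
  · rintro _ ⟨w, hw, hw0, rfl⟩
    obtain ⟨w', s, s', -, q1, -, e1, e2, e3, -, e5, -⟩ := Fm.exists_hyp2 hd hw hw0
    refine ⟨_, ⟨s, q1, fun e => by simp [e] at e2, rfl⟩, fun e => ?_, LinearEquiv.ext fun x => ?_⟩
    · simpa [Fm.tvE_apply, e1, Φ₂.perp_symm e5, l0, hw0] using LinearEquiv.congr_fun e w'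
    · simp [mul_app, Fm.tvE_apply, e3, Φ₂.perp_symm e3, add_right_comm]
  · rintro g hg i j a d e _ ⟨w, hw, hw0, rfl⟩
    obtain ⟨m, m0, m1, m2, -⟩ := (h.wk i).tf.exists_sim' (h.wk j).tf ((h.wk i).I hg) e
    simp only [hF m (hσ m ▸ m1) m0, one_mul] at m2
    refine ⟨d w, (h.wk i).tf.tv₂.Q_zero (by rw [m2, Φ₂.B_self hw]), d.map_ne_zero_iff.2 hw0,
      LinearEquiv.ext fun x => ?_⟩
    obtain ⟨x, rfl⟩ := d.surjective x
    simp [mul_app, Fm.tvE_apply, m2]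
  · rintro g hg i _ ⟨w, hw, hw0, rfl⟩
    exact un g hg i hw hw0
  · rintro g hg i _ ⟨w, hw, hw0, rfl⟩ _ ⟨s, hs, hs0, rfl⟩ hne hc e
    have p1 : Φ₂.B w s = 0 := by
      by_contra h0
      simpa [mul_app, Fm.tvE_apply, Φ₂.B_self hw, l0, h0, Φ₂.ne_symm h0, hw0] using
        LinearEquiv.congr_fun hc w
    have p2 := Φ₂.perp_symm p1
    obtain ⟨f, -, f1, f2⟩ := ((Fm.pair_or_eq_smul hw hw0 hs p1).resolve_right fun ⟨c, hc⟩ =>
      hne (LinearEquiv.ext fun x => by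
        have := nm c (by rintro rfl; exact hs0 (by simpa using hc))
        simp only [Fm.tvE_apply, hc, Φ₂.bsimp, smul_smul]
        linear_combination (norm := module) -(l * Φ₂.B w x * this) • w)).symm.exists_partner
    set θ := (T i).sl (l • Φ₂.rk w w) with hθ
    set Θ := θ + (T i).sl (l • Φ₂.rk s s) with hΘ
    have c1 : ∀ v, (T i).krR (Φ₂.tvE l hw * Φ₂.tvE l hs) v = v + Θ v := fun v => by
      simp only [map_mul, mul_app, Tn.krR_tvE, hΘ, hθ, WK.tv_apply, LinearMap.add_apply]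
      simp [p1]
      abel
    have c2 : ∀ v, g (Θ v) = Θ (g v) := fun v => by
      simpa only [mul_app, c1, map_add, add_right_inj] using LinearEquiv.congr_fun e v
    have c3 : ∀ u, Θ ((T i).tm u (l⁻¹ • f)) = (T i).tm u w := fun u => by simp [hΘ, hθ, f1, f2, l0]
    have c4 : ∀ v, (T i).cR (Φ₂.B w) (Θ v) = 0 := fun v => by
      simp only [hΘ, hθ, WK.tv_apply, LinearMap.add_apply]
      simp [p1, Φ₂.B_self hw]
    obtain ⟨τ, hτ, eτ⟩ := (h.wk i).hasU_tv hw (map_one _)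
    obtain ⟨x, hx, ex⟩ := HasU.cjL ⟨_, (h.wk i).R τ hτ, eτ⟩ (M.inv_mem hg)
    rw [one_smul] at ex
    rcases Tn.sl_or_cm h.dich h.tp.neU ((h.wk i).mem_NG_of_stab h.reg (h.loc i) hw hw0 hx fun u => by
      rw [ex, cjL_apply, inv_inv, ← c3, c2, WK.tv_apply, c4, c3]
      simpa using (T i).tm_mem_sp u w) ex (fun v => by
        simp only [cjL_apply, inv_inv, app_inv_app, WK.sq_tv hw, map_zero])
      (h.finrank_tv hw0 _).le with ⟨η, e⟩ | hc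
    · exact ⟨i, by simpa using (h.mv_of_sl hw hw0 (M.inv_mem hg) e).inv h.tp.neU⟩
    obtain ⟨a, ea⟩ := hc.exists_left h.tp.neW
    have a0 : ∀ u, a u = 0 := fun u => by
      have := congrArg ((T i).cR (Φ₂.B w)) (ea u f)
      rw [cjL_apply, WK.tv_apply, ← c3, ← map_smul, ← app_inv_app g (l • _), ← c2, inv_app_app,
        c4] at this
      simpa [f1] using this.symm
    have h1 := h.finrank_tv (j := i) hw0 g⁻¹
    rw [show cjL g⁻¹ ((T i).sl (l • Φ₂.rk w w)) = 0 from LinearMap.ext ((T i).ext fun u y => by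
      rw [ea, a0]; simp), LinearMap.range_zero, finrank_bot] at h1
    exact absurd h1 (finrank_pos_iff_exists_ne_zero.2 h.tp.neU).ne
  obtain ⟨w, hw, hw0, e⟩ := (h.wk i).tf.tv₂.exists_tvE_mem hd (by simpa only [hσ] using hF)
    (by simpa only [hσ] using hf) (h.tp.WR.comap ((MulAut.conj g).toMonoidHom.comp (T i).krR))
    fun ha hb a0 b0 => hc _ ⟨_, ha, a0, rfl⟩ _ ⟨_, hb, b0, rfl⟩
  exact un g hg i hw hw0 e

end Cfsg.Agent.Class.Max
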