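import Mathlib
import Cfsg.Agent.Class.Max.TPow

/-!
The tensor power structure of a coordinate space.
-/

set_option autoImplicit false
set_option linter.unusedSectionVars false

namespace Cfsg.Agent.Class.Max

open Module Cfsg.Agent.Class.Asch
open scoped Matrix

variable {ι : Type} [Fintype ι] [DecidableEq ι] {F : Type*} [Field F] {k t : ℕ}
  {U : Type*} [AddCommGroup U] [Module F U]

/-- The slots of `T` are those given by `e` and `P`. -/
def IsSl (T : Fin t → Tn F U (Fin k → F) (ι → F)) (e : ι ≃ (Fin t → Fin k)) (P : GL ι F) : Prop :=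
  ∀ i a v, (T i).sl (Matrix.toLin' a) v = tr e P (slot i a) *ᵥ v

theorem exists_isSl (hk : 0 < k) (ht : 0 < t) (e : ι ≃ (Fin t → Fin k)) (P : GL ι F) :
    ∃ T : Fin t → Tn F (Fin (k ^ (t - 1)) → F) (Fin k → F) (ι → F), IsSl T e P := by
  have : ∀ i, ∃ T : Tn F (Fin (k ^ (t - 1)) → F) (Fin k → F) (ι → F),
      ∀ a v, T.sl (Matrix.toLin' a) v = tr e P (slot i a) *ᵥ v := fun i => by
    obtain ⟨l, e', B, h⟩ := exists_tr_kronecker hk ((tr e P : _ →ₐ[F] Matrix ι ι F).comp (slot i))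
    obtain rfl : l = k ^ (t - 1) := by
      have h1 : k ^ t = k * l := by simpa using Fintype.card_congr (e.symm.trans e')
      refine Nat.eq_of_mul_eq_mul_left hk ?_
      rw [← h1, ← pow_succ', Nat.sub_add_cancel ht]
    refine ⟨(tnOf e' B).swap, fun a => (tnOf e' B).swap.ext
      (g := Matrix.toLin' (tr e P (slot i a))) fun u w => ?_⟩
    rw [Tn.sl_tm, Tn.swap_tm, Tn.swap_tm, tnOf_tm, tnOf_tm, Matrix.toLin'_apply, Matrix.toLin'_apply,
      show tr e P (slot i a) = _ from h a]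
    refine Eq.trans ?_ (tr_mulVec e' B _ _).symm
    rw [kron_mulVec_tens, Matrix.one_mulVec]
    rfl
  choose T h using this
  exact ⟨T, h⟩

namespace IsSl

variable {T : Fin t → Tn F U (Fin k → F) (ι → F)} {e : ι ≃ (Fin t → Fin k)} {P : GL ι F}
  (h : IsSl T e P)
include h

theorem tp (hk : 2 ≤ k) (hU : ∃ u : U, u ≠ 0) : TP T where
  cm i j hij y x v := by
    obtain ⟨x, rfl⟩ := Matrix.toLin'.surjective x
    obtain ⟨y, rfl⟩ := Matrix.toLin'.surjective y
    simp only [h _, Matrix.mulVec_mulVec, ← map_mul, slot_comm hij]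
  scal b hb := by
    obtain ⟨b, rfl⟩ := Matrix.toLin'.surjective b
    obtain ⟨b, rfl⟩ := (tr e P).surjective b
    obtain ⟨c, rfl⟩ := scalar_of_comm_slot (Y := b) fun i X => (tr e P).injective
      (Matrix.toLin'.injective (LinearMap.ext fun v => by
        simpa only [h _, Matrix.toLin'_apply, Matrix.mulVec_mulVec, ← map_mul] using
          hb i (Matrix.toLin' X) v))
    exact ⟨c, fun v => by simp⟩
  neU := hU
  two := by simpa using hk

theorem mv_iff {g : GL ι F} {i j : Fin t} : (T i).Mv (T j) (glEquiv ι F g) ↔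
    ∀ a, ∃ b, cj g (tr e P (slot i a)) = tr e P (slot j b) := by
  have key : ∀ a b, (∀ v, glEquiv ι F g ((T i).sl (Matrix.toLin' a) v) =
      (T j).sl (Matrix.toLin' b) (glEquiv ι F g v)) ↔
      cj g (tr e P (slot i a)) = tr e P (slot j b) := fun a b => by
    simp only [h _, glEquiv_apply, ← cj_mulVec]
    refine ⟨fun k => Matrix.toLin'.injective (LinearMap.ext fun v => ?_), fun k v => by rw [k]⟩
    obtain ⟨v, rfl⟩ := (glEquiv ι F g).surjective v
    exact k v
  refine ⟨fun k a => ?_, fun k x => ?_⟩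
  · obtain ⟨y, e⟩ := k (Matrix.toLin' a)
    obtain ⟨b, rfl⟩ := Matrix.toLin'.surjective y
    exact ⟨b, (key a b).1 e⟩
  · obtain ⟨a, rfl⟩ := Matrix.toLin'.surjective x
    obtain ⟨b, e⟩ := k a
    exact ⟨_, (key a b).2 e⟩

theorem mem_iff [FiniteDimensional F U] (hT : TP T) (ht : 0 < t) (g : GL ι F) :
    g ∈ Geo.tensorWreathSubgroup k t e P ↔ glEquiv ι F g ∈ hT.WR :=
  ⟨fun hg i => let ⟨j, c, e⟩ := slot_perm_of_mem hg i; ⟨j, h.mv_iff.2 fun a => ⟨_, e a⟩⟩,
    fun hg => mem_tensorWreathSubgroup_of_slots (by simpa using hT.two) ht e P g fun i =>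
      let ⟨j, e⟩ := hg i; ⟨j, h.mv_iff.1 e⟩⟩

theorem fperm_sl (σ : Equiv.Perm (Fin t)) (i : Fin t) (x : End F (Fin k → F)) (v : ι → F) :
    glEquiv ι F (trGL e P (fperm F k σ)) ((T i).sl x v) =
      (T (σ i)).sl x (glEquiv ι F (trGL e P (fperm F k σ)) v) := by
  obtain ⟨x, rfl⟩ := Matrix.toLin'.surjective x
  rw [h, h, glEquiv_apply, glEquiv_apply, ← cj_mulVec, ← tr_cj, cj_fperm_slot]

omit h in
theorem fperm_sq {σ : Equiv.Perm (Fin t)} (hσ : σ * σ = 1) : fperm F k σ * fperm F k σ = 1 := by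
  refine mul_eq_one_iff_eq_inv.2 (Units.ext (Matrix.ext fun x y => ?_))
  have : ∀ x : Fin t → Fin k, (x ∘ σ) ∘ σ = x := fun x => by
    rw [Function.comp_assoc, ← Equiv.Perm.coe_mul, hσ]; rfl
  exact if_congr ⟨fun e => by rw [e, this], fun e => by rw [e, this]⟩ rfl rfl

/-- Involutions interchanging two slots. -/
theorem exists_swap (j l : Fin t) : ∃ p : (ι → F) ≃ₗ[F] (ι → F), p * p = 1 ∧
    ∀ i x v, p ((T i).sl x v) = (T (Equiv.swap j l i)).sl x (p v) :=
  ⟨_, by rw [← map_mul, ← map_mul, fperm_sq (Equiv.swap_mul_self j l), map_one, map_one],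
    h.fperm_sl _⟩

end IsSl

end Cfsg.Agent.Class.Max
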