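import Mathlib
import Cfsg.Agent.Class.Max.TPowM

/-!
Maximality of the tensor wreath subgroup in the special linear group.
-/

set_option autoImplicit false
set_option linter.unusedSectionVars false

namespace Cfsg.Agent.Class.Max

open Module

variable {F U W V : Type*} [Field F] [AddCommGroup U] [Module F U] [AddCommGroup W]
  [Module F W] [AddCommGroup V] [Module F V]

theorem fix_of_two_dim [Finite F] (X : Submodule F V) [FiniteDimensional F X]
    (hX : finrank F X ≤ 2) {A B C : End F V} (hA : ∀ x ∈ X, A x ∈ X) (hB : ∀ x ∈ X, B x ∈ X)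
    (hC : ∀ x ∈ X, C x ∈ X) (e1 : A * B = C * (B * A)) (e2 : C * A = A * C) (e3 : C * B = B * C)
    (hp : C ^ ringChar F = 1) (hi : Function.Injective (B * A)) : ∀ x ∈ X, C x = x := by
  obtain ⟨N, rfl⟩ : ∃ N, C = N + 1 := ⟨C - 1, by simp⟩
  obtain ⟨r, hr⟩ := (Commute.one_right N).exists_add_pow_prime_eq (CharP.char_is_prime F (ringChar F))
  rw [hp, ← map_natCast (algebraMap F (End F V)), CharP.cast_eq_zero] at hr
  have hN : ∀ x ∈ X, N x ∈ X := fun x hx => by simpa using X.sub_mem (hC x hx) hx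
  have k : ∀ k, ∀ x ∈ X, N x ≠ 0 → (N ^ k) x = 0 → ∃ f ∈ X, N f ≠ 0 ∧ N (N f) = 0 := fun k => by
    induction k with
    | zero => exact fun x _ h1 h2 => absurd (by rw [show x = 0 from h2, map_zero]) h1
    | succ k ih =>
      intro x hx h1 h2
      by_cases h3 : N (N x) = 0
      · exact ⟨x, hx, h1, h3⟩
      · exact ih _ (hN x hx) h3 (by rwa [pow_succ] at h2)
  intro x hx
  by_contra hc
  obtain ⟨f, hf, f1, f2⟩ := k (ringChar F) x hx (by simpa using hc) (by
    rw [show N ^ ringChar F = 0 by simpa using hr.symm]; rfl)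
  have h1 : Submodule.span F (Set.range ![N f, f]) = X := Submodule.eq_of_le_of_finrank_le (by
    simp [Submodule.span_le, Set.insert_subset_iff, hf, hN f hf]) (by
    rwa [finrank_span_eq_card ((LinearIndependent.pair_iff' f1).2 fun c hc => f1 (by
      rw [← hc, map_smul, f2, smul_zero])), Fintype.card_fin])
  have h2 : ∀ y ∈ X, ∃ a b : F, a • f + b • N f = y := fun y hy => by
    rw [← h1] at hy
    simpa [Submodule.mem_span_pair] using hy
  obtain ⟨a, b, ea⟩ := h2 _ (hA f hf)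
  obtain ⟨c, d, ec⟩ := h2 _ (hB f hf)
  have nA : ∀ x, A (N x) = N (A x) := fun x => by simpa using (LinearMap.congr_fun e2 x).symm
  have nB : ∀ x, B (N x) = N (B x) := fun x => by simpa using (LinearMap.congr_fun e3 x).symm
  have h3 : A (B f) = B (A f) := by
    rw [← ea, ← ec]
    simp only [map_add, map_smul, nA, nB, ← ea, ← ec, f2]
    module
  refine f1 ((injective_iff_map_eq_zero _).1 hi _ ?_)
  simpa [h3, nA, nB] using LinearMap.congr_fun e1 f

theorem exists_refl {w : W} {φ : Dual F W} (h : φ w = -2) :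
    ∃ ρ : W ≃ₗ[F] W, ∀ x, ρ x = x + φ x • w :=
  ⟨Module.reflection (f := -φ) (x := w) (by simp [h]), by simp [Module.reflection_apply]⟩

namespace Tn

variable {T : Tn F U W V} {M : Subgroup (V ≃ₗ[F] V)}

theorem Cm.app {b : End F V} (hb : T.Cm b) (x : End F W) (v : V) :
    b (T.sl x v) = T.sl x (b v) := hb x v

theorem sl_rk_rk (φ ψ : Dual F W) (w z : W) (v : V) :
    T.sl (φ.smulRight w) (T.sl (ψ.smulRight z) v) = φ z • T.sl (ψ.smulRight w) v := by
  simp [sl_rk]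

theorem cm_of_co [FiniteDimensional F U] {b : End F V}
    (h : ∀ (v : W) (β : Dual F W), β v = 0 → T.co b β v = 0) (hW : ∃ w : W, w ≠ 0) : T.Cm b := by
  obtain ⟨w, hw⟩ := hW
  refine fun x => T.ext (f := b ∘ₗ T.sl x) (g := T.sl x ∘ₗ b) fun u v =>
    T.swap.eq_of_cR fun α => ?_
  obtain ⟨c, hc⟩ := exists_smul_of_comm (A := T.cL α ∘ₗ b ∘ₗ T.tm u) fun v => by
    by_contra hc
    obtain ⟨β, h1, h2⟩ := exists_dual_zero_one (K := F) (x := v) (u := T.cL α (b (T.tm u v)))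
      fun h => let ⟨c, e⟩ := Submodule.mem_span_singleton.1 h; hc ⟨c, e.symm⟩
    have := T.left_inj hw (u' := 0) ((T.co_tm b β v u w).symm.trans (by simp [h v β h1]))
    simp [cL_cR, this] at h2
  have k : ∀ y, T.cL α (T.sl x y) = x (T.cL α y) :=
    T.ext (f := T.cL α ∘ₗ T.sl x) (g := x ∘ₗ T.cL α) fun u w => by simp
  change T.cL α (b (T.sl x _)) = T.cL α (T.sl x (b _))
  rw [k, sl_tm]
  exact (hc _).trans (by rw [← map_smul]; exact congrArg x (hc v).symm)

theorem hasU_cm {b c : End F V} (hb : T.Cm b) (hc : T.Cm c) {w w' : W} {φ φ' : Dual F W}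
    (h : HasU M (b * T.sl (φ.smulRight w))) (h' : HasU M (c * T.sl (φ'.smulRight w')))
    (e1 : φ w = 0) (e2 : φ' w' = 0) (e3 : φ' w = 0) (e4 : φ w' = 1) :
    HasU M (b * c * T.sl (φ'.smulRight w)) :=
  (h.comm h' (fun v => by simp [hb.app, sl_rk_rk, e1]) (fun v => by simp [hc.app, sl_rk_rk, e2])
    (fun v => by simp [hb.app, sl_rk_rk, e3]) (fun v => by simp [hb.app, sl_rk_rk, e3])).congr fun v => by
    simp [hb.app, hc.app, sl_rk_rk, e3, e4]

theorem cm_one : T.Cm 1 := fun _ _ => rfl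

theorem SLV_le_of_xl [FiniteDimensional F U] [FiniteDimensional F W] [FiniteDimensional F V]
    (h2 : 2 ≤ finrank F W) (key : ∀ (u : U) (α : Dual F U) (w : W) (φ : Dual F W), φ w = 0 →
      HasU M (T.krL (α.smulRight u) LinearMap.id * T.sl (φ.smulRight w))) : SLV F V ≤ M := by
  have tv : ∀ (u : U) (α : Dual F U) (w : W) (φ : Dual F W), φ w = 0 →
      HasTv M (α ∘ₗ T.cR φ) (T.tm u w) := fun u α w φ h => by
    obtain ⟨g, hg, e⟩ := key u α w φ h
    exact ⟨g, hg, fun x => by simp [e, sl_rk]⟩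
  let bU := Module.finBasis F U
  let bW := Module.finBasis F W
  have e1 : ∀ p, (bU.tensorProduct bW).map T.e p = T.tm (bU p.1) (bW p.2) := fun p => by
    simp [tm_apply, Basis.tensorProduct_apply']
  have e2 : ∀ p, ((bU.tensorProduct bW).map T.e).coord p = bU.coord p.1 ∘ₗ T.cR (bW.coord p.2) :=
    fun ⟨i, j⟩ => LinearMap.ext (T.ext fun u w => by
      rw [LinearMap.comp_apply, cR_tm, tm_apply]; simp)
  refine SLV_le_of_basis ((bU.tensorProduct bW).map T.e) fun i j hij c => ?_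
  rw [e1, e2, ← LinearMap.smul_apply, ← map_smul]
  by_cases h : i.2 = j.2
  · have h' : i.1 ≠ j.1 := fun e => hij (Prod.ext e h)
    have : Nontrivial (Fin (finrank F W)) := Fin.nontrivial_iff_two_le.2 h2
    obtain ⟨l, hl⟩ := exists_ne j.2
    have := HasTv.comm (by simp [h, hl]) (by simp [hl.symm]) (by simp [h'])
      (tv (c • bU i.1) (bU.coord j.1) (bW i.2) (bW.coord l) (by simp [h, hl.symm]))
      (tv (bU j.1) (bU.coord j.1) (bW l) (bW.coord j.2) (by simp [hl]))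
    simpa using this
  · exact tv _ _ _ _ (by simp [h])

end Tn

/-- `(1 + n) b (1 - n) - b`. -/
def dcm (n b : End F V) : End F V := n * b - b * n - n * b * n

namespace TP

open Tn

variable {ι : Type*} {T : ι → Tn F U W V} (hT : TP T) [FiniteDimensional F U]
  [FiniteDimensional F W] [FiniteDimensional F V] [DecidableEq ι] (h3 : 3 ≤ finrank F W)
include hT h3

/-- Subalgebras normalised by the transvections of some slots. -/
theorem alg (A : Finset ι) : ∀ R : Submodule F (End F V), (∀ b ∈ R, ∀ i ∉ A, (T i).Cm b) →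
    (∀ b ∈ R, ∀ c ∈ R, b * c ∈ R) → (∀ j ∈ A, ∀ (v : W) (β : Dual F W), β v = 0 → ∀ b ∈ R,
      dcm ((T j).sl (β.smulRight v)) b ∈ R) → ∀ b ∈ R, b ≠ 0 →
      1 ∈ R ∧ ((∃ c : F, ∀ v, b v = c • v) ∨ ∃ j ∈ A, ∀ x, (T j).sl x ∈ R) := by
  induction A using Finset.induction_on with
  | empty =>
    intro R h1 _ _ b hb b0
    obtain ⟨c, hc⟩ := hT.scal b fun i => h1 b hb i (by simp)
    have c0 : c ≠ 0 := fun e => b0 (LinearMap.ext fun v => by simp [hc, e])
    refine ⟨?_, Or.inl ⟨c, hc⟩⟩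
    rw [show (1 : End F V) = c⁻¹ • b from LinearMap.ext fun v => by simp [hc, c0]]
    exact R.smul_mem _ hb
  | insert j A hj ih =>
    intro R h1 h2 h4 b hb b0
    have cg : ∀ {x y : End F V}, x ∈ R → (∀ v, y v = x v) → y ∈ R := fun h e => by
      rwa [LinearMap.ext e]
    by_cases hc : ∀ b ∈ R, (T j).Cm b
    · obtain ⟨k1, k2⟩ := ih R (fun b hb i hi => by
        by_cases h : i = j
        · exact h ▸ hc b hb
        · exact h1 b hb i (by simp [h, hi])) h2 (fun l hl => h4 l (by simp [hl])) b hb b0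
      exact ⟨k1, k2.imp_right fun ⟨l, hl, k⟩ => ⟨l, by simp [hl], k⟩⟩
    push Not at hc
    obtain ⟨b, hb, hc⟩ := hc
    obtain ⟨v, β, h5, h6⟩ : ∃ (v : W) (β : Dual F W), β v = 0 ∧ (T j).co b β v ≠ 0 := by
      by_contra h
      push Not at h
      exact hc (cm_of_co h hT.neW)
    have v0 : v ≠ 0 := fun e => h6 (LinearMap.ext ((T j).ext fun u w => by simp [e]))
    have β0 : β ≠ 0 := fun e => h6 (LinearMap.ext ((T j).ext fun u w => by simp [e]))
    obtain ⟨z, z1, z2⟩ := exists_ker_notMem_span h3 β v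
    obtain ⟨α, a1, a2⟩ := exists_dual_zero_one z2
    have hj' := h4 j (by simp)
    have cc := (T j).cm_co b β v
    have k1 : (T j).co b β v * (T j).sl (β.smulRight v) ∈ R :=
      cg (hj' z β z1 _ (hj' v α a1 _ (hj' v β h5 b hb))) fun x => by
        simp [co_mul, dcm, sl_rk_rk, h5, z1, a1, a2]
    let I : Submodule F (End F V) :=
      { carrier := {c | (∀ i ∉ A, (T i).Cm c) ∧
          ∀ (v : W) (β : Dual F W), β v = 0 → c * (T j).sl (β.smulRight v) ∈ R}
        zero_mem' := ⟨fun i _ x v => by simp, fun v β _ => by simp⟩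
        add_mem' := fun ha hb => ⟨fun i hi => (ha.1 i hi).add (hb.1 i hi), fun v β h => by
          rw [add_mul]; exact R.add_mem (ha.2 v β h) (hb.2 v β h)⟩
        smul_mem' := fun c a ha => ⟨fun i hi => (ha.1 i hi).smul c, fun v β h => by
          rw [smul_mul_assoc]; exact R.smul_mem c (ha.2 v β h)⟩ }
    have k2 : (T j).co b β v ∈ I := ⟨fun i hi => by
      by_cases h : i = j
      · exact h ▸ cc
      · exact hT.cm_co h (h1 b hb i (by simp [h, hi])) β v, fun v' β' h => by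
      by_cases h' : β' = 0
      · exact cg R.zero_mem fun x => by simp [h']
      exact pairs_all h3 (P := fun v' β' => (T j).co b β v * (T j).sl (β'.smulRight v') ∈ R)
        (fun v β v' γ e1 p e2 e3 e4 => cg (hj' v' γ e3 _ p) fun x => by
          simp [dcm, cc.app, sl_rk_rk, e2, e4])
        (fun v β z γ e1 p e2 e3 e4 => cg (R.neg_mem (hj' z γ e3 _ p)) fun x => by
          simp [dcm, cc.app, sl_rk_rk, e2, e4]) v0 β0 h5 k1 v' β' h' h⟩
    obtain ⟨k3, -⟩ := ih I (fun c hc => hc.1) (fun c hc c' hc' => ⟨fun i hi =>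
        (hc.1 i hi).mul (hc'.1 i hi), fun v β h => by
        by_cases hv : v = 0
        · exact cg R.zero_mem fun x => by simp [hv]
        obtain ⟨z, z1, z2⟩ := exists_ker_notMem_span h3 β v
        obtain ⟨ψ, p1, p2⟩ := exists_dual_zero_one z2
        exact cg (h2 _ (hc.2 v ψ p1) _ (hc'.2 z β z1)) fun x => by
          simp [(hc.1 j hj).app, (hc'.1 j hj).app, sl_rk_rk, p2]⟩)
      (fun l hl v β h c hc => by
        have k : ∀ i ∉ A, (T i).Cm ((T l).sl (β.smulRight v)) := fun i hi =>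
          hT.cm i l (fun e => hi (e ▸ hl)) _
        exact ⟨fun i hi x y => by simp [dcm, (hc.1 i hi).app, (k i hi).app], fun v' β' h' =>
          cg (h4 l (by simp [hl]) v β h _ (hc.2 v' β' h')) fun x => by
            simp [dcm, (hc.1 j hj).app, (k j hj).app]⟩) _ k2 h6
    have k4 : ∀ x, (T j).sl x ∈ R := end_induction h3 (by simp)
      (fun x y hx hy => by rw [map_add]; exact R.add_mem hx hy)
      (fun x y hx hy => by rw [map_mul]; exact h2 _ hx _ hy) fun w φ _ h => by simpa using k3.2 w φ h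
    exact ⟨by simpa using k4 1, Or.inr ⟨j, by simp, k4⟩⟩

omit h3 in
theorem full (R : Submodule F (End F V)) (h1 : 1 ∈ R) (h2 : ∀ b ∈ R, ∀ c ∈ R, b * c ∈ R)
    (A : Finset ι) (h4 : ∀ j ∈ A, ∀ x, (T j).sl x ∈ R) :
    ∀ b, (∀ i ∉ A, (T i).Cm b) → b ∈ R := by
  induction A using Finset.induction_on with
  | empty =>
    intro b hb
    obtain ⟨c, hc⟩ := hT.scal b fun i => hb i (by simp)
    rw [show b = c • 1 from LinearMap.ext hc]
    exact R.smul_mem _ h1
  | insert j A hj ih =>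
    intro b hb
    rw [(T j).eq_sum_co b]
    refine R.sum_mem fun k _ => R.sum_mem fun l _ => h2 _ (ih (fun l hl => h4 l (by simp [hl])) _
      fun i hi => ?_) _ (h4 j (by simp) _)
    by_cases h : i = j
    · exact h ▸ (T i).cm_co _ _ _
    · exact hT.cm_co h (hb i (by simp [h, hi])) _ _

end TP

/-- A subgroup containing the transvections of all slots and the slot permutations. -/
structure LH {ι : Type*} [DecidableEq ι] (T : ι → Tn F U W V) (M : Subgroup (V ≃ₗ[F] V)) : Prop where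
  tp : TP T
  three : 3 ≤ finrank F W
  has : ∀ i (w : W) (φ : Dual F W), φ w = 0 → HasU M ((T i).sl (φ.smulRight w))
  perm : ∀ i j l, i ≠ j → i ≠ l → ∃ p ∈ M, ∀ k x v,
    p ((T k).sl x v) = (T (Equiv.swap j l k)).sl x (p v)
  nle : ¬ SLV F V ≤ M

namespace LH

open Tn

variable {ι : Type*} [DecidableEq ι] [Fintype ι] {T : ι → Tn F U W V} {M : Subgroup (V ≃ₗ[F] V)}
  (h : LH T M) [FiniteDimensional F U] [FiniteDimensional F W] [FiniteDimensional F V]
  {i j : ι} {g : V ≃ₗ[F] V}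
include h

theorem smul_of_hasU {b : End F V} (hb : (T i).Cm b) {w : W} (hw : w ≠ 0) {φ : Dual F W}
    (hφ : φ ≠ 0) (e : φ w = 0) (h1 : HasU M (b * (T i).sl (φ.smulRight w))) :
    ∃ c : F, ∀ v, b v = c • v := by
  let R : Submodule F (End F V) :=
    { carrier := {b | (T i).Cm b ∧
        ∀ (w : W) (φ : Dual F W), φ w = 0 → HasU M (b * (T i).sl (φ.smulRight w))}
      zero_mem' := ⟨fun x v => by simp, fun w φ _ => hasU_zero.congr fun v => by simp⟩
      add_mem' := fun {a b} ha hb => ⟨ha.1.add hb.1, fun w φ e => ((ha.2 w φ e).add (hb.2 w φ e)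
        fun v => by simp [hb.1.app, sl_rk_rk, e]).congr fun v => by simp⟩
      smul_mem' := fun c a ha => ⟨ha.1.smul c, fun w φ e =>
        (ha.2 (c • w) φ (by simp [e])).congr fun v => by simp [sl_rk]⟩ }
  have hm : ∀ b ∈ R, ∀ c ∈ R, b * c ∈ R := fun b hb c hc => ⟨hb.1.mul hc.1, fun w φ e => by
    by_cases hw : w = 0
    · exact hasU_zero.congr fun v => by simp [hw]
    obtain ⟨z, z1, z2⟩ := exists_ker_notMem_span h.three φ w
    obtain ⟨ψ, p1, p2⟩ := exists_dual_zero_one z2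
    exact hasU_cm hb.1 hc.1 (hb.2 w ψ p1) (hc.2 z φ z1) p1 z1 e p2⟩
  have k1 : b ∈ R := ⟨hb, fun w' φ' e' => by
    by_cases h' : φ' = 0
    · exact hasU_zero.congr fun v => by simp [h']
    exact pairs_all h.three (P := fun w φ => HasU M (b * (T i).sl (φ.smulRight w)))
      (fun v β v' γ e1 p e2 e3 e4 => by
        simpa using hasU_cm cm_one hb (by simpa using h.has i v' γ e3) p e3 e1 e4 e2)
      (fun v β z γ e1 p e2 e3 e4 => by
        simpa using hasU_cm hb cm_one p (by simpa using h.has i z γ e3) e1 e3 e4 e2)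
      hw hφ e h1 w' φ' h' e'⟩
  by_cases b0 : b = 0
  · exact ⟨0, fun v => by simp [b0]⟩
  obtain ⟨k2, k3 | ⟨j, hj, k3⟩⟩ := h.tp.alg h.three (Finset.univ.erase i) R
    (fun b hb k hk => by rw [show k = i by simpa using hk]; exact hb.1) hm
    (fun j hj v β e b hb => by
      have c1 := h.tp.cm i j (Finset.ne_of_mem_erase hj).symm (β.smulRight v)
      obtain ⟨t, ht, et⟩ := h.has j v β e
      have : b + dcm ((T j).sl (β.smulRight v)) b ∈ R :=
        ⟨fun x y => by simp [dcm, hb.1.app, c1.app], fun w φ e' => (hb.2 w φ e').conj' ht fun x => by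
          simp [et, dcm, hb.1.app, c1.app, sl_rk_rk, e]; abel⟩
      simpa using R.sub_mem this hb) b k1 b0
  · exact k3
  refine absurd (SLV_le_of_xl (T := T i) h.tp.two fun u α => (h.tp.full R k2 hm
    (Finset.univ.erase i) (fun l hl x => ?_) _ fun k hk => ?_).2) h.nle
  · obtain ⟨p, hp, ep⟩ := h.perm i j l (Finset.ne_of_mem_erase hj).symm
      (Finset.ne_of_mem_erase hl).symm
    exact ⟨h.tp.cm i l (Finset.ne_of_mem_erase hl).symm x, fun w φ e => ((k3 x).2 w φ e).conj' hp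
      fun v => by simp [ep, Equiv.swap_apply_of_ne_of_ne (Finset.ne_of_mem_erase hj).symm
        (Finset.ne_of_mem_erase hl).symm]⟩
  · rw [show k = i by simpa using hk]; exact cm_krL _

/-- The elements of `M` in the unipotent radical of the stabiliser of `U ⊗ w`. -/
theorem loc {w : W} (hw : w ≠ 0) {n : End F V} (hn : HasU M n) (h1 : ∀ u, n ((T i).tm u w) = 0)
    (h2 : ∀ v, n v ∈ (T i).sp w) :
    ∃ φ : Dual F W, φ w = 0 ∧ ∀ v, n v = (T i).sl (φ.smulRight w) v := by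
  obtain ⟨φ₀, hφ₀⟩ := exists_dual_eq_one (F := F) hw
  have eA : ∀ v, n v = (T i).tm ((T i).cR φ₀ (n v)) w := fun v => by
    obtain ⟨u, hu⟩ := h2 v
    rw [← hu]; simp [hφ₀]
  have key : ∀ y, ∃ c : F, ∀ u, (T i).cR φ₀ (n ((T i).tm u y)) = c • u := fun y => by
    obtain ⟨ψ, z, p1, p2, p3⟩ := exists_dual_vanish h.three w y
    have k : ∀ v, (T i).cR ψ (n v) = 0 := fun v => by rw [eA]; simp [p1]
    obtain ⟨c, hc⟩ := h.smul_of_hasU ((T i).cm_co n φ₀ y) hw (fun e => by simp [e] at p3) p1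
      ((hn.comm (h.has i y ψ p2) (fun v => by rw [eA v, h1]) (fun v => by simp [sl_rk_rk, p2])
        (fun v => by simp [sl_rk, k]) (fun v => by simp [sl_rk, k])).congr fun v => by
          simp [sl_rk, k, ← eA])
    exact ⟨c, fun u => (T i).left_inj hw (by simpa using hc ((T i).tm u w))⟩
  obtain ⟨u₀, hu₀⟩ := h.tp.neU
  obtain ⟨α, hα⟩ := exists_dual_eq_one (F := F) hu₀
  refine ⟨α ∘ₗ (T i).cR φ₀ ∘ₗ n ∘ₗ (T i).tm u₀, by simp [h1], (T i).ext fun u y => ?_⟩
  obtain ⟨c, hc⟩ := key y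
  rw [eA]
  simp [hc, hα]

theorem exists_sl_sp (hg : g ∈ M) {w w' : W} (hw' : w' ≠ 0)
    (e : ((T i).sp w).map g.toLinearMap = (T j).sp w') {φ : Dual F W} (hφ : φ w = 0) :
    ∃ ψ : Dual F W, ψ w' = 0 ∧
      ∀ v, g ((T i).sl (φ.smulRight w) v) = (T j).sl (ψ.smulRight w') (g v) := by
  obtain ⟨ψ, p1, p2⟩ := h.loc (i := j) hw' (n := cjL g ((T i).sl (φ.smulRight w)))
    ((h.has i w φ hφ).conj hg) (fun u => by
      obtain ⟨_, ⟨u', rfl⟩, e'⟩ := e.ge ((T j).tm_mem_sp u w')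
      rw [← e', LinearEquiv.coe_coe, cjL_app]; simp [hφ])
    fun v => e.le ⟨_, ⟨_, ((T i).sl_rk φ w _).symm⟩, rfl⟩
  exact ⟨ψ, p1, fun v => by rw [← p2, cjL_app]⟩

/-- An element of `M` mapping `U ⊗ w` to a subspace of the same kind. -/
theorem mv_of_sp (hg : g ∈ M) {w w' : W} (hw : w ≠ 0) (hw' : w' ≠ 0)
    (e : ((T i).sp w).map g.toLinearMap = (T j).sp w') : (T i).Mv (T j) g := by
  obtain ⟨a, ea⟩ := exists_left' (g := g) (T' := T j) hw hw' fun u =>
    e.le ⟨_, (T i).tm_mem_sp u w, rfl⟩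
  have k1 : ∀ ψ : Dual F W, ψ w' = 0 → ∃ φ : Dual F W, ∀ v, (T j).cR ψ (g v) = a ((T i).cR φ v) :=
    fun ψ hψ => by
      obtain ⟨φ, -, p⟩ := h.exists_sl_sp (i := j) (j := i) (M.inv_mem hg) hw (by
        rw [← e, ← Submodule.map_comp]; convert Submodule.map_id _; ext x; simp) hψ
      refine ⟨φ, fun v => (T j).left_inj hw' ?_⟩
      rw [← ea, ← sl_rk, ← sl_rk, ← app_inv_app g ((T j).sl _ _), p, inv_app_app]
  obtain ⟨u₀, hu₀⟩ := h.tp.neU
  obtain ⟨α, hα⟩ := exists_dual_eq_one (F := F) (a.map_ne_zero_iff.2 hu₀)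
  let d : W →ₗ[F] W := (T j).cL α ∘ₗ g.toLinearMap ∘ₗ (T i).tm u₀
  have k2 : ∀ (ψ φ : Dual F W), (∀ v, (T j).cR ψ (g v) = a ((T i).cR φ v)) → ∀ y, ψ (d y) = φ y :=
    fun ψ φ p y => by
      change ψ ((T j).cL α (g ((T i).tm u₀ y))) = _
      rw [cL_cR, p]; simp [hα]
  have k3 : ∀ (y : W) (φ : Dual F W), φ w = 0 → φ y = 0 →
      ∃ x, ∀ v, g ((T i).sl (φ.smulRight y) v) = (T j).sl x (g v) := fun y φ e1 e2 => by
    obtain ⟨ψ, p1, p2⟩ := h.exists_sl_sp hg hw' e e1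
    have p3 : ∀ v, (T j).cR ψ (g v) = a ((T i).cR φ v) := fun v =>
      (T j).left_inj hw' (by rw [← ea, ← sl_rk, ← sl_rk, p2])
    have p4 : ∀ v, (T i).cR φ (g.symm v) = a.symm ((T j).cR ψ v) := fun v =>
      a.injective (by simp [← p3])
    have p5 : ψ (d y) = 0 := (k2 ψ φ p3 y).trans e2
    obtain ⟨χ, -, q⟩ := h.loc (i := j) hw'
      (n := cjL g ((T i).sl (φ.smulRight y)) - (T j).sl (ψ.smulRight (d y)))
      (((h.has i y φ e2).conj hg).sub (h.has j _ ψ p5) (fun v => by simp [sl_rk, p4, p5])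
        fun v => by simp [sl_rk_rk, p5]) (fun u => by simp [cjL_apply, sl_rk, p4, p1])
      fun v => (T j).mem_sp_iff.2 fun χ hχ => by
        obtain ⟨φ', q⟩ := k1 χ hχ
        simp [cjL_apply, sl_rk, p4, q, k2 χ φ' q]
    exact ⟨ψ.smulRight (d y) + χ.smulRight w', fun v => by
      rw [map_add, LinearMap.add_apply, ← q, LinearMap.sub_apply, cjL_app, add_sub_cancel]⟩
  refine end_induction h.three ⟨0, by simp⟩ (fun x y ⟨x', p⟩ ⟨y', q⟩ => ⟨x' + y', by simp [p, q]⟩)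
    (fun x y ⟨x', p⟩ ⟨y', q⟩ => ⟨x' * y', by simp [p, q]⟩) fun y φ hy e1 => ?_
  obtain ⟨ψ, z, p1, p2, p3⟩ := exists_dual_vanish h.three w y
  obtain ⟨x, p⟩ := k3 y ψ p1 p2
  obtain ⟨y', hy', q⟩ := exists_sp_of_sl h.tp.neU (fun e => by simp [e] at p3) hy p
  obtain ⟨χ, -, r⟩ := h.exists_sl_sp hg hy' q e1
  exact ⟨_, r⟩

theorem mv_of_sl (hg : g ∈ M) {w : W} (hw : w ≠ 0) {φ : Dual F W} (hφ : φ ≠ 0) {x : End F W}
    (e : ∀ v, g ((T i).sl (φ.smulRight w) v) = (T j).sl x (g v)) : (T i).Mv (T j) g :=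
  let ⟨_, hw', e'⟩ := exists_sp_of_sl h.tp.neU hφ hw e
  h.mv_of_sp hg hw hw' e'

/-- An element of `M` stabilising `U ⊗ Y`. -/
theorem mv_of_ts (hg : g ∈ M) {Y : Submodule F W} (h0 : Y ≠ ⊥) (h1 : Y ≠ ⊤)
    (e : ∀ v ∈ (T i).ts Y, g v ∈ (T i).ts Y) : (T i).Mv (T i) g := by
  obtain ⟨y, hy, y0⟩ := Submodule.exists_mem_ne_zero_of_ne_bot h0
  by_cases hc : ∀ χ : Dual F W, ∃ y' ∈ Y, y' ≠ 0 ∧ χ y' = 0
  · obtain ⟨z, hz⟩ : ∃ z, z ∉ Y := by
      by_contra hz
      push Not at hz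
      exact h1 (eq_top_iff.2 fun z _ => hz z)
    obtain ⟨φ, p1, p2⟩ := exists_dual_one Y hz
    have k1 : ∀ v ∈ (T i).ts Y, cjL g ((T i).sl (φ.smulRight y)) v = 0 := fun v hv => by
      rw [cjL_apply, sl_rk, (T i).mem_ts_iff.1 (stab_apply ((stab _).inv_mem
        (mem_stab_of_mapsTo e)) hv) φ p1]
      simp
    have k2 : ∀ v, cjL g ((T i).sl (φ.smulRight y)) v ∈ (T i).ts Y := fun v => by
      rw [cjL_apply, sl_rk]; exact e _ ((T i).tm_mem_ts _ hy)
    obtain ⟨x, q⟩ := exists_sl_of (T := T i) h.tp.neU (b := cjL g ((T i).sl (φ.smulRight y)))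
      fun χ w => by
        obtain ⟨y', q1, q2, q3⟩ := hc χ
        have k3 : ∀ u, cjL g ((T i).sl (φ.smulRight y)) ((T i).tm u y') = 0 := fun u =>
          k1 _ ((T i).tm_mem_ts _ q1)
        obtain ⟨ψ, -, r⟩ := h.loc (i := i) q2 ((h.has i y' χ q3).comm
          (B := cjL g ((T i).sl (φ.smulRight y))) ((h.has i y φ (p1 y hy)).conj hg)
          (fun v => by simp [sl_rk_rk, q3]) (fun v => k1 _ (k2 v)) (fun v => by simp [sl_rk, k3])
          fun v => by rw [sl_rk, k3]) (fun u => by simp [k3, q3]) fun v => by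
            simp only [LinearMap.sub_apply, LinearMap.comp_apply, sl_rk, k3, sub_zero]
            exact (T i).tm_mem_sp _ _
        exact ⟨ψ w, fun u => (T i).left_inj q2 (by simpa [sl_rk, k3] using r ((T i).tm u w))⟩
    exact h.mv_of_sl hg y0 (φ := φ) (fun e => by simp [e] at p2) (x := x) fun v => by
      rw [← q, cjL_app]
  · push Not at hc
    obtain ⟨χ, hχ⟩ := hc
    obtain rfl : Y = Submodule.span F {y} := le_antisymm (fun z hz => by
      by_contra hz'
      refine hχ (z - (χ z / χ y) • y) (Y.sub_mem hz (Y.smul_mem _ hy)) (fun e => hz' ?_)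
        (by simp [hχ y hy y0])
      exact Submodule.mem_span_singleton.2 ⟨_, (sub_eq_zero.1 e).symm⟩)
      ((Submodule.span_singleton_le_iff_mem _ _).2 hy)
    rw [← sp_eq_ts] at e
    exact h.mv_of_sp hg y0 y0 (mem_stab_iff_map.1 (mem_stab_of_mapsTo e))

theorem krR_mem {τ : W ≃ₗ[F] W} {w : W} {φ : Dual F W} (h0 : φ w = 0)
    (e : ∀ x, τ x = x + φ x • w) : (T i).krR τ ∈ M := by
  obtain ⟨t, ht, et⟩ := h.has i w φ h0
  rwa [show (T i).krR τ = t from LinearEquiv.ext fun v => by rw [et, krR_apply_of_tv _ e, sl_rk]]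

/-- A conjugate of a reflection of a slot does not interchange two slots. -/
theorem not_swap [Finite F] (h3 : finrank F W = 3) (hg : g ∈ M) {w : W} (hw : w ≠ 0)
    {φ : Dual F W} (hφ : φ ≠ 0) {y : V ≃ₗ[F] V} (hy : y ∈ M)
    (ey : ∀ v, y (g v) = g v + g ((T i).sl (φ.smulRight w) v)) (y2 : ∀ v, y (y v) = v) {l : ι}
    (hjl : j ≠ l) (hm : (T j).Mv (T l) y) : False := by
  let L := ((T i).sp w).map g.toLinearMap
  have hL : ∀ v, y v - v ∈ L := fun v => ⟨_, ⟨_, ((T i).sl_rk φ w (g⁻¹ v)).symm⟩, by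
    rw [LinearEquiv.coe_coe, eq_sub_iff_add_eq', ← app_inv_app g v, ey, inv_app_app]⟩
  have hL' : ∀ v ∈ L, ∃ u, v = y u - u := by
    rintro _ ⟨v, hv, rfl⟩
    obtain ⟨u, rfl⟩ := ((T i).range_sl_rk hφ w).ge hv
    exact ⟨g u, by rw [ey, add_sub_cancel_left]; rfl⟩
  have hr : finrank F L ≤ finrank F U := by rw [LinearEquiv.finrank_map_eq, finrank_sp _ hw]
  let b := finBasisOfFinrankEq F W h3
  let Θ : Dual F W →ₗ[F] End F V :=
    g.conj.toLinearMap ∘ₗ (T i).sl.toLinearMap ∘ₗ LinearMap.smulRightₗ.flip w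
  have eΘ : ∀ ψ v, Θ ψ v = g ((T i).sl (ψ.smulRight w) (g.symm v)) := fun _ _ => rfl
  let X := (LinearMap.ker (Dual.eval F W w)).map Θ
  have hX : finrank F X ≤ 2 := by
    have h1 := Module.Dual.finrank_ker_add_one_of_ne_zero (f := Dual.eval F W w) fun e =>
      hw ((Module.eval_apply_injective F) (e.trans (map_zero _).symm))
    have h2 := Submodule.finrank_map_le Θ (LinearMap.ker (Dual.eval F W w))
    rw [Subspace.dual_finrank_eq] at h1
    exact h2.trans (by omega)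
  have k1 : ∀ δ ∈ M, (∀ v, δ (y v) = y (δ v)) → ∀ θ ∈ X, δ.conj θ ∈ X := by
    rintro δ hδ c _ ⟨ψ, hψ, rfl⟩
    obtain ⟨χ, p1, p2⟩ := h.exists_sl_sp (i := i) (j := i)
      (M.mul_mem (M.mul_mem (M.inv_mem hg) hδ) hg) hw (mem_stab_iff_map.1 (mem_stab_of_mapsTo
        fun v hv => by
          obtain ⟨u, e⟩ := hL' _ ⟨v, hv, rfl⟩
          obtain ⟨v', hv', e'⟩ := hL (δ u)
          rwa [mul_app, mul_app, show g v = _ from e, map_sub, c, ← e', LinearEquiv.coe_coe,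
            inv_app_app])) hψ
    exact ⟨χ, p1, LinearMap.ext fun v => by
      simpa [eΘ, LinearEquiv.conj_apply_apply, mul_app] using
        (congrArg g (p2 (g.symm (δ.symm v)))).symm⟩
  have cm : ∀ x x' v, y ((T j).sl x (y ((T j).sl x' v))) = (T j).sl x' (y ((T j).sl x (y v))) :=
    fun x x' v => by
      obtain ⟨z, e⟩ := hm x
      simp only [e, y2]
      exact h.tp.cm j l hjl z _ v
  let D : (W ≃ₗ[F] W) →* (V ≃ₗ[F] V) := MonoidHom.mk' (fun d => (T j).krR d * (y * (T j).krR d * y))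
    fun d d' => LinearEquiv.ext fun v => by simp only [map_mul, mul_app, krR_eq_sl]; rw [cm, y2]
  have eD : ∀ d v, D d v = (T j).sl d.toLinearMap (y ((T j).sl d.toLinearMap (y v))) :=
    fun d v => by simp only [← krR_eq_sl]; rfl
  let A : (W ≃ₗ[F] W) →* End F (End F V) :=
    { toFun := fun d => (D d).conj.toLinearMap
      map_one' := by rw [map_one]; rfl
      map_mul' := fun d d' => by rw [map_mul]; rfl }
  have : ∀ a c : Fin 3, ∃ t : W ≃ₗ[F] W, a ≠ c → ∀ x, t x = x + b.coord c x • b a := fun a c => by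
    by_cases hac : a = c
    · exact ⟨1, fun h => absurd hac h⟩
    · exact let ⟨t, _, e⟩ := hasTv_SLV (φ := b.coord c) (v := b a) (by simp [hac]); ⟨t, fun _ => e⟩
  choose t ht using this
  have k2 : ∀ a c, a ≠ c → ∀ θ ∈ X, A (t a c) θ ∈ X := fun a c hac => by
    have := h.krR_mem (i := j) (by simp [hac]) (ht a c hac)
    exact k1 (D _) (M.mul_mem this (M.mul_mem (M.mul_mem hy this) hy)) fun v => by
      rw [eD, eD, cm, y2]
  have k3 : ∀ a c, a ≠ c → ∀ θ ∈ X, A (t a c) θ = θ := fun a c hac => by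
    obtain ⟨k, h1, h2⟩ : ∃ k, a ≠ k ∧ k ≠ c := by revert a c; decide
    refine fix_of_two_dim X hX (k2 a k h1) (k2 k c h2) (k2 a c hac) ?_ ?_ ?_ ?_ ?_
    iterate 3
      simp only [← map_mul]
      refine congrArg A (LinearEquiv.ext fun x => ?_)
      simp [ht _ _ h1, ht _ _ h2, ht _ _ hac, hac, h1, h2]
      module
    · have : ∀ n : ℕ, ∀ x, (t a c ^ n) x = x + (n : F) • b.coord c x • b a := fun n x => by
        induction n with
        | zero => simp
        | succ n ih => simp [pow_succ', ih, ht _ _ hac, hac]; module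
      rw [← map_pow, show t a c ^ ringChar F = 1 from LinearEquiv.ext fun x => by simp [this], map_one]
    · rw [← map_mul]; exact (D _).conj.injective
  have k4 : ∀ u ∈ L, (∀ a c, a ≠ c → c ≠ 0 → D (t a c) u = u) → u = 0 := fun u hu k =>
    h.tp.swap_fix hjl hm y2 hL hr b hu fun a c hac hc n en => by
      have := k a c hac hc
      rw [eD, show (t a c).toLinearMap = 1 + (b.coord c).smulRight (b a) from
        LinearMap.ext (ht a c hac), map_add, map_one, ← en] at this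
      simp only [LinearMap.add_apply, Module.End.one_apply, map_add, y2] at this
      linear_combination (norm := abel) this
  obtain ⟨z, ez⟩ := hm ((b.coord 0).smulRight (b 0))
  have e0 : (b.coord 0).smulRight (b 0) ≠ 0 := fun e => b.ne_zero 0 (by
    simpa using LinearMap.congr_fun e (b 0))
  obtain ⟨v, hv⟩ := h.tp.exists_sl_ne_zero hjl e0 (y := z) fun e => e0 ((T j).sl_inj h.tp.neU
    fun v => y.injective (by simp [ez, e]))
  rw [← y2 v, ← ez] at hv
  generalize y v = v at hv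
  have k5 : ∀ a c, a ≠ c → c ≠ 0 → D (t a c) ((T j).sl ((b.coord 0).smulRight (b 0))
      (y ((T j).sl ((b.coord 0).smulRight (b 0)) v))) = (T j).sl ((b.coord 0).smulRight (b 0))
      (y ((T j).sl ((b.coord 0).smulRight (b 0)) v)) := fun a c hac hc => by
    have : (t a c).toLinearMap * (b.coord 0).smulRight (b 0) = (b.coord 0).smulRight (b 0) :=
      LinearMap.ext fun x => by simp [ht a c hac, hc.symm]
    rw [eD, cm, sl_sl, this, y2, sl_sl, this]
  generalize (T j).sl ((b.coord 0).smulRight (b 0)) (y ((T j).sl ((b.coord 0).smulRight (b 0)) v))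
    = u at hv k5
  refine hv (k4 u ⟨g.symm u, (T i).mem_sp_iff.2 fun ψ hψ => ?_, by simp⟩ k5)
  have := k4 (Θ ψ u) ⟨_, ⟨_, ((T i).sl_rk ψ w _).symm⟩, rfl⟩ fun a c hac hc => by
    conv_rhs => rw [← k3 a c hac _ ⟨ψ, hψ, rfl⟩, ← k5 a c hac hc]
    exact congrArg (fun x => D (t a c) (Θ ψ x)) ((D (t a c)).symm_apply_apply u).symm
  rw [eΘ, g.map_eq_zero_iff, sl_rk] at this
  exact (T i).left_inj hw (by simpa using this)

theorem exists_mv [Finite F] (hg : g ∈ M) {ρ : W ≃ₗ[F] W} {w : W} (hw : w ≠ 0) {φ : Dual F W}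
    (hφ : φ ≠ 0) (e : ∀ x, ρ x = x + φ x • w) (hρ : (T i).krR ρ ∈ M)
    (h4 : 4 ≤ finrank F W ∨ ρ * ρ = 1) (hy : g * (T i).krR ρ * g⁻¹ ∈ h.tp.WR) :
    ∃ l, (T i).Mv (T l) g := by
  have ey : ∀ v, (g * (T i).krR ρ * g⁻¹) (g v) = g v + g ((T i).sl (φ.smulRight w) v) := fun v => by
    rw [mul_app, mul_app, inv_app_app, krR_apply_of_tv _ e, map_add, sl_rk]
  have hL : ∀ v, (g * (T i).krR ρ * g⁻¹) v - v ∈ ((T i).sp w).map g.toLinearMap := fun v =>
    ⟨_, ⟨_, ((T i).sl_rk φ w (g⁻¹ v)).symm⟩, by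
      rw [LinearEquiv.coe_coe, eq_sub_iff_add_eq', ← app_inv_app g v, ey, inv_app_app]⟩
  have hr : finrank F (((T i).sp w).map g.toLinearMap) ≤ finrank F U := by
    rw [LinearEquiv.finrank_map_eq, finrank_sp _ hw]
  by_cases hc : ∀ k, (T k).Mv (T k) (g * (T i).krR ρ * g⁻¹)
  · obtain ⟨u, hu⟩ := h.tp.neU
    obtain ⟨v, hv⟩ := ((T i).range_sl_rk hφ w).ge ((T i).tm_mem_sp u w)
    obtain ⟨l, d, ed⟩ := h.tp.exists_krR_of_fix h.three hc hL hr i ⟨g v, by
      simpa [ey, hv] using (T i).tm_ne_zero hu hw⟩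
    exact ⟨l, h.mv_of_sl hg hw hφ (x := d.toLinearMap - 1) fun v => by
      simp [← krR_eq_sl, ← ed, ey]⟩
  push Not at hc
  obtain ⟨k, hk⟩ := hc
  obtain ⟨l, hl⟩ := hy k
  have hkl : k ≠ l := fun e => hk (e ▸ hl)
  have h5 := h.tp.finrank_lt_four hkl hl hL hr
  exact (h.not_swap (by have := h.three; omega) hg hw hφ
    (M.mul_mem (M.mul_mem hg hρ) (M.inv_mem hg)) ey (fun v => by
      rw [← mul_app, conj_mul, ← map_mul, h4.resolve_left (by omega), map_one, mul_one,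
        mul_inv_cancel, one_app]) hkl hl).elim

theorem le_WR [Finite F] (hR : ∀ i (ρ : W ≃ₗ[F] W), ρ * ρ = 1 → (T i).krR ρ ∈ M) :
    M ≤ h.tp.WR := by
  let R : Set (W ≃ₗ[F] W) :=
    {ρ | ∃ (w : W) (φ : Dual F W), w ≠ 0 ∧ φ ≠ 0 ∧ φ w = -2 ∧ ∀ x, ρ x = x + φ x • w}
  have sq : ∀ ρ ∈ R, ρ * ρ = 1 := fun ρ ⟨w, φ, _, _, h1, e⟩ => LinearEquiv.ext fun x => by
    simp only [mul_app, e, map_add, map_smul, h1, one_app]; module
  have ker : ∀ φ φ' : Dual F W, ∃ x, x ≠ 0 ∧ φ x = 0 ∧ φ' x = 0 := fun φ φ' =>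
    let ⟨x, _, x0, hx⟩ := exists_ne_zero_ker [φ, φ'] (⊤ : Submodule F W)
      (by have := h.three; simp; omega)
    ⟨x, x0, hx φ (by simp), hx φ' (by simp)⟩
  have one : ∀ {c : F} {x : W}, x ≠ 0 → x = c • x → c = 1 := fun {c x} hx e =>
    smul_left_injective F hx (e.symm.trans (one_smul F x).symm)
  obtain ⟨w₀, hw₀⟩ := h.tp.neW
  obtain ⟨φ₀, hφ₀⟩ := exists_dual_eq_one (F := F) hw₀
  obtain ⟨φ₁, w₁, p1, -, p2⟩ := exists_dual_vanish h.three w₀ w₀
  obtain ⟨φ₂, w₂, p3, p4, p5⟩ := exists_dual_vanish h.three w₀ w₁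
  have mk : ∀ ψ : Dual F W, ψ w₀ = 0 → ψ w₁ = 1 →
      ∃ ρ ∈ R, ∀ x, ρ x = x + (ψ - 2 • φ₀) x • w₀ := fun ψ e1 e2 =>
    have e3 : (ψ - 2 • φ₀) w₀ = -2 := by simp [e1, hφ₀]
    let ⟨ρ, e⟩ := exists_refl e3
    ⟨ρ, ⟨w₀, _, hw₀, fun e => by
      simpa [e1, e2, hφ₀] using LinearMap.congr_fun e (w₁ - φ₀ w₁ • w₀), e3, e⟩, e⟩
  refine h.tp.le_WR_of_inv R (fun j l hjl ⟨i, h1, h2⟩ => ?_) (fun i ρ hρ => hR i ρ (sq ρ hρ)) sq
    ?_ ?_ ?_ (let ⟨ρ, hρ, _⟩ := mk φ₁ p1 p2; ⟨ρ, hρ⟩) ?_ ?_ ?_ fun g hg i k => ?_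
  · obtain ⟨p, hp, e⟩ := h.perm i j l h1 h2
    exact ⟨p, hp, fun k => ⟨_, fun x => ⟨x, e k x⟩⟩, fun x => ⟨x, by simpa using e j x⟩,
      fun k h1 h2 x => ⟨x, by simpa [Equiv.swap_apply_of_ne_of_ne h1 h2] using e k x⟩⟩
  · rintro ρ ⟨w, φ, hw, hφ, -, e⟩ ⟨c, hc⟩
    obtain ⟨x, x0, h1, -⟩ := ker φ φ
    obtain rfl := one x0 (by simpa [e, h1] using hc x)
    exact hφ (LinearMap.ext fun y => by simpa [e, hw] using hc y)
  · rintro ρ hρ ρ' ⟨w', φ', -, -, -, e'⟩ ⟨c, hc⟩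
    have h0 := sq ρ hρ
    obtain ⟨w, φ, -, -, -, e⟩ := hρ
    obtain ⟨x, x0, h1, h2⟩ := ker φ φ'
    obtain rfl := one x0 (by simpa [e, e', h1, h2] using hc x)
    exact mul_left_cancel (h0.trans (LinearEquiv.ext fun y => by simpa using (hc y).symm))
  · rintro ρ ⟨w, φ, hw, hφ, h1, e⟩
    obtain ⟨w', q1, q2⟩ := exists_ker_notMem_span h.three φ w
    obtain ⟨ψ, q3, q4⟩ := exists_dual_zero_one q2
    obtain ⟨χ, z, q5, q6, q7⟩ := exists_dual_vanish h.three w w'
    have e3 : (χ - 2 • ψ) w' = -2 := by simp [q4, q6]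
    have e4 : (χ - 2 • ψ) (z - ψ z • w') = 1 := by simp [q4, q6, q7]
    obtain ⟨ρ', e'⟩ := exists_refl e3
    refine ⟨ρ', ⟨w', _, fun e => q2 (by simp [e]), fun e => by simp [e] at e4, e3, e'⟩,
      fun k => q2 (Submodule.mem_span_singleton.2 ⟨φ (z - ψ z • w'), ?_⟩),
      LinearEquiv.ext fun x => ?_⟩
    · have := e' (z - ψ z • w')
      rwa [k, e, e4, one_smul, add_right_inj] at this
    · simp [e, e', q1, q3, q5]; abel
  · rintro - - - - - d - ρ ⟨w, φ, hw, hφ, h1, e⟩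
    exact ⟨d w, φ ∘ₗ d.symm.toLinearMap, d.map_ne_zero_iff.2 hw, fun k => hφ (LinearMap.ext fun x => by
      simpa using LinearMap.congr_fun k (d x)), by simpa using h1, fun x => by simp [e]⟩
  · rintro g hg i ρ hρ hy
    have h0 := sq ρ hρ
    obtain ⟨w, φ, hw, hφ, -, e⟩ := hρ
    exact h.exists_mv hg hw hφ e (hR i ρ h0) (Or.inr h0) hy
  · rintro g hg i ρ hρ ρ' ⟨w', φ', -, -, -, e'⟩ hne - hc
    have h0 := sq ρ hρ
    obtain ⟨w, φ, -, -, -, e⟩ := hρ
    refine ⟨i, h.mv_of_ts hg (Y := LinearMap.range ((ρ * ρ').toLinearMap - 1)) (fun k => hne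
      (mul_left_cancel (h0.trans (LinearEquiv.ext fun y => ?_)))) (fun k => ?_) ?_⟩
    · exact (sub_eq_zero.1 (LinearMap.congr_fun (LinearMap.range_eq_bot.1 k) y)).symm
    · obtain ⟨χ, z, q1, q2, q3⟩ := exists_dual_vanish h.three w w'
      obtain ⟨y, rfl⟩ := k.ge (Submodule.mem_top (x := z))
      simp [e, e', q1, q2] at q3
    · rw [← range_krL]
      rintro _ ⟨v, rfl⟩
      have k : ∀ v, (T i).krL LinearMap.id ((ρ * ρ').toLinearMap - 1) v =
          (T i).krR (ρ * ρ') v - v := fun v => by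
        rw [krR_eq_sl, show (T i).krL LinearMap.id _ = (T i).sl _ from rfl, map_sub, map_one]; rfl
      exact ⟨g v, by rw [k, k, map_sub g, ← mul_app g, hc, mul_app]⟩
  by_cases h4 : 4 ≤ finrank F W ∨ (2 : F) = 0
  · obtain ⟨ρ, hρ, e⟩ := mk (φ₁ + φ₂) (by simp [p1, p3]) (by simp [p2, p4])
    obtain ⟨ρ', hρ', e'⟩ := mk φ₁ p1 p2
    have e1 : ∀ x, (ρ * ρ') x = x + φ₂ x • w₀ := fun x => by
      simp [e, e', p1, p3, hφ₀]; module
    refine h.exists_mv hg hw₀ (fun e => by simp [e] at p5) e1 (h.krR_mem p3 e1)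
      (h4.imp_right fun h2 => LinearEquiv.ext fun x => ?_) (k ρ hρ ρ' hρ')
    rw [mul_app, e1, e1]
    simp [p3, add_assoc, ← two_smul F, h2]
  push Not at h4
  let b := finBasisOfFinrankEq F W (show finrank F W = 3 by have := h.three; omega)
  have h5 : ∀ a, ∃ ρ ∈ R, ∀ x, ρ x = x + ((-2 : F) • b.coord a) x • b a := fun a =>
    have e3 : ((-2 : F) • b.coord a) (b a) = -2 := by simp
    let ⟨ρ, e⟩ := exists_refl e3
    ⟨ρ, ⟨_, _, b.ne_zero a, fun e => h4.2 (by simpa [e] using e3), e3, e⟩, e⟩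
  choose ρ hρ e using h5
  have h0 := sq _ (hρ 2)
  refine h.exists_mv hg (b.ne_zero 2) (fun e => h4.2 (by simpa using LinearMap.congr_fun e (b 2)))
    (e 2) (hR i _ h0) (Or.inr h0) fun j => ?_
  obtain ⟨l, hl⟩ := k _ (hρ 0) _ (hρ 1) j
  have h6 : ∀ v, (T i).krR (ρ 2) v = -(T i).krR (ρ 0 * ρ 1) v := (T i).ext
    (f := ((T i).krR (ρ 2)).toLinearMap) (g := -((T i).krR (ρ 0 * ρ 1)).toLinearMap) fun u w => by
      rw [← b.sum_repr w, Fin.sum_univ_three]
      simp [e]; module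
  refine ⟨l, fun x => (hl x).imp fun x' q v => ?_⟩
  simpa only [mul_app, h6, map_neg, neg_inj] using q v

end LH

theorem Tn.det_of_cm {T : Tn F U W V} [FiniteDimensional F U] [FiniteDimensional F W]
    (hW : ∃ w : W, w ≠ 0) {g : V ≃ₗ[F] V} (hg : T.Cm g.toLinearMap) (h2 : g * g = 1)
    (he : Even (finrank F W)) : g ∈ SLV F V := by
  obtain ⟨a, e⟩ := hg.exists_left hW
  obtain ⟨w, hw⟩ := hW
  have h1 : a * a = 1 := LinearMap.ext fun u => T.left_inj hw (by
    rw [Module.End.mul_apply, ← e, ← e]; exact LinearEquiv.congr_fun h2 _)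
  rw [mem_SLV, show g.toLinearMap = T.e.toLinearMap ∘ₗ TensorProduct.map a LinearMap.id ∘ₗ
      T.e.symm.toLinearMap from LinearMap.ext (T.ext fun u w => by rw [e]; simp [Tn.tm_apply]),
    LinearMap.det_conj, ← LinearMap.det_toMatrix ((finBasis F U).tensorProduct (finBasis F W)),
    TensorProduct.toMatrix_map, Matrix.det_kronecker]
  obtain ⟨n, hn⟩ := he
  simp [hn, pow_add, ← mul_pow, ← map_mul, h1]

theorem TP.isMaximalIn_SLV {ι : Type*} [DecidableEq ι] [Fintype ι] [Nontrivial ι] [Finite F]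
    {T : ι → Tn F U W V} [FiniteDimensional F U] [FiniteDimensional F W] [FiniteDimensional F V]
    (hT : TP T) (h3 : 3 ≤ finrank F W) (hU : 2 ≤ finrank F U)
    (ho : Odd (finrank F W) → Odd (finrank F V))
    (hp : ∀ j l, ∃ p : V ≃ₗ[F] V, p * p = 1 ∧
      ∀ i x v, p ((T i).sl x v) = (T (Equiv.swap j l i)).sl x (p v)) :
    Geo.IsMaximalIn (SLV F V) (hT.WR ⊓ SLV F V) := by
  obtain ⟨u₀, hu₀⟩ := hT.neU
  obtain ⟨w₀, hw₀⟩ := hT.neW
  have kr : ∀ i d, (T i).krR d ∈ hT.WR := fun i d k => ⟨k, by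
    by_cases hk : k = i
    · exact hk ▸ Tn.mv_of_NG ((T k).krR_mem d)
    · exact (hT.cm_krR hk d).mv⟩
  refine isMaximalIn_of inf_le_right ?_ fun M hH hG g hg hg' => ?_
  · obtain ⟨i⟩ : Nonempty ι := inferInstance
    obtain ⟨φ, z, p1, -, p2⟩ := exists_dual_vanish h3 w₀ w₀
    obtain ⟨α, hα⟩ := exists_dual_eq_one (F := F) hu₀
    obtain ⟨t, ht, e⟩ := hasTv_SLV (φ := α ∘ₗ (T i).cR φ) (v := (T i).tm u₀ w₀) (by simp [p1])
    refine ⟨t, ht, fun h => Tn.notMem_NG_of_tv (T := T i) (t := t) hU hT.two (v := (T i).tm u₀ w₀)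
      ⟨(T i).tm u₀ z, by simpa [e, p2, hα] using (T i).tm_ne_zero hu₀ hw₀⟩ (fun x => by
        rw [e, add_sub_cancel_left]
        exact Submodule.smul_mem _ _ (Submodule.mem_span_singleton_self _)) ?_⟩
    obtain ⟨j, hj⟩ := h.1 i
    by_cases hij : i = j
    · exact Tn.Mv.mem_NG hT.neU hT.neW (hij ▸ hj)
    obtain ⟨a, d, ea⟩ := hj.exists_tm hT.neU hT.neW
    have h1 := hT.finrank_inf hij (Submodule.span F {w₀}) (Submodule.span F {d w₀})
    rw [← Tn.sp_eq_ts, ← Tn.sp_eq_ts, inf_eq_left.2 (by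
      rintro _ ⟨u, rfl⟩
      exact ⟨a u, (ea u w₀).symm.trans (by simp [e, p1])⟩), Tn.finrank_sp _ hw₀,
      finrank_span_singleton hw₀, finrank_span_singleton (d.map_ne_zero_iff.2 hw₀)] at h1
    nlinarith
  by_contra hM
  let z : V ≃ₗ[F] V := LinearEquiv.neg F
  have zc : ∀ g, z * g = g * z := fun g => LinearEquiv.ext fun v => by simp [z]
  have z2 : z * z = 1 := LinearEquiv.ext fun v => by simp [z]
  have zW : z ∈ hT.WR := fun k => ⟨k, fun x => ⟨x, fun v => by simp [z]⟩⟩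
  let M' : Subgroup (V ≃ₗ[F] V) :=
    { carrier := {g | g ∈ M ∨ z * g ∈ M}
      one_mem' := Or.inl M.one_mem
      mul_mem' := fun {a b} ha hb => by
        rcases ha with ha | ha <;> rcases hb with hb | hb
        · exact Or.inl (M.mul_mem ha hb)
        · exact Or.inr (by simpa only [zc, mul_assoc] using M.mul_mem ha hb)
        · exact Or.inr (by simpa only [mul_assoc] using M.mul_mem ha hb)
        · refine Or.inl ?_
          have := M.mul_mem ha hb
          rwa [zc a, mul_assoc, ← mul_assoc z, z2, one_mul] at this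
      inv_mem' := fun {a} ha => ha.imp M.inv_mem fun ha => by
        simpa only [zc, mul_inv_rev, inv_eq_of_mul_eq_one_left z2] using M.inv_mem ha }
  have sg : ∀ g ∈ hT.WR, g * g = 1 → ∀ i, (T i).Cm g.toLinearMap → g ∈ M' := fun g hg h2 i hc => by
    rcases Nat.even_or_odd (finrank F W) with he | he
    · exact Or.inl (hH ⟨hg, Tn.det_of_cm hT.neW hc h2 he⟩)
    have h1 : LinearMap.det g.toLinearMap * LinearMap.det g.toLinearMap = 1 := by
      rw [← map_mul, ← LinearEquiv.coe_toLinearMap_mul, h2]; simp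
    refine (mul_self_eq_one_iff.1 h1).imp (fun e => hH ⟨hg, mem_SLV.2 e⟩) fun e =>
      hH ⟨hT.WR.mul_mem zW hg, mem_SLV.2 ?_⟩
    rw [show (z * g).toLinearMap = (-1 : F) • g.toLinearMap from LinearMap.ext fun v => by simp [z],
      LinearMap.det_smul, e, (ho he).neg_one_pow]
    simp
  have hL : LH T M' := ⟨hT, h3, fun i w φ e => ?_, fun i j l h1 h2 => ?_, fun h => hM fun g hg => ?_⟩
  · refine hg' ⟨hL.le_WR (fun i ρ h => ?_) (Or.inl hg), hG hg⟩
    obtain ⟨j, hj⟩ := exists_ne i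
    exact sg _ (kr i ρ) (by rw [← map_mul, h, map_one]) j (hT.cm_krR hj ρ)
  · obtain ⟨t, ht, et⟩ := hasTv_SLV e
    exact ⟨_, Or.inl (hH ⟨kr i t, (T i).krR_mem_SLV ht⟩), fun v => by
      rw [Tn.krR_apply_of_tv _ et, Tn.sl_rk]⟩
  · obtain ⟨p, p2, e⟩ := hp j l
    exact ⟨p, sg p (fun k => ⟨_, fun x => ⟨x, e k x⟩⟩) p2 i fun x v => by
      simpa [Equiv.swap_apply_of_ne_of_ne h1 h2] using e i x v, e⟩
  · refine (h hg).elim id fun k => ?_
    simpa [← mul_assoc, z2] using M.mul_mem (hH ⟨zW, by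
      simpa using (SLV F V).mul_mem (hG k) ((SLV F V).inv_mem hg)⟩) k

theorem tensorWreathSubgroup_isMaximalIn {F : Type*} [Field F] [Fintype F] {ι : Type} [Fintype ι]
    [DecidableEq ι] {m t : ℕ} (hm : 3 ≤ m) (ht : 2 ≤ t) (e : ι ≃ (Fin t → Fin m)) (P : GL ι F) :
    Geo.IsMaximalIn (Geo.specialLinear ι F)
      (Geo.tensorWreathSubgroup m t e P ⊓ Geo.specialLinear ι F) := by
  obtain ⟨T, h⟩ := exists_isSl (by omega) (by omega) e P
  have h2 : 2 ≤ finrank F (Fin (m ^ (t - 1)) → F) := by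
    simpa using (show 2 ≤ m by omega).trans (Nat.le_self_pow (by omega) m)
  have hT := h.tp (by omega) ((finrank_pos_iff_exists_ne_zero (R := F)).1 (by omega))
  have := Fin.nontrivial_iff_two_le.2 ht
  exact isMaximalIn_of_equiv (glEquiv ι F) (H' := hT.WR ⊓ SLV F _) mem_specialLinear_iff
    (fun g => and_congr (h.mem_iff hT (by omega) g) (mem_specialLinear_iff g))
    (hT.isMaximalIn_SLV (by simpa using hm) h2 (fun ho => by
      simpa [Fintype.card_congr e] using (show Odd m by simpa using ho).pow) h.exists_swap)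

end Cfsg.Agent.Class.Max
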