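import Mathlib
import Cfsg.Agent.Class.Max.C7G
import Cfsg.Agent.Class.Max.C7Lin

/-!
Subalgebras normalised by the classical groups of several slots.
-/

set_option autoImplicit false
set_option linter.unusedSectionVars false

namespace Cfsg.Agent.Class.Max

open Module

variable {F U W V : Type*} [Field F] [AddCommGroup U] [Module F U] [AddCommGroup W]
  [Module F W] [AddCommGroup V] [Module F V] {Φ₂ : Fm F W} {l : F}
  [FiniteDimensional F U] [FiniteDimensional F W] [FiniteDimensional F V]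

theorem cjL_mul' (g : V ≃ₗ[F] V) (a b : End F V) : cjL g (a * b) = cjL g a * cjL g b :=
  LinearMap.ext fun v => by simp [cjL_apply]

theorem cjL_add (g : V ≃ₗ[F] V) (a b : End F V) : cjL g (a + b) = cjL g a + cjL g b :=
  LinearMap.ext fun v => by simp [cjL_apply]

namespace Tn

variable {T : Tn F U W V} {R : Submodule F (End F V)}

theorem cm_of_test (P : W → Dual F W → Prop) (hW : ∃ w : W, w ≠ 0)
    (hP : ∀ x : End F W, (∀ w φ, P w φ → φ (x w) = 0) → ∃ c : F, ∀ v, x v = c • v)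
    {b : End F V} (h : ∀ w φ, P w φ → T.co b φ w = 0) : T.Cm b := by
  obtain ⟨w, hw⟩ := hW
  refine fun x => T.ext (f := b ∘ₗ T.sl x) (g := T.sl x ∘ₗ b) fun u v =>
    T.swap.eq_of_cR fun α => ?_
  obtain ⟨c, hc⟩ := hP (T.cL α ∘ₗ b ∘ₗ T.tm u) fun v β hp => by
    have := T.left_inj hw (u' := 0) ((T.co_tm b β v u w).symm.trans (by simp [h v β hp]))
    simp [cL_cR, this]
  have k : ∀ y, T.cL α (T.sl x y) = x (T.cL α y) :=
    T.ext (f := T.cL α ∘ₗ T.sl x) (g := x ∘ₗ T.cL α) fun u w => by simp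
  change T.cL α (b (T.sl x _)) = T.cL α (T.sl x (b _))
  rw [k, sl_tm]
  exact (hc _).trans (by rw [← map_smul]; exact congrArg x (hc v).symm)

theorem Cm.cjL_krR {c : End F V} (hc : T.Cm c) (τ : W ≃ₗ[F] W) : cjL (T.krR τ) c = c :=
  LinearMap.ext fun v => by
    obtain ⟨v, rfl⟩ := (T.krR τ).surjective v
    rw [cjL_app, T.krR_eq_sl, T.krR_eq_sl, hc]

theorem cjL_krR_sl (τ : W ≃ₗ[F] W) (x : End F W) : cjL (T.krR τ) (T.sl x) = T.sl (cjL τ x) :=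
  T.cjL_kr 1 τ x

theorem Cm.eq_zero {c : End F V} (hc : T.Cm c) {x : End F W} (hx : x ≠ 0) (h : c * T.sl x = 0) :
    c = 0 := by
  obtain ⟨w, hw⟩ := DFunLike.ne_iff.1 hx
  obtain ⟨a, e⟩ := hc.exists_left ⟨_, hw⟩
  refine LinearMap.ext (T.ext fun u y => ?_)
  have := LinearMap.congr_fun h (T.tm u w)
  rw [End.mul_apply, sl_tm, e] at this
  simp [e, T.left_inj hw (u' := 0) (by simpa using this)]

theorem Cm.cjL {c : End F V} (hc : T.Cm c) {g : V ≃ₗ[F] V} (hg : T.Cm g.toLinearMap) :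
    T.Cm (cjL g c) := fun x v => by
  obtain ⟨v, rfl⟩ := g.surjective v
  rw [show T.sl x (g v) = g (T.sl x v) from (hg x v).symm, cjL_app, cjL_app, hc]
  exact hg x _

theorem Cm.exists_kr {g : V ≃ₗ[F] V} (hg : T.Cm g.toLinearMap) (hW : ∃ w : W, w ≠ 0) :
    ∃ a, g = T.kr a 1 := by
  obtain ⟨a, e⟩ := hg.exists_left hW
  obtain ⟨w, hw⟩ := hW
  obtain ⟨a', e'⟩ := exists_left' (T := T) (T' := T) (g := g) hw hw fun u => ⟨a u, (e u w).symm⟩
  exact ⟨a', T.ext' fun u x => (e u x).trans (by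
    rw [T.left_inj hw ((e u w).symm.trans (e' u))]; simp [one_app])⟩

variable (T) in
/-- Invariance under the centraliser of the slot in `M`. -/
def InvL (M : Subgroup (V ≃ₗ[F] V)) (R : Submodule F (End F U)) : Prop :=
  ∀ a, T.kr a 1 ∈ M → ∀ b ∈ R, cjL a b ∈ R

theorem InvL.map {M : Subgroup (V ≃ₗ[F] V)} {R : Submodule F (End F U)} (h : T.InvL M R)
    (hW : ∃ w : W, w ≠ 0) {g : V ≃ₗ[F] V} (hg : g ∈ M) (hc : T.Cm g.toLinearMap) :
    ∀ b ∈ R.map T.swap.sl.toLinearMap, cjL g b ∈ R.map T.swap.sl.toLinearMap := by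
  obtain ⟨a, rfl⟩ := hc.exists_kr hW
  rintro _ ⟨b, hb, rfl⟩
  exact ⟨_, h a hg b hb, (T.swap_kr a 1 ▸ T.swap.cjL_kr 1 a b).symm⟩

@[simp] theorem swap_sl_tm (b : End F U) (u : U) (w : W) :
    T.swap.sl b (T.tm u w) = T.tm (b u) w := T.swap.sl_tm b w u

theorem cm_swap (b : End F U) : T.Cm (T.swap.sl b) := fun x =>
  T.ext (f := T.swap.sl b ∘ₗ T.sl x) (g := T.sl x ∘ₗ T.swap.sl b) fun u w => by simp

variable (T) in
/-- Invariant subalgebras are trivial. -/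
def AlU (M : Subgroup (V ≃ₗ[F] V)) : Prop := ∀ R : Submodule F (End F U), T.InvL M R →
  (∀ b ∈ R, ∀ c ∈ R, b * c ∈ R) → ∀ b ∈ R, (¬ ∃ a : F, ∀ u, b u = a • u) → ∀ c, c ∈ R

variable (T) in
/-- There are no invariant Clifford systems. -/
def ClU (Φ₁ : Fm F U) (M : Subgroup (V ≃ₗ[F] V)) : Prop := ∀ R : Submodule F (End F U),
  T.InvL M R → (∀ b ∈ R, Φ₁.Skew b) →
    (∀ b ∈ R, ∀ c ∈ R, ∃ a : F, ∀ u, b (c u) + c (b u) = a • u) → ∀ b ∈ R, b = 0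

theorem cjL_sub {τ : W ≃ₗ[F] W} {ν : End F W} (e : ∀ x, τ x = x + ν x) (h0 : ∀ x, ν (ν x) = 0)
    (b : End F V) : Max.cjL (T.krR τ) b - b = dcm (T.sl ν) b := by
  have e1 : ∀ v, T.krR τ v = v + T.sl ν v :=
    T.ext (f := (T.krR τ).toLinearMap) (g := LinearMap.id + T.sl ν) fun u w => by simp [e]
  refine LinearMap.ext fun v => ?_
  rw [LinearMap.sub_apply, cjL_apply, inv_apply_of_unip (A := T.sl ν)
    (T.ext (f := T.sl ν ∘ₗ T.sl ν) (g := 0) fun u w => by simp [h0]) e1, e1]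
  simp [dcm]
  abel

variable (T Φ₂ R) in
/-- `R` is normalised by the classical group of the slot. -/
def Inv : Prop := ∀ τ ∈ Φ₂.EG, ∀ b ∈ R, cjL (T.krR τ) b ∈ R

namespace Inv

variable (h : T.Inv Φ₂ R)
include h

theorem dcm_mem {τ : W ≃ₗ[F] W} (hτ : τ ∈ Φ₂.EG) {ν : End F W} (e : ∀ x, τ x = x + ν x)
    (h0 : ∀ x, ν (ν x) = 0) {b : End F V} (hb : b ∈ R) : dcm (T.sl ν) b ∈ R :=
  cjL_sub (T := T) e h0 b ▸ R.sub_mem (h τ hτ b hb) hb

theorem move {c : End F V} (hc : T.Cm c) {x z : W} (hb : c * T.sl (Φ₂.rk x z) ∈ R)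
    {τ : W ≃ₗ[F] W} (hτ : τ ∈ Φ₂.EG) : c * T.sl (Φ₂.rk (τ x) (τ z)) ∈ R := by
  have := h τ hτ _ hb
  rwa [cjL_mul', hc.cjL_krR, cjL_krR_sl,
    LinearMap.ext (Fm.cjL_rk (Φ₂.EG_le_Iso hτ) x z)] at this

theorem move_tv (hk : Φ₂.Rk) {c : End F V} (hc : T.Cm c) {w : W} (hw : Φ₂.Q w = 0) (hw0 : w ≠ 0)
    (hb : c * T.sl (Φ₂.rk w w) ∈ R) {s : W} (hs : Φ₂.Q s = 0) : c * T.sl (Φ₂.rk s s) ∈ R := by
  by_cases s0 : s = 0
  · exact mem_of_ext R.zero_mem (T.ext fun u x => by simp [s0])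
  obtain ⟨τ, hτ, a, a0, e⟩ := hk.move_pt hw hs hw0 s0
  rw [← R.smul_mem_iff (mul_ne_zero a0 (Φ₂.σ_ne a0))]
  exact mem_of_ext (h.move hc hb hτ) (T.ext fun u x => by simp [e, smul_smul]; congr 1; ring)

variable {w s f : W} {c c' : End F V}

theorem pair_add (hc : T.Cm c) (hc' : T.Cm c') (hp : Φ₂.Pair w s)
    (hb : c * T.sl (Φ₂.rk s w) + c' * T.sl (Φ₂.rk w s) ∈ R) :
    (c + c') * T.sl (Φ₂.rk w w) ∈ R := by
  obtain ⟨f, hf, f1, f2⟩ := hp.exists_partner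
  have hv := Fm.valid_zero hp.q₁ f2 hf
  have := h _ hv.eich_mem _ hb
  have hI := Φ₂.EG_le_Iso hv.eich_mem
  rw [cjL_add, cjL_mul', cjL_mul', hc.cjL_krR, hc'.cjL_krR, cjL_krR_sl, cjL_krR_sl,
    LinearMap.ext (Fm.cjL_rk hI s w), LinearMap.ext (Fm.cjL_rk hI w s), hv.eich_apply w, hv.ef_self,
    hv.eich_apply s, Fm.ef_apply_of_perp' hp.perp, Fm.B_eq_eps f1, Φ₂.eps_sq, one_smul] at this
  exact mem_of_ext (R.sub_mem hb this) (T.ext fun u x => by simp; module)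

variable (htv : Φ₂.TV) (hl : Φ₂.π l = 0) (l0 : l ≠ 0)
include htv hl l0

theorem dcm_tv (hw : Φ₂.Q w = 0) {a : F} (ha : Φ₂.σ a = a) {b : End F V} (hb : b ∈ R) :
    dcm ((a * l) • T.sl (Φ₂.rk w w)) b ∈ R := by
  obtain ⟨τ, hτ, e⟩ := htv.exists_tv hl hw ha
  simpa only [map_smul, smul_smul] using h.dcm_mem hτ (ν := a • l • Φ₂.rk w w) e
    (fun x => by simp [Φ₂.B_self hw]) hb

theorem pair_partner (hc : T.Cm c) (hc' : T.Cm c') (hf : Φ₂.Q f = 0) (f1 : Φ₂.B s f = 1)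
    (f2 : Φ₂.B w f = 0) (hb : c * T.sl (Φ₂.rk s w) + c' * T.sl (Φ₂.rk w s) ∈ R) :
    Φ₂.ε • c * T.sl (Φ₂.rk f w) - c' * T.sl (Φ₂.rk w f) ∈ R := by
  rw [← R.smul_mem_iff l0]
  exact mem_of_ext (h.dcm_tv htv hl l0 hf (map_one _) hb) fun v => by
    simp [dcm, Fm.rk, ← hc.app, ← hc'.app, sl_rk_rk, f1, f2, Φ₂.perp_symm f2, Fm.B_eq_eps f1,
      smul_sub, smul_smul]

/-- Extraction of matrix coefficients. -/
theorem extract (hd : Φ₂.d + 2 ≤ finrank F W) {b : End F V} (hb : b ∈ R) (hn : ¬ T.Cm b) :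
    ∃ w s, Φ₂.Pair w s ∧ T.co b (Φ₂.B s) w ≠ 0 ∧
      T.co b (Φ₂.B s) w * T.sl (Φ₂.rk s w) + T.co b (Φ₂.B w) s * T.sl (Φ₂.rk w s) ∈ R := by
  obtain ⟨e, -, e0, he⟩ := Φ₂.iso ⊤ (by rw [finrank_top]; omega)
  obtain ⟨w, s, hp, h0⟩ : ∃ w s, Φ₂.Pair w s ∧ T.co b (Φ₂.B s) w ≠ 0 := by
    by_contra hc
    push Not at hc
    refine hn (cm_of_test (fun w φ => ∃ s, Φ₂.Pair w s ∧ φ = Φ₂.B s) ⟨e, e0⟩ (fun x hx =>
      Fm.smul_of_sing_tv l0 hl he e0 fun u hu => ?_) (by rintro w _ ⟨s, hp, rfl⟩; exact hc w s hp))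
    by_cases u0 : u = 0
    · simp [u0]
    obtain ⟨a, ea⟩ := Φ₂.exists_smul_of_perp (e := u) (v := x u) fun y hy =>
      Fm.mem_of_pair hd hu u0 (LinearMap.ker (Φ₂.B (x u))).toAddSubgroup
        (fun s hp => Φ₂.perp_symm (hx u _ ⟨s, hp, rfl⟩)) hy
    exact Submodule.mem_span_singleton.2 ⟨a, ea.symm⟩
  refine ⟨w, s, hp, h0, ?_⟩
  rw [← R.smul_mem_iff (neg_ne_zero.2 (mul_ne_zero l0 l0))]
  exact mem_of_ext (h.dcm_tv htv hl l0 hp.q₂ (map_one _) (h.dcm_tv htv hl l0 hp.q₁ (map_one _) hb))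
    fun v => by
      simp [dcm, Fm.rk, co_mul, sl_rk_rk, hp.perp, Φ₂.perp_symm hp.perp, smul_smul]
      abel

end Inv

end Tn

namespace TP

open Tn

variable {ι : Type*} {T : ι → Tn F U W V} (hT : TP T)

variable (T) in
/-- The coefficients of the elements of `Y`. -/
def coefS (R : Submodule F (End F V)) (A : Set ι) (j : ι) (Y : Set (End F W)) :
    Submodule F (End F V) where
  carrier := {c | (∀ i ∉ A, (T i).Cm c) ∧ ∀ y ∈ Y, c * (T j).sl y ∈ R}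
  zero_mem' := ⟨fun i _ x v => by simp, fun y _ => by simp⟩
  add_mem' ha hb := ⟨fun i hi => (ha.1 i hi).add (hb.1 i hi), fun y h => by
    rw [add_mul]; exact R.add_mem (ha.2 y h) (hb.2 y h)⟩
  smul_mem' c a ha := ⟨fun i hi => (ha.1 i hi).smul c, fun y h => by
    rw [smul_mul_assoc]; exact R.smul_mem c (ha.2 y h)⟩

include hT

theorem inv_coefS [DecidableEq ι] {R : Submodule F (End F V)} {A : Set ι} {j k : ι} (hj : j ∉ A)
    (hk : k ∈ A) (h : (T k).Inv Φ₂ R) (Y : Set (End F W)) : (T k).Inv Φ₂ (coefS T R A j Y) :=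
  fun τ hτ c hc => ⟨fun i hi => (hc.1 i hi).cjL (hT.cm_krR (fun e : i = k => hi (e ▸ hk)) τ), fun y hy => by
    have := h τ hτ _ (hc.2 y hy)
    rwa [cjL_mul', (hT.cm k j (fun e => hj (e ▸ hk)) y).cjL_krR] at this⟩

variable [DecidableEq ι] (htv : Φ₂.TV) (hl : Φ₂.π l = 0) (l0 : l ≠ 0)
  (hd : Φ₂.d + 2 ≤ finrank F W)
include htv hl l0 hd

/-- Subalgebras normalised by the classical groups of some slots. -/
theorem algF (A : Finset ι) : ∀ R : Submodule F (End F V), (∀ b ∈ R, ∀ i ∉ A, (T i).Cm b) →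
    (∀ b ∈ R, ∀ c ∈ R, b * c ∈ R) → (∀ j ∈ A, (T j).Inv Φ₂ R) → ∀ b ∈ R, b ≠ 0 →
      1 ∈ R ∧ ((∃ c : F, ∀ v, b v = c • v) ∨ ∃ j ∈ A, ∀ x, (T j).sl x ∈ R) := by
  induction A using Finset.induction_on with
  | empty =>
    intro R h1 _ _ b hb b0
    obtain ⟨c, hc⟩ := hT.scal b fun i => h1 b hb i (by simp)
    have c0 : c ≠ 0 := fun e => b0 (LinearMap.ext fun v => by simp [hc, e])
    refine ⟨?_, Or.inl ⟨c, hc⟩⟩
    rw [show (1 : End F V) = c⁻¹ • b from LinearMap.ext fun v => by simp [hc, c0]]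
    exact R.smul_mem _ hb
  | insert j A hj ih =>
    intro R h1 h2 h4 b hb b0
    by_cases hc : ∀ b ∈ R, (T j).Cm b
    · obtain ⟨k1, k2⟩ := ih R (fun b hb i hi => by
        by_cases h : i = j
        · exact h ▸ hc b hb
        · exact h1 b hb i (by simp [h, hi])) h2 (fun l hl => h4 l (by simp [hl])) b hb b0
      exact ⟨k1, k2.imp_right fun ⟨l, hl, k⟩ => ⟨l, by simp [hl], k⟩⟩
    push Not at hc
    obtain ⟨b, hb, hc⟩ := hc
    have hj' := h4 j (by simp)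
    have hk : Φ₂.Rk := Or.inr ⟨l, l0, hl⟩
    have iv : ∀ Y, ∀ k ∈ A, (T k).Inv Φ₂ (coefS T R A j Y) := fun Y k hk =>
      hT.inv_coefS hj hk (h4 k (by simp [hk])) Y
    have z : ∀ Y, ∀ c ∈ coefS T R A j Y, c ≠ 0 →
        ∃ a ∈ coefS T R A j Y, ∃ a' ∈ coefS T R A j Y, a * a' ≠ 0 := fun Y c hc c0 => by
      by_contra hn
      push Not at hn
      have := (ih (coefS T R A j Y) (fun c hc => hc.1) (fun a ha a' ha' => hn a ha a' ha' ▸ zero_mem _) (iv Y) c hc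
        c0).1
      exact c0 (by simpa using hn _ this c hc)
    have cc : ∀ β y, ∀ i ∉ A, (T i).Cm ((T j).co b β y) := fun β y i hi => by
      by_cases h : i = j
      · exact h ▸ (T i).cm_co _ _ _
      · exact hT.cm_co h (h1 b hb i (by simp [h, hi])) β y
    obtain ⟨w, s, hp, k0, k1⟩ := hj'.extract htv hl l0 hd hb hc
    obtain ⟨c, k2, c0, k3⟩ : ∃ c, (∀ i ∉ A, (T i).Cm c) ∧ c ≠ 0 ∧ c * (T j).sl (Φ₂.rk w w) ∈ R := by
      by_cases e : (T j).co b (Φ₂.B s) w + (T j).co b (Φ₂.B w) s = 0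
      swap
      · exact ⟨_, fun i hi => (cc _ _ i hi).add (cc _ _ i hi), e,
          hj'.pair_add (cc _ _ j hj) (cc _ _ j hj) hp k1⟩
      obtain ⟨a, ha, a', ha', k⟩ := z {Φ₂.rk s w - Φ₂.rk w s} _ ⟨cc (Φ₂.B s) w, by
        simpa [eq_neg_of_add_eq_zero_right e, mul_add, sub_eq_add_neg] using k1⟩ k0
      obtain ⟨f, hf, f1, f2⟩ := hp.exists_partner
      have a1 := ha.1 j hj
      have a2 := ha'.1 j hj
      refine ⟨_, fun i hi => (ha.1 i hi).mul (ha'.1 i hi), k, ?_⟩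
      rw [← R.smul_mem_iff (neg_ne_zero.2 Φ₂.eps_ne)]
      exact mem_of_ext (h2 _ (ha.2 _ rfl) _ (hj'.pair_partner htv hl l0 a2 (a2.smul (-1)) hf f1 f2
        (by simpa [mul_add, sub_eq_add_neg] using ha'.2 _ rfl))) fun v => by
          simp [Fm.rk, a1.app, a2.app, sl_rk_rk, f1, f2, hp.perp, Φ₂.perp_symm hp.perp,
            Φ₂.B_self hp.q₁]
    obtain ⟨a, ha, a', ha', k⟩ := z {y | ∃ s, Φ₂.Q s = 0 ∧ y = Φ₂.rk s s} c ⟨k2, by
      rintro _ ⟨s, hs, rfl⟩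
      exact hj'.move_tv hk (k2 j hj) hp.q₁ hp.ne k3 hs⟩ c0
    have sm : ∀ {x y : End F V} {a : F}, a ≠ 0 → x ∈ R → (∀ v, a • y v = x v) → y ∈ R :=
      fun a0 hx e => (R.smul_mem_iff a0).1 (mem_of_ext hx e)
    obtain ⟨k4, -⟩ := ih (coefS T R A j {y | ∃ x z, Φ₂.Q x = 0 ∧ Φ₂.Q z = 0 ∧ Φ₂.B z x ≠ 0 ∧
        y = Φ₂.rk x z}) (fun c hc => hc.1) (fun c hc c' hc' => ⟨fun i hi =>
        (hc.1 i hi).mul (hc'.1 i hi), fun _ ⟨x, z, h1, h3, h5, e⟩ =>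
          sm h5 (h2 _ (hc.2 _ ⟨x, z, h1, h3, h5, e⟩) _ (hc'.2 _ ⟨x, z, h1, h3, h5, e⟩)) fun v => by
            simp [e, Fm.rk, (hc.1 j hj).app, (hc'.1 j hj).app, sl_rk_rk]⟩) (iv _) (a * a')
      ⟨fun i hi => (ha.1 i hi).mul (ha'.1 i hi), fun _ ⟨x, z, h1, h3, h5, e⟩ =>
        sm (Φ₂.ne_symm h5) (h2 _ (ha.2 _ ⟨x, h1, rfl⟩) _ (ha'.2 _ ⟨z, h3, rfl⟩)) fun v => by
          simp [e, Fm.rk, (ha.1 j hj).app, (ha'.1 j hj).app, sl_rk_rk]⟩ k
    have k5 : ∀ x, (T j).sl x ∈ R := Fm.mem_of_rk_sing hp.q₁ hp.ne (R.comap (T j).sl.toLinearMap)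
      fun x z hx hz x0 z0 => by
        obtain ⟨t, ht, t1⟩ := Fm.exists_partner' hx x0
        obtain ⟨y, hy, y1, y2⟩ := hk.exists_sing_not_perp ht hz (fun e => by simp [e] at t1) z0
        exact sm (Φ₂.ne_symm y1) (h2 _ (k4.2 _ ⟨x, t, hx, ht, Φ₂.ne_symm (by simp [t1]), rfl⟩) _
          (k4.2 _ ⟨y, z, hy, hz, Φ₂.ne_symm y2, rfl⟩)) fun v => by simp [Fm.rk, sl_rk_rk]
    exact ⟨by simpa using k5 1, Or.inr ⟨j, by simp, k5⟩⟩

theorem exists_mul_ne (A : Finset ι) {R : Submodule F (End F V)} (h1 : ∀ b ∈ R, ∀ i ∉ A, (T i).Cm b)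
    (h4 : ∀ j ∈ A, (T j).Inv Φ₂ R) {c : End F V} (hc : c ∈ R) (c0 : c ≠ 0) :
    ∃ a ∈ R, ∃ a' ∈ R, a * a' ≠ 0 := by
  by_contra hn
  push Not at hn
  have := (hT.algF htv hl l0 hd A R h1 (fun a ha a' ha' => hn a ha a' ha' ▸ zero_mem _) h4 c hc c0).1
  exact c0 (by simpa using hn _ this c hc)

theorem smul_of_comm (A : Finset ι) {R : Submodule F (End F V)} (h1 : ∀ b ∈ R, ∀ i ∉ A, (T i).Cm b)
    (h4 : ∀ j ∈ A, (T j).Inv Φ₂ R) (h2 : ∀ b ∈ R, ∀ c ∈ R, b * c = c * b) {c : End F V}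
    (hc : c ∈ R) : ∃ a : F, ∀ v, c v = a • v := by
  by_cases c0 : c = 0
  · exact ⟨0, by simp [c0]⟩
  let Z := Subalgebra.centralizer F (R : Set (End F V))
  let Z' := Subalgebra.centralizer F (Z : Set (End F V))
  have k1 : ∀ b ∈ R, b ∈ Z' := fun b hb z hz => (hz b hb).symm
  refine (hT.algF htv hl l0 hd A Z'.toSubmodule (fun b hb i hi x v => (LinearMap.congr_fun
    (hb _ fun a ha => LinearMap.ext ((h1 a ha i hi) x)) v).symm) (fun _ hb _ hc => Z'.mul_mem hb hc)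
    (fun j hj τ hτ b hb z hz => ?_) c (k1 c hc) c0).2.resolve_right fun ⟨j, _, hj⟩ => ?_
  · have := hb (cjL ((T j).krR τ)⁻¹ z) fun a ha => LinearMap.ext fun v => by
      simpa [cjL_apply] using congrArg (((T j).krR τ)⁻¹ : V ≃ₗ[F] V)
        (LinearMap.congr_fun (hz _ (h4 j hj τ hτ a ha)) ((T j).krR τ v))
    exact LinearMap.ext fun v => by
      simpa [cjL_apply] using congrArg ((T j).krR τ) (LinearMap.congr_fun this (((T j).krR τ)⁻¹ v))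
  · obtain ⟨x, hx⟩ := hT.not_smul
    refine hx (exists_smul_of_comm fun w => ?_)
    by_cases w0 : w = 0
    · exact ⟨0, by simp [w0]⟩
    obtain ⟨φ, hφ⟩ := exists_dual_eq_one (F := F) w0
    have := (T j).sl_inj hT.neU (x := φ.smulRight w * x) (y := x * φ.smulRight w) fun v => by
      rw [map_mul, map_mul, hj x _ fun a ha => hj _ _ fun b hb => h2 b hb a ha]
    exact ⟨φ (x w), by simpa [hφ] using (LinearMap.congr_fun this w).symm⟩

variable [Fintype ι] {M : Subgroup (V ≃ₗ[F] V)} (hR : ∀ j, ∀ τ ∈ Φ₂.EG, (T j).krR τ ∈ M)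
include hR

omit htv hl l0 hd in
theorem inv_map {i : ι} {R : Submodule F (End F U)} (h : (T i).InvL M R) :
    ∀ j ∈ Finset.univ.erase i, (T j).Inv Φ₂ (R.map (T i).swap.sl.toLinearMap) := fun j hj τ hτ =>
  h.map hT.neW (hR j τ hτ) (hT.cm_krR (Finset.ne_of_mem_erase hj).symm τ)

theorem alU (hp : ∀ j k, j ≠ k → (∃ i, i ≠ j ∧ i ≠ k) → ∃ p ∈ M,
      ∀ i x v, p ((T i).sl x v) = (T (open Classical in Equiv.swap j k i)).sl x (p v)) (i : ι) :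
    (T i).AlU M := fun R h1 h2 b hb hn c => by
  have inj : Function.Injective (T i).swap.sl := fun x y e =>
    (T i).swap.sl_inj hT.neW fun v => by rw [e]
  have h3 : ∀ b ∈ R.map (T i).swap.sl.toLinearMap, ∀ c ∈ R.map (T i).swap.sl.toLinearMap,
      b * c ∈ R.map (T i).swap.sl.toLinearMap := by
    rintro _ ⟨b, hb, rfl⟩ _ ⟨c, hc, rfl⟩
    exact ⟨_, h2 b hb c hc, map_mul (T i).swap.sl b c⟩
  obtain ⟨k1, k2⟩ := hT.algF htv hl l0 hd (Finset.univ.erase i) _ (by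
    rintro _ ⟨b, -, rfl⟩ j hj
    obtain rfl : j = i := by simpa using hj
    exact cm_swap b) h3 (hT.inv_map hR h1) _ ⟨b, hb, rfl⟩
    fun e => hn ⟨0, by simp [inj (e.trans (map_zero _).symm)]⟩
  obtain ⟨j, hj, k3⟩ := k2.resolve_left fun ⟨a, e⟩ => hn ⟨a, LinearMap.congr_fun
    (inj (a₂ := a • 1) (LinearMap.ext fun v => by simpa using e v))⟩
  obtain ⟨c', hc', e⟩ := hT.full _ k1 h3 (Finset.univ.erase i) (fun k hk x => by
    by_cases hjk : j = k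
    · exact hjk ▸ k3 x
    have a1 := (Finset.ne_of_mem_erase hj).symm
    have a2 := (Finset.ne_of_mem_erase hk).symm
    obtain ⟨p, hp, e⟩ := hp j k hjk ⟨i, a1, a2⟩
    refine mem_of_ext (h1.map hT.neW hp (fun x v => by
      simpa [Equiv.swap_apply_of_ne_of_ne a1 a2] using e i x v) _ (k3 x)) fun v => ?_
    rw [cjL_apply, e, app_inv_app]
    simp) ((T i).swap.sl c) fun j hj => by
      obtain rfl : j = i := by simpa using hj
      exact cm_swap c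
  exact inj e ▸ hc'

omit hR in
theorem cm_of_cl {Φ₁ : ι → Fm F U} {Φ : Fm F V} (hF : ∀ i, TF (T i) (Φ₁ i) Φ₂ Φ) (hS : Φ₂.IsSp)
    (h2 : (2 : F) ≠ 0) {i : ι} {R : Submodule F (End F V)}
    (iv : ∀ j ∈ Finset.univ.erase i, (T j).Inv Φ₂ R) (k1 : ∀ b ∈ R, Φ.Skew b)
    (k2 : ∀ b ∈ R, ∀ c ∈ R, ∃ a : F, ∀ v, b (c v) + c (b v) = a • v) (k3 : ∀ b ∈ R, (T i).Cm b) :
    ∀ b ∈ R, ∀ j, (T j).Cm b := by
  intro b hb j
  by_contra hc
  have hij : j ≠ i := fun e => hc (e ▸ k3 b hb)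
  have hj := iv j (by simp [hij])
  set A := (Finset.univ.erase i).erase j
  have jA : j ∉ (A : Set ι) := by simp [A]
  have iv' : ∀ Y, ∀ k ∈ A, (T k).Inv Φ₂ (coefS T R A j Y) := fun Y k hk =>
    hT.inv_coefS jA hk (iv k (Finset.mem_of_mem_erase hk)) Y
  have cc : ∀ β y, ∀ k ∉ (A : Set ι), (T k).Cm ((T j).co b β y) := fun β y k hk => by
    by_cases h : k = j
    · exact h ▸ (T k).cm_co _ _ _
    · obtain rfl : k = i := by simpa [A, h] using hk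
      exact hT.cm_co h (k3 b hb) β y
  obtain ⟨w, s, hp, k0, k4⟩ := hj.extract htv hl l0 hd hb hc
  obtain ⟨f, hf, f1, f2⟩ := hp.exists_partner
  obtain ⟨g, hg, g1, g2⟩ := hp.symm.exists_partner
  obtain ⟨u, hu⟩ := hT.neU
  have sp := And.intro hp.perp (And.intro (Φ₂.perp_symm hp.perp) (And.intro (Φ₂.perp_symm f2)
    (And.intro (Φ₂.perp_symm g2) (And.intro (Fm.B_eq_eps f1) (Fm.B_eq_eps g1)))))
  have z : ∀ b ∈ R, ∀ c ∈ R, b (c ((T j).tm u s)) + c (b ((T j).tm u s)) = 0 →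
      ∀ v, b (c v) + c (b v) = 0 := fun b hb c hc e v => by
    obtain ⟨a, ea⟩ := k2 b hb c hc
    rw [ea, smul_eq_zero_iff_left ((T j).tm_ne_zero hu hp.symm.ne)] at e
    rw [ea, e, zero_smul]
  have r0 : Φ₂.rk w w ≠ 0 := fun e => hp.ne (by simpa [g1] using LinearMap.congr_fun e g)
  have e : (T j).co b (Φ₂.B s) w + (T j).co b (Φ₂.B w) s = 0 := by
    by_contra e
    obtain ⟨a, ha, a', ha', k⟩ := hT.exists_mul_ne htv hl l0 hd A (R := coefS T R A j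
      (Set.range fun s => Φ₂.rk s s)) (fun c hc => hc.1) (iv' _) ⟨fun i hi => (cc _ _ i hi).add (cc _ _ i hi), by
        rintro _ ⟨t, rfl⟩
        exact hj.move_tv (Or.inr ⟨l, l0, hl⟩) ((cc _ _ j jA).add (cc _ _ j jA)) hp.q₁ hp.ne
          (hj.pair_add (cc _ _ j jA) (cc _ _ j jA) hp k4) (hS.Q t)⟩ e
    have a1 := ha.1 j jA
    have a2 := ha'.1 j jA
    refine k ((a1.mul a2).eq_zero r0 (LinearMap.ext fun v => ?_))
    simpa [Fm.rk, a1.app, a2.app, sl_rk_rk, g1, sp, hS.B_self, hS.ε] using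
      z _ (ha.2 _ ⟨w, rfl⟩) _ (ha'.2 _ ⟨g, rfl⟩) (by simp [← a2.app, ← a1.app, sp])
        ((T j).sl (Φ₂.rk w w) v)
  obtain ⟨a, ea⟩ := hT.smul_of_comm htv hl l0 hd A (R := coefS T R A j {Φ₂.rk s w - Φ₂.rk w s})
    (fun c hc => hc.1) (iv' _)
    (fun a ha a' ha' => by
      have a1 := ha.1 j jA
      have a2 := ha'.1 j jA
      refine sub_eq_zero.1 (((a1.mul a2).add ((a2.mul a1).smul (-1))).eq_zero r0
        (LinearMap.ext fun v => ?_) ▸ by simp [sub_eq_add_neg])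
      simpa [Fm.rk, a1.app, a2.app, sl_rk_rk, f1, f2, sp, hS.B_self, hS.ε] using
        z _ (ha.2 _ rfl) _ (hj.pair_partner htv hl l0 a2 (a2.smul (-1)) hf f1 f2
          (by simpa [mul_add, sub_eq_add_neg] using ha'.2 _ rfl))
          (by simp [← a1.app, ← a2.app, f1, f2, sp, hS.B_self]) v)
    (c := (T j).co b (Φ₂.B s) w) ⟨cc _ _, by
      simpa [eq_neg_of_add_eq_zero_right e, mul_add, sub_eq_add_neg] using k4⟩
  have := (hF j).skew_of_krL (δ := a • (Φ₂.rk s w - Φ₂.rk w s)) (by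
    convert k1 _ k4 using 1
    exact LinearMap.ext ((T j).ext fun u x => by
      simp [eq_neg_of_add_eq_zero_right e, ea, smul_sub, sub_eq_add_neg])) f g
  simp [f1, f2, g1, g2, sp, hS.σ, hS.ε] at this
  exact k0 (LinearMap.ext fun v => by
    rw [ea, show a = 0 from mul_left_cancel₀ h2 (by linear_combination -this), zero_smul]; rfl)

theorem clU {Φ₁ : ι → Fm F U} {Φ : Fm F V} (hF : ∀ i, TF (T i) (Φ₁ i) Φ₂ Φ) (hS : Φ₂.IsSp)
    (h2 : (2 : F) ≠ 0) (i : ι) : (T i).ClU (Φ₁ i) M := fun R h1 h3 h4 b hb => by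
  obtain ⟨a, e⟩ := hT.scal _ (hT.cm_of_cl htv hl l0 hd hF hS h2 (hT.inv_map hR h1)
    (by rintro _ ⟨b, hb, rfl⟩; exact (hF i).swap.skew_krL (h3 b hb)) (by
      rintro _ ⟨b, hb, rfl⟩ _ ⟨c, hc, rfl⟩
      obtain ⟨a, e⟩ := h4 b hb c hc
      exact ⟨a, fun v => by
        simpa using (T i).ext (f := (T i).swap.sl b * (T i).swap.sl c + (T i).swap.sl c *
          (T i).swap.sl b) (g := a • (1 : End F V))
          (fun u w => by simpa using congrArg ((T i).tm · w) (e u)) v⟩)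
    (by rintro _ ⟨b, -, rfl⟩; exact cm_swap b) _ ⟨b, hb, rfl⟩)
  obtain ⟨u, u', hu⟩ := (hF i).exists_B_one
  have e' := (T i).swap.sl_inj hT.neW (x := b) (y := a • 1) fun v => by simpa using e v
  have := h3 b hb u u'
  simp only [e', LinearMap.smul_apply, End.one_apply, (Φ₁ i).bsimp, ← (hF i).σ₁₂, hS.σ, hu] at this
  rw [e', show a = 0 from mul_left_cancel₀ h2 (by linear_combination this), zero_smul]

end TP

end Cfsg.Agent.Class.Max
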