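import Mathlib
import Cfsg.Agent.Class.Max.C7U
import Cfsg.Agent.S0801

/-!
Tensor decompositions with a factor `Sp₂(q)`, `q ≥ 5` odd: the global argument.
-/

set_option autoImplicit false
set_option linter.unusedSectionVars false

namespace Cfsg.Agent.Class.Max

open Module Polynomial

theorem dickson_diag {K : Type*} [Field K] [Finite K] (h2 : (2 : K) ≠ 0) {x : K} (x0 : x ≠ 0)
    (hx : (3 : K) ≠ 0 ∨ x ^ 2 ≠ -1) (P : K → K → K → K → Prop) (h1 : P 1 0 0 1)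
    (hm : ∀ a b c d a' b' c' d', P a b c d → P a' b' c' d' →
      P (a * a' + b * c') (a * b' + b * d') (c * a' + d * c') (c * b' + d * d'))
    (l1 : P 1 0 1 1) (l2 : P 1 0 (-1) 1) (u1 : P 1 x 0 1) (u2 : P 1 (-x) 0 1) {y : K}
    (hy : y ∈ Subfield.closure {x}) (y0 : y ≠ 0) : P y 0 0 y⁻¹ := by
  set K₀ := Subfield.closure ({x} : Set K)
  have := Fintype.ofFinite K₀
  let x' : K₀ := ⟨x, Subfield.subset_closure rfl⟩
  have hg : Subfield.closure ({x'} : Set K₀) = ⊤ := eq_top_iff.2 fun z _ => by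
    have h := RingHom.map_field_closure K₀.subtype {x'}
    rw [Set.image_singleton] at h
    obtain ⟨z', h1, h2⟩ := h.ge z.2
    exact Subtype.ext h2 ▸ h1
  rcases S0801.result (fun e => h2 (by simpa only [map_ofNat, map_zero] using congrArg K₀.subtype e)) x'
    (fun e => x0 (congrArg Subtype.val e)) hg with ⟨h, -⟩ | ⟨h3, h4, -⟩
  · have key : ∀ g ∈ (⊤ : Subgroup (Matrix.SpecialLinearGroup (Fin 2) K₀)),
        P (g 0 0) (g 0 1) (g 1 0) (g 1 1) := fun g hg => by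
      rw [← h] at hg
      induction hg using Subgroup.closure_induction'' with
      | mem g hg => rcases hg with e | e <;> simpa [e]
      | inv_mem g hg => rcases hg with e | e <;> simpa [Matrix.SpecialLinearGroup.SL2_inv_expl, e]
      | one => simpa
      | mul g g' _ _ a b => simpa [Matrix.mul_apply, Fin.sum_univ_two] using hm _ _ _ _ _ _ _ _ a b
    simpa using key ⟨!![⟨y, hy⟩, 0; 0, ⟨y, hy⟩⁻¹], by
      simpa [Matrix.det_fin_two] using mul_inv_cancel₀ (show (⟨y, hy⟩ : K₀) ≠ 0 from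
        fun e => y0 (congrArg Subtype.val e))⟩ trivial
  · refine absurd (by simpa using congrArg Subtype.val h4) (hx.resolve_left fun h => h ?_)
    have := congrArg K₀.subtype (Nat.cast_card_eq_zero K₀)
    rw [h3, map_natCast, map_zero] at this
    exact pow_eq_zero_iff two_ne_zero |>.1 (by rw [← this]; norm_num)

variable {F V : Type*} [Field F] [AddCommGroup V] [Module F V]

theorem exists_irreducible_ker (η : End F V) (S : Set V) (hS : ∀ p : F[X], ∀ v ∈ S, aeval η p v ∈ S)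
    {p : F[X]} (p0 : p ≠ 0) : ∀ v ∈ S, v ≠ 0 → aeval η p v = 0 →
      ∃ f : F[X], Irreducible f ∧ ∃ v ∈ S, v ≠ 0 ∧ aeval η f v = 0 := by
  induction p using WfDvdMonoid.induction_on_irreducible with
  | zero => exact absurd rfl p0
  | unit p hp =>
    obtain ⟨c, hc, rfl⟩ := Polynomial.isUnit_iff.1 hp
    intro v _ v0 e
    exact absurd (by simpa [hc.ne_zero] using e) v0
  | mul p f p1 hf ih =>
    intro v hv v0 e
    by_cases h : aeval η p v = 0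
    · exact ih p1 v hv v0 h
    · exact ⟨f, hf, _, hS p v hv, h, by rwa [map_mul] at e⟩

theorem aeval_comm {η θ : End F V} (h : ∀ v, η (θ v) = θ (η v)) (p : F[X]) (v : V) :
    aeval η p (θ v) = θ (aeval η p v) := by
  induction p using Polynomial.induction_on generalizing v with
  | C a => simp
  | add p q hp hq => simp [hp, hq]
  | monomial n a ih => simp only [pow_succ, ← mul_assoc, map_mul (aeval η) _ X, aeval_X,
      End.mul_apply, h, ih]

namespace Fm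

variable [FiniteDimensional F V] {Φ : Fm F V} {M H : Subgroup (V ≃ₗ[F] V)} {θ : V →ₗ[F] V}

/-- Two conjugate root subgroups generate a group `SL₂(q)`. -/
theorem QE.exists_scalar [Finite F] (D : QE Φ M H θ) (hσ : ∀ a, Φ.σ a = a) (h2 : (2 : F) ≠ 0)
    (hq : 5 ≤ Nat.card F) (hk : ∀ v, θ v = 0 → v ∈ LinearMap.range θ)
    (h1 : ∀ γ ∈ M, (∀ v, γ (θ v) ∈ LinearMap.range θ) → ∃ μ : F, ∀ v, γ (θ v) = μ • θ (γ v))
    (h3 : ∀ γ ∈ H, (∀ v, γ (θ v) ∈ LinearMap.range θ) ∨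
      LinearMap.range θ ⊓ LinearMap.range (cjL γ θ) = ⊥ ∨ ∀ v, θ (cjL γ θ v) = cjL γ θ (θ v))
    {g : V ≃ₗ[F] V} (hg : g ∈ M) (hg' : g ∉ H)
    (h : QMax M H θ (finrank F ↥(LinearMap.range θ ⊓ LinearMap.range (cjL g θ)))) :
    LinearMap.range θ ⊓ LinearMap.range (cjL g θ) = ⊥ ∧
      ∃ r : F, ∀ v, θ (cjL g θ v) + cjL g θ (θ v) = r • v := by
  set θ' := cjL g θ with hθ'
  set J := LinearMap.range θ ⊓ LinearMap.range θ' with hJ
  let η : End F V := θ ∘ₗ θ' + θ' ∘ₗ θ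
  have q1 := D.sq
  have q2 : ∀ v, θ' (θ' v) = 0 := D.sq' g
  have c1 := aeval_comm (η := η) (θ := θ) fun v => by simp [η, q1]
  have c2 := aeval_comm (η := η) (θ := θ') fun v => by simp [η, q2]
  have cc : ∀ (p q : F[X]) v, aeval η p (aeval η q v) = aeval η (p * q) v := fun p q v => by
    rw [map_mul, End.mul_apply]
  have e1 : ∀ v, θ v = 0 → θ (θ' v) = aeval η (X : F[X]) v := fun v hv => by simp [η, hv]
  have k0 : ∀ (p : F[X]) v, θ v = 0 → θ (aeval η p v) = 0 := fun p v hv => by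
    rw [← c1, hv, map_zero]
  have hJ0 : ∀ x ∈ J, θ x = 0 ∧ θ' x = 0 := by
    rintro _ ⟨⟨a, rfl⟩, b, hb⟩
    exact ⟨q1 a, hb ▸ q2 b⟩
  have f1 : ∀ v, θ v = 0 → θ' v ∈ J → v ∈ J := fun v hv =>
    D.fact h hg M.one_mem (by simpa using hg') rfl inf_le_right inf_le_left (hk v hv)
  have f2 : ∀ v ∈ LinearMap.range θ', θ v ∈ J → v ∈ J := fun v hv =>
    D.fact h M.one_mem hg (by simpa using hg') rfl inf_le_left inf_le_right hv
  have f3 : ∀ v, θ v = 0 → aeval η (X : F[X]) v ∈ J → v ∈ J := fun v hv e =>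
    f1 v hv (f2 _ ⟨v, rfl⟩ (e1 v hv ▸ e))
  have f4 : ∀ v ∈ J, aeval η (X : F[X]) v = 0 := fun v hv => by
    rw [← e1 v (hJ0 v hv).1, (hJ0 v hv).2, map_zero]
  obtain ⟨f, hf, _, ⟨v₁, v1, rfl⟩, v0, fv⟩ : ∃ f : F[X], Irreducible f ∧
      ∃ v ∈ {v | ∃ u, θ u = 0 ∧ aeval η (X : F[X]) u = v}, v ≠ 0 ∧ aeval η f v = 0 := by
    obtain ⟨_, ⟨v, rfl⟩, hv⟩ := SetLike.not_le_iff_exists.1 fun hc : LinearMap.range θ ≤ J =>
      hg' (D.mem_of_map_eq hg (hc.trans inf_le_right))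
    exact exists_irreducible_ker η _ (by
      rintro p _ ⟨u, hu, rfl⟩
      exact ⟨_, k0 p u hu, by rw [cc, cc, mul_comm]⟩) (minpoly.ne_zero_of_finite F η) _
      ⟨_, q1 v, rfl⟩ (fun e => hv (f3 _ (q1 v) (e ▸ J.zero_mem))) (by simp)
  set v₀ := aeval η (X : F[X]) v₁ with hv₀
  have v2 : θ v₀ = 0 := k0 _ _ v1
  have d1 : ∀ p : F[X], f ∣ p → aeval η p v₀ = 0 := by
    rintro _ ⟨p, rfl⟩
    rw [mul_comm, ← cc, fv, map_zero]
  have d2 : ∀ p : F[X], aeval η p v₀ ∈ J → f ∣ p := fun p hp => by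
    by_contra hc
    obtain ⟨a, b, e⟩ := hf.coprime_iff_not_dvd.2 hc
    have : aeval η p v₀ = 0 := by
      rw [hv₀, cc, mul_comm, ← cc] at hp ⊢
      exact f4 _ (f3 _ (k0 _ _ v1) hp)
    refine v0 ?_
    have e2 := congrArg (fun p => aeval η p v₀) e
    simpa [← cc, fv, this] using e2.symm
  have := Fact.mk hf
  have fX : AdjoinRoot.root f ≠ 0 := fun e => v0 (f4 _ (f3 _ v1 (f3 _ v2 (by
    rw [d1 X (AdjoinRoot.mk_eq_zero.1 e)]; exact J.zero_mem))))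
  let G : (V ≃ₗ[F] V) → F[X] → F[X] → F[X] → F[X] → Prop := fun γ a b c d =>
    γ ∈ M ∧ (∀ v ∈ J, γ v = v) ∧ a * d - b * c = 1 ∧ ∀ v, θ v = 0 →
      γ v = aeval η a v + θ' (aeval η c v) ∧ γ (θ' v) = aeval η b v + θ' (aeval η d v)
  have G1 : ∀ {γ a b c d γ' a' b' c' d'}, G γ a b c d → G γ' a' b' c' d' → G (γ * γ')
      (a * a' + b * c') (a * b' + b * d') (c * a' + d * c') (c * b' + d * d') :=
    fun {γ a b c d γ' a' b' c' d'} ⟨a1, a2, a3, a4⟩ ⟨b1, b2, b3, b4⟩ => ⟨M.mul_mem a1 b1, fun v hv => by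
      rw [mul_app, b2 v hv, a2 v hv], by linear_combination (a' * d' - b' * c') * a3 + b3, fun v hv => by
      simp only [mul_app, b4 v hv, map_add, (a4 _ (k0 _ _ hv)).1, (a4 _ (k0 _ _ hv)).2, cc,
        LinearMap.add_apply]
      constructor <;> abel⟩
  have G2 : ∀ c : F, ∃ γ, G γ 1 0 (C c) 1 := fun c =>
    let ⟨γ, hγ, e⟩ := D.hasU hg (hσ c)
    ⟨γ, hγ, fun v hv => by simp [e, ← hθ', (hJ0 v hv).2], by simp, fun v _ => by
      simp [e, ← hθ', q2]⟩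
  have G3 : ∀ c : F, ∃ γ, G γ 1 (C c * X) 0 1 := fun c =>
    let ⟨γ, hγ, e⟩ := D.has c (hσ c)
    ⟨γ, D.le hγ, fun v hv => by simp [e, (hJ0 v hv).1], by simp, fun v hv => by
      simp [e, hv, e1 v hv, add_comm]⟩
  have A : ∀ {γ a b c d}, G γ a b c d → f ∣ c → (∀ v, θ v = 0 → aeval η c v ∈ J) ∧
      ∃ μ : F, (∀ v, γ (θ v) = μ • θ (γ v)) ∧ f ∣ (a - C μ * d) * X := by
    rintro γ a b c d ⟨a1, a2, a3, a4⟩ hc
    have s1 : γ v₀ = aeval η a v₀ := by rw [(a4 v₀ v2).1, d1 c hc, map_zero, add_zero]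
    have s2 : γ v₀ ∉ J := fun e => hf.not_isUnit (isUnit_of_dvd_one (a3 ▸
      dvd_sub ((d2 a (s1 ▸ e)).mul_right d) (hc.mul_left b)))
    have s3 : γ v₀ ∈ LinearMap.range θ := hk _ (s1 ▸ k0 _ _ v2)
    have s4 : γ v₀ ∈ LinearMap.range (cjL γ θ) := range_cjL γ θ ▸ ⟨v₀, hk _ v2, rfl⟩
    have s5 : γ ∈ H := by
      simpa using h.mem M.one_mem a1 rfl inf_le_left (fun x hx => range_cjL γ θ ▸
        ⟨x, hx.1, a2 x hx⟩) s3 s4 s2
    have s6 : (∀ v, θ v = 0 → aeval η c v ∈ J) → ∀ v, γ (θ v) ∈ LinearMap.range θ := fun e v => by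
      rw [(a4 _ (q1 v)).1, (hJ0 _ (e _ (q1 v))).2, add_zero]
      exact hk _ (k0 _ _ (q1 v))
    have s7 : ∀ v, γ (θ v) ∈ LinearMap.range θ := by
      rcases h3 γ s5 with e | e | e
      · exact e
      · exact absurd (by rw [(Submodule.mem_bot F).1 (e.le ⟨s3, s4⟩)]; exact J.zero_mem) s2
      refine s6 fun v hv => f3 _ (k0 _ _ hv) (f3 _ (k0 _ _ (k0 _ _ hv)) ?_)
      have t1 : ∀ v, θ v = 0 → cjL γ θ v = -γ (aeval η (X * c) v) := fun v hv => by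
        have : γ (aeval η d v - θ' (aeval η c v)) = v := by
          rw [map_sub, (a4 _ (k0 _ _ hv)).1, (a4 _ (k0 _ _ hv)).2]
          simp only [cc]
          rw [mul_comm d c, add_sub_add_right_eq_sub, ← LinearMap.sub_apply, ← map_sub, a3]
          simp
        conv_lhs => rw [← this, cjL_app, map_sub, k0 _ _ hv, e1 _ (k0 _ _ hv), cc, zero_sub, map_neg]
      have t2 : ∀ v, θ v = 0 → cjL γ θ (θ' v) = γ (aeval η (X * a) v) := fun v hv => by
        have : γ (θ' (aeval η a v) - aeval η b v) = θ' v := by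
          rw [map_sub, (a4 _ (k0 _ _ hv)).1, (a4 _ (k0 _ _ hv)).2]
          simp only [cc]
          rw [mul_comm b a, add_sub_add_left_eq_sub, ← map_sub, ← LinearMap.sub_apply, ← map_sub,
            mul_comm d, mul_comm c, a3]
          simp
        conv_lhs => rw [← this, cjL_app, map_sub, k0 _ _ hv, e1 _ (k0 _ _ hv), cc, sub_zero]
      have t3 : ∀ v, θ v = 0 → θ (γ v) = aeval η (X * c) v := fun v hv => by
        rw [(a4 v hv).1, map_add, k0 _ _ hv, e1 _ (k0 _ _ hv), cc, zero_add]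
      have t4 : ∀ v, θ v = 0 → aeval η (X * c * (X * c)) v = 0 := fun v hv => by
        have := e v
        rwa [hv, map_zero, t1 v hv, map_neg, t3 _ (k0 _ _ hv), cc, neg_eq_zero] at this
      have t5 := e (θ' v)
      rw [t2 v hv, t3 _ (k0 _ _ hv), e1 v hv, t1 _ (k0 _ _ hv), (a4 _ (k0 _ _ (k0 _ _ hv))).1] at t5
      simp only [cc] at t5
      rw [show c * (X * c * X) = X * c * (X * c) by ring, t4 v hv, map_zero, add_zero,
        show a * (X * c * X) = X * c * (X * a) by ring, eq_neg_iff_add_eq_zero, ← two_smul F,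
        smul_eq_zero_iff_right h2] at t5
      rw [cc, cc, show X * X * c = d * (X * c * (X * a)) - b * (X * c * (X * c)) by
        linear_combination -(X * X * c) * a3, map_sub, LinearMap.sub_apply, ← cc d, ← cc b, t5,
        t4 v hv]
      simp
    obtain ⟨μ, e⟩ := h1 γ a1 s7
    refine ⟨fun v hv => f1 _ (k0 _ _ hv) ⟨?_, _, rfl⟩, μ, e, d2 _ ?_⟩
    · obtain ⟨u, rfl⟩ := hk v hv
      rw [eq_sub_of_add_eq' (a4 _ hv).1.symm]
      exact sub_mem (s7 u) (hk _ (k0 _ _ hv))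
    · have := e (θ' v₀)
      rw [e1 _ v2, (a4 _ (k0 _ _ v2)).1, (a4 _ v2).2, map_add, k0 _ _ v2, e1 _ (k0 _ _ v2)] at this
      simp only [cc] at this
      rw [d1 _ (hc.mul_right X), map_zero, add_zero, zero_add] at this
      rw [sub_mul, map_sub, LinearMap.sub_apply, this, mul_assoc, ← cc (C μ), mul_comm d]
      simp
  have : Finite (AdjoinRoot f) :=
    have := (AdjoinRoot.powerBasis hf.ne_zero).finite
    Module.finite_of_finite F
  have inj := (algebraMap F (AdjoinRoot f)).injective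
  have n2 : (2 : AdjoinRoot f) ≠ 0 := fun e => h2 (inj (by rwa [map_ofNat, map_zero]))
  obtain ⟨c, c0, hc, y₀, y1, y0, y2⟩ : ∃ c : F, c ≠ 0 ∧ ((3 : AdjoinRoot f) ≠ 0 ∨
      (algebraMap F _ c * AdjoinRoot.root f) ^ 2 ≠ -1) ∧ ∃ y ∈ Subfield.closure
        {algebraMap F _ c * AdjoinRoot.root f}, y ≠ 0 ∧ y * y ≠ 1 := by
    by_cases n3 : (3 : AdjoinRoot f) = 0
    swap
    · exact ⟨1, one_ne_zero, Or.inl n3, 2, ofNat_mem _ 2, n2, fun e => n3 (by linear_combination e)⟩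
    obtain ⟨c, c0, hc⟩ : ∃ c : F, c ≠ 0 ∧ (algebraMap F _ c * AdjoinRoot.root f) ^ 4 ≠ 1 := by
      by_contra hc
      push Not at hc
      have := Fintype.ofFinite F
      have h0 : AdjoinRoot.root f ^ 4 = 1 := by simpa using hc 1 one_ne_zero
      have h4 := Nat.le_of_dvd (by norm_num) ((FiniteField.forall_pow_eq_one_iff F 4).1 fun x =>
        Units.ext (inj (by simpa [mul_pow, h0] using hc x x.ne_zero)))
      have h5 := congrArg (algebraMap F (AdjoinRoot f)) (Nat.cast_card_eq_zero F)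
      rw [show Fintype.card F = 5 by rw [Nat.card_eq_fintype_card] at hq; omega, map_natCast,
        map_zero, Nat.cast_ofNat] at h5
      exact n2 (by linear_combination h5 - n3)
    exact ⟨c, c0, Or.inr fun e => hc (by rw [show 4 = 2 * 2 from rfl, pow_mul, e]; norm_num), _,
      Subfield.subset_closure rfl, mul_ne_zero (by simpa) fX,
      fun e => hc (by rw [show 4 = 2 * 2 from rfl, pow_mul, pow_two (_ * _), e, one_pow])⟩
  have B : ∀ y ∈ Subfield.closure {algebraMap F _ c * AdjoinRoot.root f}, y ≠ 0 →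
      ∃ γ ∈ M, (∀ v ∈ J, γ v = v) ∧ ∃ μ : F, (∀ v, γ (θ v) = μ • θ (γ v)) ∧
        y * y = algebraMap F _ μ := fun y hy y0 => by
    obtain ⟨γ, a, b, c', d, hG, r1, -, r3, r4⟩ := dickson_diag n2 (mul_ne_zero (by simpa) fX) hc
      (fun a b c d => ∃ γ a' b' c' d', G γ a' b' c' d' ∧ AdjoinRoot.mk f a' = a ∧
        AdjoinRoot.mk f b' = b ∧ AdjoinRoot.mk f c' = c ∧ AdjoinRoot.mk f d' = d)
      (let ⟨γ, e⟩ := G2 0; ⟨γ, _, _, _, _, e, by simp⟩)
      (by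
        rintro _ _ _ _ _ _ _ _ ⟨_, _, _, _, _, e, rfl, rfl, rfl, rfl⟩
          ⟨_, _, _, _, _, e', rfl, rfl, rfl, rfl⟩
        exact ⟨_, _, _, _, _, G1 e e', by simp⟩)
      (let ⟨γ, e⟩ := G2 1; ⟨γ, _, _, _, _, e, by simp⟩)
      (let ⟨γ, e⟩ := G2 (-1); ⟨γ, _, _, _, _, e, by simp⟩)
      (let ⟨γ, e⟩ := G3 c; ⟨γ, _, _, _, _, e, by simp⟩)
      (let ⟨γ, e⟩ := G3 (-c); ⟨γ, _, _, _, _, e, by simp⟩) hy y0
    obtain ⟨-, μ, e, e'⟩ := A hG (AdjoinRoot.mk_eq_zero.1 r3)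
    refine ⟨γ, hG.1, hG.2.1, μ, e, ?_⟩
    have := AdjoinRoot.mk_eq_zero.2 e'
    simp only [map_mul, map_sub, r1, r4, AdjoinRoot.mk_X, AdjoinRoot.mk_C, mul_eq_zero, fX,
      or_false, sub_eq_zero] at this
    rw [AdjoinRoot.algebraMap_eq, ← mul_inv_cancel_right₀ y0 (AdjoinRoot.of f μ), mul_right_comm,
      ← this]
  have rk : finrank F (LinearMap.range θ') = finrank F (LinearMap.range θ) := by
    rw [hθ', range_cjL, LinearEquiv.finrank_map_eq]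
  have k2 := D.skew.cjL (D.iso hg)
  have J0 : J = ⊥ := eq_bot_iff.2 fun x hx => by
    obtain ⟨γ, a1, a2, μ, a3, a4⟩ := B y₀ y1 y0
    refine D.skew.eq_zero_of_inf (fun _ hx _ hy => k2.perp q2 hx hy) rk f2 hx.2 fun y hy => ?_
    have t1 := (D.iso a1).1 y x
    have t2 := D.skew.perp_of_eq_zero hx.1 (y := μ • γ y - y) (by
      rw [map_sub, map_smul, ← a3, a2 _ hy, sub_self])
    rw [a2 x hx] at t1
    have t3 := Φ.perp_symm t2
    simp only [Φ.bsimp, hσ, t1] at t3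
    exact mul_left_cancel₀ (sub_ne_zero.2 fun e : μ = 1 => y2 (by rw [a4, e, map_one]))
      (by linear_combination t3)
  obtain ⟨r, hr⟩ : ∃ r : F, AdjoinRoot.root f = algebraMap F _ r := by
    have sq : ∀ y ∈ Subfield.closure {algebraMap F _ c * AdjoinRoot.root f},
        ∃ μ, y * y = algebraMap F _ μ := fun y hy => by
      by_cases y0 : y = 0
      · exact ⟨0, by simp [y0]⟩
      · obtain ⟨-, -, -, μ, -, e⟩ := B y hy y0
        exact ⟨μ, e⟩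
    obtain ⟨μ, e⟩ := sq _ (Subfield.subset_closure rfl)
    obtain ⟨μ', e'⟩ := sq _ (add_mem (Subfield.subset_closure rfl) (one_mem _))
    refine ⟨(μ' - μ - 1) / (2 * c), ?_⟩
    rw [map_div₀, eq_div_iff (by simpa [h2] using c0)]
    simp only [map_sub, map_mul, map_one, map_ofNat]
    linear_combination e' - e
  have r0 : r ≠ 0 := fun e => fX (by simp [hr, e])
  obtain ⟨γ₁, g1⟩ := G2 (-2⁻¹)
  obtain ⟨γ₂, g2⟩ := G3 r⁻¹
  obtain ⟨γ₃, g3⟩ := G2 1
  have t1 := (A (G1 g1 (G1 g2 g3)) (AdjoinRoot.mk_eq_zero.1 (by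
    have a1 : (algebraMap F (AdjoinRoot f)) 2⁻¹ * 2 = 1 := by
      rw [map_inv₀, map_ofNat, inv_mul_cancel₀ n2]
    have a2 : (algebraMap F (AdjoinRoot f)) r⁻¹ * AdjoinRoot.root f = 1 := by
      rw [hr, ← map_mul, inv_mul_cancel₀ r0, map_one]
    rw [AdjoinRoot.algebraMap_eq] at a1 a2
    simp only [map_add, map_mul, map_one, map_zero, AdjoinRoot.mk_X, AdjoinRoot.mk_C, a2, map_neg]
    linear_combination -a1))).1
  have t2 : ∀ v, θ v = 0 → η v = r • v := fun v hv => by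
    have := t1 v hv
    rw [J0, Submodule.mem_bot] at this
    simp only [map_add, map_mul, aeval_C, aeval_X, map_one, map_zero, LinearMap.add_apply,
      End.mul_apply, End.one_apply, LinearMap.zero_apply, algebraMap_end_apply, one_smul] at this
    have := congrArg ((-2 * r) • ·) this
    simp only [smul_add, smul_smul, smul_zero] at this
    field_simp at this
    linear_combination (norm := module) this
  have t3 : ∀ v, ∃ l, θ l = 0 ∧ θ' (v - l) = 0 := fun v => by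
    obtain ⟨_, ⟨l, rfl⟩, e⟩ := sup_comap_eq_top (θ := θ') rk.symm
      (fun v ⟨u, hu⟩ e => by rw [inf_comm] at e ⊢; exact f1 v (hu ▸ q1 u) e) v
    rw [inf_comm, ← hJ, J0] at e
    exact ⟨_, q1 l, e⟩
  refine ⟨J0, r, fun v => ?_⟩
  obtain ⟨l, l1, l2⟩ := t3 v
  obtain ⟨u, hu⟩ := hk (g⁻¹ (v - l)) (g.map_eq_zero_iff.1 l2)
  obtain ⟨l', l3, l4⟩ := t3 (g u)
  have : v = l + θ' l' := by
    rw [map_sub, sub_eq_zero] at l4
    rw [← l4, hθ', cjL_app, hu, app_inv_app, add_sub_cancel]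
  change η v = _
  rw [this, map_add, t2 l l1, smul_add, ← map_smul, ← t2 l' l3]
  simp [η, q2]

theorem eq_smul_of_two (h2 : finrank F V ≤ 2) {w y : V} (hw0 : w ≠ 0) (hw : Φ.B w w = 0)
    (hy : Φ.B w y = 0) : ∃ c : F, y = c • w := by
  obtain ⟨z, hz⟩ := Φ.exists_B_ne hw0
  have h1 := Module.Dual.finrank_ker_add_one_of_ne_zero (f := Φ.B w) fun e => hz (by simp [e])
  have h3 : Submodule.span F {w} = LinearMap.ker (Φ.B w) := Submodule.eq_of_le_of_finrank_le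
    ((Submodule.span_singleton_le_iff_mem _ _).2 hw) (by rw [finrank_span_singleton hw0]; omega)
  obtain ⟨c, e⟩ := Submodule.mem_span_singleton.1 (h3.ge hy)
  exact ⟨c, e.symm⟩

end Fm

variable {U W : Type*} [AddCommGroup U] [Module F U] [AddCommGroup W] [Module F W]
  [FiniteDimensional F U] [FiniteDimensional F W] [FiniteDimensional F V] {Φ₂ : Fm F W}
  {Φ : Fm F V} {M H : Subgroup (V ≃ₗ[F] V)} {l : F}

/-- The global argument for the factor `Sp₂(q)`. -/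
theorem WK.le_of_two [Finite F] {T : Tn F U W V} {Φ₁ : Fm F U} (h : WK T Φ₁ Φ₂ Φ M l)
    (hS : Φ₂.IsSp) (hW : finrank F W ≤ 2) (h2 : (2 : F) ≠ 0) (hq : 5 ≤ Nat.card F)
    (hK : ∀ τ ∈ Φ₂.EG, T.krR τ ∈ H) {w : W} (hw0 : w ≠ 0)
    (D : Fm.QE Φ M H (T.sl (l • Φ₂.rk w w)))
    (hN : ∀ γ ∈ M, (∀ v, γ (T.sl (l • Φ₂.rk w w) v) ∈ LinearMap.range (T.sl (l • Φ₂.rk w w))) →
      γ ∈ T.NG)
    (hmv : ∀ γ ∈ H, γ ∈ T.NG ∨ T.Cm (cjL γ (T.sl (l • Φ₂.rk w w))))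
    (hsl : ∀ g ∈ M, ∀ η, (∀ v, cjL g (T.sl (l • Φ₂.rk w w)) v = T.sl η v) → g ∈ H) : M ≤ H := by
  intro g₀ hg₀
  by_contra hg₁
  have hT := h.tf
  have hr := h.range_tv hw0
  have hσ : ∀ a, Φ.σ a = a := fun a => by rw [← hT.σ₂, hS.σ]
  obtain ⟨u₀, hu₀⟩ := hT.ne₁
  set θ := T.sl (l • Φ₂.rk w w) with hθ
  have k1 := fun g hg hg' => D.exists_scalar hσ h2 hq (g := g) (fun v hv => hr ▸ hT.mem_sp_of
    fun y hy => by
      obtain ⟨c, rfl⟩ := Fm.eq_smul_of_two hW hw0 (hS.B_self w) hy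
      rw [hθ, WK.tv_apply, smul_eq_zero_iff_right h.l0] at hv
      simp [T.left_inj hw0 (u' := 0) (by simpa using hv)])
    (fun γ hγ e => by
      have k := D.skew.cjL (D.iso hγ)
      obtain ⟨a, d, rfl⟩ := hN γ hγ e
      have eγ : cjL (T.kr a d) θ = T.krL LinearMap.id (cjL d (l • Φ₂.rk w w)) := T.cjL_kr a d _
      obtain ⟨c, -, ec⟩ := Fm.eq_smul_tv h.hl h.l0 hw0 (hT.skew_of_krL (eγ ▸ k)) fun x =>
        T.mem_of_tm_mem_ts hu₀ (by
          have := e ((T.kr a d)⁻¹ (T.tm u₀ x))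
          rwa [← cjL_apply, eγ, Tn.krL_tm, hr, T.sp_eq_ts] at this)
      exact ⟨c, fun v => by
        rw [← cjL_app, eγ]
        exact T.ext (g := c • θ) (fun u x => by rw [Tn.krL_tm, ec]; simp [hθ]) _⟩)
    (fun γ hγ => by
      rcases hmv γ hγ with ⟨a, d, rfl⟩ | e
      · rw [range_cjL, hr, T.map_kr_sp]
        by_cases hc : T.sp w ⊓ T.sp (d w) = ⊥
        · exact Or.inr (Or.inl hc)
        obtain ⟨x, ⟨x1, x2⟩, x0⟩ := Submodule.exists_mem_ne_zero_of_ne_bot hc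
        exact Or.inl fun v => T.sp_eq_of_mem x0 x1 x2 ▸ T.map_kr_sp a d w ▸ ⟨_, hr ▸ ⟨v, rfl⟩, rfl⟩
      · exact Or.inr (Or.inr fun v => (e _ v).symm)) hg hg'
  obtain ⟨g₁, a1, a2, a3⟩ := Fm.exists_qMax hg₀ hg₁ θ
  rw [(k1 g₁ a1 a2 a3).1, finrank_bot] at a3
  have k2 := fun g hg hg' => (k1 g hg hg' fun g' h1 h2 => (a3 g' h1 h2).trans (Nat.zero_le _)).2
  set θ' := cjL g₀ θ with hθ'
  have k3 : ∀ s, s ≠ 0 → ∃ r : F, ∀ u x y, Φ₂.B y s • T.cR (Φ₂.B s) (θ' (T.tm u x)) +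
      Φ₂.B s x • T.cR (Φ₂.B y) (θ' (T.tm u s)) = (r * Φ₂.B y x) • u := fun s s0 => by
    obtain ⟨τ, hτ, c, c0, e⟩ := h.rk.move_pt (hS.Q w) (hS.Q s) hw0 s0
    obtain ⟨r, er⟩ := k2 _ (M.mul_mem (M.inv_mem (h.R τ hτ)) hg₀) fun hc =>
      hg₁ (by simpa using H.mul_mem (hK τ hτ) hc)
    have e1 : ∀ v, T.krR τ (θ ((T.krR τ)⁻¹ v)) = (c * c * l) • T.tm (T.cR (Φ₂.B s) v) s := fun v => by
      rw [hθ, WK.tv_apply, ← hT.cR_krR_iso (Φ₂.EG_le_Iso hτ), app_inv_app, map_smul, Tn.krR_tm, e]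
      simp [hS.σ, smul_smul, mul_comm, mul_left_comm]
    refine ⟨(c * c * l)⁻¹ * r, fun u x y => ?_⟩
    have := congrArg (fun v => T.cR (Φ₂.B y) (T.krR τ v)) (er ((T.krR τ)⁻¹ (T.tm u x)))
    simp only [cjL_mul, ← hθ', cjL_apply (T.krR τ)⁻¹, inv_inv, app_inv_app, map_add, e1, map_smul,
      Tn.cR_tm, LinearMap.smul_apply] at this
    have c1 : c * c * l ≠ 0 := mul_ne_zero (mul_ne_zero c0 c0) h.l0
    rw [mul_assoc, mul_smul, eq_inv_smul_iff₀ c1, mul_smul r, ← this, smul_add]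
  have k4 : ∀ s, ∃ c : F, ∀ u, T.cR (Φ₂.B s) (θ' (T.tm u s)) = c • u := fun s => by
    by_cases s0 : s = 0
    · exact ⟨0, by simp [s0]⟩
    obtain ⟨r, er⟩ := k3 s s0
    obtain ⟨x, hx⟩ := Φ₂.exists_B_ne s0
    exact ⟨r, fun u => smul_right_injective _ hx (by
      simpa [hS.B_self, smul_smul, mul_comm] using er u x s)⟩
  have k5 : ∀ s x, Φ₂.B s x ≠ 0 → ∃ c : F, ∀ u, T.cR (Φ₂.B s) (θ' (T.tm u x)) = c • u :=
    fun s x hx => by
      obtain ⟨r, er⟩ := k3 s fun e => hx (by simp [e])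
      obtain ⟨a, ea⟩ := k4 s
      obtain ⟨b, eb⟩ := k4 x
      obtain ⟨c, ec⟩ := k4 (s + x)
      refine ⟨2⁻¹ * (c - a - b), fun u => ?_⟩
      have e1 := er u x x
      have e2 := ec u
      rw [hS.B_self, hS.symm s x, mul_zero, zero_smul, neg_smul, neg_add_eq_zero] at e1
      simp only [map_add, LinearMap.add_apply, ea, eb, ← smul_right_injective _ hx e1] at e2
      rw [mul_smul, eq_inv_smul_iff₀ h2]
      linear_combination (norm := module) e2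
  obtain ⟨η, e⟩ := T.exists_sl_of ⟨u₀, hu₀⟩ (b := θ') fun φ x => by
    obtain ⟨s, rfl⟩ := Φ₂.exists_eq_dual φ
    by_cases hx : Φ₂.B s x = 0
    swap
    · exact k5 s x hx
    by_cases s0 : s = 0
    · exact ⟨0, by simp [s0]⟩
    obtain ⟨z, hz⟩ := Φ₂.exists_B_ne s0
    obtain ⟨a, ea⟩ := k5 s z hz
    obtain ⟨b, eb⟩ := k5 s (x + z) (by simpa [hx] using hz)
    exact ⟨b - a, fun u => by rw [sub_smul, ← ea, ← eb]; simp⟩
  exact hg₁ (hsl g₀ hg₀ η e)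

theorem WP.le_WR_sp2 [Finite F] {ι : Type*} [Finite ι] {T : ι → Tn F U W V} {Φ₁ : ι → Fm F U}
    (h : WP T Φ₁ Φ₂ Φ M l) (hS : Φ₂.IsSp) (hW : finrank F W ≤ 2) (h2 : (2 : F) ≠ 0)
    (hq : 5 ≤ Nat.card F) (hp : ∀ j k, j ≠ k → (∃ i, i ≠ j ∧ i ≠ k) → ∃ p ∈ M,
      ∀ i x v, p ((T i).sl x v) = (T (open Classical in Equiv.swap j k i)).sl x (p v)) :
    M ≤ h.tp.WR := by
  obtain ⟨w, hw0⟩ := h.tp.neW
  refine WP.le_WR h.tp (fun i => (h.wk i).R) hp fun N hN j hR hK => ((h.wk j).mono hN hR).le_of_two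
    hS hW h2 hq (fun τ hτ => ⟨hK j _ (hR τ hτ) (Tn.mv_of_NG ((T j).krR_mem τ)), hR τ hτ⟩) hw0
    (h.qe (Or.inl h2) hN hR hK (hS.Q w) hw0) (fun γ hγ => h.mem_NG (hS.Q w) hw0 (hN hγ))
    (fun γ hγ => ?_) fun g hg η e => ⟨hK j g hg (h.mv_of_sl (hS.Q w) hw0 (hN hg) e), hg⟩
  obtain ⟨k, hk⟩ := hγ.1 j
  by_cases hjk : k = j
  · exact Or.inl ((hjk ▸ hk).mem_NG h.tp.neU h.tp.neW)
  · exact Or.inr (h.tp.cm_cjL hjk hk _)

end Cfsg.Agent.Class.Max
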