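import Mathlib
import Cfsg.Agent.Class.Max.C5Inst
import Cfsg.Agent.Class.Max.LowNd

/-!
Class `C₅` in small dimensions: `O₇(q₀)` in `Ω₇(q)`.
-/

set_option autoImplicit false

namespace Cfsg.Agent.Class.Max

open Module

variable {F V : Type*} [Field F] [AddCommGroup V] [Module F V]
variable {θ₀ : F ≃+* F} {F₀ : Subfield F}

theorem kappa_pow {ι : Type} [Fintype ι] (b : Basis ι F V) {g : V ≃ₗ[F] V} (hg : g ∈ SLV F V) {κ : F}
    (h : ∀ v, frob θ₀ b (g v) = κ • g (frob θ₀ b v)) : κ ^ Fintype.card ι = 1 := by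
  classical
  have h1 : (θ₀ : F →+* F).mapMatrix (LinearMap.toMatrix b b g) = κ • LinearMap.toMatrix b b g := by
    ext i k
    have := congrArg (b.repr · i) (h (b k))
    simpa [repr_frob, frob_basis, LinearMap.toMatrix_apply] using this
  have h2 := congrArg Matrix.det h1
  rw [← RingHom.map_det, Matrix.det_smul, LinearMap.det_toMatrix, mem_SLV.1 hg] at h2
  simpa using h2.symm

theorem eq_one_of_sq_of_odd {κ : F} {n : ℕ} (h : κ * κ = 1) (hn : Odd n) (h' : κ ^ n = 1) : κ = 1 := by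
  obtain ⟨k, rfl⟩ := hn
  rwa [pow_succ, pow_mul, sq, h, one_pow, one_mul] at h'

namespace Fm

variable {V₀ : Type*} [AddCommGroup V₀] [Module F₀ V₀]
variable {Φ : Fm F V} {Φ₀ : Fm F₀ V₀} {θ : V →ₛₗ[(θ₀ : F →+* F)] V} {j : V₀ →ₛₗ[F₀.subtype] V}
variable {M : Subgroup (V ≃ₗ[F] V)}

namespace Sub

variable (hS : Sub Φ Φ₀ θ j)
include hS

theorem kappa_sq {g : V ≃ₗ[F] V} (hg : g ∈ Φ.Iso) (hσ : ∀ a, Φ.σ a = a) {κ : F}
    (h : ∀ v, θ (g v) = κ • g (θ v)) (h0 : 0 < finrank F V) : κ * κ = 1 := by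
  have := Module.nontrivial_of_finrank_pos h0
  obtain ⟨x, hx⟩ := exists_ne (0 : V)
  obtain ⟨y, hy⟩ := Φ.exists_B_ne hx
  have h1 := hS.θB (g x) (g y)
  rw [h, h, Φ.B_smul_left, Φ.B_smul_right, Iso.B hg, Iso.B hg, hS.θB, hσ, ← mul_assoc] at h1
  exact (mul_eq_right₀ ((map_ne_zero θ₀).2 hy)).1 h1

variable [FiniteDimensional F V] [FiniteDimensional F₀ V₀]
  (hd : Φ₀.d + 4 ≤ finrank F₀ V₀) (hH : Nfrob θ ⊓ Φ.EG ≤ M) (hM : M ≤ Φ.EG) (hR : Φ.RatE Φ₀ j M)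
include hd hH hM hR

/-- The orthogonal case. -/
theorem le_Nfrob_of_orth' [Finite F] (hκ : ∀ g ∈ Φ.EG, g ∈ Nfrob θ → ∀ x, θ (g x) = g (θ x))
    (hσ : ∀ a, Φ.σ a = a) (hε : Φ.ε = 1) : M ≤ Nfrob θ := by
  refine hS.le_Nfrob_of_siegel hd hH hM hR fun a₀ b₀ hv₀ hb₀ hE₀ => ?_
  by_contra hcon
  push Not at hcon
  obtain ⟨e, -, h0, he⟩ := Φ₀.iso ⊤ (by rw [finrank_top]; omega)
  obtain ⟨f, -, e₂, -, f₂, -, e₃, -, f₃, -, H⟩ :=
    Φ₀.nd_top.exists_hyp3 (by rwa [finrank_top]) trivial h0 he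
  have sym : ∀ x y, Φ.B y x = Φ.B x y := fun x y => by rw [Φ.symm, hσ, hε, one_mul]
  have sg : ∀ a b x, Φ.ef a b 0 x = x + Φ.B a x • b - Φ.B b x • a := fun a b x => by
    simp [ef, hε]
  obtain ⟨a, b, ha, hb, hab, hae, hbe, hef⟩ : ∃ a b, Φ.Q a = 0 ∧ Φ.Q b = 0 ∧ Φ.B a b = 0 ∧
      Φ.B a (j e) ≠ 0 ∧ Φ.B b (j e) = 0 ∧ ∀ x, Φ.ef a₀ b₀ 0 x = Φ.ef a b 0 x := by
    by_cases h1 : Φ.B a₀ (j e) = 0
    · refine ⟨b₀, -a₀, hb₀, by rw [Φ.Q_neg, hv₀.sing], by simp [Φ.perp_symm hv₀.perp], fun h2 =>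
        hcon e h0 he (ef_apply_of_perp h1 h2), by simp [h1], fun x => ?_⟩
      simp only [sg, Φ.bsimp]; module
    · refine ⟨a₀, b₀ + (-(Φ.B b₀ (j e) / Φ.B a₀ (j e))) • a₀, hv₀.sing, ?_,
        by simp [hv₀.perp, Φ.B_self hv₀.sing], h1, by simp [hσ, h1], fun x => ?_⟩
      · rw [Φ.Q_add_perp (by simp [Φ.perp_symm hv₀.perp]), hb₀, Φ.Q_smul_zero hv₀.sing, add_zero]
      · rw [ef_add_smul, hσ, hε]; congr 1; ring
  simp only [HasE, hef] at hE₀ hcon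
  clear hef hv₀ hb₀
  obtain ⟨x, hx, ex⟩ := hE₀
  have hb0 : b ≠ 0 := by
    rintro rfl
    exact hcon e h0 he (ef_zero _ _)
  have hee := Φ.B_self (hS.Q_eq_zero.2 he)
  -- the corrected vectors
  let τ : V₀ → F := fun w => -(Φ.B a (j w) / Φ.B a (j e))
  let ω : V₀ → V := fun w => j w + τ w • j e
  have ωa : ∀ w, Φ.B a (ω w) = 0 := fun w => by simp [ω, τ, hae]
  have ωb : ∀ w, Φ.B b (ω w) = Φ.B b (j w) := fun w => by simp [ω, hbe]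
  have ωe : ∀ w, Φ₀.B e w = 0 → Φ.B (j e) (ω w) = 0 := fun w h => by
    simp [ω, hee, hS.B_eq_zero.2 h]
  have ωQ : ∀ w, Φ₀.B e w = 0 → Φ₀.Q w = 0 → Φ.Q (ω w) = 0 := fun w h h' => by
    rw [Φ.Q_add_perp (by simp [Φ.perp_symm (hS.B_eq_zero.2 h)]), hS.Q_eq_zero.2 h',
      Φ.Q_smul_zero (hS.Q_eq_zero.2 he), add_zero]
  have ωE : ∀ w, Φ₀.B e w = 0 → Φ₀.Q w = 0 → Φ.HasE M (j e) (ω w) 0 := fun w h h' => by
    have := (hS.hasE_zero (valid_zero he h h')).mono hH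
    simpa only [HasE, ω, ef_add_smul, hσ, hε, one_mul, zero_add, sub_self] using this
  -- the perpendicular case
  have perp : ∀ w y, Φ₀.B e w = 0 → Φ₀.Q w = 0 → Φ₀.B e y = 0 → Φ₀.B w y ≠ 0 → Φ.B b (j w) = 0 →
      ∃ κ : F, b = κ • ω w := fun w y h1 h2 hy hy' h3 => by
    obtain ⟨t, ht, et⟩ := ωE w h1 h2
    have hI := (valid_zero (hS.Q_eq_zero.2 he) (ωe w h1) (ωQ w h1 h2)).mem_Iso et
    have h4 := HasE.conj ⟨x, hx, ex⟩ ht hI
    have h5 : Φ.B (ω w) b = 0 := by rw [sym, ωb, h3]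
    rw [et, et, ef_apply_of_perp (Φ.perp_symm hbe) h5, sg, Φ.perp_symm (ωa w), zero_smul,
      sub_zero] at h4
    obtain ⟨t', ht', et'⟩ := h4.sub_left ha hb hab (by simp [ωa]) (by simp [ωb, h3]) ⟨x, hx, ex⟩
    have h6 := hS.comm_of_fix hd hH hM hR he h0 ht'
      (by rw [et', ef_apply_of_perp (by simp [Φ.perp_symm (ωe w h1)]) hbe]) (j y)
    rw [hS.θ_j, et', sg, add_sub_assoc, map_add, hS.θ_j, add_right_inj] at h6
    obtain ⟨u, hu⟩ := (hS.fix _).1 h6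
    have h7 : Φ.B (Φ.B (j e) a • ω w) (j y) ≠ 0 := by
      simpa [ω, hσ, hS.B_eq_zero.2 hy, Φ.ne_symm hae] using hS.B_eq_zero.not.2 hy'
    by_cases hu0 : u = 0
    · rw [hu0, map_zero, eq_comm, sub_eq_zero, ← eq_inv_smul_iff₀ h7, smul_smul, smul_smul] at hu
      exact ⟨_, hu⟩
    · refine (hcon u hu0 (hS.Q_eq_zero.1 ?_) (ef_apply_of_perp ?_ ?_)).elim
      · rw [hu, Φ.Q_sub, Φ.Q_smul_zero hb, smul_smul, Φ.Q_smul_zero (ωQ w h1 h2)]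
        simp [ωb, h3]
      · simp [hu, hab, ωa]
      · simp [hu, Φ.B_self hb, ωb, h3]
  have hB : ∀ x y, Φ.B (j x) (j y) = Φ₀.B x y := hS.hB
  have ε₀ : Φ₀.ε = 1 := by exact_mod_cast hS.hε.symm.trans hε
  -- a rational vector perpendicular to `b`
  obtain ⟨α, β, hαβ, h1⟩ : ∃ α β : F₀, (α ≠ 0 ∨ β ≠ 0) ∧ Φ.B b (j (α • e₂ + β • e₃)) = 0 := by
    by_cases h2 : Φ.B b (j e₂) = 0
    · exact ⟨1, 0, Or.inl one_ne_zero, by simpa using h2⟩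
    by_cases h3 : Φ.B b (j e₃) = 0
    · exact ⟨0, 1, Or.inr one_ne_zero, by simpa using h3⟩
    let S := M ⊓ Φ.Iso ⊓ fixing {v | Φ.B (j e) v = 0 ∧ Φ.B (j e₂) v = 0 ∧ Φ.B (j e₃) v = 0 ∧
      Φ.B a v = 0 ∧ Φ.B b v = 0}
    have key : ∀ w, Φ₀.B e w = 0 → Φ₀.Q w = 0 → Φ.B b (j w) ≠ 0 →
        (∀ v, Φ.B (j e₂) v = 0 → Φ.B (j e₃) v = 0 → Φ.B (j w) v = 0) →
        ∃ s ∈ S, ∃ δ γ : F, δ ≠ 0 ∧ γ ≠ 0 ∧ s (j e) = δ • b ∧ s (ω w) = γ • a := by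
      intro w h1 h2 h3 h4
      obtain ⟨t, ht, et⟩ := ωE w h1 h2
      have hI := (valid_zero (hS.Q_eq_zero.2 he) (ωe w h1) (ωQ w h1 h2)).mem_Iso et
      have h5 : Φ.B (ω w) b ≠ 0 := by rwa [sym, ωb]
      have h6 := Φ.B_self (ωQ w h1 h2)
      have m1 : ω w ∈ Submodule.span F {ω w, a} := Submodule.subset_span (by simp)
      have m2 : a ∈ Submodule.span F {ω w, a} := Submodule.subset_span (by simp)
      obtain ⟨s, ⟨hs, hs'⟩, δ, hδ, e1⟩ := exists_move_plane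
        (S := S ⊓ stab (Submodule.span F {ω w, a})) (x := t) (x' := x) (u := j e) (w := b)
        ⟨⟨⟨ht, hI⟩, fun v hv => by
            rw [et, ef_apply_of_perp hv.1 (by simp [ω, hv.1, h4 v hv.2.1 hv.2.2.1])]⟩,
          mem_stab_span_pair (by rwa [et, ef_apply_of_perp (ωe w h1) h6]) (by
            rw [et, sg, Φ.perp_symm (ωa w), zero_smul, sub_zero]
            exact add_mem m2 (Submodule.smul_mem _ _ m1))⟩
        ⟨⟨⟨hx, (valid_zero ha hab hb).mem_Iso ex⟩, fun v hv => by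
            rw [ex, ef_apply_of_perp hv.2.2.2.1 hv.2.2.2.2]⟩,
          mem_stab_span_pair (by
            rw [ex, ef_apply_of_perp' (ωa w)]
            exact sub_mem m1 (Submodule.smul_mem _ _ m2))
            (by rwa [ex, ef_apply_of_perp (Φ.B_self ha) (Φ.perp_symm hab)])⟩
        (neg_ne_zero.2 h5) hae
        (by rw [et, ef_apply_of_perp hee (Φ.perp_symm (ωe w h1))])
        (by rw [et, sg, Φ.perp_symm hbe, zero_smul, add_zero, sub_eq_add_neg, neg_smul])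
        (by rw [ex, ef_apply_of_perp hab (Φ.B_self hb)])
        (by rw [ex, sg, hbe, zero_smul, sub_zero]) fun α β h => by
          have h7 := congrArg (Φ.B a) h
          simp only [Φ.bsimp, hab, mul_zero, add_zero, mul_eq_zero, hae, or_false] at h7
          subst h7
          exact ⟨rfl, by simpa [hb0] using h⟩
      obtain ⟨p, γ, e2⟩ := Submodule.mem_span_pair.1 (stab_apply hs' m1)
      have h7 := Iso.B hs.1.2 (j e) (ω w)
      rw [e1, ← e2, ωe w h1] at h7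
      simp only [Φ.bsimp, hσ, ωb, Φ.perp_symm hab, mul_zero, add_zero, mul_eq_zero, hδ, h3,
        false_or, or_false] at h7
      rw [h7, zero_smul, zero_add] at e2
      refine ⟨s, hs, δ, γ, hδ, fun h => h5 ?_, e1, e2.symm⟩
      rw [h, zero_smul, eq_comm, s.map_eq_zero_iff] at e2
      simp [e2]
    obtain ⟨s₁, hs₁, δ₁, γ₁, hδ₁, hγ₁, d₁, c₁⟩ := key e₂ H.ee₁₂ H.q₂ h2 fun _ h _ => h
    obtain ⟨s₂, hs₂, δ₂, γ₂, -, -, d₂, c₂⟩ := key e₃ H.ee₁₃ H.q₃ h3 fun _ _ h => h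
    have hy : s₁⁻¹ * s₂ ∈ S := S.mul_mem (S.inv_mem hs₁) hs₂
    have d₃ : (s₁⁻¹ * s₂) (j e) = (δ₂ / δ₁) • j e := s₁.injective (by
      rw [mul_app, app_inv_app, d₂, map_smul, d₁, smul_smul, div_mul_cancel₀ _ hδ₁])
    have c₃ : (s₁⁻¹ * s₂) (ω e₃) = (γ₂ / γ₁) • ω e₂ := s₁.injective (by
      rw [mul_app, app_inv_app, c₂, map_smul, c₁, smul_smul, div_mul_cancel₀ _ hγ₁])
    have hN := hS.mem_Nfrob_of_rat hd hH hM hR he h0 hy.1.1 d₃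
    have h4 := hκ _ (hM hy.1.1) hN (j e₂)
    have h6 := hy.2 (ω e₂ - (Φ.B b (j e₂) / Φ.B b (j e₃)) • ω e₃)
      ⟨by simp [ω, hB, H.simp], by simp [ω, hB, H.simp], by simp [ω, hB, H.simp], by simp [ωa],
        by simp [ωb, h3]⟩
    rw [map_sub, map_smul, c₃, sub_eq_iff_eq_add, map_add, map_smul, d₃, ← eq_sub_iff_add_eq] at h6
    have h7 := congrArg (Φ.B (j f₃)) h4
    rw [hS.B_j_θ, hS.θ_j, h6] at h7
    simp only [ω, Φ.bsimp, hB, H.simp, ε₀, map_neg, OneMemClass.coe_one, ZeroMemClass.coe_zero,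
      mul_zero, mul_one, zero_sub, add_zero, sub_zero, neg_inj] at h7
    exact ⟨1, -⟨_, (hS.frob.fix _).1 h7⟩, Or.inl one_ne_zero, by simp [h3]⟩
  obtain ⟨κ, h2⟩ : ∃ κ : F, b = κ • ω (α • e₂ + β • e₃) := by
    have q : Φ₀.Q (α • e₂ + β • e₃) = 0 := by
      rw [Φ₀.Q_add_perp (by simp [H.simp]), Φ₀.Q_smul_zero H.q₂, Φ₀.Q_smul_zero H.q₃, add_zero]
    rcases hαβ with h | h
    · exact perp _ f₂ (by simp [H.simp]) q H.ef₁₂ (by simp [H.simp, h]) h1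
    · exact perp _ f₃ (by simp [H.simp]) q H.ef₁₃ (by simp [H.simp, h]) h1
  obtain ⟨κ₂, h3⟩ := perp e₂ f₂ H.ee₁₂ H.q₂ H.ef₁₂ (by simp [H.simp])
    (by rw [h2]; simp [ω, hB, H.simp])
  obtain ⟨κ₃, h4⟩ := perp e₃ f₃ H.ee₁₃ H.q₃ H.ef₁₃ (by simp [H.simp])
    (by rw [h2]; simp [ω, hB, H.simp])
  have h5 := congrArg (Φ.B (j f₂)) (h3.symm.trans h4)
  simp only [ω, Φ.bsimp, hB, H.simp, ε₀, OneMemClass.coe_one, ZeroMemClass.coe_zero, mul_zero,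
    mul_one, add_zero] at h5
  exact hb0 (by rw [h3, h5, zero_smul])

end Sub

variable {ι : Type} [Fintype ι] (Φ) (b : Basis ι F V) [Finite F] (hθ : IsFrob θ₀ F₀)
include hθ

theorem quad_sub_isMaximalIn_odd (hn : 7 ≤ Fintype.card ι) (hn' : Odd (Fintype.card ι)) (hσ : ∀ a, Φ.σ a = a) (hε : Φ.ε = 1)
    (hQ : ∀ x, Φ.Q (ratMap F₀ b x) ∈ F₀) (hπ : ∀ c, Φ.π c = c) :
    Geo.IsMaximalIn Φ.EG (Nfrob (frob θ₀ b) ⊓ Φ.EG) := by
  have := Module.Finite.of_basis b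
  have hB : ∀ x y, Φ.B (ratMap F₀ b x) (ratMap F₀ b y) ∈ F₀ := fun x y => by
    have := hQ (x + y)
    rw [map_add, Φ.add, hπ] at this
    simpa using F₀.sub_mem this (F₀.add_mem (hQ x) (hQ y))
  let B₀ := Φ.ratB b (σ₀ := RingHom.id F₀) (fun a => hσ a) hB
  let Q₀ : QuadraticForm F₀ (ι → F₀) :=
    { toFun x := ⟨_, hQ x⟩
      toFun_smul a x := Subtype.ext (by simp [Φ.smul, hσ])
      exists_companion' := ⟨B₀, fun x y => Subtype.ext (by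
        change Φ.Q _ = Φ.Q _ + Φ.Q _ + Φ.B _ _
        rw [map_add, Φ.add, hπ])⟩ }
  have hp : ∀ x y, QuadraticMap.polar Q₀ x y = B₀ x y := fun x y => Subtype.ext (by
    change Φ.Q _ - Φ.Q _ - Φ.Q _ = Φ.B _ _
    rw [map_add, Φ.add, hπ]
    ring)
  let Φ₀ := fmQuad Q₀ fun x hx => Φ.ratB_nondeg b _ _ x fun y => (hp x y).symm.trans (hx y)
  have hS : Sub Φ Φ₀ (frob θ₀ b) (ratMap F₀ b) :=
    ⟨hθ, frob_eq_iff_ratMap hθ.fix b, span_ratMap b, fun a => hσ a, hε,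
      fun x y => congrArg Subtype.val (hp x y).symm,
      fun c x => by rw [hπ]; exact (Subtype.ext_iff (a1 := Φ₀.π c) (a2 := Φ₀.Q x)).symm, fun c hc =>
        ⟨0, 0, 0, map_zero _, by simpa [hπ] using hc⟩⟩
  have hd : Φ₀.d + 4 ≤ finrank F₀ (ι → F₀) := by
    rw [Module.finrank_fintype_fun_eq_card]; exact hn
  exact hS.isMaximalIn_of_le hd fun M hH hM hR => hS.le_Nfrob_of_orth' hd hH hM hR
    (fun g hg ⟨κ, _, h⟩ x => by
      rw [h, eq_one_of_sq_of_odd (hS.kappa_sq (Φ.EG_le_Iso hg) hσ h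
        (by rw [finrank_eq_card_basis b]; omega)) hn'
        (kappa_pow b (Φ.EG_le_SLV hg) h), one_smul]) hσ hε

end Fm

variable {ι : Type} [Fintype ι] [Fintype F]

theorem subfield_isMaximalIn_omega_odd [DecidableEq ι] (hn : 7 ≤ Fintype.card ι)
    (hn' : Odd (Fintype.card ι)) {Q : (ι → F) → F}
    (hQ : Geo.IsNondegenerateQuadraticForm Q) (F₀ : Subfield F) {r : ℕ} (hr : r.Prime)
    (hcard : Fintype.card F = Nat.card F₀ ^ r) (P : GL ι F) {ζ : F} (hζ : ζ ≠ 0)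
    (hP : Geo.IsQuadFormRationalStructure (fun v => ζ * Q v) F₀ P) :
    Geo.IsMaximalIn (Geo.omegaGL Q) (Geo.subfieldSubgroup F₀ P ⊓ Geo.omegaGL Q) := by
  obtain ⟨θ₀, hθ, -⟩ := exists_isFrob F₀ hr hcard
  have : Nonempty ι := Fintype.card_pos_iff.1 (by omega)
  let Φ := (fmO hQ).scale ζ ζ hζ hζ rfl
  refine subfield_isMaximalIn_of hθ (Φ := Φ)
    (fun g => (mem_omegaGL_iff hQ (by omega) g).trans (by rw [show Φ.EG = _ from Fm.EG_scale _ _ _]))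
    (Φ.quad_sub_isMaximalIn_odd _ hθ hn hn' (fun _ => rfl) (mul_div_cancel_right₀ _ hζ) (fun x => ?_)
      fun c => mul_inv_cancel_left₀ hζ c)
  rw [ratMap_colBasis]
  exact hP _ fun i => (x i).2

end Cfsg.Agent.Class.Max
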