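import Mathlib
import Cfsg.Agent.Class.Max.LowC5

/-!
Class `C₅` in small dimensions: rigidity from the shape of the root subgroups.
-/

set_option autoImplicit false

namespace Cfsg.Agent.Class.Max

open Module

variable {F V : Type*} [Field F] [AddCommGroup V] [Module F V]
variable {θ₀ : F ≃+* F} {F₀ : Subfield F}

namespace Fm

variable {V₀ : Type*} [AddCommGroup V₀] [Module F₀ V₀]
variable {Φ : Fm F V} {Φ₀ : Fm F₀ V₀} {θ : V →ₛₗ[(θ₀ : F →+* F)] V} {j : V₀ →ₛₗ[F₀.subtype] V}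
variable {M : Subgroup (V ≃ₗ[F] V)}

variable (Φ Φ₀ j M) in
/-- The part of `M` in the root subgroups at rational points is rational. -/
def RatA : Prop :=
  (∀ e : V₀, e ≠ 0 → ∀ w, Φ.InA M (j e) w → ∃ z, ∃ t : F, w = j z + t • j e) ∧
    ∀ e, Φ₀.Q e = 0 → e ≠ 0 → ∀ c, Φ.π c = 0 → Φ.HasE M (j e) 0 c → c ∈ F₀

namespace Sub

variable [FiniteDimensional F V] (hS : Sub Φ Φ₀ θ j)
include hS

theorem rat_of_B {e : V₀} (h0 : e ≠ 0) {w : V}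
    (h1 : ∀ y, Φ₀.B e y = 0 → θ₀ (Φ.B (j y) w) = Φ.B (j y) w) : ∃ z, ∃ t : F, w = j z + t • j e := by
  obtain ⟨t, ht⟩ := Φ.exists_smul_of_perp (e := j e) (v := θ w - w) fun y hy => Φ.perp_symm (by
    refine hS.perp_induction h0 (P := fun y => Φ.B y (θ w - w) = 0) (fun a y hy => ?_)
      (fun x y hx hy => by simp only [Φ.B_add_left, hx, hy, add_zero]) hy
    rw [Φ.B_smul_left, map_sub, hS.B_j_θ, h1 y hy, sub_self, mul_zero])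
  obtain ⟨f, hf⟩ : ∃ f, Φ.B (j f) (j e) = 1 :=
    let ⟨y, hy⟩ := Φ₀.exists_B_ne h0
    ⟨_, by rw [hS.hB, B_normalize' hy]; rfl⟩
  have h2 := congrArg (Φ.B (j f)) ht
  rw [map_sub, hS.B_j_θ, Φ.B_smul_right, hf, mul_one] at h2
  obtain ⟨z, hz⟩ := (hS.fix (w - Φ.B (j f) w • j e)).1 (by
    rw [map_sub, θ_smul, hS.θ_j, eq_add_of_sub_eq ht, ← h2]; module)
  exact ⟨z, Φ.B (j f) w, by rw [hz, sub_add_cancel]⟩

omit [FiniteDimensional F V] in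
theorem isMaximalIn_of_le' [FiniteDimensional F₀ V₀] {e z : V₀} (hz : Φ₀.Pair e z)
    (h : ∀ M, Nfrob θ ⊓ Φ.EG ≤ M → M ≤ Φ.EG → Φ.EG ≤ M ∨ M ≤ Nfrob θ) :
    Geo.IsMaximalIn Φ.EG (Nfrob θ ⊓ Φ.EG) := by
  refine isMaximalIn_of inf_le_right ?_ fun M hH hM g hg hg' =>
    (h M hH hM).resolve_right fun hR => hg' ⟨hR hg, hM hg⟩
  have h0 := hz.ne
  obtain ⟨y, h1, h2⟩ := hz.ind
  obtain ⟨y', h1', h2'⟩ := hz.symm.ind
  obtain ⟨a, ha⟩ := hS.frob.ne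
  have hv := (hS.pair hz).valid a
  refine ⟨hv.eich, hv.eich_mem, fun h => ha ?_⟩
  have h3 := Nfrob.comm h.1 (v := j e) (by rw [hS.θ_j]; exact hS.j_ne h0) hv.ef_self
    (by rw [hS.θ_j]; exact hv.ef_self) (j y')
  have h4 := congrArg (Φ.B (j y)) h3
  rw [hS.B_j_θ, hS.θ_j, hv.eich_apply, ef] at h4
  simp only [Φ.bsimp, hS.hB, Φ₀.perp_symm h1, h1', map_add, map_mul, hS.θ₀_coe,
    ZeroMemClass.coe_zero, mul_zero, sub_zero, add_right_inj] at h4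
  have h5 : (Φ₀.B e y' : F) ≠ 0 := by exact_mod_cast h2'
  have h6 : (Φ₀.B y z : F) ≠ 0 := by exact_mod_cast Φ₀.ne_symm h2
  exact (hS.frob.fix a).1 (mul_right_cancel₀ h6 (mul_left_cancel₀ h5 h4))

variable [FiniteDimensional F₀ V₀] (hd : Φ₀.d + 2 ≤ finrank F₀ V₀) (hH : Nfrob θ ⊓ Φ.EG ≤ M)
  (hM : M ≤ Φ.EG) (hR : Φ.RatA Φ₀ j M)
include hd hH hM hR

omit hd hM [FiniteDimensional F V] [FiniteDimensional F₀ V₀] in
theorem eich_mem_Nfrob' {e : V₀} (h0 : e ≠ 0) {w : V} {c : F} (hv : Φ.Valid (j e) w c)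
    (h : hv.eich ∈ M) : hv.eich ∈ Nfrob θ := by
  have h' : Φ.HasE M (j e) w c := ⟨_, h, hv.eich_apply⟩
  obtain ⟨z, t, rfl⟩ := hR.1 _ h0 _ ⟨c, hv, h'⟩
  have he := hS.Q_eq_zero.1 hv.sing
  have hz : Φ.B (j e) (j z) = 0 := by simpa [Φ.B_self hv.sing] using hv.perp
  obtain ⟨c₀, hv₀⟩ := exists_valid he (hS.B_eq_zero.1 hz)
  have hv₁ : Φ.Valid (j e) (j z) (c + Φ.σ t - Φ.ε * t) := ⟨hv.sing, hz, by
    have := Φ.π_conj (Φ.σ t)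
    rw [Φ.invol] at this
    rw [map_sub, map_add, this, hv.norm, Φ.Q_add_perp (by simp [Φ.perp_symm hz]),
      Φ.Q_smul_zero hv.sing]
    ring⟩
  simp only [HasE, ef_add_smul] at h'
  have hv₀' := hS.valid_iff.2 hv₀
  have h1 := HasE.sub hv₁ hv₀' h' ((hS.hasE hv₀).mono hH)
  simp only [sub_self, Φ.bsimp, add_zero] at h1
  have h2 := F₀.add_mem (hR.2 _ he h0 _ (by
    rw [map_sub, hv₁.norm, hv₀'.norm, sub_self]) h1) c₀.2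
  rw [sub_add_cancel] at h2
  exact ((hS.hasE (c := ⟨_, h2⟩) (hS.valid_iff.1 hv₁)).mem fun x => by
    rw [hv.eich_apply, ef_add_smul]).1

omit [FiniteDimensional F V] in
theorem mem_Nfrob_of_smul' {e : V₀} (he : Φ₀.Q e = 0) (h0 : e ≠ 0) {h : V ≃ₗ[F] V} (hh : h ∈ M)
    {l : F} (hl : h (j e) = l • j e) : h ∈ Nfrob θ := by
  have hI := Φ.EG_le_Iso (hM hh)
  have he' := hS.Q_eq_zero.2 he
  have hl0 : l ≠ 0 := by
    rintro rfl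
    exact hS.j_ne h0 (by simpa using hl)
  obtain ⟨f, -, hf, hef⟩ := exists_partner (U := ⊤) trivial he
    (let ⟨y, hy⟩ := Φ₀.exists_B_ne h0; ⟨y, trivial, hy⟩)
  have hef' : Φ.B (j e) (j f) = 1 := by rw [hS.hB, hef]; rfl
  have hB : ∀ x, Φ.B (j e) (Φ.σ l • h x) = Φ.B (j e) x := fun x => by
    rw [← Iso.B hI (j e) x, hl, Φ.B_smul_left, Φ.B_smul_right]
  obtain ⟨f', hf'⟩ : ∃ f', Φ.σ l • h (j f) = f' := ⟨_, rfl⟩
  obtain ⟨c, hv, hc⟩ := exists_ef_eq (x := j f) (y := f') he' (by simp [hef']) (hf' ▸ hB _)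
    (by rw [← hf', Φ.Q_smul_zero (by rw [Iso.Q hI, hS.Q_eq_zero.2 hf]), hS.Q_eq_zero.2 hf])
  have hE := Φ.Iso.inv_mem (hv.mem_Iso hv.eich_apply)
  set k := hv.eich⁻¹ * h with hk
  have hkI : k ∈ Φ.Iso := Φ.Iso.mul_mem hE hI
  have hkf : Φ.σ l • k (j f) = j f := by
    rw [hk, mul_app, ← map_smul, hf']
    exact hv.eich.injective (by rw [app_inv_app, hv.eich_apply, hc])
  have hke : k (j e) = l • j e := by
    rw [hk, mul_app, hl, map_smul]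
    congr 1
    exact hv.neg.ef_self
  have h1 : ∀ y, Φ₀.B e y = 0 → Φ₀.B f y = 0 → ∃ z, j z = Φ.σ l • k (j y) := fun y h1 h2 => by
    obtain ⟨c', hv'⟩ := exists_valid he h1
    have h3 := InA.conj ⟨_, hS.valid_iff.2 hv', (hS.hasE hv').mono hH⟩ hh hI
    rw [hl] at h3
    obtain ⟨z, t, h4⟩ := hR.1 _ h0 _ (h3.of_smul_left hl0)
    obtain ⟨t', h5⟩ : ∃ t' : F, Φ.σ l • k (j y) = j z + t' • j e := by
      rw [hk, mul_app, ← map_smul]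
      change ∃ t' : F, Φ.ef _ _ _ _ = _
      rw [ef_apply_of_perp' (h3.of_smul_left hl0).perp, h4]
      exact ⟨_, by rw [add_sub_assoc, ← sub_smul]⟩
    have h6 : Φ.B (j f) (Φ.σ l • k (j y)) = 0 := by
      rw [← hkf, Φ.B_smul_left, Φ.B_smul_right, Iso.B hkI, hS.B_eq_zero.2 h2, mul_zero, mul_zero]
    refine ⟨z - (Φ₀.ε * Φ₀.B f z) • e, ?_⟩
    rw [h5, map_add, Φ.B_smul_right, B_eq_eps hef', hS.hB] at h6
    rw [h5, map_sub, j_smul, sub_eq_add_neg, ← neg_smul]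
    congr 2
    push_cast
    rw [← hS.hε]
    linear_combination -Φ.ε * h6 + t' * Φ.eps_sq
  have h2 : Φ.σ l * l ∈ F₀ := by
    obtain ⟨y, hy, y', hy', -, -, hyy⟩ := (Φ₀.nd_top.inf_hyp trivial trivial he hf hef).exists_hyp
      (by have := finrank_le_inf_ker₂ ⊤ (Φ₀.B e) (Φ₀.B f); rw [finrank_top] at this; omega)
    obtain ⟨z, hz⟩ := h1 y hy.1.2 hy.2
    obtain ⟨z', hz'⟩ := h1 y' hy'.1.2 hy'.2
    have := hS.hB z z'
    rw [hz, hz', Φ.B_smul_left, Φ.B_smul_right, Iso.B hkI, hS.hB, hyy, Φ.invol] at this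
    rw [mul_comm, show l * Φ.σ l = Φ₀.B z z' by simpa using this]
    exact (Φ₀.B z z').2
  have h3 : k ∈ Nfrob θ := hS.mem_Nfrob (Φ.σ_ne hl0) fun x => by
    obtain ⟨z, hz⟩ := h1 _ (sub_mem_ker_hyp he hf hef x).1 (sub_mem_ker_hyp he hf hef x).2
    refine ⟨z + Φ₀.B e x • f + (Φ₀.ε * Φ₀.B f x * ⟨_, h2⟩) • e, ?_⟩
    simp only [map_add, map_sub, j_smul, hz, map_smul, smul_sub, hke]
    rw [smul_comm (Φ.σ l) _ (k (j f)), hkf]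
    push_cast
    module
  have h4 : hv.eich ∈ M := by
    simpa [hk] using M.mul_mem hh (M.inv_mem (hH ⟨h3, Φ.EG.mul_mem (Φ.EG.inv_mem hv.eich_mem)
      (hM hh)⟩))
  simpa [hk] using (Nfrob θ).mul_mem (hS.eich_mem_Nfrob' hH hR h0 hv h4) h3

theorem mem_Nfrob_of_rat' {u u' : V₀} (hu : Φ₀.Q u = 0) (h0 : u ≠ 0) {g : V ≃ₗ[F] V} (hg : g ∈ M)
    {l : F} (hl : g (j u) = l • j u') : g ∈ Nfrob θ := by
  have h1 : l • j u' ≠ 0 := hl ▸ g.map_ne_zero_iff.2 (hS.j_ne h0)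
  have hl0 : l ≠ 0 := left_ne_zero_of_smul h1
  have h2 : Φ₀.Q u' = 0 := by
    have := Φ.Q_smul_zero ((Iso.Q (Φ.EG_le_Iso (hM hg)) (j u)).trans (hS.Q_eq_zero.2 hu)) l⁻¹
    rwa [hl, smul_smul, inv_mul_cancel₀ hl0, one_smul, hS.Q_eq_zero] at this
  obtain ⟨k₀, hk₀, e1⟩ := move_EG (Φ := Φ₀) (x := u') (by omega) (fun h => h1 (by simp [h])) h0
    (hu.trans h2.symm)
  obtain ⟨k, hk, e2⟩ := hS.lift hk₀
  have := hS.mem_Nfrob_of_smul' hd hH hM hR hu h0 (M.mul_mem (hH hk) hg) (l := l)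
    (by rw [mul_app, hl, map_smul, e2, e1])
  exact ((Nfrob θ).mul_mem_cancel_left hk.1).1 this

theorem comm_of_fix' {u : V₀} (hu : Φ₀.Q u = 0) (h0 : u ≠ 0) {g : V ≃ₗ[F] V} (hg : g ∈ M)
    (h : g (j u) = j u) (x : V) : θ (g x) = g (θ x) :=
  Nfrob.comm (hS.mem_Nfrob_of_rat' hd hH hM hR hu h0 hg (l := 1) (by rw [h, one_smul]))
    (by rw [hS.θ_j]; exact hS.j_ne h0) h (by rw [hS.θ_j, h]) x

theorem le_Nfrob_of_tv' [Finite F] (hκ : ∀ g ∈ Φ.EG, g ∈ Nfrob θ → ∀ x, θ (g x) = g (θ x))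
    {e z : V₀} (hz : Φ₀.Pair e z) {c₀ : F₀} (hc₀ : c₀ ≠ 0) (hπ : Φ₀.π c₀ = 0) :
    M ≤ Nfrob θ := fun g hg => by
  have hI := Φ.EG_le_Iso (hM hg)
  have h0 := hz.ne
  have he := hz.q₁
  have hc : Φ.ε * c₀ ≠ 0 := mul_ne_zero Φ.eps_ne (by exact_mod_cast hc₀)
  have tv : ∀ a x, Φ.ef a 0 c₀ x = x + (-(Φ.ε * c₀) * Φ.B a x) • a := fun a x => by
    simp only [ef, Φ.bsimp]; module
  have h1 : ∀ u, Φ₀.Q u = 0 → Φ.HasE M (j u) 0 c₀ := fun u hu => by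
    simpa using (hS.hasE (e := u) (w := 0) ⟨hu, map_zero _, by rw [hπ, Φ₀.Q_zero]⟩).mono hH
  obtain ⟨x, hx, e1⟩ := (h1 e he).conj hg hI
  have ha0 : g (j e) ≠ 0 := g.map_ne_zero_iff.2 (hS.j_ne h0)
  have ha : Φ.B (g (j e)) (g (j e)) = 0 := by rw [Iso.B hI, hS.B_eq_zero, Φ₀.B_self he]
  suffices ∃ u, u ≠ 0 ∧ Φ₀.Q u = 0 ∧ Φ.B (g (j e)) (j u) = 0 by
    obtain ⟨u, hu0, hu, h2⟩ := this
    obtain ⟨y, hy⟩ := hS.exists_B_j_ne ha0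
    have h3 := hS.comm_of_fix' hd hH hM hR hu hu0 hx (by simp [e1, tv, h2]) (j y)
    rw [hS.θ_j, e1, map_zero, tv, map_add, hS.θ_j, add_right_inj] at h3
    obtain ⟨w, hw⟩ := (hS.fix _).1 h3
    exact hS.mem_Nfrob_of_rat' hd hH hM hR he h0 hg
      ((eq_inv_smul_iff₀ (mul_ne_zero (neg_ne_zero.2 hc) (Φ.ne_symm hy))).2 hw.symm)
  rw [map_zero] at e1
  generalize g (j e) = a at *
  by_contra hcon
  push Not at hcon
  let S := M ⊓ fixing {v | Φ.B (j e) v = 0 ∧ Φ.B (j z) v = 0 ∧ Φ.B a v = 0}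
  have key : ∀ u, u ≠ 0 → Φ₀.Q u = 0 → (∀ v, Φ.B (j e) v = 0 → Φ.B (j z) v = 0 → Φ.B (j u) v = 0) →
      ∃ s ∈ S, ∃ δ : F, δ ≠ 0 ∧ s (j u) = δ • a := fun u hu0 hu h => by
    obtain ⟨t, ht, e2⟩ := h1 u hu
    have h2 := hcon u hu0 hu
    have h3 : Φ.B (j u) (j u) = 0 := by rw [hS.B_eq_zero, Φ₀.B_self hu]
    refine exists_move_plane (S := S) (x := t) (x' := x)
      ⟨ht, fun v hv => by simp [e2, tv, h v hv.1 hv.2.1]⟩ ⟨hx, fun v hv => by simp [e1, tv, hv.2.2]⟩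
      (mul_ne_zero (neg_ne_zero.2 hc) (Φ.ne_symm h2)) (mul_ne_zero (neg_ne_zero.2 hc) h2)
      (by simp [e2, tv, h3]) (by rw [e2, tv]) (by simp [e1, tv, ha]) (by rw [e1, tv])
      fun α β h4 => ?_
    have h5 := congrArg (Φ.B a) h4
    have h6 := congrArg (Φ.B (j u)) h4
    simp only [Φ.bsimp, ha, h3, mul_zero, add_zero, zero_add, mul_eq_zero, h2, Φ.ne_symm h2,
      or_false] at h5 h6
    exact ⟨h5, h6⟩
  obtain ⟨s₁, hs₁, δ₁, hδ₁, e₁⟩ := key e h0 he fun _ h _ => h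
  obtain ⟨s₂, hs₂, δ₂, -, e₂⟩ := key z hz.symm.ne hz.q₂ fun _ _ h => h
  have hy : s₁⁻¹ * s₂ ∈ S := S.mul_mem (S.inv_mem hs₁) hs₂
  have e₃ : (s₁⁻¹ * s₂) (j z) = (δ₂ / δ₁) • j e := s₁.injective (by
    rw [mul_app, app_inv_app, e₂, map_smul, e₁, smul_smul, div_mul_cancel₀ _ hδ₁])
  have hN := hS.mem_Nfrob_of_rat' hd hH hM hR hz.q₂ hz.symm.ne hy.1 e₃
  have h4 := hκ _ (hM hy.1) hN (j e)
  have hχ := hcon z hz.symm.ne hz.q₂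
  have hp := hS.pair hz
  have h6 := hy.2 (j e - (Φ.B a (j e) / Φ.B a (j z)) • j z)
    ⟨by simp [hp.perp, Φ.B_self hp.q₁], by simp [hp.symm.perp, Φ.B_self hp.q₂], by simp [hχ]⟩
  rw [map_sub, map_smul, e₃, sub_eq_iff_eq_add] at h6
  obtain ⟨y, hy1, hy2⟩ := hz.ind
  obtain ⟨y', hy1', hy2'⟩ := hz.symm.ind
  have h7 := congrArg (Φ.B (j y)) h4
  rw [hS.B_j_θ, hS.θ_j, h6] at h7
  simp only [Φ.bsimp, hS.hB, Φ₀.perp_symm hy1, map_neg, map_mul, hS.θ₀_coe,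
    ZeroMemClass.coe_zero, mul_zero, zero_sub, add_zero, neg_inj] at h7
  have h8 := (hS.frob.fix _).1 (mul_right_cancel₀ (by exact_mod_cast Φ₀.ne_symm hy2) h7)
  refine hcon (e - (⟨_, h8⟩ : F₀) • z) (fun h => hy2' ?_) ?_ (by simp [hχ])
  · simpa [hy1'] using congrArg (Φ₀.B · y') h
  · rw [Φ₀.Q_sub, he, Φ₀.Q_smul_zero hz.q₂]
    simp [hz.perp]

end Sub

end Fm

end Cfsg.Agent.Class.Max
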