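import Mathlib
import Cfsg.Agent.Class.Max.LowC5R

/-!
Class `C₅` in small dimensions: `O₆(q)` in `SU₆(q)` and `Sp₄(q₀)` in `Sp₄(q)`, `q` even.
-/

set_option autoImplicit false

namespace Cfsg.Agent.Class.Max

open Module

variable {F V : Type*} [Field F] [AddCommGroup V] [Module F V]
variable {θ₀ : F ≃+* F} {F₀ : Subfield F}

namespace Fm

theorem exists_pair' [FiniteDimensional F V] {Φ : Fm F V} (hd : Φ.d + 2 ≤ finrank F V) {e : V}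
    (he : Φ.Q e = 0) (h0 : e ≠ 0) : ∃ z, Φ.Pair e z := by
  obtain ⟨f, -, hf, hef⟩ := exists_partner (U := ⊤) trivial he
    (let ⟨y, hy⟩ := Φ.exists_B_ne h0; ⟨y, trivial, hy⟩)
  obtain ⟨y, hy, y', hy', q, -, hyy⟩ := (Φ.nd_top.inf_hyp trivial trivial he hf hef).exists_hyp
    (by have := finrank_le_inf_ker₂ ⊤ (Φ.B e) (Φ.B f); rw [finrank_top] at this; omega)
  exact ⟨y, he, q, hy.1.2, h0, y', hy'.1.2, by simp [hyy]⟩

theorem Pair.move_alt [FiniteDimensional F V] {Φ : Fm F V} (hd : Φ.d + 2 ≤ finrank F V)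
    (hQ : ∀ x, Φ.Q x = 0) {e z e' z' : V} (h : Φ.Pair e z) (h' : Φ.Pair e' z') :
    ∃ g ∈ Φ.EG, g e = e' ∧ g z = z' := by
  obtain ⟨g, hg, e1⟩ := move_EG hd h.ne h'.ne (h'.q₁.trans h.q₁.symm)
  have hp := h.map (Φ.EG_le_Iso hg)
  rw [e1] at hp
  have key : ∀ x y, Φ.B e' x = 0 → Φ.B e' y = 0 → Φ.B y x ≠ 0 →
      ∃ k ∈ Φ.EG ⊓ fixing {e'}, k x = y := fun x y hx hy hxy => by
    have h1 := Φ.B_self (hQ (x + y))
    simp only [Φ.bsimp, Φ.B_self (hQ _)] at h1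
    refine ((hasOn_EG (LinearMap.ker (Φ.B e'))).inf (hasOn_fixing (S := {e'}) fun y hy z hz => by
      rw [hz]; exact Φ.perp_symm hy)).exists_move (f := y - x) (by simp [hx, hy]) (by simp [hx, hy])
      (hQ _) (by simpa [Φ.B_self (hQ _)] using hxy) ?_ (by rw [hQ, hQ])
    simp only [Φ.bsimp, Φ.B_self (hQ _)]
    linear_combination -h1
  obtain ⟨w, hw, h1, h2⟩ := exists_ne_zero_ne_zero (LinearMap.ker (Φ.B e')) (φ := Φ.B (g z))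
    (ψ := Φ.B z') (map_add _) (map_add _) hp.ind h'.ind
  obtain ⟨k, hk, e2⟩ := key _ w hp.perp hw (Φ.ne_symm h1)
  obtain ⟨k', hk', e3⟩ := key w z' hw h'.perp h2
  exact ⟨k' * (k * g), mul_mem hk'.1 (mul_mem hk.1 hg), by
    rw [mul_app, mul_app, e1, hk.2 _ rfl, hk'.2 _ rfl], by rw [mul_app, mul_app, e2, e3]⟩

theorem pair_or_smul [FiniteDimensional F V] {Φ : Fm F V} {e y : V} (he : Φ.Q e = 0) (h0 : e ≠ 0)
    (hy : Φ.Q y = 0) (h : Φ.B e y = 0) : Φ.Pair e y ∨ ∃ t : F, y = t • e := by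
  by_cases h1 : ∃ x, Φ.B e x = 0 ∧ Φ.B y x ≠ 0
  · exact Or.inl ⟨he, hy, h, h0, h1⟩
  · push Not at h1
    exact Or.inr (Φ.exists_smul_of_perp h1)

variable {V₀ : Type*} [AddCommGroup V₀] [Module F₀ V₀]
variable {Φ : Fm F V} {Φ₀ : Fm F₀ V₀} {θ : V →ₛₗ[(θ₀ : F →+* F)] V} {j : V₀ →ₛₗ[F₀.subtype] V}
variable {M : Subgroup (V ≃ₗ[F] V)}

namespace Sub

variable [FiniteDimensional F₀ V₀] (hS : Sub Φ Φ₀ θ j) (hd : Φ₀.d + 2 ≤ finrank F₀ V₀)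
  (hH : Nfrob θ ⊓ Φ.EG ≤ M)
include hS hH

omit [FiniteDimensional F₀ V₀] in
theorem inA_j {e y : V₀} (he : Φ₀.Q e = 0) (h : Φ₀.B e y = 0) : Φ.InA M (j e) (j y) :=
  let ⟨_, hv⟩ := exists_valid he h
  ⟨_, hS.valid_iff.2 hv, (hS.hasE hv).mono hH⟩

include hd

theorem center_move {e : V₀} (he : Φ₀.Q e = 0) (h0 : e ≠ 0) {c : F} (h : Φ.HasE M (j e) 0 c)
    {x : V₀} (hx : x ≠ 0) (hx' : Φ₀.Q x = 0) : Φ.HasE M (j x) 0 c := by
  obtain ⟨g₀, hg₀, e1⟩ := move_EG hd h0 hx (hx'.trans he.symm)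
  obtain ⟨g, hg, e2⟩ := hS.lift hg₀
  have := h.conj (hH hg) (Φ.EG_le_Iso hg.2)
  rwa [e2, e1, map_zero] at this

theorem siegel_of_center {e : V₀} (he : Φ₀.Q e = 0) (h0 : e ≠ 0) {c : F} (hc : Φ.π c = 0)
    (h : Φ.HasE M (j e) 0 c) {x s : V₀} (hp : Φ₀.Pair x s) :
    Φ.HasE M (j x) ((-(Φ.ε * c)) • j s) 0 := by
  obtain ⟨y, h1, h2⟩ := hp.ind
  have h3 := hS.center_move hd hH he h0 h (x := x + s)
    (fun h => h2 (by simpa [h1] using congrArg (Φ₀.B · y) h))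
    (by rw [Φ₀.Q_add_perp hp.perp, hp.q₁, hp.q₂, add_zero])
  rw [map_add] at h3
  exact (hasE_add_center (hS.pair hp).q₁ (hS.pair hp).q₂ (hS.pair hp).perp hc h3
    (hS.center_move hd hH he h0 h hp.ne hp.q₁)).1 (hS.center_move hd hH he h0 h hp.symm.ne hp.q₂)

theorem EG_le_of_full' (h : ∀ e, Φ₀.Q e = 0 → e ≠ 0 → Φ.Full M (j e)) : Φ.EG ≤ M := by
  obtain ⟨e, f, he, hf, hef⟩ := exists_hyp (Φ := Φ₀) (by omega)
  have hef' : Φ₀.B e f ≠ 0 := by simp [hef]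
  exact EG_le_of_full (h e he fun h => hef' (by simp [h])) (h f hf fun h => hef' (by simp [h]))
    (hS.Q_eq_zero.2 he) (hS.Q_eq_zero.2 hf) (hS.B_eq_zero.not.2 hef')

section Herm

variable {δ : F} (hδ0 : δ ≠ 0) (hδ : θ₀ δ = -δ) (h2 : (2 : F) ≠ 0) (hθ : ∀ v, θ (θ v) = v)
include hδ0 hδ h2 hθ

omit hd hH [FiniteDimensional F₀ V₀] in
theorem decomp (v : V) : ∃ a b, v = j a + δ • j b ∧
    ∀ u, Φ.B (j u) v = 0 ↔ Φ₀.B u a = 0 ∧ Φ₀.B u b = 0 := by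
  obtain ⟨a, ha⟩ := (hS.fix ((2 : F)⁻¹ • (v + θ v))).1 (by
    rw [θ_smul, map_add, hθ, map_inv₀, map_ofNat, add_comm])
  obtain ⟨b, hb⟩ := (hS.fix ((2 * δ)⁻¹ • (v - θ v))).1 (by
    rw [θ_smul, map_sub, hθ, map_inv₀, map_mul, map_ofNat, hδ, mul_neg, inv_neg, neg_smul, ← smul_neg,
      neg_sub])
  have h1 : v = j a + δ • j b := by
    rw [ha, hb]
    match_scalars <;> field_simp <;> ring
  refine ⟨a, b, h1, fun u => ⟨fun h => ?_, fun h => by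
    simp [h1, hS.B_eq_zero.2 h.1, hS.B_eq_zero.2 h.2]⟩⟩
  rw [← hS.B_eq_zero, ← hS.B_eq_zero, ha, hb]
  simp [hS.B_j_θ, h]

theorem EG_le_or_ratA_herm (hσ : ∀ a, Φ.σ a = θ₀ a) (hε : Φ.ε = 1) (hπ : ∀ c, Φ.π c = c + Φ.σ c) :
    Φ.EG ≤ M ∨ Φ.RatA Φ₀ j M := by
  have hΛ : ∀ c, Φ.π c = 0 → ∃ t : F₀, c = δ * t := fun c hc => by
    rw [hπ, hσ] at hc
    refine ⟨⟨c / δ, (hS.frob.fix _).1 ?_⟩, by simp; field_simp⟩
    rw [map_div₀, hδ, eq_neg_of_add_eq_zero_right hc, neg_div_neg_eq]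
  have hδπ : Φ.π (-δ) = 0 := by rw [hπ, hσ, map_neg, hδ]; ring
  by_cases hb : ∃ e u y, Φ₀.Q e = 0 ∧ e ≠ 0 ∧ Φ₀.B e y = 0 ∧ Φ₀.B y u ≠ 0 ∧ Φ.InA M (j e) (δ • j u)
  · obtain ⟨e, u, y, he, h0, h1, h3, h4⟩ := hb
    have h5 : ∀ c, Φ.π c = 0 → Φ.HasE M (j e) 0 c := fun c hc => by
      obtain ⟨t, rfl⟩ := hΛ c hc
      have h2' : (2 : F₀) ≠ 0 := fun h => h2 (congrArg Subtype.val h)
      have := (hS.inA_j hH he (y := (t / (2 * Φ₀.B y u)) • y) (by simp [h1])).comm h4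
      convert this using 1
      have h3' : (Φ₀.B y u : F) ≠ 0 := by exact_mod_cast h3
      rw [Φ.symm _ (δ • j u), j_smul]
      simp only [Φ.bsimp, hσ, hε, hS.hB, hδ, hS.θ₀_coe, map_neg, map_mul]
      push_cast
      rw [show ((2 : F₀) : F) = 2 from rfl]
      field_simp
      ring
    refine Or.inl (hS.EG_le_of_full' hd hH fun x hx hx0 w c hv => InA.hasE ?_
      (fun c hc => hS.center_move hd hH he h0 (h5 c hc) hx0 hx) hv)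
    obtain ⟨a, b, rfl, h6⟩ := hS.decomp hδ0 hδ h2 hθ w
    obtain ⟨z, hz⟩ := exists_pair' hd hx hx0
    let A : AddSubgroup V₀ :=
      { carrier := {y | Φ.InA M (j x) (δ • j y)}
        zero_mem' := by simpa using inA_zero hv.sing
        add_mem' := fun {x y} hx hy => by simpa [smul_add] using InA.add hx hy
        neg_mem' := fun {x} hx => by simpa using InA.neg hx }
    refine (hS.inA_j hH hx ((h6 x).1 hv.perp).1).add (le_of_sing (Y := LinearMap.ker (Φ₀.B x))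
      hz.perp hz.q₂ hz.ind A (fun s hs hs0 hs1 => ?_) b ((h6 x).1 hv.perp).2)
    have hp : Φ₀.Pair x s := ⟨hx, hs0, hs, hx0, hs1⟩
    exact ⟨0, (hS.pair hp).valid δ, by
      simpa [hε] using hS.siegel_of_center hd hH he h0 hδπ (h5 _ hδπ) hp⟩
  push Not at hb
  refine Or.inr ⟨fun e h0 w hw => ?_, fun e he h0 c hc h => ?_⟩
  · have he := let ⟨_, hv, _⟩ := hw; hS.Q_eq_zero.1 hv.sing
    obtain ⟨a, b, rfl, h6⟩ := hS.decomp hδ0 hδ h2 hθ w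
    have h7 := hw.sub (hS.inA_j hH he ((h6 e).1 hw.perp).1)
    rw [add_sub_cancel_left] at h7
    obtain ⟨t, rfl⟩ := Φ₀.exists_smul_of_perp (e := e) (v := b) fun y hy => Φ₀.perp_symm (by
      by_contra h8
      exact hb e b y he h0 hy h8 h7)
    exact ⟨a, δ * t, by rw [j_smul, smul_smul]⟩
  · obtain ⟨t, rfl⟩ := hΛ c hc
    obtain ⟨s, hp⟩ := exists_pair' hd he h0
    obtain ⟨y, h1, h3⟩ := hp.ind
    by_cases ht : t = 0
    · simp [ht]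
    refine (hb e ((-t) • s) y he h0 h1 (by simpa [ht] using Φ₀.ne_symm h3) ⟨0, ?_, ?_⟩).elim
    · rw [j_smul, smul_smul]; exact (hS.pair hp).valid _
    · simpa [hε, j_smul, smul_smul] using hS.siegel_of_center hd hH he h0 hc h hp

omit hd in
theorem le_Nfrob_of_herm [FiniteDimensional F V] (hd : Φ₀.d + 2 ≤ finrank F₀ V₀)
    (h6 : 6 ≤ finrank F₀ V₀) (hM : M ≤ Φ.EG) (hR : Φ.RatA Φ₀ j M) : M ≤ Nfrob θ := fun g hg => by
  have hI := Φ.EG_le_Iso (hM hg)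
  obtain ⟨e, f, he, hf, hef⟩ := exists_hyp (Φ := Φ₀) (by omega)
  have h0 : e ≠ 0 := fun h => by simp [h] at hef
  obtain ⟨a, b, -, h1⟩ := hS.decomp hδ0 hδ h2 hθ (g (j e))
  obtain ⟨u, -, hu0, hu, h3⟩ := Φ₀.exists_sing_ker [Φ₀.B a, Φ₀.B b] ⊤ (by simpa using hd)
  simp only [List.mem_cons, List.not_mem_nil, or_false, forall_eq_or_imp, forall_eq] at h3
  have h4 : Φ.B (g (j e)) (j u) = 0 :=
    Φ.perp_symm ((h1 u).2 ⟨Φ₀.perp_symm h3.1, Φ₀.perp_symm h3.2⟩)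
  obtain ⟨a', b', -, h5⟩ := hS.decomp hδ0 hδ h2 hθ (g⁻¹ (j u))
  have key : ∀ w, w ≠ 0 → Φ₀.B e w = 0 → Φ₀.B f w = 0 → Φ₀.B a' w = 0 → Φ₀.B b' w = 0 →
      ∃ α β : F, θ (g (j e)) = α • g (j e) + β • g (j w) := fun w hw k1 k2 k3 k4 => by
    obtain ⟨c, hv⟩ := exists_valid he k1
    obtain ⟨x, hx, e1⟩ := ((hS.hasE hv).mono hH).conj hg hI
    obtain ⟨y, hy⟩ := Φ₀.exists_B_ne hw
    have h7 := hS.comm_of_fix' hd hH hM hR hu hu0 hx (by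
      rw [e1, ef_apply_of_perp h4 (by
        rw [← Iso.B_inv hI, (h5 w).2 ⟨Φ₀.perp_symm k3, Φ₀.perp_symm k4⟩])])
      (g (j (y - Φ₀.B e y • f)))
    rw [e1, e1, ef_apply_of_perp' (by rw [Iso.B hI, hS.B_eq_zero]; simp [hef]), Iso.B hI, map_sub,
      θ_smul, ef, add_sub_assoc, sub_eq_add_neg, add_right_inj, neg_eq_iff_eq_neg] at h7
    have h8 : θ₀ (Φ.ε * Φ.B (j w) (j (y - Φ₀.B e y • f))) ≠ 0 :=
      (map_ne_zero θ₀).2 (mul_ne_zero Φ.eps_ne (hS.B_eq_zero.not.2 (by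
        simpa [Φ₀.perp_symm k2] using hy)))
    rw [← eq_inv_smul_iff₀ h8, neg_sub, smul_sub, smul_smul, smul_smul, sub_eq_add_neg,
      ← neg_smul] at h7
    exact ⟨_, _, h7⟩
  obtain ⟨w, -, hw0, hw⟩ := exists_ne_zero_ker [Φ₀.B e, Φ₀.B f, Φ₀.B a', Φ₀.B b'] ⊤ (by simp; omega)
  obtain ⟨y, hy⟩ := Φ₀.exists_B_ne hw0
  obtain ⟨w', -, hw0', hw'⟩ := exists_ne_zero_ker
    [Φ₀.B e, Φ₀.B f, Φ₀.B a', Φ₀.B b', Φ₀.B (y - Φ₀.B e y • f)] ⊤ (by simp; omega)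
  simp only [List.mem_cons, List.not_mem_nil, or_false, forall_eq_or_imp, forall_eq] at hw hw'
  obtain ⟨α, β, h7⟩ := key w hw0 hw.1 hw.2.1 hw.2.2.1 hw.2.2.2
  obtain ⟨α', β', h8⟩ := key w' hw0' hw'.1 hw'.2.1 hw'.2.2.1 hw'.2.2.2.1
  have h9 := congrArg (Φ.B (g (j (y - Φ₀.B e y • f)))) (h7.symm.trans h8)
  have k1 : Φ₀.B (y - Φ₀.B e y • f) e = 0 := Φ₀.perp_symm (by simp [hef])
  have k2 : Φ₀.B (y - Φ₀.B e y • f) w ≠ 0 := Φ₀.ne_symm (by simpa [Φ₀.perp_symm hw.2.1] using hy)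
  simp only [Φ.B_smul_right, map_add, Iso.B hI, hS.B_eq_zero.2 k1, hS.B_eq_zero.2 hw'.2.2.2.2,
    mul_zero, zero_add, mul_eq_zero, hS.B_eq_zero, k2, or_false] at h9
  rw [h9, zero_smul, add_zero] at h7
  obtain ⟨x, c, h⟩ := hS.exists_rat (g.map_ne_zero_iff.2 (hS.j_ne h0)) h7
  exact hS.mem_Nfrob_of_rat' hd hH hM hR he h0 hg h

end Herm

theorem EG_le_or_ratA_alt [Finite F] [FiniteDimensional F V] (h2 : (2 : F) = 0) (hσ : ∀ a, Φ.σ a = a)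
    (hπ : ∀ c, Φ.π c = 0) (hπ₀ : ∀ c, Φ₀.π c = 0) : Φ.EG ≤ M ∨ Φ.RatA Φ₀ j M := by
  have hε : Φ.ε = 1 := by
    have : (Φ.ε - 1) ^ 2 = 0 := by linear_combination Φ.eps_sq + (1 - Φ.ε) * h2
    exact sub_eq_zero.1 (pow_eq_zero_iff two_ne_zero |>.1 this)
  have hQ : ∀ x, Φ.Q x = 0 := fun x => let ⟨a, ha⟩ := Φ.range x; ha ▸ hπ a
  have hQ₀ : ∀ x, Φ₀.Q x = 0 := fun x => let ⟨a, ha⟩ := Φ₀.range x; ha ▸ hπ₀ a
  have val : ∀ {e w} c, Φ.B e w = 0 → Φ.Valid e w c := fun c h => ⟨hQ _, h, by rw [hπ, hQ]⟩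
  have neg : ∀ a : F, -a = a := fun a => by linear_combination -a * h2
  have k1 : ∀ e s w, Φ₀.B e s = 0 → Φ.InA M (j e) w →
      Φ.HasE M (j e) (Φ.B (j s) w • j s) (Φ.B (j s) w * Φ.B (j s) w) := fun e s w h ⟨c, hv, hw⟩ => by
    obtain ⟨g, hg, e1⟩ := hS.hasE (e := s) (w := 0) (c := 1) ⟨hQ₀ _, map_zero _, by rw [hπ₀, hQ₀]⟩
    have := (hw.comm_fix hv (hH hg) (Φ.EG_le_Iso hg.2) (by
      rw [e1, ef_apply_of_perp (Φ.perp_symm (hS.B_eq_zero.2 h)) (by simp)])).2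
    simpa [e1, ef, hε, hσ, ← neg_smul, neg] using this
  let R : AddSubgroup F :=
    { carrier := {a | ∀ e z, Φ₀.Pair e z → Φ.InA M (j e) (a • j z)}
      zero_mem' := fun e z h => by simpa using inA_zero (hQ _)
      add_mem' := fun {a b} ha hb e z h => by simpa [add_smul] using (ha e z h).add (hb e z h)
      neg_mem' := fun {a} ha e z h => by simpa using (ha e z h).neg }
  have h0 : ∀ c ∈ F₀, c ∈ R := fun c hc e z h => by
    simpa [j_smul] using hS.inA_j hH h.q₁ (y := (⟨c, hc⟩ : F₀) • z) (by simp [h.perp])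
  have tr : ∀ e z a, Φ₀.Pair e z → Φ.InA M (j e) (a • j z) → a ∈ R := fun e z a hp ha e' z' hp' => by
    obtain ⟨g₀, hg₀, e1, e2⟩ := hp.move_alt hd hQ₀ hp'
    obtain ⟨g, hg, e3⟩ := hS.lift hg₀
    have := ha.conj (hH hg) (Φ.EG_le_Iso hg.2)
    rwa [map_smul, e3, e3, e1, e2] at this
  have ex : ∀ e x, Φ₀.Pair e x → ∃ y, Φ₀.Pair e y ∧ Φ.B (j x) (j y) = 1 := fun e x h => by
    obtain ⟨y, h1, h3⟩ := h.ind
    refine ⟨(Φ₀.B x y)⁻¹ • y, ⟨hQ₀ _, hQ₀ _, by simp [h1], h.ne, x, h.perp, Φ₀.ne_symm (by simp [h3])⟩, ?_⟩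
    rw [hS.hB]; simp [h3]
  have k2 : ∀ β ∈ R, ∀ e x, Φ₀.Pair e x → Φ.HasE M (j e) (β • j x) (β * β) := fun β hβ e x h => by
    obtain ⟨y, hy, h1⟩ := ex e x h
    simpa [h1] using k1 e x _ h.perp (hβ e y hy)
  have k3 : ∀ β ∈ R, ∀ γ ∈ R, ∀ e x, Φ₀.Pair e x →
      Φ.HasE M (j e) ((β * (γ * γ)) • j x) (β * β * (γ * γ)) := fun β hβ γ hγ e x h => by
    obtain ⟨y, hy, h1⟩ := ex e x h
    have hp := hS.pair h
    obtain ⟨g, hg, e1⟩ := k2 γ hγ x e h.symm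
    have := ((k2 β hβ e y hy).comm_fix ((hS.pair hy).valid β |>.perp |> val _) hg
      ((val _ (by simp [hp.symm.perp])).mem_Iso e1) (by
        rw [e1, ef_apply_of_perp hp.symm.perp (by simp [Φ.B_self (hQ _)])])).2
    have e2 : g (β • j y) = β • j y + ((β * (γ * γ)) • j x + (β * γ) • j e) := by
      rw [e1, ef]
      simp only [Φ.bsimp, h1, (hS.pair hy).perp, hε]
      rw [sub_eq_add_neg, ← neg_smul, neg]
      module
    rw [e2, add_sub_cancel_left, sub_add_cancel_left] at this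
    simp only [HasE, ef_add_smul, Φ.bsimp, h1, (hS.pair hy).perp, hε, hσ, neg] at this
    obtain ⟨g, hg, e3⟩ := this
    exact ⟨g, hg, fun z => (e3 z).trans (by congr 1; ring)⟩
  have sq : ∀ γ ∈ R, ∃ γ' ∈ R, γ' * γ' = γ := fun γ hγ => by
    have h3 : ∀ γ ∈ R, γ * γ ∈ R := fun γ hγ e x h => ⟨_, val _ (by simp [(hS.pair h).perp]), by
      simpa using k3 1 (h0 1 F₀.one_mem) γ hγ e x h⟩
    obtain ⟨a, ha⟩ := Finite.surjective_of_injective (f := fun a : R => (⟨_, h3 a a.2⟩ : R))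
      (fun x y h => by
        have h' : (x : F) * x = y * y := congrArg Subtype.val h
        have : ((x : F) - y) ^ 2 = 0 := by linear_combination h' + (y * y - x * y) * h2
        exact Subtype.ext (sub_eq_zero.1 (pow_eq_zero_iff two_ne_zero |>.1 this))) ⟨γ, hγ⟩
    exact ⟨a, a.2, congrArg Subtype.val ha⟩
  let R' : Subring F :=
    { R with
      mul_mem' := fun {a b} ha hb e x h => by
        obtain ⟨c, hc, rfl⟩ := sq b hb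
        exact ⟨_, val _ (by simp [(hS.pair h).perp]), k3 a ha c hc e x h⟩
      one_mem' := h0 1 F₀.one_mem }
  rcases hS.frob.max R' h0 with h | h
  · refine Or.inr ⟨fun e he w hw => hS.rat_of_B he fun y hy => ?_, fun e he h1 c hc h3 => ?_⟩
    · rcases pair_or_smul (hQ₀ e) he (hQ₀ y) hy with hp | ⟨t, rfl⟩
      · exact (hS.frob.fix _).2 (h _ (tr e y _ hp ⟨_, val _ (by simp [(hS.pair hp).perp]),
          k1 e y w hy hw⟩))
      · simp [j_smul, hw.perp]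
    · obtain ⟨s, hp⟩ := exists_pair' hd he h1
      have := h _ (tr e s _ hp ⟨0, (hS.pair hp).valid _, hS.siegel_of_center hd hH he h1 hc h3 hp⟩)
      rwa [neg, hε, one_mul] at this
  refine Or.inl (hS.EG_le_of_full' hd hH fun e he h1 w c hv => InA.hasE ?_ (fun c _ => ?_) hv)
  · refine hS.perp_induction h1 (fun a y hy => ?_) (fun _ _ => InA.add) hv.perp
    rcases pair_or_smul he h1 (hQ₀ y) hy with hp | ⟨t, rfl⟩
    · exact h a e y hp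
    · rw [j_smul, smul_smul]; exact inA_smul_self (hQ _) _
  obtain ⟨x, hp⟩ := exists_pair' hd he h1
  obtain ⟨γ, hγ⟩ := hS.frob.ne
  have h3 : γ * γ * (1 - γ) ^ 2 ≠ 0 := mul_ne_zero
    (mul_self_ne_zero.2 fun h => hγ (h ▸ F₀.zero_mem))
    (pow_ne_zero _ fun h => hγ (sub_eq_zero.1 h ▸ F₀.one_mem))
  obtain ⟨β, hβ⟩ := exists_sq_of_two_eq_zero h2 (c / (γ * γ * (1 - γ) ^ 2))
  have := HasE.sub (val _ (by simp [(hS.pair hp).perp])) (val _ (by simp [(hS.pair hp).perp]))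
    (k3 β (h β) γ (h γ) e x hp) (k2 _ (h (β * (γ * γ))) e x hp)
  convert this using 1
  · simp
  · rw [eq_div_iff h3] at hβ
    simp only [sub_self, Φ.bsimp]
    linear_combination -hβ + β * β * γ * γ * (γ * γ - γ) * h2


end Sub

variable {ι : Type} [Fintype ι] (Φ) (b : Basis ι F V) [Finite F] (hθ : IsFrob θ₀ F₀)
include hθ

theorem alt_sub_isMaximalIn_two (hn : 3 ≤ Fintype.card ι) (h2 : (2 : F) = 0) (hσ : ∀ a, Φ.σ a = a)
    (hε : Φ.ε = -1) (hB : ∀ x y, Φ.B (ratMap F₀ b x) (ratMap F₀ b y) ∈ F₀) (hπ : ∀ c, Φ.π c = 0) :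
    Geo.IsMaximalIn Φ.EG (Nfrob (frob θ₀ b) ⊓ Φ.EG) := by
  have := Module.Finite.of_basis b
  have hQ : ∀ x, Φ.Q (ratMap F₀ b x) = 0 := fun x => let ⟨a, ha⟩ := Φ.range _; ha ▸ hπ a
  have hΛ : ∀ c, Φ.π c = 0 → ∃ β a, c = β - Φ.ε * Φ.σ β + a * Φ.σ a := fun c _ =>
    let ⟨a, ha⟩ := exists_sq_of_two_eq_zero h2 c; ⟨0, a, by simp [hσ, ha]⟩
  let Φ₀ := fmAlt (Φ.ratB b (σ₀ := RingHom.id F₀) (fun a => hσ a) hB)
    (fun x => Subtype.ext (Φ.B_self (hQ x))) (Φ.ratB_nondeg b _ _)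
  have hS : Sub Φ Φ₀ (frob θ₀ b) (ratMap F₀ b) :=
    ⟨hθ, frob_eq_iff_ratMap hθ.fix b, span_ratMap b, fun a => hσ a, hε, fun _ _ => rfl,
      fun c x => ⟨fun _ => rfl, fun _ => by rw [hπ, hQ]⟩, fun c hc =>
        let ⟨β, a, h⟩ := hΛ c hc; ⟨β, a, 1, rfl, by simpa using h⟩⟩
  have hd : Φ₀.d + 2 ≤ finrank F₀ (ι → F₀) := by
    rw [Module.finrank_fintype_fun_eq_card]; exact hn
  obtain ⟨e, -, h0, he⟩ := Φ₀.iso ⊤ (by rw [finrank_top]; omega)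
  obtain ⟨z, hz⟩ := exists_pair' hd he h0
  refine hS.isMaximalIn_of_le' hz fun M hH hM =>
    (hS.EG_le_or_ratA_alt hd hH h2 hσ hπ fun _ => rfl).imp_right fun hR =>
      hS.le_Nfrob_of_tv' hd hH hM hR (fun g hg ⟨κ, _, h⟩ x => ?_) hz (c₀ := 1) one_ne_zero rfl
  have h3 := hS.kappa_sq (Φ.EG_le_Iso hg) hσ h (by rw [finrank_eq_card_basis b]; omega)
  have : (κ - 1) ^ 2 = 0 := by linear_combination h3 + (1 - κ) * h2
  rw [h, sub_eq_zero.1 (pow_eq_zero_iff two_ne_zero |>.1 this), one_smul]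

theorem quad_herm_isMaximalIn_six (hn : 6 ≤ Fintype.card ι) (h2 : (2 : F) ≠ 0)
    (hσ : ∀ a, Φ.σ a = θ₀ a) (hε : Φ.ε = 1)
    (hB : ∀ x y, Φ.B (ratMap F₀ b x) (ratMap F₀ b y) ∈ F₀)
    (hQ : ∀ x, Φ.Q x = Φ.B x x) (hπ : ∀ c, Φ.π c = c + Φ.σ c) :
    Geo.IsMaximalIn Φ.EG (Nfrob (frob θ₀ b) ⊓ Φ.EG) := by
  have := Module.Finite.of_basis b
  have hσ' : ∀ a : F₀, Φ.σ a = RingHom.id F₀ a := fun a => by rw [hσ, (hθ.fix a).2 a.2]; rfl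
  have h2' : (2 : F₀) ≠ 0 := fun h => h2 (congrArg Subtype.val h)
  let B₀ := Φ.ratB b hσ' hB
  have hs : ∀ x y, B₀ y x = B₀ x y := fun x y => Subtype.ext (by
    change Φ.B _ _ = _
    rw [Φ.symm, hε, one_mul]
    exact hσ' (B₀ x y))
  let Q₀ : QuadraticForm F₀ (ι → F₀) := LinearMap.BilinMap.toQuadraticMap ((2 : F₀)⁻¹ • B₀)
  have hp : ∀ x y, QuadraticMap.polar Q₀ x y = B₀ x y := fun x y => by
    rw [LinearMap.BilinMap.polar_toQuadraticMap]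
    simp only [LinearMap.smul_apply, hs x y, smul_eq_mul]
    field_simp
    ring
  let Φ₀ := fmQuad Q₀ fun x hx => Φ.ratB_nondeg b _ _ x fun y => (hp x y).symm.trans (hx y)
  obtain ⟨δ, hδ⟩ := hθ.ne
  have hS : Sub Φ Φ₀ (frob θ₀ b) (ratMap F₀ b) :=
    ⟨hθ, frob_eq_iff_ratMap hθ.fix b, span_ratMap b, hσ', hε,
      fun x y => congrArg Subtype.val (hp x y).symm, fun c x => by
        rw [hπ, hQ, hσ']
        change ((c + c : F₀) : F) = B₀ x x ↔ c = 2⁻¹ * B₀ x x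
        rw [Subtype.coe_inj, eq_inv_mul_iff_mul_eq₀ h2', two_mul], fun c hc =>
        let ⟨β, h⟩ := Φ.exists_eq_sub_conj (δ := δ)
          (by rw [hε, one_mul, hσ]; exact fun h => hδ ((hθ.fix δ).1 h.symm)) hc
        ⟨β, 0, 0, map_zero _, by simpa using h⟩⟩
  have h6 : 6 ≤ finrank F₀ (ι → F₀) := by rwa [Module.finrank_fintype_fun_eq_card]
  have hd : Φ₀.d + 2 ≤ finrank F₀ (ι → F₀) := le_trans (by decide : 3 + 2 ≤ 6) h6
  obtain ⟨e, -, h0, he⟩ := Φ₀.iso ⊤ (by rw [finrank_top]; omega)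
  obtain ⟨z, hz⟩ := exists_pair' hd he h0
  have hθθ : ∀ c, θ₀ (θ₀ c) = c := fun c => by rw [← hσ, ← hσ, Φ.invol]
  have h3 : δ - θ₀ δ ≠ 0 := fun h => hδ ((hθ.fix δ).1 (sub_eq_zero.1 h).symm)
  have h4 : θ₀ (δ - θ₀ δ) = -(δ - θ₀ δ) := by rw [map_sub, hθθ, neg_sub]
  exact hS.isMaximalIn_of_le' hz fun M hH hM =>
    (hS.EG_le_or_ratA_herm hd hH h3 h4 h2 (frob_frob hθθ b) hσ hε hπ).imp_right
      (hS.le_Nfrob_of_herm hH h3 h4 h2 (frob_frob hθθ b) hd h6 hM)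

end Fm

variable [Fintype F]

theorem subfield_isMaximalIn_sp_even {m : ℕ} (hm : 2 ≤ m) (heven : ¬ Odd (Fintype.card F))
    (F₀ : Subfield F) {r : ℕ} (hr : r.Prime)
    (hcard : Fintype.card F = Nat.card F₀ ^ r) (P : GL (Fin m ⊕ Fin m) F) {ζ : F} (hζ : ζ ≠ 0)
    (hP : Geo.IsFormRationalStructure (sympForm m F) F₀ ζ P) :
    Geo.IsMaximalIn (spGL m F) (Geo.subfieldSubgroup F₀ P ⊓ spGL m F) := by
  obtain ⟨θ₀, hθ, -⟩ := exists_isFrob F₀ hr hcard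
  have : Nonempty (Fin m ⊕ Fin m) := ⟨.inl ⟨0, by omega⟩⟩
  let Φ := (fmSpStd F m).scale ζ 1 hζ one_ne_zero rfl
  have hε : Φ.ε = -1 := mul_div_cancel_right₀ _ hζ
  have hπ : ∀ c, Φ.π c = 0 := fun c => mul_zero _
  refine subfield_isMaximalIn_of hθ (Φ := Φ)
    (fun g => (mem_spGL_iff m g).trans (by rw [show Φ.EG = _ from Fm.EG_scale _ _ _]))
    (Φ.alt_sub_isMaximalIn_two _ hθ (by simp; omega) (two_eq_zero_of_not_odd heven) (fun _ => rfl) hε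
      (fun x y => ?_) hπ)
  rw [ratMap_colBasis, ratMap_colBasis]
  exact hP _ _ (fun i => (x i).2) fun i => (y i).2

theorem orth_isMaximalIn_su_six {n q : ℕ} (hF : Fintype.card F = q ^ 2) (hn : 6 ≤ n) (hodd : Odd q)
    (F₀ : Subfield F) (hcard : Fintype.card F = Nat.card F₀ ^ 2) (P : GL (Fin n) F)
    (hP : Geo.IsFormRationalStructure (hermForm n F q) F₀ 1 P) :
    Geo.IsMaximalIn (GU n F q ⊓ Geo.specialLinear (Fin n) F)
      (Geo.subfieldSubgroup F₀ P ⊓ (GU n F q ⊓ Geo.specialLinear (Fin n) F)) := by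
  obtain ⟨θ₀, hθ, hθ'⟩ := exists_isFrob F₀ Nat.prime_two hcard
  have := U.UF.of_card hF
  have : Nonempty (Fin n) := ⟨⟨0, by omega⟩⟩
  refine subfield_isMaximalIn_of hθ (mem_SU_iff n q)
    (Fm.quad_herm_isMaximalIn_six _ _ hθ (by simpa using hn) (two_ne_zero_of_odd (hF ▸ hodd.pow))
      (fun a => by rw [hθ', card_eq_of_sq hF hcard]; rfl) rfl (fun x y => ?_)
      (fun _ => rfl) fun _ => rfl)
  rw [ratMap_colBasis, ratMap_colBasis]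
  have := hP _ _ (fun i => (y i).2) fun i => (x i).2
  rwa [one_mul] at this

end Cfsg.Agent.Class.Max
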