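import Mathlib
import Cfsg.Agent.Class.Max.C7P
import Cfsg.Agent.Class.Max.C7T
import Cfsg.Agent.Class.Max.C4Loc
import Cfsg.Agent.Class.Max.LowC5S

/-!
Tensor decompositions with a symplectic or unitary factor: the local analysis.
-/

set_option autoImplicit false
set_option linter.unusedSectionVars false

namespace Cfsg.Agent.Class.Max

open Module

variable {F U W V : Type*} [Field F] [AddCommGroup U] [Module F U] [AddCommGroup W]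
  [Module F W] [AddCommGroup V] [Module F V] {T : Tn F U W V} {Φ₁ : Fm F U} {Φ₂ : Fm F W}
  {Φ : Fm F V} {M : Subgroup (V ≃ₗ[F] V)} {l : F}
  [FiniteDimensional F U] [FiniteDimensional F W] [FiniteDimensional F V]

theorem HasU.add_dcm {X Y : End F V} (hX : HasU M X) (h0 : ∀ v, X (X v) = 0) (hY : HasU M Y) :
    HasU M (Y + dcm X Y) :=
  let ⟨_, hx, e⟩ := hX
  hY.conj' hx fun v => by simp [e, dcm, h0]; abel

theorem Fm.aniso_of_three (h3 : finrank F W ≤ 3) {w y : W} (hw0 : w ≠ 0) (hw : Φ₂.B w w = 0)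
    (hy : Φ₂.B w y = 0) (hc : ¬ ∃ c : F, y = c • w) : Φ₂.B y y ≠ 0 :=
  fun e => hc (Φ₂.exists_smul_of_perp fun y' hy' => by
    obtain ⟨a, c, rfl⟩ := Fm.exists_dec h3 hw0 hw hy hy' (not_exists.1 hc)
    simp [e, Φ₂.perp_symm hy])

namespace WK

open TF

variable (h : WK T Φ₁ Φ₂ Φ M l) [Finite F]
include h

theorem gen_move {w s : W} {b : U →ₗ[F] U} (hb : T.Gen Φ₂ M w (b ∘ₗ T.cR (Φ₂.B s)))
    {τ : W ≃ₗ[F] W} (hτ : τ ∈ Φ₂.EG) : T.Gen Φ₂ M (τ w) (b ∘ₗ T.cR (Φ₂.B (τ s))) := by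
  convert hb.conj (a := 1) (Φ₂.EG_le_Iso hτ) (h.R τ hτ) using 1
  ext v
  obtain ⟨v, rfl⟩ := (T.krR τ).surjective v
  change b (T.cR _ _) = b (T.cR _ ((T.krR τ)⁻¹ (T.krR τ v)))
  rw [h.tf.cR_krR_iso (Φ₂.EG_le_Iso hτ), inv_app_app]

theorem loc_of (hd : Φ₂.d + 2 ≤ finrank F W) (hZ : ∀ C ∈ T.cenG Φ₂ M, ∃ c : F, ∀ u, C u = c • u)
    (hA : ∀ w s (hp : Φ₂.Pair w s), ∀ b ∈ T.pureG Φ₂ M hp, ∃ c : F, ∀ u, b u = c • u) {w : W}
    (hw : Φ₂.Q w = 0) (hw0 : w ≠ 0) : Loc T Φ₂ M w := by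
  refine ⟨fun A hA' y hy => ?_, fun C hC => hZ C (h.mem_cenG hw hw0 hC)⟩
  let S : AddSubgroup W :=
    { carrier := {y | ∃ c : F, ∀ u, A (T.tm u y) = c • u}
      zero_mem' := ⟨0, by simp⟩
      add_mem' := fun ⟨c, hc⟩ ⟨d, hd⟩ => ⟨c + d, fun u => by simp [hc, hd, add_smul]⟩
      neg_mem' := fun ⟨c, hc⟩ => ⟨-c, fun u => by simp [hc]⟩ }
  refine Fm.mem_of_pair hd hw hw0 S (fun s hp => ?_) hy
  have hv := Fm.valid_tv hp.q₂ h.hl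
  obtain ⟨c, hc⟩ := hA w s hp ((-(Φ₂.ε * l)) • (A ∘ₗ T.tm.flip s))
    ((hA'.diff hp.q₁ (hv.mem_Iso hv.eich_apply) (h.R _ hv.eich_mem) (Fm.ef_apply_of_perp
      (Φ₂.perp_symm hp.perp) (by simp))).congr hp.q₁ fun v _ => by
        simp [krR_ef hv.eich_apply, mul_smul])
  exact ⟨(-(Φ₂.ε * l))⁻¹ * c, fun u => by
    rw [mul_smul, eq_inv_smul_iff₀ (by simp [Φ₂.eps_ne, h.l0])]; exact hc u⟩

theorem comm_mem {w s f : W} (hw : Φ₂.Q w = 0) (hw0 : w ≠ 0) (hs : Φ₂.B w s = 0)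
    (hf : Φ₂.B w f = 0) (e : Φ₂.B s f = 1) {b c : U →ₗ[F] U} {μ : F}
    (hb : T.Gen Φ₂ M w (b ∘ₗ T.cR (Φ₂.B s))) (hc : T.Gen Φ₂ M w (c ∘ₗ T.cR (Φ₂.B (μ • f)))) :
    Φ.σ μ • c ∘ₗ Φ₁.adj b - (Φ₂.ε * μ) • b ∘ₗ Φ₁.adj c ∈ T.cenG Φ₂ M := by
  have := h.tf.gen_comm h.I hw hs (by simp [hf]) hb hc
  rw [Φ₂.symm s (μ • f), ← h.tf.σ₂ (_ * _), map_mul, Φ₂.invol, Φ₂.σ_eps, map_smul, e, smul_eq_mul,
    mul_one] at this
  exact h.mem_cenG hw hw0 this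

theorem cenG_comm (hd : Φ₂.d + 2 ≤ finrank F W) {b c : U →ₗ[F] U}
    (hb : ∀ w s, Φ₂.Q w = 0 → Φ₂.Q s = 0 → Φ₂.B w s = 0 → T.Gen Φ₂ M w (b ∘ₗ T.cR (Φ₂.B s)))
    (hc : ∀ w s, Φ₂.Q w = 0 → Φ₂.Q s = 0 → Φ₂.B w s = 0 → T.Gen Φ₂ M w (c ∘ₗ T.cR (Φ₂.B s)))
    (μ : F) : Φ.σ μ • c ∘ₗ Φ₁.adj b - (Φ₂.ε * μ) • b ∘ₗ Φ₁.adj c ∈ T.cenG Φ₂ M := by
  obtain ⟨w, -, hw0, hw⟩ := Φ₂.iso ⊤ (by rw [finrank_top]; omega)
  obtain ⟨-, s, f, -, q1, q2, -, h1, h2, h3, -⟩ := Fm.exists_hyp2 hd hw hw0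
  exact h.comm_mem hw hw0 h2 h3 h1 (hb w s hw q1 h2) (hc w _ hw (Φ₂.Q_smul_zero q2 μ) (by simp [h3]))

theorem smul_of_herm {δ : F} (hδ : Φ.σ δ ≠ δ) (hZ : ∀ C ∈ T.cenG Φ₂ M, ∃ c : F, ∀ u, C u = c • u)
    {w s f : W} (hw : Φ₂.Q w = 0) (hw0 : w ≠ 0) (hs : Φ₂.B w s = 0) (hf : Φ₂.B w f = 0)
    (e : Φ₂.B s f = 1) {b : U →ₗ[F] U} (hb : T.Gen Φ₂ M w (b ∘ₗ T.cR (Φ₂.B s))) :
    ∃ c : F, ∀ u, b u = c • u := by
  have k := fun μ : F => hZ _ (h.comm_mem hw hw0 hs hf e hb (h.gen_id (s := μ • f) hw (by simp [hf])))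
  obtain ⟨c₁, h1⟩ := k 1
  obtain ⟨c₂, h2⟩ := k δ
  refine ⟨(Φ₂.ε * (Φ.σ δ - δ))⁻¹ * (c₂ - Φ.σ δ * c₁), fun u => ?_⟩
  rw [mul_smul, eq_inv_smul_iff₀ (mul_ne_zero Φ₂.eps_ne (sub_ne_zero.2 hδ)), sub_smul,
    mul_smul _ c₁, ← h1, ← h2]
  simp only [LinearMap.smul_apply, LinearMap.sub_apply, map_one, Φ₁.adj_id, LinearMap.comp_apply,
    LinearMap.id_apply]
  module

theorem loc_two (h2 : finrank F W ≤ 2) (hZ : ∀ C ∈ T.cenG Φ₂ M, ∃ c : F, ∀ u, C u = c • u)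
    {w : W} (hw : Φ₂.Q w = 0) (hw0 : w ≠ 0) : Loc T Φ₂ M w :=
  ⟨fun A hA y hy => by
    obtain ⟨c, rfl⟩ := Fm.eq_smul_of_two h2 hw0 (Φ₂.B_self hw) hy
    exact ⟨0, fun u => by simp [hA.1]⟩, fun C hC => hZ C (h.mem_cenG hw hw0 hC)⟩

theorem loc_three {δ : F} (hδ : Φ.σ δ ≠ δ) (h3 : finrank F W ≤ 3)
    (hZ : ∀ C ∈ T.cenG Φ₂ M, ∃ c : F, ∀ u, C u = c • u) {w : W} (hw : Φ₂.Q w = 0) (hw0 : w ≠ 0) :
    Loc T Φ₂ M w := by
  refine ⟨fun A hA y hy => ?_, fun C hC => hZ C (h.mem_cenG hw hw0 hC)⟩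
  by_cases hc : ∃ c : F, y = c • w
  · obtain ⟨c, rfl⟩ := hc
    exact ⟨0, fun u => by simp [hA.1]⟩
  have n := Fm.aniso_of_three h3 hw0 (Φ₂.B_self hw) hy hc
  exact h.smul_of_herm hδ hZ hw hw0 (s := (Φ₂.σ (Φ₂.B y y))⁻¹ • y) (by simp [hy]) hy
    (by simp [Φ₂.invol, n]) (b := A ∘ₗ T.tm.flip y) (hA.congr hw fun v => h.tf.eq_on_perp
      fun u y' hy' => by
        obtain ⟨a, c, rfl⟩ := Fm.exists_dec h3 hw0 (Φ₂.B_self hw) hy hy' (not_exists.1 hc)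
        simp [Φ₂.invol, n, hA.1, Φ₂.perp_symm hy, smul_comm a])

theorem mem_Iso {a : U ≃ₗ[F] U} (ha : T.kr a 1 ∈ M) : a ∈ Φ₁.Iso :=
  h.tf.swap.B_of_krR (T.swap_kr a 1 ▸ h.I ha :)

theorem invL_rootS : T.InvL M (h.tf.rootS M) := fun a ha b hb w s hw hs hws =>
  (hb w s hw hs hws).conj' ha fun v => by
    simp only [X_apply, map_sub, map_smul, Tn.kr_tm, T.cR_kr,
      Fm.adj_cjL (h.mem_Iso ha), cjL_app]
    rfl

theorem id_mem_rootS : LinearMap.id ∈ h.tf.rootS M := fun w s hw hs hws =>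
  have hv := Fm.valid_zero hs (Φ₂.perp_symm hws) hw
  ⟨_, h.R _ hv.eich_mem, fun v => by
    simp [krR_ef hv.eich_apply, X_apply, Φ₁.adj_id, add_sub_assoc]⟩

variable (hA : T.AlU M) (hΛ : ∀ c, Φ.π c = 0 → ∃ a, c = a - Φ.ε * Φ.σ a) (hn : ¬ Φ.EG ≤ M)
include hA hΛ hn

theorem loc_herm {δ : F} (hδ : Φ.σ δ ≠ δ) (hd : Φ₂.d + 2 ≤ finrank F W) {w : W}
    (hw : Φ₂.Q w = 0) (hw0 : w ≠ 0) : Loc T Φ₂ M w := by
  have hT := h.tf
  have hδ' := sub_ne_zero.2 hδ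
  have hZ : ∀ C ∈ T.cenG Φ₂ M, ∃ c : F, ∀ u, C u = c • u := fun C hC => by
    by_contra hc'
    refine hn (hT.EG_le_of_rk h.I hd hΛ fun x z => hA _ h.invL_rootS (fun b hb c hc => ?_) _
      (hT.mem_rootS_of_cenG h.I hw hw0 hC) hc' _)
    have k := fun μ => hT.mem_rootS_of_cenG h.I hw hw0 (h.cenG_comm hd
      (hT.gen_of_rootS (hT.adj_mem_rootS hc)) (hT.gen_of_rootS hb) μ)
    refine mem_of_ext ((hT.rootS M).smul_mem (Φ.σ δ - δ)⁻¹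
      ((hT.rootS M).sub_mem (k δ) ((hT.rootS M).smul_mem δ (k 1)))) fun v => ?_
    simp only [Φ₁.adj_adj, LinearMap.smul_apply, LinearMap.sub_apply, map_one, End.mul_apply,
      LinearMap.comp_apply]
    match_scalars <;> field_simp <;> ring
  refine h.loc_of hd hZ (fun w s hp b hb => ?_) hw hw0
  obtain ⟨f, -, h1, h2⟩ := hp.exists_partner
  exact h.smul_of_herm hδ hZ hp.q₁ hp.ne hp.perp h2 h1 hb

theorem loc_sp (h₂ : Φ₂.IsSp) (h5 : 5 ≤ finrank F W) {w : W} (hw0 : w ≠ 0) : Loc T Φ₂ M w := by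
  have hT := h.tf
  have hI := h.I
  have hd : Φ₂.d + 4 ≤ finrank F W := by rw [h₂.d]; exact h5
  have hR : ∀ b ∈ hT.rootS M, ∃ c : F, ∀ u, b u = c • u := fun C hC => by
    by_contra hc'
    refine hn (hT.EG_le_of_rk hI (by omega) hΛ fun x z =>
      hA _ h.invL_rootS (fun b hb c hc => ?_) _ hC hc' _)
    refine hT.mem_rootS_of_pair (by omega) fun w t hp => ?_
    obtain ⟨s, s', q1, q2, e1, e2, e3, e4, e5⟩ := hp.exists_hyp hd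
    have e6 := hp.perp
    have sp := And.intro (Φ₂.perp_symm e2) (And.intro (Φ₂.perp_symm e3) (And.intro (Φ₂.perp_symm e4)
      (And.intro (Φ₂.perp_symm e5) (And.intro (Φ₂.perp_symm e6) (Fm.B_eq_eps e1)))))
    exact ((hb w s hp.q₁ q1 e2).comm (hc s' t q2 hp.q₂ sp.2.2.2.1)
      (fun v => by simp [X_apply, h₂.B_self, e2, sp]) (fun v => by simp [X_apply, h₂.B_self, e5, sp])
      (fun v => by simp [X_apply, h₂.B_self, e2, e3, e4, e5, e6, sp])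
      (fun v => by simp [X_apply, h₂.B_self, e2, e3, e4, e5, e6, sp])).congr fun v => by
        simp [X_apply, h₂.B_self, e1, e2, e3, e4, e5, e6, sp, h₂.ε, Φ₁.adj_comp, End.mul_eq_comp]
  refine h.loc_of (by omega) (fun C hC => hR C (hT.mem_rootS_of_cenG hI (h₂.Q w) hw0 hC))
    (fun w s hp b hb => hR b ?_) (h₂.Q w) hw0
  obtain ⟨f, hf, f1, f2⟩ := hp.exists_partner
  obtain ⟨α, hα⟩ := exists_dual_eq_one (F := F) hp.ne
  obtain ⟨t, -, t0, ht⟩ := exists_ne_zero_ker [Φ₂.B w, Φ₂.B s, Φ₂.B f, α] (⊤ : Submodule F W)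
    (by simp; omega)
  have t1 : Φ₂.B w t = 0 := ht _ (by simp)
  have t2 : Φ₂.B s t = 0 := ht _ (by simp)
  have t3 : Φ₂.B f t = 0 := ht _ (by simp)
  have hp' : Φ₂.Pair w t := (Fm.pair_or_eq_smul hp.q₁ hp.ne (h₂.Q t) t1).resolve_right
    fun ⟨c, hc⟩ => t0 (by rw [hc, show c = 0 by simpa [hc, hα] using ht α (by simp), zero_smul])
  obtain ⟨-, x, hx, ex⟩ := hb
  have hv := Fm.valid_zero (h₂.Q t) (Φ₂.perp_symm t3) hf
  let A : V →ₗ[F] V := x.toLinearMap - LinearMap.id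
  have a1 : ∀ v, T.cR (Φ₂.B w) v = 0 → A v = T.tm (b (T.cR (Φ₂.B s) v)) w := fun v h =>
    sub_eq_of_eq_add' (ex v h)
  have a2 : ∀ y, Φ₂.B w y = 0 → ∀ v,
      T.cR (Φ₂.B y) (A v) = -(Φ.σ (Φ₂.B s y) • Φ₁.adj b (T.cR (Φ₂.B w) v)) := fun y hy =>
    hT.cR_gen (hI hx) hp.q₁ hp.perp ex hy
  have a3 : ∀ v, T.cR (Φ₂.B w) (A v) = 0 := fun v => by
    simp [a2 w (h₂.B_self w), Φ₂.perp_symm hp.perp]
  let K : V →ₗ[F] V := T.xl LinearMap.id f (Φ₂.B t) - Φ₂.ε • T.xl LinearMap.id t (Φ₂.B f)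
  have k1 : ∀ v, K v = T.tm (T.cR (Φ₂.B t) v) f - Φ₂.ε • T.tm (T.cR (Φ₂.B f) v) t := fun _ => rfl
  have k2 : ∀ v, A (K v) = T.tm (b (T.cR (Φ₂.B t) v)) w := fun v => by
    rw [a1 _ (by simp [k1, f2, t1])]
    simp [k1, f1, t2]
  have k3 : ∀ v, K (A v) = Φ₂.ε • T.tm (Φ₁.adj b (T.cR (Φ₂.B w) v)) t := fun v => by
    simp [k1, a2 t t1, a2 f f2, t2, f1]
  have key : HasU M (X T Φ₁ Φ₂ b w t) := (HasU.comm (A := A) (B := K) ⟨x, hx, fun v => by simp [A]⟩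
    ⟨_, h.R _ hv.eich_mem, fun v => by simp [krR_ef hv.eich_apply, k1, add_sub_assoc]⟩
    (fun v => by rw [a1 _ (a3 v), a2 s hp.perp]; simp [h₂.B_self])
    (fun v => by simp [k1, h₂.B_self, t3, Φ₂.perp_symm t3])
    (fun v => by rw [k2, a2 t t1]; simp [t2])
    (fun v => by rw [k3]; simp [k1, f2, t1])).congr fun v => by simp [k2, k3, X_apply]
  refine hT.mem_rootS_of_pair (by omega) fun w' t' hp'' => ?_
  obtain ⟨τ, hτ, rfl, rfl⟩ := hp'.move hd hp''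
  exact key.conj' (h.R τ hτ) fun v => by
    simp [X_apply, hT.cR_krR_iso (Φ₂.EG_le_Iso hτ)]

omit hA hΛ hn in
theorem mul_mem_rootS (h₂ : Φ₂.IsSp) (h2 : (2 : F) ≠ 0) (hd : Φ₂.d + 2 ≤ finrank F W)
    {C b : End F U} (hC : C ∈ T.cenG Φ₂ M) (hb : b ∈ h.tf.rootS M) : b * C ∈ h.tf.rootS M := by
  have hT := h.tf
  have hσ : ∀ a, Φ.σ a = a := fun a => by rw [← hT.σ₂, h₂.σ]
  refine hT.mem_rootS_of_pair hd fun w t hp => ?_
  obtain ⟨f, hf, f1, f2⟩ := hp.exists_partner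
  have sp := And.intro hp.perp (And.intro (Φ₂.perp_symm hp.perp) (And.intro (Φ₂.perp_symm f2)
    (Fm.B_eq_eps f1)))
  let Y : F → End F V := fun a => T.xl C t (Φ₂.B t) - a • X T Φ₁ Φ₂ (b * C) w t +
    (a * a) • T.xl (b * C * Φ₁.adj b) w (Φ₂.B w)
  have k : ∀ a : F, HasU M (Y a) := fun a => (((hT.rootS M).smul_mem a hb w f hp.q₁ hf f2).add_dcm
    (fun v => by simp [X_apply, h₂.B_self, f2, sp]) (hC t hp.q₂)).congr fun v => by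
      simp only [Y, dcm, X_apply, Tn.xl_apply, h₂.B_self, f1, f2, sp, h₂.ε, Φ₁.adj_smul, hT.σ₁, hσ,
        End.mul_eq_comp, Φ₁.adj_comp, hT.adj_of_cenG h.I hp.q₁ hp.ne hC, LinearMap.sub_apply,
        LinearMap.add_apply, LinearMap.comp_apply, LinearMap.smul_apply, map_sub, map_smul,
        map_neg, LinearMap.neg_apply, Tn.cR_tm]
      module
  have k0 : ∀ a a' v, Y a (Y a' v) = 0 := fun a a' v => by
    simp [Y, X_apply, Tn.xl_apply, h₂.B_self, sp]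
  exact ((k (-2⁻¹)).sub (k 2⁻¹) (k0 _ _) (k0 _ _)).congr fun v => by
    simp only [Y, LinearMap.sub_apply, LinearMap.smul_apply, LinearMap.add_apply]
    match_scalars <;> field_simp <;> ring

theorem cen_sp_odd (h₂ : Φ₂.IsSp) (h2 : (2 : F) ≠ 0) (hd : Φ₂.d + 2 ≤ finrank F W) :
    ∀ C ∈ T.cenG Φ₂ M, ∃ c : F, ∀ u, C u = c • u := fun C hC => by
  have hT := h.tf
  by_contra hc'
  let R : Submodule F (End F U) :=
    { carrier := {c | ∀ b ∈ hT.rootS M, b * c ∈ hT.rootS M}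
      zero_mem' := fun b _ => by simp
      add_mem' := fun ha hb b h => by rw [mul_add]; exact add_mem (ha b h) (hb b h)
      smul_mem' := fun a _ ha b h => by
        rw [mul_smul_comm]; exact Submodule.smul_mem _ a (ha b h) }
  have := hA R (fun a ha c hc b hb =>
    mem_of_ext (h.invL_rootS a ha _ (hc _ (h.invL_rootS a⁻¹ (by
      simpa [T.kr_inv] using M.inv_mem ha) b hb))) fun v => by simp [cjL_apply])
    (fun c hc c' hc' b hb => by rw [← mul_assoc]; exact hc' _ (hc b hb)) C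
    (fun b => h.mul_mem_rootS h₂ h2 hd hC) hc'
  exact hn (hT.EG_le_of_rk h.I hd hΛ fun x z => mem_of_ext (this (Φ₁.rk x z) _ h.id_mem_rootS)
    fun _ => rfl)

theorem loc_sp_odd (hC : T.ClU Φ₁ M) (h₂ : Φ₂.IsSp) (h2 : (2 : F) ≠ 0) (h3 : 3 ≤ finrank F W)
    {w : W} (hw0 : w ≠ 0) : Loc T Φ₂ M w := by
  have hT := h.tf
  have hd : Φ₂.d + 2 ≤ finrank F W := by rw [h₂.d]; exact h3
  have hσ : ∀ a, Φ.σ a = a := fun a => by rw [← hT.σ₂, h₂.σ]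
  have hZ := h.cen_sp_odd hA hΛ hn h₂ h2 hd
  refine h.loc_of hd hZ (fun w s hp b hb => ?_) (h₂.Q w) hw0
  let R : Submodule F (End F U) :=
    { carrier := {b | ∀ w s, Φ₂.Q w = 0 → Φ₂.Q s = 0 → Φ₂.B w s = 0 →
        T.Gen Φ₂ M w (b ∘ₗ T.cR (Φ₂.B s))}
      zero_mem' := fun _ _ _ _ _ => Tn.Gen.zero
      add_mem' := fun ha hb w s hw hs e =>
        ((ha w s hw hs e).add (hb w s hw hs e) hw).congr hw fun _ _ => rfl
      smul_mem' := fun a _ ha w s hw hs e =>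
        (ha w (a • s) hw (h₂.Q _) (by simp [e])).congr hw fun _ _ => by simp [h₂.σ] }
  let R' : Submodule F (End F U) :=
    { carrier := {b | Φ₁.Skew b}
      zero_mem' := fun x y => by simp
      add_mem' := fun ha hb x y => by simp [ha x y, hb x y, add_comm]
      smul_mem' := fun a _ ha => ha.smul (by rw [hT.σ₁, hσ]) }
  have k1 : b ∈ R := fun w' s' hw' hs' e => by
    by_cases w0 : w' = 0
    · exact ⟨fun u => by simp [w0], 1, M.one_mem, fun v _ => by simp [w0, one_app]⟩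
    rcases Fm.pair_or_eq_smul hw' w0 hs' e with hp' | ⟨c, rfl⟩
    · obtain ⟨τ, hτ, rfl, rfl⟩ := hp.move_alt hd h₂.Q hp'
      exact h.gen_move hb hτ
    · exact Tn.Gen.zero.congr hw' fun v hv => by simp [hv]
  have k2 : LinearMap.id ∈ R := fun w s hw _ e => h.gen_id hw e
  obtain ⟨a, ea⟩ := hZ _ (h.cenG_comm hd k1 k2 1)
  simp only [hσ, h₂.ε, Φ₁.adj_id, LinearMap.sub_apply, LinearMap.smul_apply, LinearMap.comp_apply,
    LinearMap.id_apply, one_smul, mul_one, neg_smul, sub_neg_eq_add] at ea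
  refine ⟨a / 2, fun u => sub_eq_zero.1 (LinearMap.congr_fun (hC (R ⊓ R') (fun g hg c hc =>
    ⟨fun w s hw hs e => ((hc.1 w s hw hs e).conj Φ₂.Iso.one_mem hg).congr hw fun v _ => ?_,
      Fm.Skew.cjL hc.2 (h.mem_Iso hg)⟩) (fun c hc => hc.2)
      (fun c hc c' hc' => ?_) (b - (a / 2) • LinearMap.id) ⟨R.sub_mem k1 (R.smul_mem _ k2),
        fun x y => ?_⟩) u)⟩
  · simp only [T.kr_inv, LinearMap.comp_apply, LinearEquiv.coe_coe, T.cR_kr, cjL_apply]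
    rfl
  · obtain ⟨a, ea⟩ := hZ _ (h.cenG_comm hd hc'.1 hc.1 (-1))
    have sk : ∀ c ∈ R', ∀ u, Φ₁.adj c u = -c u := fun c hc u => Fm.adj_eq fun y => by
      rw [Φ₁.B_neg_left, hc u y, neg_neg]
    exact ⟨a, fun u => by simpa [hσ, h₂.ε, sk c hc.2, sk c' hc'.2] using ea u⟩
  · have := Φ₁.B_adj b x y
    rw [show Φ₁.adj b x = a • x - b x from eq_sub_of_add_eq (ea x)] at this
    simp only [LinearMap.sub_apply, LinearMap.smul_apply, LinearMap.id_apply, Φ₁.bsimp, hT.σ₁,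
      hσ] at this ⊢
    field_simp
    linear_combination -2 * this

end WK

end Cfsg.Agent.Class.Max
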