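import Mathlib
import Cfsg.Agent.Class.Max.C7R

/-!
Eichler transformations from transvection groups.
-/

set_option autoImplicit false
set_option linter.unusedSectionVars false

namespace Cfsg.Agent.Class.Max

open Module

namespace Fm

variable {F V : Type*} [Field F] [AddCommGroup V] [Module F V] [FiniteDimensional F V]
  {Φ : Fm F V} {M : Subgroup (V ≃ₗ[F] V)} {l : F}

theorem inA_of_perp {g : V ≃ₗ[F] V} (hg : g ∈ M) (hI : g ∈ Φ.Iso) {e f z : V} (he : Φ.Q e = 0)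
    (hf : Φ.B e f = 1) (hz : Φ.B e z = 0)
    (h : ∀ y, Φ.B e y = 0 → g y = y - (Φ.ε * Φ.B z y) • e) : Φ.InA M e z := by
  have e1 : g e = e := by simp [h e (Φ.B_self he), Φ.perp_symm hz]
  have e2 : Φ.B e (g f) = Φ.B e f := by rw [← hI.1 e f, e1]
  obtain ⟨c, hv, e3⟩ := exists_ef_eq he (by simp [hf]) e2 (hI.2 f)
  rw [hf, inv_one, one_smul] at hv e3
  have k : ∀ y, Φ.B e y = 0 → Φ.B (g f - f - z) y = 0 := fun y hy => by
    have := hI.1 f y
    rw [h y hy, map_sub, map_smul, B_eq_eps (e2.trans hf)] at this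
    simp only [Φ.bsimp, smul_eq_mul] at this ⊢
    linear_combination this + Φ.B z y * Φ.eps_sq
  obtain ⟨t, et⟩ := Φ.exists_smul_of_perp k
  have := InA.sub ⟨c, hv, g, hg, fun v => ?_⟩ (inA_smul_self (M := M) he t)
  · rwa [← et, sub_sub_cancel] at this
  have h1 : Φ.B e (v - Φ.B e v • f) = 0 := by simp [hf]
  have h2 := k _ h1
  rw [Φ.B_sub_left, sub_eq_zero] at h2
  rw [← sub_add_cancel v (Φ.B e v • f), map_add, map_smul, h _ h1, ← h2, ← ef_apply_of_perp' h1,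
    ← hv.eich_apply, ← hv.eich_apply, map_add, map_smul, hv.eich_apply f, e3]

variable (Φ M) in
/-- `M` contains all transvections with centre `e`. -/
def TvC (e : V) : Prop := Φ.Q e = 0 ∧ ∀ c, Φ.π c = 0 → Φ.HasE M e 0 c

theorem σ_lam (hl : Φ.π l = 0) : Φ.σ l = -(Φ.ε * l) := by
  linear_combination Φ.ε * Φ.lam_trace hl - Φ.σ l * Φ.eps_sq

theorem σ_lam_sq (hl : Φ.π l = 0) : Φ.σ (l * l) = l * l := by
  rw [map_mul, σ_lam hl]
  linear_combination l * l * Φ.eps_sq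

variable (htv : Φ.TV) (hl : Φ.π l = 0) (l0 : l ≠ 0) (h3 : ∃ c, Φ.σ c = c ∧ c ≠ 0 ∧ c ≠ 1)
include htv hl l0 h3

/-- Differences of the tori of two subgroups `SL₂`. -/
theorem TvC.inA (hI : M ≤ Φ.Iso) {e f f' : V} (he : Φ.TvC M e) (hf : Φ.TvC M f) (hf' : Φ.TvC M f')
    (e1 : Φ.B e f = 1) (e2 : Φ.B e f' = 1) {μ : F} (hμ : Φ.σ μ = μ) : Φ.InA M e (μ • (f' - f)) := by
  have k1 : ∀ a, Φ.σ a = a → a ≠ 0 → ∀ f, Φ.TvC M f → Φ.B e f = 1 → ∃ g ∈ M,
      ∀ y, Φ.B e y = 0 → g y = y + (Φ.ε * (a - 1) * Φ.B f y) • e := fun a ha a0 f hf e1 => by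
    obtain ⟨g₁, h1, a1⟩ := hf.2 l hl
    obtain ⟨g₂, h2, a2⟩ := he.2 _ (htv.π_mul hl (c := Φ.ε * (a - 1) / (l * l)) (by
      rw [map_div₀, σ_lam_sq hl]; simp [ha, Φ.σ_eps]))
    obtain ⟨g₃, h3, a3⟩ := hf.2 _ (htv.π_mul hl (c := -a⁻¹) (by simp [ha]))
    refine ⟨g₃ * (g₂ * g₁), M.mul_mem h3 (M.mul_mem h2 h1), fun y hy => ?_⟩
    simp only [mul_app, a1, a2, a3, ef, Φ.bsimp, hy, e1, B_eq_eps e1, Φ.B_self hf.1, map_zero,
      LinearMap.zero_apply]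
    rcases mul_self_eq_one_iff.1 Φ.eps_sq with h | h <;> rw [h] <;> match_scalars <;> field_simp <;>
      ring
  have k2 : ∀ μ, Φ.σ μ = μ → μ ≠ -1 → Φ.InA M e (μ • (f' - f)) := fun μ hμ h1 => by
    have h0 : μ + 1 ≠ 0 := fun e => h1 (eq_neg_of_add_eq_zero_left e)
    obtain ⟨g, hg, eg⟩ := k1 (μ + 1)⁻¹ (by simp [hμ]) (inv_ne_zero h0) f hf e1
    obtain ⟨g', hg', eg'⟩ := k1 (μ + 1)⁻¹ (by simp [hμ]) (inv_ne_zero h0) f' hf' e2
    have hm := M.mul_mem (M.inv_mem hg) hg'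
    refine inA_of_perp hm (hI hm) he.1 e1 (by simp [e1, e2]) fun y hy => g.injective ?_
    rw [mul_app, app_inv_app, eg' y hy, eg _ (by simp [hy, Φ.B_self he.1])]
    simp only [Φ.bsimp, hμ, B_eq_eps e1]
    match_scalars
    · ring
    · field_simp
      linear_combination (μ ^ 2 * (Φ.B f y - Φ.B f' y) * Φ.ε) * Φ.eps_sq
  by_cases h : μ = -1
  · obtain ⟨c, c1, c2, c3⟩ := h3
    have := (k2 (-c) (by simp [c1]) (by simpa)).add (k2 (c - 1) (by simp [c1])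
      fun e => c2 (by linear_combination e))
    rwa [← add_smul, show -c + (c - 1) = μ by rw [h]; ring] at this
  · exact k2 μ hμ h

omit hl l0 in
/-- The differences of singular vectors span the perpendicular of `w`. -/
theorem mem_of_diff {w x : V} (hw : Φ.Q w = 0) (hx : Φ.Q x = 0) (h0 : Φ.B w x ≠ 0)
    (hy : (∀ c, Φ.π c = 0) ∨ ∃ y, Φ.B w y = 0 ∧ Φ.B y y ≠ 0) (D : AddSubgroup V)
    (hD : ∀ x', Φ.Q x' = 0 → Φ.B w x' = Φ.B w x → ∀ μ, Φ.σ μ = μ → μ • (x' - x) ∈ D) {y : V}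
    (h : Φ.B w y = 0) : y ∈ D := by
  have k1 : ∀ y c μ, Φ.Valid w y c → Φ.σ μ = μ →
      μ • (Φ.B w x • y - (Φ.ε * (Φ.B y x + c * Φ.B w x)) • w) ∈ D := fun y c μ hv hμ => by
    simpa [ef, add_sub_assoc] using hD _ ((hv.Q_ef x).trans hx) (hv.B_ef x) μ hμ
  have k2 : ∀ c, Φ.π c = 0 → (Φ.ε * (c * Φ.B w x)) • w ∈ D := fun c hc => by
    simpa using D.neg_mem (k1 0 c 1 (valid_tv hw hc) (map_one _))
  have k3 : ∀ c, (Φ.ε * (c * Φ.B w x)) • w ∈ D := fun a => by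
    rcases hy with hy | ⟨y, y1, y2⟩
    · exact k2 a (hy a)
    obtain ⟨c, hv⟩ := exists_valid hw y1
    obtain ⟨b, b1, b0, b2⟩ := h3
    have t := Φ.trace c y hv.norm
    have b3 := sub_ne_zero.2 b2
    set μ := (a + Φ.ε * Φ.σ a) / Φ.B y y with hμ
    have m1 : Φ.σ μ = μ := by
      rw [hμ, ← t, map_div₀, div_eq_div_iff (Φ.σ_ne (t ▸ y2)) (t ▸ y2)]
      simp only [Φ.bsimp]
      linear_combination (Φ.σ a * Φ.σ c - a * c) * 0 + (Φ.σ c * a - Φ.σ a * c) * Φ.eps_sq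
    convert D.add_mem (D.sub_mem (k1 y c (μ / (b - 1)) hv (by simp [m1, b1]))
      (k1 _ _ (μ / (b * (b - 1))) (hv.smul b) (by simp [m1, b1])))
      (k2 (a - μ * c) (htv _ (by
        simp only [Φ.bsimp, m1]
        linear_combination -μ * t - div_mul_cancel₀ (a + Φ.ε * Φ.σ a) y2))) using 1
    simp only [Φ.bsimp, b1]
    match_scalars <;> field_simp <;> ring
  obtain ⟨c, hv⟩ := exists_valid (w := (Φ.B w x)⁻¹ • y) hw (by simp [h])
  convert D.add_mem (k1 _ c 1 hv (map_one _)) (k3 (Φ.B ((Φ.B w x)⁻¹ • y) x / Φ.B w x + c)) using 1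
  match_scalars <;> field_simp <;> ring

omit htv h3 in
theorem mem_of_np {w : V} (hw : Φ.Q w = 0) (hw0 : w ≠ 0) (N : Submodule F V)
    (h : ∀ x, Φ.Q x = 0 → Φ.B w x = 1 → x ∈ N) (y : V) : y ∈ N := by
  obtain ⟨w', q, e⟩ := exists_partner' hw hw0
  have hv := valid_tv hw hl
  have k1 : w ∈ N := (N.smul_mem_iff (mul_ne_zero Φ.eps_ne l0)).1 (by
    simpa [ef, e] using N.sub_mem (h w' q e) (h _ ((hv.Q_ef w').trans q) ((hv.B_ef w').trans e)))
  have k2 : ∀ y, Φ.B w y ≠ 0 → y ∈ N := fun y hy => by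
    obtain ⟨t, ht⟩ := Φ.exists_singular_add hw hy
    simpa using N.sub_mem ((N.smul_mem_iff (inv_ne_zero hy)).1 (h _ (Φ.Q_smul_zero ht _)
      (by simp [hy, Φ.B_self hw]))) (N.smul_mem t k1)
  by_cases hy : Φ.B w y = 0
  · simpa using N.sub_mem (k2 (y + w') (by simp [hy, e])) (h w' q e)
  · exact k2 y hy

omit htv h3 in
theorem smul_of_herm {δ : F} (hδ : Φ.σ δ ≠ δ) {e : V} (he : Φ.Q e = 0) (e0 : e ≠ 0) (x : End F V)
    (h : ∀ s, Φ.Q s = 0 → Φ.B s (x s) = 0) : ∃ c : F, ∀ v, x v = c • v := by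
  refine smul_of_sing_tv l0 hl he e0 fun s hs => ?_
  by_cases s0 : s = 0
  · simp [s0]
  obtain ⟨s', q, e⟩ := exists_partner' hs s0
  have k : ∀ y, Φ.B s y = 0 → Φ.B s' (x s) + Φ.B y (x s) = Φ.ε * (Φ.B s (x s') + Φ.B s (x y)) :=
    fun y hy => by
      obtain ⟨c, hv⟩ := exists_valid hs hy
      have h1 := h _ ((hv.Q_ef s').trans q)
      have h2 := h _ (((hv.add (valid_tv hs hl)).Q_ef s').trans q)
      simp only [ef, e, map_add x, map_sub x, map_smul x, Φ.bsimp, h s hs, σ_lam hl, add_zero,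
        one_smul] at h1 h2
      refine mul_left_cancel₀ (mul_ne_zero Φ.eps_ne l0) ?_
      linear_combination h1 - h2
  obtain ⟨a, ea⟩ := Φ.exists_smul_of_perp (e := s) (v := x s) fun y hy => Φ.perp_symm (by
    have h0 := k 0 (by simp)
    have h1 := k y hy
    have h2 := k (δ • y) (by simp [hy])
    simp only [map_smul, Φ.bsimp, map_zero, LinearMap.zero_apply, smul_eq_mul] at h0 h2
    exact mul_left_cancel₀ (sub_ne_zero.2 hδ) (by linear_combination h2 - h0 - δ * (h1 - h0)))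
  exact Submodule.mem_span_singleton.2 ⟨a, ea.symm⟩

end Fm

end Cfsg.Agent.Class.Max
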