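import Mathlib
import Cfsg.Agent.Class.Max.C7E

/-!
Tensor powers of symplectic and unitary spaces of small dimension: pure elements.
-/

set_option autoImplicit false
set_option linter.unusedSectionVars false

namespace Cfsg.Agent.Class.Max

open Module Function

variable {F U W V : Type*} [Field F] [AddCommGroup U] [Module F U] [AddCommGroup W]
  [Module F W] [AddCommGroup V] [Module F V] {Φ₂ : Fm F W} {Φ : Fm F V}
  {M : Subgroup (V ≃ₗ[F] V)} {l : F}
  [FiniteDimensional F U] [FiniteDimensional F W] [FiniteDimensional F V]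

namespace WK

variable {T : Tn F U W V} {Φ₁ : Fm F U} (h : WK T Φ₁ Φ₂ Φ M l) [Finite F] {c : End F V} {w : W}
include h

theorem hasU_cm (hc : T.Cm c) (hw : Φ₂.Q w = 0) (hw0 : w ≠ 0) (h1 : HasU M (c * T.sl (Φ₂.rk w w)))
    {a : F} (ha : Φ.σ a = a) {s : W} (hs : Φ₂.Q s = 0) : HasU M (a • (c * T.sl (Φ₂.rk s s))) := by
  obtain ⟨C, e⟩ := hc.exists_left ⟨w, hw0⟩
  have k : ∀ s v, (c * T.sl (Φ₂.rk s s)) v = T.xl C s (Φ₂.B s) v := fun s =>
    T.ext fun u x => by simp [e, Tn.xl_apply]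
  exact (h.smul_mem_cenG (h.mem_cenG hw hw0 (h1.congr (k w))) ((h.tf.σ₂ a).trans ha) s hs).congr
    fun v => by rw [LinearMap.smul_apply, k]; simp [Tn.xl_apply]

end WK

variable {ι : Type*} [Fintype ι] [DecidableEq ι] {T : ι → Tn F U W V} {i j : ι}

theorem pi_induction {A : Type*} [Monoid A] {p : (ι → A) → Prop} (h1 : p 1)
    (h2 : ∀ z j y, p z → p (z * Pi.mulSingle j y)) (z : ι → A) : p z := by
  suffices ∀ S : Finset ι, p (S.piecewise z 1) by simpa using this Finset.univ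
  intro S
  induction S using Finset.induction_on with
  | empty => simpa
  | insert j S hj ih =>
    convert h2 _ j (z j) ih using 1
    funext i
    by_cases e : i = j <;> simp [e, hj, Finset.piecewise]

theorem multilinear_mem {pu : MultilinearMap F (fun _ : ι => W) V} (N : Submodule F V)
    (G : ι → Set W) (h : ∀ x, (∀ j, x j ∈ G j) → pu x ∈ N) (x : ι → W)
    (hx : ∀ j, x j ∈ Submodule.span F (G j)) : pu x ∈ N := by
  suffices ∀ S : Finset ι, ∀ x, (∀ j, x j ∈ Submodule.span F (G j)) → (∀ j ∉ S, x j ∈ G j) →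
    pu x ∈ N from this Finset.univ x hx (by simp)
  intro S
  induction S using Finset.induction_on with
  | empty => exact fun x _ hx => h x (by simpa using hx)
  | insert j S hj ih =>
    intro x h1 h2
    simpa using Submodule.span_le.2 (show G j ⊆ N.comap (pu.toLinearMap x j) from fun y hy =>
      ih _ (fun i => by
        by_cases e : i = j
        · subst e; simpa using Submodule.subset_span hy
        · simpa [e] using h1 i) fun i hi => by
        by_cases e : i = j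
        · subst e; simpa
        · simpa [e] using h2 i (by simp [e, hi])) (h1 j)

namespace TP

variable (hT : TP T)

/-- The product of elements of the slots. -/
noncomputable def po : (ι → End F W) →* End F V :=
  MonoidHom.noncommPiCoprod (fun i => (T i).sl.toMonoidHom)
    fun i j hij x y => LinearMap.ext fun v => (hT.cm i j hij y x v).symm

theorem po_single (j : ι) (y : End F W) : hT.po (Pi.mulSingle j y) = (T j).sl y :=
  MonoidHom.noncommPiCoprod_mulSingle (N := fun _ => End F W) _ j y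

theorem po_eq (z : ι → End F W) (j : ι) : hT.po z = hT.po (update z j 1) * (T j).sl (z j) := by
  rw [← hT.po_single, ← map_mul]
  congr 1
  funext i
  by_cases e : i = j <;> simp [e]

theorem cm_po {z : ι → End F W} (hz : z j = 1) : (T j).Cm (hT.po z) := fun y v => by
  rw [← End.mul_apply, ← End.mul_apply, ← hT.po_single, ← map_mul, ← map_mul]
  congr 2
  funext i
  by_cases e : i = j <;> simp [e, hz]

theorem po_zero {z : ι → End F W} (hz : z j = 0) : hT.po z = 0 := by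
  rw [hT.po_eq z j, hz, map_zero, mul_zero]

theorem po_swap {p : V ≃ₗ[F] V} {σ : Equiv.Perm ι} (hσ : ∀ i, σ (σ i) = i)
    (hp : ∀ i x v, p ((T i).sl x v) = (T (σ i)).sl x (p v)) (z : ι → End F W) :
    ∀ v, p (hT.po z v) = hT.po (z ∘ σ) (p v) := by
  induction z using pi_induction with
  | h1 => intro v; rw [show (1 : ι → End F W) ∘ σ = 1 from rfl, map_one]; rfl
  | h2 z j y ih =>
    intro v
    rw [map_mul, End.mul_apply, hT.po_single, ih, hp, ← End.mul_apply, ← hT.po_single, ← map_mul]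
    congr 2
    funext i
    by_cases e : i = σ j
    · simp [e, hσ]
    · simp [e, show σ i ≠ j from fun e' => e (by rw [← e', hσ])]

end TP

/-- `M` contains the transpositions of slots fixing a third slot. -/
def Sw (T : ι → Tn F U W V) (M : Subgroup (V ≃ₗ[F] V)) : Prop := ∀ j k, j ≠ k → (∃ i, i ≠ j ∧ i ≠ k) → ∃ p ∈ M,
  ∀ i x v, p ((T i).sl x v) = (T (open Classical in Equiv.swap j k i)).sl x (p v)

/-- Pure tensors. -/
structure PT (T : ι → Tn F U W V) (Φ₂ : Fm F W) (Φ : Fm F V)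
    (pu : MultilinearMap F (fun _ : ι => W) V) (κ : F) : Prop where
  sl : ∀ i y x, (T i).sl y (pu x) = pu (update x i (y (x i)))
  span : Submodule.span F (Set.range pu) = ⊤
  B : ∀ x y, Φ.B (pu x) (pu y) = κ * ∏ i, Φ₂.B (x i) (y i)
  ne : κ ≠ 0

variable {pu : MultilinearMap F (fun _ : ι => W) V} {κ : F}

namespace PT

variable (h : PT T Φ₂ Φ pu κ)
include h

theorem ext {X : Type*} [AddCommGroup X] [Module F X] {f g : V →ₗ[F] X}
    (e : ∀ x, f (pu x) = g (pu x)) : f = g := LinearMap.ext_on_range h.span e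

theorem po_pu (hT : TP T) (z : ι → End F W) : ∀ x, hT.po z (pu x) = pu fun j => z j (x j) := by
  induction z using pi_induction with
  | h1 => intro x; rw [map_one]; rfl
  | h2 z j y ih =>
    intro x
    rw [map_mul, End.mul_apply, hT.po_single, h.sl, ih]
    congr 1
    funext i
    by_cases e : i = j <;> simp [e]

theorem po_smul (hT : TP T) (c : ι → F) (z : ι → End F W) :
    hT.po (fun j => c j • z j) = (∏ j, c j) • hT.po z := h.ext fun x => by
  simp [h.po_pu, MultilinearMap.map_smul_univ]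

theorem Q_pu {Φ₁ : Fm F U} (hF : TF (T j) Φ₁ Φ₂ Φ) {x : ι → W} (hx : Φ₂.Q (x j) = 0) :
    Φ.Q (pu x) = 0 := by
  by_cases h0 : x j = 0
  · rw [pu.map_coord_zero j h0, Φ.Q_zero]
  obtain ⟨φ, hφ⟩ := exists_dual_eq_one (F := F) h0
  have := h.sl j (φ.smulRight (x j)) x
  rw [Tn.sl_rk, LinearMap.smulRight_apply, hφ, one_smul, update_eq_self] at this
  exact this ▸ hF.Q_tm _ hx

/-- The perpendicular of a pure tensor. -/
theorem inA (hl : Φ₂.π l = 0) (l0 : l ≠ 0) {w : W} (hw : Φ₂.Q w = 0) (hw0 : w ≠ 0)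
    (he : Φ.Q (pu fun _ => w) = 0) (hA : ∀ j x, Φ₂.B w (x j) = 0 →
      (∀ i, i ≠ j → Φ₂.Q (x i) = 0 ∧ Φ₂.B w (x i) = 1) → Φ.InA M (pu fun _ => w) (pu x)) {v : V}
    (hv : Φ.B (pu fun _ => w) v = 0) : Φ.InA M (pu fun _ => w) v := by
  let X : Submodule F V :=
    { carrier := {v | ∀ c : F, c • v ∈ Φ.inAG M he}
      zero_mem' := fun c => by rw [smul_zero]; exact zero_mem _
      add_mem' := fun ha hb c => by rw [smul_add]; exact add_mem (ha c) (hb c)
      smul_mem' := fun a _ ha c => by rw [smul_smul]; exact ha _ }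
  have k1 : ∀ j x, Φ₂.B w (x j) = 0 → pu x ∈ X := fun j x hx =>
    multilinear_mem X (fun i => {y | if i = j then Φ₂.B w y = 0 else Φ₂.Q y = 0 ∧ Φ₂.B w y = 1})
      (fun x hx c => by
        have := hA j (update x j (c • x j)) (by simp [show Φ₂.B w (x j) = 0 by simpa using hx j])
          fun i hi => by simpa [hi] using hx i
        rwa [pu.map_update_smul, update_eq_self] at this) x fun i => by
      by_cases e : i = j
      · exact Submodule.subset_span (by simpa [e])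
      · exact Fm.mem_of_np hl l0 hw hw0 _ (fun y h1 h2 => Submodule.subset_span (by simp [e, h1, h2])) _
  obtain ⟨w', -, e⟩ := Fm.exists_partner' hw hw0
  have k2 : ⊤ ≤ X ⊔ Submodule.span F {pu fun _ => w'} := h.span.ge.trans (Submodule.span_le.2 (by
    rintro _ ⟨x, rfl⟩
    refine multilinear_mem _ (fun _ => {y | Φ₂.B w y = 0 ∨ y = w'}) (fun x hx => ?_) x fun i => ?_
    · by_cases hc : ∃ j, Φ₂.B w (x j) = 0
      · exact Submodule.mem_sup_left (k1 _ x hc.choose_spec)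
      · rw [show x = fun _ => w' from funext fun j => (hx j).resolve_left fun e => hc ⟨j, e⟩]
        exact Submodule.mem_sup_right (Submodule.mem_span_singleton_self _)
    · rw [← sub_add_cancel (x i) (Φ₂.B w (x i) • w')]
      exact add_mem (Submodule.subset_span (Or.inl (by simp [e])))
        (Submodule.smul_mem _ _ (Submodule.subset_span (Or.inr rfl)))))
  obtain ⟨y, hy, _, hz, rfl⟩ := Submodule.mem_sup.1 (k2 (Submodule.mem_top (x := v)))
  obtain ⟨a, rfl⟩ := Submodule.mem_span_singleton.1 hz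
  have k3 : Φ.InA M (pu fun _ => w) y := one_smul F y ▸ hy 1
  rw [map_add, k3.perp, map_smul, h.B] at hv
  simpa [show a = 0 by simpa [e, h.ne] using hv]

theorem EG_le {Φ₁ : Fm F U} (hF : TF (T j) Φ₁ Φ₂ Φ) {w : W} (hw : Φ₂.Q w = 0) (hw0 : w ≠ 0)
    (hA : ∀ w, Φ₂.Q w = 0 → w ≠ 0 → Φ.Full M (pu fun _ => w)) : Φ.EG ≤ M :=
  let ⟨w', q, e⟩ := Fm.exists_partner' hw hw0
  Fm.EG_le_of_full (hA w hw hw0) (hA w' q fun e' => by simp [e'] at e) (h.Q_pu hF hw) (h.Q_pu hF q)
    (by simp [h.B, e, h.ne])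

end PT

variable (Φ₂) in
/-- The factors of a pure element. -/
def nu (S : Finset ι) (x : ι → W) : ι → End F W := fun j => if j ∈ S then Φ₂.rk (x j) (x j) else 1

/-- The hypotheses of the argument with pure elements. -/
structure WQ (T : ι → Tn F U W V) (Φ₁ : ι → Fm F U) (Φ₂ : Fm F W) (Φ : Fm F V)
    (M : Subgroup (V ≃ₗ[F] V)) (l : F) (pu : MultilinearMap F (fun _ : ι => W) V) (κ : F) :
    Prop where
  tp : TP T
  wk : ∀ i, WK (T i) (Φ₁ i) Φ₂ Φ M l
  pt : PT T Φ₂ Φ pu κ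
  sw : Sw T M
  three : ∃ c, Φ.σ c = c ∧ c ≠ 0 ∧ c ≠ 1
  test : ∀ x : End F W, (∀ s, Φ₂.Q s = 0 → Φ₂.B s (x s) = 0) → ∃ c : F, ∀ v, x v = c • v

/-- Elements of the centre of the unipotent radical. -/
def ZZ (T : Tn F U W V) (Φ₂ : Fm F W) (M : Subgroup (V ≃ₗ[F] V)) (w : W) (A : End F V) : Prop :=
  HasU M A ∧ ∃ c, T.Cm c ∧ A = c * T.sl (Φ₂.rk w w)

namespace WQ

variable {Φ₁ : ι → Fm F U} (h : WQ T Φ₁ Φ₂ Φ M l pu κ) [Finite F] {w : W} (hw : Φ₂.Q w = 0)
  (hw0 : w ≠ 0) {m : ι} {A : End F V} {S S' : Finset ι} {a : F}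

/-- `M` contains the pure elements with support `S`. -/
def Pu (S : Finset ι) (a : F) : Prop :=
  a ≠ 0 ∧ ∀ x, (∀ j, Φ₂.Q (x j) = 0) → HasU M (a • h.tp.po (nu Φ₂ S x))

include h hw hw0

theorem sand (hA : ZZ (T m) Φ₂ M w A) (hj : j ≠ m) {s : W} (hs : Φ₂.Q s = 0) :
    ZZ (T m) Φ₂ M w ((T j).sl (Φ₂.rk s s) * A * (T j).sl (Φ₂.rk s s)) := by
  obtain ⟨h1, c, hc, rfl⟩ := hA
  have cn := h.tp.cm m j hj.symm (Φ₂.rk s s)
  set n := (T j).sl (Φ₂.rk s s)
  set N := (T m).sl (Φ₂.rk w w) with hN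
  have q : ∀ {c c' : End F V}, (T m).Cm c' → ∀ v, (c * N) ((c' * N) v) = 0 := fun hc v => by
    simp [hN, hc.app, Fm.rk, Tn.sl_rk_rk, Φ₂.B_self hw]
  have k : ∀ a, Φ.σ a = a → HasU M (dcm ((a * l) • n) c * N) := fun a ha => by
    obtain ⟨τ, hτ, e⟩ := (h.wk j).tf.tv₂.exists_tv (h.wk j).hl hs (((h.wk j).tf.σ₂ a).trans ha)
    have e1 := Tn.cjL_sub (T := T j) (ν := a • l • Φ₂.rk s s) e (fun x => by simp [Φ₂.B_self hs]) c
    rw [map_smul, map_smul, smul_smul] at e1
    rw [← e1, sub_mul]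
    refine HasU.sub (h1.conj' ((h.wk j).R τ hτ) fun v => ?_) h1 (q hc) (q hc)
    rw [End.mul_apply, End.mul_apply, ← cjL_app]
    exact congrArg _ (h.tp.cm_krR hj.symm τ _ v)
  have cd : ∀ a : F, (T m).Cm (dcm (a • n) c) := fun a x v => by simp [dcm, hc.app, cn.app]
  have q' : ∀ (a a' b b' : F) v, (a • (dcm (b • n) c * N)) ((a' • (dcm (b' • n) c * N)) v) = 0 :=
    fun a a' b b' v => by rw [LinearMap.smul_apply, LinearMap.smul_apply, map_smul, q (cd _)]; simp
  obtain ⟨b, b1, b0, b2⟩ := h.three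
  have b3 := sub_ne_zero.2 b2
  have l0 := (h.wk j).l0
  have ll : Φ.σ (l * l) = l * l := by rw [← (h.wk j).tf.σ₂, Fm.σ_lam_sq (h.wk j).hl]
  have k' := fun a ha a' ha' => (h.wk m).hasU_cm (cd _) hw hw0 (k a ha) (a := a') ha' hw
  refine ⟨((k' 1 (map_one _) ((b - 1) * (l * l))⁻¹ (by rw [map_inv₀, map_mul, ll]; simp [b1])).sub
    (k' b b1 (b * (b - 1) * (l * l))⁻¹ (by rw [map_inv₀, map_mul, ll]; simp [b1]))
    (q' _ _ _ _) (q' _ _ _ _)).congr fun v => ?_, n * c * n, (cn.mul hc).mul cn, ?_⟩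
  · simp only [dcm, LinearMap.sub_apply, LinearMap.smul_apply, End.mul_apply, map_smul, cn.app]
    match_scalars <;> field_simp <;> ring
  · exact LinearMap.ext fun v => by simp [cn.app, hN]

theorem sand_po (hA : ZZ (T m) Φ₂ M w A) (S : Finset ι) (hm : m ∉ S) : ZZ (T m) Φ₂ M w
    (h.tp.po (nu Φ₂ S fun _ => w) * A * h.tp.po (nu Φ₂ S fun _ => w)) := by
  induction S using Finset.induction_on with
  | empty => rw [show nu Φ₂ ∅ (fun _ : ι => w) = 1 from rfl]; simpa
  | insert j S hj ih =>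
    have := h.sand hw hw0 (ih fun e => hm (by simp [e])) (j := j) (fun e => hm (by simp [e])) hw
    rw [← h.tp.po_single, ← mul_assoc, ← mul_assoc, ← map_mul, mul_assoc, ← map_mul] at this
    convert this using 2
    · congr 2; funext i; by_cases e : i = j <;> simp [nu, e, hj]
    · congr 1; funext i; by_cases e : i = j <;> simp [nu, e, hj]

omit hw hw0 in
theorem zz_po {z : ι → End F W} (hz : z m = Φ₂.rk w w) (a : F) :
    ∃ c, (T m).Cm c ∧ a • h.tp.po z = c * (T m).sl (Φ₂.rk w w) :=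
  ⟨_, (h.tp.cm_po (update_self m 1 z)).smul a, by rw [h.tp.po_eq z m, hz, smul_mul_assoc]⟩

theorem pu_of (a0 : a ≠ 0) (h1 : HasU M (a • h.tp.po (nu Φ₂ S fun _ => w))) : h.Pu S a := by
  refine ⟨a0, fun x hx => ?_⟩
  suffices ∀ A : Finset ι, HasU M (a • h.tp.po (nu Φ₂ S (A.piecewise x fun _ => w))) by
    simpa using this Finset.univ
  intro A
  induction A using Finset.induction_on with
  | empty => simpa
  | insert j A hj ih =>
    by_cases hS : j ∈ S
    · rw [h.tp.po_eq _ j, ← smul_mul_assoc] at ih ⊢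
      simp only [nu, hS, if_true, Finset.piecewise_eq_of_notMem _ _ _ hj,
        Finset.piecewise_insert_self] at ih ⊢
      convert (h.wk j).hasU_cm ((h.tp.cm_po (update_self j 1 _)).smul a) hw hw0 ih (map_one _)
        (hx j) using 1
      rw [one_smul]
      congr 3
      funext i
      by_cases e : i = j <;> simp [e, nu, Finset.piecewise]
    · convert ih using 3
      funext i
      by_cases e : i = j <;> simp [e, nu, hS, Finset.piecewise]

theorem Pu.smul (hp : h.Pu S a) (hm : m ∈ S) {b : F} (hb : Φ.σ b = b) (b0 : b ≠ 0) :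
    h.Pu S (b * a) := by
  obtain ⟨c, hc, e⟩ := h.zz_po (z := nu Φ₂ S fun _ => w) (m := m) (if_pos hm) a
  exact h.pu_of hw hw0 (mul_ne_zero b0 hp.1) (by
    rw [mul_smul, e]; exact (h.wk m).hasU_cm hc hw hw0 (e ▸ hp.2 _ fun _ => hw) hb hw)

omit hw hw0 in
theorem Pu.swap (hp : h.Pu S a) {j k i : ι} (hjk : j ≠ k) (hj : i ≠ j) (hk : i ≠ k)
    (e : ∀ i, i ∈ S' ↔ Equiv.swap j k i ∈ S) : h.Pu S' a := by
  obtain ⟨p, hp', ep⟩ := h.sw j k hjk ⟨i, hj, hk⟩
  refine ⟨hp.1, fun x hx => (hp.2 (x ∘ Equiv.swap j k) fun _ => hx _).conj' hp' fun v => ?_⟩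
  rw [LinearMap.smul_apply, map_smul, h.tp.po_swap (σ := Equiv.swap j k) (by simp)
    (by convert ep), LinearMap.smul_apply]
  congr 3
  funext i
  simp [nu, e]

/-- Extraction of pure elements. -/
theorem exists_pu (A : Finset ι) : ∀ S : Finset ι, m ∈ S → (∀ j ∈ A, j ∉ S) → ∀ c : End F V,
    (∀ i ∉ A, (T i).Cm c) → c ≠ 0 → HasU M (c * h.tp.po (nu Φ₂ S fun _ => w)) →
    ∃ S' a, S ⊆ S' ∧ h.Pu S' a ∧ ((∃ b : F, ∀ v, c v = b • v) ∨ S' ≠ S) := by
  induction A using Finset.induction_on with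
  | empty =>
    intro S _ _ c hc c0 h1
    obtain ⟨b, e⟩ := h.tp.scal c fun i => hc i (by simp)
    exact ⟨S, b, subset_rfl, h.pu_of hw hw0 (fun e0 => c0 (LinearMap.ext fun v => by simp [e, e0]))
      (h1.congr fun v => by simp [e]), Or.inl ⟨b, e⟩⟩
  | insert j A hj ih =>
    intro S hm hS c hc c0 h1
    by_cases hn : (T j).Cm c
    · refine ih S hm (fun i hi => hS i (by simp [hi])) c (fun i hi => ?_) c0 h1
      by_cases e : i = j
      · exact e ▸ hn
      · exact hc i (by simp [e, hi])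
    obtain ⟨s, hs, k0⟩ : ∃ s, Φ₂.Q s = 0 ∧ (T j).co c (Φ₂.B s) s ≠ 0 := by
      by_contra hc
      push Not at hc
      exact hn (Tn.cm_of_test (fun s φ => Φ₂.Q s = 0 ∧ φ = Φ₂.B s) ⟨w, hw0⟩
        (fun x hx => h.test x fun s hs => hx s _ ⟨hs, rfl⟩) (by rintro s _ ⟨hs, rfl⟩; exact hc s hs))
    have jS := hS j (by simp)
    have mA : m ∉ insert j A := fun e => hS m e hm
    have cp := h.tp.cm_po (z := nu Φ₂ S fun _ => w) (if_neg jS)
    obtain ⟨c', hc', e⟩ := h.zz_po (z := nu Φ₂ S fun _ => w) (m := m) (if_pos hm) 1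
    rw [one_smul] at e
    have k1 := (h.sand hw hw0 ⟨h1, _, (hc m mA).mul hc', by rw [e, mul_assoc]⟩
      (fun e : j = m => jS (e ▸ hm)) hs).1
    have k2 := (h.wk j).hasU_cm (((T j).cm_co c (Φ₂.B s) s).mul cp) hs
      (fun e => k0 (LinearMap.ext ((T j).ext fun u x => by simp [e])))
      (k1.congr fun v => by
        simpa [cp.app, Fm.rk] using (LinearMap.congr_fun ((T j).co_mul c (Φ₂.B s) (Φ₂.B s) s s)
          (h.tp.po (nu Φ₂ S fun _ => w) v)).symm) (map_one _) hw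
    obtain ⟨S', a, k3, k4, -⟩ := ih (insert j S) (by simp [hm])
      (fun i hi => by simp [hS i (by simp [hi]), show i ≠ j from fun e => hj (e ▸ hi)]) _
      (fun i hi => by
        by_cases e : i = j
        · exact e ▸ (T i).cm_co _ _ _
        · exact h.tp.cm_co e (hc i (by simp [e, hi])) _ _) k0 (by
        rw [one_smul, mul_assoc, ← h.tp.po_single, ← map_mul] at k2
        convert k2 using 3
        funext i
        by_cases e : i = j <;> simp [nu, e, jS])
    exact ⟨S', a, (Finset.subset_insert j S).trans k3, k4,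
      Or.inr fun e => jS (e ▸ k3 (Finset.mem_insert_self j S))⟩

/-- Commutators of pure elements. -/
theorem Pu.union {a' : F} (hp : h.Pu S a) (hp' : h.Pu S' a') {m' : ι} (hm : m ∈ S) (hm1 : m ∉ S')
    (hm' : m' ∈ S') (hm2 : m' ∉ S) {x y : ι → W} (hx : ∀ j, Φ₂.Q (x j) = 0)
    (hy : ∀ j, Φ₂.Q (y j) = 0)
    (hne : ∏ j ∈ S ∩ S', Φ₂.B w (x j) * Φ₂.B (x j) (y j) * Φ₂.B (y j) w ≠
      ∏ j ∈ S ∩ S', Φ₂.B w (y j) * Φ₂.B (y j) (x j) * Φ₂.B (x j) w) : ∃ b, h.Pu (S ∪ S') b := by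
  set X := nu Φ₂ S fun j => if j ∈ S' then x j else w with hX
  set Y := nu Φ₂ S' fun j => if j ∈ S then y j else w with hY
  have r0 : Φ₂.rk w w * Φ₂.rk w w = 0 := LinearMap.ext fun v => by simp [Φ₂.B_self hw]
  have z : ∀ {z : ι → End F W} (j : ι) (b : F) (v : V), z j = 0 → b • h.tp.po z v = 0 :=
    fun j b v e => by simp [h.tp.po_zero e]
  have k1 := (hp.2 (fun j => if j ∈ S' then x j else w) fun j => by split_ifs; exacts [hx j, hw]).comm
    (hp'.2 (fun j => if j ∈ S then y j else w) fun j => by split_ifs; exacts [hy j, hw])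
    (fun v => by simpa [← hX, mul_smul] using z (z := X * X) m (a * a) v (by simp [hX, nu, hm, hm1, r0]))
    (fun v => by
      simpa [← hY, mul_smul] using z (z := Y * Y) m' (a' * a') v (by simp [hY, nu, hm', hm2, r0]))
    (fun v => by
      simpa [← hX, ← hY, mul_smul] using z (z := X * Y * X) m (a * (a' * a)) v
        (by simp [hX, hY, nu, hm, hm1, r0]))
    (fun v => by
      simpa [← hX, ← hY, mul_smul] using z (z := Y * X * Y) m' (a' * (a * a')) v
        (by simp [hX, hY, nu, hm', hm2, r0]))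
  obtain ⟨c, hc, e⟩ := h.zz_po (z := X * Y) (m := m) (w := w) (by simp [hX, hY, nu, hm, hm1]) (a * a')
  obtain ⟨c', hc', e'⟩ := h.zz_po (z := Y * X) (m := m) (w := w) (by simp [hX, hY, nu, hm, hm1])
    (a * a')
  have k2 := (h.sand_po hw hw0 (A := (a * a') • h.tp.po (X * Y) - (a * a') • h.tp.po (Y * X))
    ⟨k1.congr fun v => by simp [← hX, ← hY, smul_smul, mul_comm], c + (-1 : F) • c',
      hc.add (hc'.smul _), by rw [e, e']; simp [add_mul, sub_eq_add_neg]⟩ (S ∩ S')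
    (by simp [hm1])).1
  have k3 : ∀ (Z : ι → End F W) (α : ι → F), (∀ j ∈ S ∩ S', Φ₂.rk w w * Z j * Φ₂.rk w w =
      α j • Φ₂.rk w w) → (∀ j ∉ S ∩ S', Z j = nu Φ₂ (S ∪ S') (fun _ => w) j) →
      h.tp.po (nu Φ₂ (S ∩ S') fun _ => w) * h.tp.po Z * h.tp.po (nu Φ₂ (S ∩ S') fun _ => w) =
        (∏ j ∈ S ∩ S', α j) • h.tp.po (nu Φ₂ (S ∪ S') fun _ => w) := fun Z α h1 h2 => by
    rw [← map_mul, ← map_mul, ← Finset.prod_ite_mem_eq, ← h.pt.po_smul]
    congr 1
    funext j
    by_cases e : j ∈ S ∩ S'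
    · simp [nu, e, h1 j e, (Finset.mem_inter.1 e).1]
    · simp [nu, e, h2 j e]
  have k4 : ∀ j ∉ S ∩ S', (X * Y) j = nu Φ₂ (S ∪ S') (fun _ => w) j ∧
      (Y * X) j = nu Φ₂ (S ∪ S') (fun _ => w) j := fun j hj => by
    by_cases e : j ∈ S <;> by_cases e' : j ∈ S' <;> simp_all [nu]
  refine ⟨_, h.pu_of hw hw0 (mul_ne_zero (mul_ne_zero hp.1 hp'.1) (sub_ne_zero.2 hne)) ?_⟩
  rw [mul_sub, sub_mul, mul_smul_comm, mul_smul_comm, smul_mul_assoc, smul_mul_assoc,
    k3 _ _ (fun j hj => ?_) fun j hj => (k4 j hj).1, k3 _ _ (fun j hj => ?_) fun j hj => (k4 j hj).2,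
    ← smul_sub, ← sub_smul, smul_smul] at k2
  · exact k2
  all_goals
    refine LinearMap.ext fun v => ?_
    simp only [hX, hY, nu, Finset.mem_inter.1 hj, if_true, Pi.mul_apply, End.mul_apply, Fm.rk_apply,
      map_smul, smul_smul, LinearMap.smul_apply, smul_eq_mul]
    congr 1
    ring

end WQ

end Cfsg.Agent.Class.Max
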