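import Mathlib
import Cfsg.Agent.Class.Max.C7M

/-!
Tensor powers of `U₃(q)` and `Sp₂(q)`: the centre of the unipotent radical.
-/

set_option autoImplicit false
set_option linter.unusedSectionVars false

namespace Cfsg.Agent.Class.Max

open Module Function

variable {F U W V : Type*} [Field F] [AddCommGroup U] [Module F U] [AddCommGroup W]
  [Module F W] [AddCommGroup V] [Module F V] {Φ₂ : Fm F W} {Φ : Fm F V}
  {M : Subgroup (V ≃ₗ[F] V)} {l : F}
  [FiniteDimensional F U] [FiniteDimensional F W] [FiniteDimensional F V]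

theorem Fm.π_of_hasU (hI : M ≤ Φ.Iso) {e f : V} (he : Φ.Q e = 0) (hf : Φ.B e f = 1) {c : F}
    (h : Φ.HasE M e 0 c) : Φ.π c = 0 := by
  obtain ⟨g, hg, eg⟩ := h
  have := (hI hg).2 f
  rw [eg, Fm.ef, Φ.Q_sub, Φ.Q_smul_zero he] at this
  simpa [hf, Fm.B_eq_eps hf, mul_right_comm _ c, Φ.eps_sq] using this

theorem Fm.exists_aniso (h3 : finrank F W = 3) {w w' : W} (hw : Φ₂.B w w = 0)
    (e : Φ₂.B w w' = 1) : ∃ z, Φ₂.B w z = 0 ∧ Φ₂.B w' z = 0 ∧ Φ₂.B z z ≠ 0 := by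
  obtain ⟨z, -, z0, hz⟩ := exists_ne_zero_ker [Φ₂.B w, Φ₂.B w'] (⊤ : Submodule F W) (by simp [h3])
  have z1 : Φ₂.B w z = 0 := hz _ (by simp)
  have z2 : Φ₂.B w' z = 0 := hz _ (by simp)
  exact ⟨z, z1, z2, Fm.aniso_of_three h3.le (fun e' => by simp [e'] at e) hw z1 fun ⟨c, hc⟩ =>
    z0 (by rw [hc, show c = 0 by simpa [hc, Fm.B_eq_eps e, Φ₂.eps_ne] using z2, zero_smul])⟩

variable {ι : Type*} [Fintype ι] [DecidableEq ι] {T : ι → Tn F U W V}
  {pu : MultilinearMap F (fun _ : ι => W) V} {κ : F}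

theorem PT.po_erase (h : PT T Φ₂ Φ pu κ) (hT : TP T) (k : ι) (x y : ι → W) :
    hT.po (nu Φ₂ (Finset.univ.erase k) x) (pu y) =
      (∏ j ∈ Finset.univ.erase k, Φ₂.B (x j) (y j)) • pu (update x k (y k)) := by
  rw [h.po_pu, ← Finset.prod_ite_mem_eq, ← MultilinearMap.map_smul_univ]
  congr 1
  funext j
  by_cases e : j = k <;> simp [nu, e]

namespace WQ

variable {Φ₁ : ι → Fm F U} (h : WQ T Φ₁ Φ₂ Φ M l pu κ) [Finite F] {w : W} (hw : Φ₂.Q w = 0)
  (hw0 : w ≠ 0) {m : ι} {S S' : Finset ι} {a : F}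
include h hw hw0

theorem smul_of_step (hn : ¬ Φ.EG ≤ M) (step : ∀ S a, 2 ≤ S.card → h.Pu S a →
      Φ.EG ≤ M ∨ ∃ S' b, S.card < S'.card ∧ h.Pu S' b) (m : ι) :
    ∀ C ∈ (T m).cenG Φ₂ M, ∃ c : F, ∀ u, C u = c • u := fun C hC => by
  by_contra hc
  have key : ∀ n, ∀ S : Finset ι, ∀ a, Fintype.card ι ≤ S.card + n → 2 ≤ S.card → ¬ h.Pu S a :=
    fun n => by
      induction n with
      | zero =>
        intro S a h1 h2 hp
        obtain ⟨S', b, h3, -⟩ := (step S a h2 hp).resolve_left hn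
        exact absurd (S'.card_le_univ.trans h1) (by omega)
      | succ n ih =>
        intro S a h1 h2 hp
        obtain ⟨S', b, h3, h4⟩ := (step S a h2 hp).resolve_left hn
        exact ih S' b (by omega) (by omega) h4
  have inj := fun (a : F) (e : ∀ v, (T m).swap.sl C v = a • v) => hc ⟨a, LinearMap.congr_fun
    ((T m).swap.sl_inj h.tp.neW (y := a • 1) fun v => by simpa using e v)⟩
  obtain ⟨S, a, h1, h2, h3⟩ := h.exists_pu hw hw0 (Finset.univ.erase m) {m} (Finset.mem_singleton_self m)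
    (by simp) ((T m).swap.sl C) (fun i hi => by
      obtain rfl : i = m := by simpa using hi
      exact Tn.cm_swap C) (fun e => inj 0 (by simp [e])) ((hC w hw).congr fun v => by
      rw [show nu Φ₂ {m} (fun _ => w) = Pi.mulSingle m (Φ₂.rk w w) from funext fun i => by
        by_cases e : i = m <;> simp [nu, e], h.tp.po_single]
      exact (T m).ext (fun u x => by simp [Tn.xl_apply]) v)
  exact key _ S a (Nat.le_add_left _ _) (Finset.card_lt_card (Finset.ssubset_iff_subset_ne.2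
    ⟨h1, (h3.resolve_left fun ⟨a, e⟩ => inj a e).symm⟩)) h2

theorem exists_tv (m : ι) (hp : h.Pu Finset.univ a) : ∃ c, c ≠ 0 ∧ Φ.π c = 0 ∧
    ∀ x, (∀ j, Φ₂.Q (x j) = 0) → ∀ b, Φ.σ b = b → Φ.HasE M (pu x) 0 (b * c) := by
  have k : ∀ x, (∀ j, Φ₂.Q (x j) = 0) → ∀ b, Φ.σ b = b →
      Φ.HasE M (pu x) 0 (b * -(Φ.ε * a / κ)) := fun x hx b hb => by
    by_cases b0 : b = 0
    · simpa [b0] using Fm.hasE_zero _
    obtain ⟨g, hg, e⟩ := (hp.smul h hw hw0 (Finset.mem_univ m) hb b0).2 x hx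
    refine ⟨g, hg, fun v => ?_⟩
    rw [e, LinearMap.smul_apply, h.pt.ext (f := h.tp.po _) (g := κ⁻¹ • Φ.rk (pu x) (pu x)) fun y => by
      simp [h.pt.po_pu, nu, h.pt.B, MultilinearMap.map_smul_univ, smul_smul, h.pt.ne]]
    simp only [Fm.ef, LinearMap.smul_apply, Fm.rk_apply, map_zero, LinearMap.zero_apply]
    match_scalars
    · ring
    · linear_combination (-b * a * κ⁻¹ * Φ.B (pu x) v) * Φ.eps_sq
  obtain ⟨w', -, e⟩ := Fm.exists_partner' hw hw0
  exact ⟨_, by simp [Φ.eps_ne, hp.1, h.pt.ne], Fm.π_of_hasU (h.wk m).I (e := pu fun _ => w)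
    (h.pt.Q_pu (h.wk m).tf hw)    (f := κ⁻¹ • pu fun _ => w') (by simp [h.pt.B, e, h.pt.ne])
    (by simpa using k _ (fun _ => hw) 1 (map_one _)), k⟩

theorem EG_le_of_univ (htv : Φ.TV) (hy : ∀ w, Φ₂.Q w = 0 → w ≠ 0 →
      (∀ c, Φ₂.π c = 0) ∨ ∃ y, Φ₂.B w y = 0 ∧ Φ₂.B y y ≠ 0) (m : ι) (hp : h.Pu Finset.univ a) :
    Φ.EG ≤ M := by
  obtain ⟨c, c0, hc, k⟩ := h.exists_tv hw hw0 m hp
  have hF := (h.wk m).tf
  have tv : ∀ x, (∀ j, Φ₂.Q (x j) = 0) → Φ.TvC M (pu x) := fun x hx => ⟨h.pt.Q_pu hF (hx m),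
    fun c' hc' => by simpa [c0] using k x hx _ (Fm.fixed_div hc c0 hc')⟩
  refine h.pt.EG_le hF hw hw0 fun w hw hw0 v c' hv => (h.pt.inA (h.wk m).hl (h.wk m).l0 hw hw0
    hv.sing (fun j x x1 x2 => ?_) hv.perp).hasE (tv _ fun _ => hw).2 hv
  obtain ⟨w', q, e⟩ := Fm.exists_partner' hw hw0
  have k1 : ∀ y, Φ₂.Q y = 0 → Φ₂.B w y = Φ₂.B w (κ⁻¹ • w') → Φ.TvC M (pu (update x j y)) ∧
      Φ.B (pu fun _ => w) (pu (update x j y)) = 1 := fun y hy y1 => ⟨tv _ fun i => by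
      by_cases e : i = j
      · simpa [e]
      · simpa [e] using (x2 i e).1, by
      rw [h.pt.B, Finset.prod_eq_single j (fun i _ hi => by simpa [hi] using (x2 i hi).2) (by simp)]
      simp [y1, e, h.pt.ne]⟩
  have k0 := k1 _ (Φ₂.Q_smul_zero q κ⁻¹) rfl
  simpa [Fm.inAG] using Fm.mem_of_diff hF.tv₂ (by simpa only [hF.σ₂] using h.three) hw (Φ₂.Q_smul_zero q κ⁻¹)
    (by simp [e, h.pt.ne]) (hy w hw hw0)
    ((Φ.inAG M hv.sing).comap (pu.toLinearMap x j).toAddMonoidHom) (fun y hy y1 μ hμ => by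
      simpa [-map_smul, pu.map_update_smul, pu.map_update_sub, Fm.inAG] using Fm.TvC.inA htv hc c0 h.three
        (h.wk m).I (tv _ fun _ => hw) k0.1 (k1 y hy y1).1 k0.2 (k1 y hy y1).2
        ((hF.σ₂ μ).symm.trans hμ)) x1

omit hw hw0 in
theorem Pu.exch (hp : h.Pu S a) {k i : ι} (hm : m ∈ S) (hk : k ∉ S) (hi : i ∈ S.erase m) :
    h.Pu (insert k (S.erase m)) a :=
  hp.swap h (j := m) (k := k) (fun e => hk (e ▸ hm)) (Finset.ne_of_mem_erase hi)
    (fun e => hk (e ▸ Finset.mem_of_mem_erase hi)) fun j => by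
      by_cases e : j = m
      · simp [e, hk, show m ≠ k from fun e => hk (e ▸ hm)]
      by_cases e' : j = k
      · simp [e', hm]
      · simp [e, e', Equiv.swap_apply_of_ne_of_ne e e']

omit hw hw0 in
/-- The factor `U₃(q)`, `q ≥ 3`. -/
theorem cen_three (htv : Φ.TV) (h3 : finrank F W = 3) (hd : Φ₂.d ≤ 3) (hn : ¬ Φ.EG ≤ M) (m : ι) :
    ∀ C ∈ (T m).cenG Φ₂ M, ∃ c : F, ∀ u, C u = c • u := by
  obtain ⟨w, -, hw0, hw⟩ := Φ₂.iso ⊤ (by rw [finrank_top]; omega)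
  refine h.smul_of_step hw hw0 hn (fun S a h2 hp => ?_) m
  by_cases hS : S = Finset.univ
  · refine Or.inl (h.EG_le_of_univ hw hw0 htv (fun w hw hw0 => ?_) m (hS ▸ hp))
    obtain ⟨w', -, e⟩ := Fm.exists_partner' hw hw0
    exact Or.inr ((Fm.exists_aniso h3 (Φ₂.B_self hw) e).imp fun _ h => ⟨h.1, h.2.2⟩)
  obtain ⟨k, hk⟩ : ∃ k, k ∉ S := by simpa [Finset.eq_univ_iff_forall] using hS
  obtain ⟨m, hm, i, hi, hmi⟩ := Finset.one_lt_card.1 h2
  have hi' : i ∈ S.erase m := by simp [hi, hmi.symm]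
  have e1 : S ∩ insert k (S.erase m) = S.erase m := by
    rw [Finset.inter_insert_of_notMem hk, Finset.inter_eq_right.2 (S.erase_subset m)]
  have e2 : S ∪ insert k (S.erase m) = insert k S := by
    rw [Finset.union_insert, Finset.union_eq_left.2 (S.erase_subset m)]
  obtain ⟨w', q, e⟩ := Fm.exists_partner' hw hw0
  obtain ⟨z, z1, z2, z3⟩ := Fm.exists_aniso h3 (Φ₂.B_self hw) e
  obtain ⟨c, hv⟩ := Fm.exists_valid hw z1
  have hl := (h.wk m).hl
  have key : ∀ z c, Φ₂.Valid w z c → Φ₂.B w' z = 0 →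
      -(Φ₂.ε * c) * (-(Φ₂.ε * l)) ^ ((S.erase m).erase i).card =
        -Φ₂.σ c * (-Φ₂.σ l) ^ ((S.erase m).erase i).card ∨ ∃ b, h.Pu (insert k S) b :=
    fun z c hv z2 => by
      refine or_iff_not_imp_left.2 fun hne => e2 ▸ hp.union h hw hw0 (hp.exch h hm hk hi') hm
        (by simp [show m ≠ k from fun e => hk (e ▸ hm)]) (Finset.mem_insert_self _ _) hk
        (x := fun _ => w') (y := update (fun _ => Φ₂.ef w 0 l w') i (Φ₂.ef w z c w')) (fun _ => q)
        (fun j => ?_) ?_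
      · by_cases e : j = i
        · simpa [e] using (hv.Q_ef w').trans q
        · simpa [e] using ((Fm.valid_tv hw hl).Q_ef w').trans q
      have a1 : ∀ z c, Φ₂.Valid w z c → Φ₂.B w' z = 0 →
          Φ₂.B w w' * Φ₂.B w' (Φ₂.ef w z c w') * Φ₂.B (Φ₂.ef w z c w') w = -(Φ₂.ε * c) ∧
          Φ₂.B w (Φ₂.ef w z c w') * Φ₂.B (Φ₂.ef w z c w') w' * Φ₂.B w' w = -Φ₂.σ c :=
        fun z c hv z2 => by
          simp only [Fm.ef, Φ₂.bsimp, e, Fm.B_eq_eps e, z2, Φ₂.perp_symm z2, hv.perp,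
            Φ₂.perp_symm hv.perp, Φ₂.B_self hw, Φ₂.B_self q]
          exact ⟨by linear_combination -(Φ₂.ε * c) * Φ₂.eps_sq,
            by linear_combination -Φ₂.σ c * Φ₂.eps_sq⟩
      have a2 := a1 0 l (Fm.valid_tv hw hl) (map_zero _)
      rw [e1, ← Finset.mul_prod_erase _ _ hi', ← Finset.mul_prod_erase _ _ hi', update_self,
        (a1 z c hv z2).1, (a1 z c hv z2).2,
        Finset.prod_eq_pow_card (b := -(Φ₂.ε * l)) fun j hj => by
          rw [update_of_ne (Finset.ne_of_mem_erase hj), a2.1],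
        Finset.prod_eq_pow_card (b := -Φ₂.σ l) fun j hj => by
          rw [update_of_ne (Finset.ne_of_mem_erase hj), a2.2]]
      exact hne
  obtain ⟨b, hb⟩ : ∃ b, h.Pu (insert k S) b := by
    by_contra hc
    have k1 := (key z c hv z2).resolve_right hc
    have k2 := (key 0 l (Fm.valid_tv hw hl) (map_zero _)).resolve_right hc
    have l0 := mul_ne_zero Φ₂.eps_ne (h.wk m).l0
    rw [Fm.σ_lam hl] at k1 k2
    refine z3 (mul_left_cancel₀ (mul_ne_zero (mul_ne_zero Φ₂.eps_ne l0)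
      (pow_ne_zero ((S.erase m).erase i).card (neg_ne_zero.2 l0))) ?_)
    rw [← Φ₂.trace c z hv.norm]
    linear_combination -(Φ₂.ε * l) * k1 - Φ₂.σ c * k2 +
      (Φ₂.ε * l * Φ₂.σ c * (-(Φ₂.ε * l)) ^ ((S.erase m).erase i).card) * Φ₂.eps_sq
  exact Or.inr ⟨_, b, by simp [hk], hb⟩

theorem Pu.union_sp (hS : Φ₂.IsSp) (h2 : (2 : F) ≠ 0) {a' : F} (hp : h.Pu S a) (hp' : h.Pu S' a')
    {m' : ι} (hm : m ∈ S) (hm1 : m ∉ S') (hm' : m' ∈ S') (hm2 : m' ∉ S) (ho : Odd (S ∩ S').card) :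
    ∃ b, h.Pu (S ∪ S') b := by
  obtain ⟨w', q, e⟩ := Fm.exists_partner' hw hw0
  refine hp.union h hw hw0 hp' hm hm1 hm' hm2 (x := fun _ => w') (y := fun _ => w + w')
    (fun _ => q) (fun _ => hS.Q _) ?_
  simp only [Φ₂.bsimp, hS.B_self, e, hS.symm w w', Finset.prod_const]
  norm_num [ho.neg_one_pow]
  exact fun e => h2 (by linear_combination e)

omit hw hw0 in
theorem EG_le_of_erase (hS : Φ₂.IsSp) (hW : finrank F W ≤ 2) (hπ : ∀ c, Φ.π c = 0 → c = 0)
    (h4 : 4 ≤ Fintype.card ι) {k : ι} (hp : h.Pu (Finset.univ.erase k) a) : Φ.EG ≤ M := by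
  have hF := (h.wk k).tf
  have hσ : ∀ a, Φ.σ a = a := fun a => by rw [← hF.σ₂, hS.σ]
  have three : ∀ j : ι, ∃ a b c : ι, a ≠ j ∧ b ≠ j ∧ c ≠ j ∧ a ≠ b ∧ a ≠ c ∧ b ≠ c := fun j => by
    simpa using Finset.two_lt_card_iff.1 (show 2 < (Finset.univ.erase j).card by simp; omega)
  have p1 : ∀ j, h.Pu (Finset.univ.erase j) a := fun j => by
    by_cases e : j = k
    · exact e ▸ hp
    obtain ⟨i, i', -, a1, a2, -, a3, -⟩ := three j
    obtain ⟨i, b1, b2⟩ : ∃ i, i ≠ j ∧ i ≠ k := by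
      by_cases e' : i = k
      exacts [⟨i', a2, e' ▸ a3.symm⟩, ⟨i, a1, e'⟩]
    exact hp.swap h e b1 b2 fun i => by simp [Equiv.swap_apply_eq_iff]
  obtain ⟨w, hw0⟩ := h.tp.neW
  refine h.pt.EG_le hF (hS.Q w) hw0 fun w hw hw0 v c hv => (h.pt.inA (h.wk k).hl (h.wk k).l0 hw hw0
    hv.sing (fun j x x1 x2 => ?_) hv.perp).hasE (fun c hc => hπ c hc ▸ Fm.hasE_zero _) hv
  obtain ⟨w', -, e⟩ := Fm.exists_partner' hw hw0
  let L : (ι → W) → Prop := fun y => ∀ c : F, Φ.InA M (pu fun _ => w) (c • pu y)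
  have r0 : ∀ j, L (update (fun _ => w) j w') := fun j c => by
    by_cases c0 : c = 0
    · simpa [c0] using Fm.inA_zero hv.sing
    obtain ⟨i, -, -, hi, -⟩ := three j
    have pr : ∀ y : ι → W, ∏ i, Φ₂.B (update (fun _ => w) j w' i) (y i) =
        Φ₂.B w' (y j) * ∏ i ∈ Finset.univ.erase j, Φ₂.B w (y i) := fun y => by
      rw [← Finset.mul_prod_erase _ _ (Finset.mem_univ j), update_self]
      exact congrArg _ (Finset.prod_congr rfl fun i hi => by
        rw [update_of_ne (Finset.ne_of_mem_erase hi)])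
    obtain ⟨g, hg, eg⟩ := ((p1 j).smul h hw hw0 (m := i) (by simp [hi]) (hσ (Φ.ε * c * κ / a))
      (by simp [Φ.eps_ne, c0, h.pt.ne, hp.1])).2 _ fun _ => hw
    refine Fm.inA_of_perp hg ((h.wk k).I hg) hv.sing (f := κ⁻¹ • pu fun _ => w')
      (by simp [h.pt.B, e, h.pt.ne]) (by
        rw [map_smul, h.pt.B, Finset.prod_eq_zero (Finset.mem_univ i) (by simp [hi, hS.B_self])]
        simp) fun y hy => ?_
    rw [eg, LinearMap.smul_apply, h.pt.ext (f := h.tp.po _) (g := κ⁻¹ • (Φ.rk (pu (update (fun _ => w)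
      j w')) (pu fun _ => w) - Φ.rk (pu fun _ => w) (pu (update (fun _ => w) j w')))) fun y => ?_]
    · simp only [LinearMap.smul_apply, LinearMap.sub_apply, Fm.rk_apply, hy, Φ.bsimp, hσ]
      match_scalars <;> field_simp [hp.1, h.pt.ne] <;> ring
    obtain ⟨t, et⟩ := Fm.eq_smul_of_two (y := y j - Φ₂.B w (y j) • w') hW hw0 (hS.B_self w)
      (by simp [e])
    have := congrArg (Φ₂.B w') et
    simp only [Φ₂.bsimp, hS.B_self, hS.symm w w', e] at this
    rw [h.pt.po_erase, eq_add_of_sub_eq et, pu.map_update_add, pu.map_update_smul,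
      pu.map_update_smul, update_eq_self_iff.2 rfl]
    simp only [LinearMap.smul_apply, LinearMap.sub_apply, Fm.rk_apply, h.pt.B, pr,
      ← Finset.mul_prod_erase _ _ (Finset.mem_univ j)]
    match_scalars <;> field_simp [h.pt.ne]
    linear_combination (∏ i ∈ Finset.univ.erase j, Φ₂.B w (y i)) * this
  have r1 : ∀ y, L y → ∀ j i x, i ≠ j → x i = w → (∀ i, i ≠ j → Φ₂.B (x i) (y i) ≠ 0) →
      L (update x j (y j)) := fun y hy j i x hij xi hx c => by
    obtain ⟨g, hg, eg⟩ := (p1 j).2 x fun _ => hS.Q _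
    have p0 := mul_ne_zero hp.1 (Finset.prod_ne_zero_iff.2 fun i (hi : i ∈ Finset.univ.erase j) =>
      hx i (Finset.ne_of_mem_erase hi))
    convert (hy (c / (a * ∏ i ∈ Finset.univ.erase j, Φ₂.B (x i) (y i)))).comm_fix hg ((h.wk k).I hg)
      (by rw [eg, LinearMap.smul_apply, h.pt.po_erase, Finset.prod_eq_zero (i := i) (by simp [hij])
        (by simp [xi, hS.B_self])]; simp) using 1
    rw [eg, add_sub_cancel_left, LinearMap.smul_apply, map_smul, h.pt.po_erase, smul_smul, smul_smul,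
      mul_comm a, mul_assoc, div_mul_cancel₀ _ p0]
  have r2 : ∀ i j, i ≠ j → ∀ z : ι → W, z i = w → z j = w →
      (∀ k, k ≠ i → k ≠ j → Φ₂.B w (z k) ≠ 0) → L z := fun i j hij z h1 h2 h3 => by
    have := r1 _ (r0 i) j i z hij h1 fun k hk => by
      by_cases e' : k = i
      · simp [e', h1, e]
      · simpa [e'] using Φ₂.ne_symm (h3 k e' hk)
    rwa [update_of_ne hij.symm, ← h2, update_eq_self] at this
  obtain ⟨t, et⟩ := Fm.eq_smul_of_two hW hw0 (hS.B_self w) x1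
  obtain ⟨i₁, i₂, i₃, a1, a2, a3, a4, a5, a6⟩ := three j
  have z0 : ∀ i, update x j w i ≠ 0 := fun i => by
    by_cases e' : i = j
    · simpa [e']
    · exact fun e0 => by simpa [e', show x i = 0 by simpa [e'] using e0] using (x2 i e').2
  choose y _ y1 y2 using fun i => (h.wk k).rk.exists_sing_not_perp hw (hS.Q _) hw0 (z0 i)
  have := r1 (update (update (update y i₁ w) i₂ w) i₃ (x i₃)) (r2 i₁ i₂ a4 _ (by simp [a4, a5])
    (by simp [a6]) fun i h1 h2 => by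
      by_cases e' : i = i₃
      · simp [e', (x2 i₃ a3).2]
      · simpa [e', h1, h2] using Φ₂.ne_symm (y1 i)) i₃ j (update x j w) a3.symm (by simp)
    (fun i hi => by
      have k : ∀ i, i ≠ j → Φ₂.B (x i) w ≠ 0 := fun i hi => Φ₂.ne_symm (by simp [(x2 i hi).2])
      by_cases e1 : i = i₁
      · simpa [e1, a1, a4, a5] using k i₁ a1
      by_cases e2 : i = i₂
      · simpa [e2, a2, a6] using k i₂ a2
      · rw [update_of_ne hi, update_of_ne e2, update_of_ne e1]; exact Φ₂.ne_symm (y2 i)) t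
  rwa [update_self, update_eq_self_iff.2 (update_of_ne a3 w x).symm, ← pu.map_update_smul, ← et,
    update_eq_self] at this

omit hw hw0 in
/-- The factor `Sp₂(q)`, `q` odd. -/
theorem cen_two (hS : Φ₂.IsSp) (hW : finrank F W ≤ 2) (h2 : (2 : F) ≠ 0)
    (hV : (Φ.TV ∧ Odd (Fintype.card ι)) ∨ ∀ c, Φ.π c = 0 → c = 0) (hn : ¬ Φ.EG ≤ M) (m : ι) :
    ∀ C ∈ (T m).cenG Φ₂ M, ∃ c : F, ∀ u, C u = c • u := by
  obtain ⟨w, hw0⟩ := h.tp.neW
  have hw := hS.Q w
  refine h.smul_of_step hw hw0 hn (fun S a h3 hp => ?_) m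
  by_cases hS' : S = Finset.univ
  · rcases hV with hV | hV
    · exact Or.inl (h.EG_le_of_univ hw hw0 hV.1 (fun _ _ _ => Or.inl hS.π) m (hS' ▸ hp))
    · obtain ⟨c, c0, hc, -⟩ := h.exists_tv hw hw0 m (hS' ▸ hp)
      exact absurd (hV c hc) c0
  obtain ⟨k, hk⟩ : ∃ k, k ∉ S := by simpa [Finset.eq_univ_iff_forall] using hS'
  have ne : ∀ {m k : ι}, m ∈ S → k ∉ S → m ≠ k := fun hm hk e => hk (e ▸ hm)
  rcases Nat.even_or_odd S.card with he | ho
  · obtain ⟨m, hm, i, hi, hmi⟩ := Finset.one_lt_card.1 h3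
    obtain ⟨b, hb⟩ := hp.union_sp h hw hw0 hS h2 (hp.exch h hm hk (i := i) (by simp [hi, hmi.symm]))
      hm (by simp [ne hm hk]) (Finset.mem_insert_self _ _) hk (by
        rw [Finset.inter_insert_of_notMem hk, Finset.inter_eq_right.2 (S.erase_subset m),
          Finset.card_erase_of_mem hm]
        exact Nat.Even.sub_odd (by omega) he odd_one)
    exact Or.inr ⟨_, b, Finset.card_lt_card (Finset.ssubset_iff_of_subset Finset.subset_union_left
      |>.2 ⟨k, by simp, hk⟩), hb⟩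
  have h4 : 2 < S.card := by obtain ⟨n, hn⟩ := ho; omega
  by_cases hk' : S = Finset.univ.erase k
  · have e : S.card + 1 = Fintype.card ι := by
      rw [hk', Finset.card_erase_add_one (Finset.mem_univ k), Finset.card_univ]
    rcases hV with hV | hV
    · exact absurd (e ▸ hV.2) (Nat.not_odd_iff_even.2 ho.add_one)
    · exact Or.inl (h.EG_le_of_erase hS hW hV (by omega) (hk' ▸ hp))
  obtain ⟨k', k1, k2⟩ : ∃ k', k' ≠ k ∧ k' ∉ S := by
    by_contra hc
    push Not at hc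
    exact hk' (Finset.ext fun j => by simpa using ⟨fun hj => ne hj hk, hc j⟩)
  obtain ⟨m, m', i, hm, hm', hi, a1, a2, a3⟩ := Finset.two_lt_card_iff.1 h4
  obtain ⟨b, hb⟩ := hp.union_sp h hw hw0 hS h2 ((hp.exch h hm hk (i := i) (by simp [hi, a2.symm])).exch
    h (m := m') (k := k') (i := i) (by simp [hm', a1.symm]) (by simp [k1, k2])
    (by simp [hi, a2.symm, a3.symm])) hm (by simp [ne hm hk, ne hm k2]) (Finset.mem_insert_self _ _)
    k2 (by
      rw [Finset.inter_insert_of_notMem k2, Finset.erase_insert_of_ne (ne hm' hk).symm,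
        Finset.inter_insert_of_notMem hk, Finset.inter_eq_right.2
          ((Finset.erase_subset _ _).trans (S.erase_subset m)),
        Finset.card_erase_of_mem (by simp [hm', a1.symm]), Finset.card_erase_of_mem hm]
      obtain ⟨n, hn⟩ := ho
      exact ⟨n - 1, by omega⟩)
  exact Or.inr ⟨_, b, Finset.card_lt_card (Finset.ssubset_iff_of_subset Finset.subset_union_left
    |>.2 ⟨k', by simp, k2⟩), hb⟩

end WQ

end Cfsg.Agent.Class.Max
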