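import Mathlib
import Cfsg.Agent.Class.Max.C7N
import Cfsg.Agent.Class.Max.C7I
import Cfsg.Agent.Class.Max.C4Inst

/-!
Maximality of the tensor wreath subgroup for symplectic and unitary factors.
-/

set_option autoImplicit false
set_option linter.unusedSectionVars false

namespace Cfsg.Agent.Class.Max

open Module Function

variable {F U W V : Type*} [Field F] [AddCommGroup U] [Module F U] [AddCommGroup W]
  [Module F W] [AddCommGroup V] [Module F V] {Φ₂ : Fm F W} {Φ : Fm F V}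
  {M : Subgroup (V ≃ₗ[F] V)} {l : F}
  [FiniteDimensional F U] [FiniteDimensional F W] [FiniteDimensional F V]

namespace Fm

theorem IsSp.Iso_le (hS : Φ.IsSp) : Φ.Iso ≤ Φ.EG := by
  let K : (V ≃ₗ[F] V) → Submodule F V := fun g => LinearMap.ker (g.toLinearMap - LinearMap.id)
  have mK : ∀ g y, y ∈ K g ↔ g y = y := fun g y => by simp [K, sub_eq_zero]
  have tv := fun a c => valid_tv (hS.Q a) (hS.π c)
  have fx : ∀ g ∈ Φ.Iso, ∀ x c, K g ≤ K ((tv (g x - x) c).eich * g) := fun g hg x c y hy => by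
    rw [mK] at hy ⊢
    rw [mul_app, hy, Valid.eich_apply, ef_apply_of_perp _ (by simp)]
    rw [Φ.B_sub_left, ← hg.1 x y, hy, sub_self]
  suffices ∀ n, ∀ g ∈ Φ.Iso, finrank F V ≤ finrank F (K g) + n → g ∈ Φ.EG from
    fun g hg => this _ g hg (Nat.le_add_left _ _)
  intro n
  induction n with
  | zero =>
    intro g _ h
    have := Submodule.eq_top_of_finrank_eq (le_antisymm (K g).finrank_le h)
    rw [show g = 1 from LinearEquiv.ext fun y => (mK g y).1 (this ▸ trivial)]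
    exact Φ.EG.one_mem
  | succ n ih =>
    have k : ∀ g ∈ Φ.Iso, finrank F V ≤ finrank F (K g) + (n + 1) → ∀ x, Φ.B x (g x) ≠ 0 →
        g ∈ Φ.EG := fun g hg h x hx => by
      have hv := tv (g x - x) (Φ.B x (g x))⁻¹
      refine (Φ.EG.mul_mem_cancel_left hv.eich_mem).1 (ih _ (Φ.Iso.mul_mem
        (Φ.EG_le_Iso hv.eich_mem) hg) ?_)
      have := Submodule.finrank_lt_finrank_of_lt (SetLike.lt_iff_le_and_exists.2
        ⟨fx g hg x (Φ.B x (g x))⁻¹, x, (mK _ x).2 (by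
          simp [mul_app, Valid.eich_apply, ef, hS.ε, hS.B_self, hx]),
          fun e => hx (by rw [(mK g x).1 e, hS.B_self])⟩)
      omega
    intro g hg h
    by_cases h0 : ∃ x, Φ.B x (g x) ≠ 0
    · exact k g hg h _ h0.choose_spec
    push Not at h0
    by_cases h1 : ∀ x, g x = x
    · exact (LinearEquiv.ext h1 : g = 1) ▸ Φ.EG.one_mem
    obtain ⟨x, hx⟩ := not_forall.1 h1
    obtain ⟨y, hy⟩ := Φ.exists_B_ne (sub_ne_zero.2 hx)
    obtain ⟨z, -, z1, z2⟩ := exists_ne_zero_ne_zero (⊤ : Submodule F V) (φ := Φ.B (g x - x))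
      (ψ := fun z => Φ.B (g x - x) (g z)) (map_add _) (by simp [-map_sub]) ⟨y, trivial, hy⟩
      ⟨g⁻¹ y, trivial, by rwa [app_inv_app]⟩
    have hv := tv (g x - x) 1
    refine (Φ.EG.mul_mem_cancel_left hv.eich_mem).1 (k _ (Φ.Iso.mul_mem (Φ.EG_le_Iso hv.eich_mem) hg)
      (h.trans (Nat.add_le_add_right (Submodule.finrank_mono (fx g hg x 1)) _)) z ?_)
    rw [mul_app, hv.eich_apply, ef, map_sub, map_add, h0, map_smul, map_smul, map_zero]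
    simpa [-map_sub, Φ.eps_ne, z2] using Φ.ne_symm z1

theorem reg_of_torus (htv : Φ₂.TV) (hl : Φ₂.π l = 0) (l0 : l ≠ 0) {c : F} (c0 : c ≠ 0)
    (hc : Φ₂.σ c = c) (c1 : c * c ≠ 1) {w : W} (hw : Φ₂.Q w = 0) (hw0 : w ≠ 0) :
    ∃ κ ∈ Φ₂.EG, ∃ c : F, κ w = c • w ∧ c * Φ₂.σ c ≠ 1 :=
  let ⟨κ, h1, h2⟩ := htv.exists_torus hl l0 hw hw0 c0 hc
  ⟨κ, h1, c, h2, by rwa [hc]⟩

theorem not_pair (h3 : finrank F W ≤ 3) (w s : W) : ¬ Φ₂.Pair w s := fun hp =>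
  let ⟨_, y1, y2⟩ := hp.ind
  aniso_of_three h3 hp.ne (Φ₂.B_self hp.q₁) hp.perp (fun ⟨c, e⟩ => y2 (by simp [e, y1]))
    (Φ₂.B_self hp.q₂)

theorem IsSp.reg [Finite F] (hS : Φ₂.IsSp) (h2 : finrank F W ≤ 2) (hq : 5 ≤ Nat.card F) : Φ₂.Reg := by
  obtain ⟨c, c0, c1⟩ : ∃ c : F, c ≠ 0 ∧ c * c ≠ 1 := by
    classical
    by_contra hc
    push Not at hc
    have := Fintype.ofFinite F
    have h1 : (Finset.univ : Finset F) ⊆ {0, 1, -1} := fun c _ => by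
      by_cases h0 : c = 0
      · simp [h0]
      · simp [mul_self_eq_one_iff.1 (hc c h0)]
    have := (Finset.card_le_card h1).trans Finset.card_le_three
    rw [Finset.card_univ, ← Nat.card_eq_fintype_card] at this
    omega
  exact Or.inr ⟨by omega, not_pair (by omega), fun w =>
    reg_of_torus hS.tv (hS.π 1) one_ne_zero c0 (hS.σ c) c1⟩

theorem reg_three (htv : Φ₂.TV) (hl : Φ₂.π l = 0) (l0 : l ≠ 0) (h3 : finrank F W = 3)
    (hF : ∃ c, Φ₂.σ c = c ∧ c ≠ 0 ∧ c ≠ 1) : Φ₂.Reg := by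
  refine Or.inr ⟨h3.le, not_pair h3.le, fun w hw hw0 => ?_⟩
  by_cases h2 : (2 : F) = 0
  · obtain ⟨c, c1, c0, c2⟩ := hF
    exact reg_of_torus htv hl l0 c0 c1 (fun e => c2 (sub_eq_zero.1 (mul_self_eq_zero.1
      (by linear_combination e + (1 - c) * h2)))) hw hw0
  obtain ⟨w', q, e⟩ := exists_partner' hw hw0
  obtain ⟨z, z1, z2, z3⟩ := exists_aniso h3 (Φ₂.B_self hw) e
  obtain ⟨c, hv⟩ := exists_valid q z2
  by_contra hc
  push Not at hc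
  have k : ∀ a, Φ₂.π a = 0 → (c + a) * Φ₂.σ (c + a) = l * Φ₂.σ l := fun a ha => by
    have hv' : Φ₂.Valid w' z (c + a) := by simpa using hv.add (valid_tv q ha)
    obtain ⟨κ, hκ, eκ⟩ := exists_EG_smul hw e hv' (valid_tv q hl) z1 (map_zero _) (fun e0 => z3 (by
      rw [← Φ₂.trace _ z hv'.norm, e0]; simp)) l0
    have := hc κ hκ _ eκ
    rw [map_div₀, div_mul_div_comm, div_eq_one_iff_eq (mul_ne_zero l0 (Φ₂.σ_ne l0))] at this
    exact this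
  have k1 := k 0 (map_zero _)
  have k2 := k l hl
  have k3 := k (-l) (by simp [hl])
  simp only [Φ₂.bsimp, add_zero] at k1 k2 k3
  exact mul_ne_zero h2 (mul_ne_zero l0 (Φ₂.σ_ne l0)) (by linear_combination k2 + k3 - 2 * k1)

end Fm

variable {ι : Type*} [Fintype ι] [DecidableEq ι] {T : ι → Tn F U W V}
  {pu : MultilinearMap F (fun _ : ι => W) V} {κ : F} {Φ₁ : ι → Fm F U}

namespace PT

variable (h : PT T Φ₂ Φ pu κ)
include h

theorem ext₂ {f g : V →ₛₗ[Φ.σ] V →ₗ[F] F} (e : ∀ x y, f (pu x) (pu y) = g (pu x) (pu y)) (v v' : V) :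
    f v v' = g v v' := by
  rw [LinearMap.ext_on_range h.span fun x => h.ext (e x)]

theorem B_sl (i : ι) (x : End F W) (v v' : V) :
    Φ.B ((T i).sl x v) v' = Φ.B v ((T i).sl (Φ₂.adj x) v') :=
  h.ext₂ (f := Φ.B.comp ((T i).sl x)) (g := Φ.B.compl₂ ((T i).sl (Φ₂.adj x))) (fun y z => by
    simp only [LinearMap.comp_apply, LinearMap.compl₂_apply, h.sl, h.B,
      ← Finset.mul_prod_erase _ _ (Finset.mem_univ i), update_self, Φ₂.B_adj']
    congr 2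
    exact Finset.prod_congr rfl fun j hj => by simp [Finset.ne_of_mem_erase hj]) v v'

theorem exists_TF (hT : TP T) (hσ : ∀ a, Φ₂.σ a = Φ.σ a) (htv : Φ₂.TV) (i : ι)
    (hQ : ∃ κ, ∀ u w, Φ.Q ((T i).tm u w) = κ * Φ.B ((T i).tm u w) ((T i).tm u w))
    (hr : ∀ u w z, Φ₂.B w z = 1 →
      ∃ a, a + Φ.ε * Φ₂.ε * Φ.σ a = Φ.B ((T i).tm u w) ((T i).tm u z)) (d : ℕ)
    (hd : finrank F U < d ∨ (1 ≤ d ∧ ∀ u w z, Φ.B ((T i).tm u w) ((T i).tm u z) = 0)) :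
    ∃ Φ₁ : Fm F U, TF (T i) Φ₁ Φ₂ Φ ∧ Φ₁.d = d ∧ ∀ c, Φ₁.π c = c + Φ.ε * Φ₂.ε * Φ.σ c := by
  obtain ⟨w, hw⟩ := hT.neW
  obtain ⟨z', hz'⟩ := Φ₂.exists_B_ne hw
  obtain ⟨z, hz⟩ : ∃ z, Φ₂.B w z = 1 := ⟨(Φ₂.B w z')⁻¹ • z', by simp [hz']⟩
  let B : U →ₛₗ[Φ.σ] U →ₗ[F] F := (Φ.B.comp ((T i).tm.flip w)).compl₂ ((T i).tm.flip z)
  have hB : ∀ u x u' x', Φ.B ((T i).tm u x) ((T i).tm u' x') = B u u' * Φ₂.B x x' :=
    fun u x u' x' => by
      have := h.B_sl i (Φ₂.rk x (Φ₂.ε • z)) ((T i).tm u w) ((T i).tm u' x')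
      simp only [Tn.sl_tm, Fm.rk_apply, Fm.adj_rk, Φ₂.bsimp, Fm.B_eq_eps hz, Φ₂.eps_sq, one_smul,
        smul_smul, mul_right_comm _ _ Φ₂.ε, one_mul, map_smul] at this
      rw [this, smul_eq_mul, mul_comm]
      rfl
  have sq : Φ.ε * Φ₂.ε * (Φ.ε * Φ₂.ε) = 1 := by
    linear_combination Φ₂.ε ^ 2 * Φ.eps_sq + Φ₂.eps_sq
  have se : Φ.σ Φ₂.ε = Φ₂.ε := by rw [← hσ, Φ₂.σ_eps]
  have sy : ∀ x y, B y x = Φ.ε * Φ₂.ε * Φ.σ (B x y) := fun x y => by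
    have := Φ.symm ((T i).tm x w) ((T i).tm y z)
    rw [hB, hB, hz, Fm.B_eq_eps hz, mul_one] at this
    linear_combination Φ₂.ε * this - B y x * Φ₂.eps_sq
  let Φ₁ : Fm F U :=
    { σ := Φ.σ
      B := B
      Q := fun x => B x x
      ε := Φ.ε * Φ₂.ε
      π := AddMonoidHom.mk' (fun c => c + Φ.ε * Φ₂.ε * Φ.σ c) fun a b => by simp; ring
      d := d
      invol := Φ.invol
      eps_sq := sq
      σ_eps := by rw [map_mul, se, Φ.σ_eps]
      symm := sy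
      add := fun x y => by simp [sy x y]; ring
      smul := fun a x => by simp; ring
      trace := fun c x e => e
      range := fun x => hr x w z hz
      π_conj := fun a => by
        simp only [AddMonoidHom.mk'_apply, Φ.bsimp, se]
        linear_combination a * sq
      π_norm := fun a c => by simp only [AddMonoidHom.mk'_apply, Φ.bsimp]; ring
      nondeg := fun x hx => (T i).left_inj hw (by
        simpa using Φ.nondeg _ ((T i).ext (g := 0) fun u y => by simp [hB, hx]))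
      iso := fun X hX => by
        rcases hd with hd | ⟨h1, h2⟩
        · exact absurd (hX.trans X.finrank_le) (by omega)
        · obtain ⟨v, hv, v0⟩ := Submodule.exists_mem_ne_zero_of_ne_bot (p := X) (by
            rintro rfl
            rw [finrank_bot] at hX
            omega)
          exact ⟨v, hv, v0, h2 v w z⟩ }
  exact ⟨Φ₁, ⟨fun _ => rfl, hσ, by linear_combination -Φ.ε * Φ₂.eps_sq, hB,
    hQ.imp fun κ e u x => by rw [e, hB], fun c e => e, htv, hT.neU, hT.neW⟩, rfl, fun _ => rfl⟩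

theorem B_swap (hT : TP T) {p : V ≃ₗ[F] V} {σ : Equiv.Perm ι} (hσ : ∀ i, σ (σ i) = i)
    (p2 : p * p = 1) (hp : ∀ i x v, p ((T i).sl x v) = (T (σ i)).sl x (p v)) (v v' : V) :
    Φ.B (p v) (p v') = Φ.B v v' := by
  obtain ⟨w, hw⟩ := hT.neW
  obtain ⟨φ, hφ⟩ := exists_dual_eq_one (F := F) hw
  have k1 : ∀ x : ι → W, hT.po (fun j => φ.smulRight (x j)) (pu fun _ => w) = pu x := fun x => by
    simp [h.po_pu, hφ]
  obtain ⟨c, hc⟩ : ∃ c : F, c • (pu fun _ => w) = p (pu fun _ => w) := by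
    rw [← Submodule.mem_span_singleton, ← k1, hT.po_swap hσ hp, k1]
    exact h.span.ge.trans (Submodule.span_le.2 (show _ ⊆ ((Submodule.span F {pu fun _ => w}).comap
      (hT.po fun _ => φ.smulRight w) : Set V) by
        rintro _ ⟨x, rfl⟩
        simpa [h.po_pu, MultilinearMap.map_smul_univ] using
          Submodule.smul_mem _ _ (Submodule.mem_span_singleton_self _))) trivial
  have k2 : ∀ x, p (pu x) = c • pu (x ∘ σ) := fun x => by
    rw [← k1, hT.po_swap hσ hp, ← hc, map_smul, ← k1 (x ∘ σ)]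
    rfl
  obtain ⟨z, hz⟩ := Φ₂.exists_B_ne hw
  have k3 : c * c = 1 := by
    have := congrArg (fun g : V ≃ₗ[F] V => Φ.B (pu fun _ => w) (g (pu fun _ => z))) p2
    simp only [mul_app, k2, map_smul, one_app, smul_eq_mul, ← mul_assoc] at this
    exact mul_right_cancel₀ (by simp [h.B, h.ne, hz]) (this.trans (one_mul _).symm)
  refine h.ext₂ (f := (Φ.B.comp p.toLinearMap).compl₂ p.toLinearMap) (fun x y => ?_) v v'
  have := Equiv.prod_comp σ fun i => Φ₂.B (x i) (y i)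
  rcases mul_self_eq_one_iff.1 k3 with e | e <;> simp [k2, e, h.B, this]

end PT

theorem TP.krR_mem (hT : TP T) (i : ι) (d : W ≃ₗ[F] W) : (T i).krR d ∈ hT.WR := fun k => ⟨k, by
  by_cases hk : k = i
  · exact hk ▸ Tn.mv_of_NG ((T k).krR_mem d)
  · exact (hT.cm_krR hk d).mv⟩

theorem TP.isMaximalIn_WR (hT : TP T) (hF : ∀ i, TF (T i) (Φ₁ i) Φ₂ Φ) (hl : Φ₂.π l = 0) (l0 : l ≠ 0)
    (hd : Φ.d ≤ 3) (h3 : 3 ≤ finrank F U) (hdi : (2 : F) ≠ 0 ∨ 3 ≤ finrank F W)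
    (hns : (2 : F) ≠ 0 ∨ 4 ≤ finrank F W ∨ ∃ a, Φ.σ a = a ∧ a ≠ 0 ∧ a ≠ 1) (i : ι) (hs : Sw T Φ.EG)
    (key : ∀ M, (∀ i, WK (T i) (Φ₁ i) Φ₂ Φ M l) → Sw T M → ¬ Φ.EG ≤ M → M ≤ hT.WR) :
    Geo.IsMaximalIn Φ.EG (hT.WR ⊓ Φ.EG) := by
  refine isMaximalIn_of inf_le_right ?_ fun M h1 h2 g hg hg' => by_contra fun hc => hg' ⟨key M
    (fun i => ⟨hF i, fun τ hτ => h1 ⟨hT.krR_mem i τ, (hF i).krR_EG hτ⟩, h2.trans Φ.EG_le_Iso, l0, hl⟩)
    (fun j k hjk hi => let ⟨p, hp, e⟩ := hs j k hjk hi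
      ⟨p, h1 ⟨fun i => ⟨_, fun x => ⟨x, e i x⟩⟩, hp⟩, e⟩) hc hg, h2 hg⟩
  by_contra hc
  push Not at hc
  have h5 : Φ.d + 2 ≤ finrank F V := by
    have := hT.two
    rw [(T i).finrank_eq]
    nlinarith
  obtain ⟨e, -, e0, he⟩ := Φ.iso ⊤ (by rw [finrank_top]; omega)
  obtain ⟨y, hp⟩ := Fm.exists_pair' h5 he e0
  obtain ⟨f, -, f1, f2⟩ := hp.exists_partner
  let N : End F V := Φ.rk y e - Φ.ε • Φ.rk e y
  have q : ∀ v, N (N v) = 0 := fun v => by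
    simp [N, Φ.B_self hp.q₁, Φ.B_self hp.q₂, hp.perp, Φ.perp_symm hp.perp]
  have r : finrank F (LinearMap.range N) ≤ 2 := hp.finrank_span ▸ Submodule.finrank_mono (by
    rintro _ ⟨v, rfl⟩
    exact Submodule.mem_span_pair.2 ⟨-(Φ.ε * Φ.B y v), Φ.B e v, by simp [N, mul_smul]; abel⟩)
  have n0 : N f ≠ 0 := by simp [N, f1, f2, Φ.eps_ne, e0]
  have key := hT.mv_self hdi hns q (by omega) fun c h1 => ⟨_, (hc _ (hp.valid c).eich_mem).1,
    fun v => by simp only [Fm.Valid.eich_apply, Fm.ef, N, LinearMap.smul_apply, LinearMap.sub_apply,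
      Fm.rk_apply, Φ.bsimp, h1]; module⟩
  obtain ⟨c, ec⟩ := hT.scal N fun j => (key j).resolve_left fun ⟨η, eη⟩ => by
    rw [show N = (T j).krL LinearMap.id η from LinearMap.ext eη, Tn.range_krL, Tn.finrank_ts] at r
    have : finrank F (LinearMap.range η) = 0 := by nlinarith
    rw [eη, LinearMap.range_eq_bot.1 (Submodule.finrank_eq_zero.1 this)] at n0
    simp at n0
  have := q f
  rw [ec, smul_eq_zero_iff_left n0] at this
  simp [ec, this] at n0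

theorem Sw.cl (hs : Sw T M) (j k : ι) (a : j ≠ k) (b : ∃ i, i ≠ j ∧ i ≠ k) : ∃ p ∈ M, ∀ i x v,
    p ((T i).sl x v) = (T (@Equiv.swap ι (Classical.propDecidable <| · = ·) j k i)).sl x (p v) := by
  convert hs j k a b

variable [Finite F]

/-- Unitary factors. -/
theorem TP.herm_le_WR (hT : TP T) (h : PT T Φ₂ Φ pu κ) {δ : F} (hδ : Φ.σ δ ≠ δ) (hε : Φ.ε = 1)
    (htv : Φ.TV) (hd : Φ₂.d = 2) (h3 : 3 ≤ finrank F W)
    (hq : 4 ≤ finrank F W ∨ ∃ a, Φ.σ a = a ∧ a ≠ 0 ∧ a ≠ 1)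
    (hk : ∀ i, WK (T i) (Φ₁ i) Φ₂ Φ M l) (hs : Sw T M) (hn : ¬ Φ.EG ≤ M) : M ≤ hT.WR := by
  rcases isEmpty_or_nonempty ι with hι | ⟨⟨i⟩⟩
  · exact fun g _ i => hι.elim i
  have hF := (hk i).tf
  by_cases h4 : 4 ≤ finrank F W
  · have hP : WP T Φ₁ Φ₂ Φ M l := ⟨hT, hk, Or.inl (by omega), fun j w => (hk j).loc_herm
      (hT.alU hF.tv₂ (hk i).hl (hk i).l0 (by omega) (fun j => (hk j).R) hs j)
      (fun c => Φ.exists_eq_sub_conj (δ := δ) (by simpa [hε] using hδ.symm)) hn hδ (by omega),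
      Or.inr h3⟩
    by_cases hc : ∃ a, Φ.σ a = a ∧ a ≠ 0 ∧ a ≠ 1
    · exact hP.le_WR_three h3 hd.le hc hs.cl
    · exact hP.le_WR_two (by omega) h4 (by simpa using hc) (Or.inr ⟨δ, hδ⟩) hs.cl
  have hc := hq.resolve_left h4
  obtain ⟨e, -, e0, he⟩ := Φ₂.iso ⊤ (by rw [finrank_top]; omega)
  have hQ : WQ T Φ₁ Φ₂ Φ M l pu κ := ⟨hT, hk, h, hs, hc, Fm.smul_of_herm (hk i).hl (hk i).l0
    (by rwa [hF.σ₂]) he e0⟩
  exact WP.le_WR_three ⟨hT, hk, Fm.reg_three hF.tv₂ (hk i).hl (hk i).l0 (by omega)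
    (by simpa only [hF.σ₂] using hc), fun j w => (hk j).loc_three hδ (by omega)
      (hQ.cen_three htv (by omega) (by omega) hn j), Or.inr h3⟩ h3 hd.le hc hs.cl

/-- Symplectic factors. -/
theorem TP.sp_le_WR (hT : TP T) (h : PT T Φ₂ Φ pu κ) (hS : Φ₂.IsSp)
    (hΛ : ∀ c, Φ.π c = 0 → ∃ a, c = a - Φ.ε * Φ.σ a)
    (hV : (Φ.TV ∧ Odd (Fintype.card ι)) ∨ ∀ c, Φ.π c = 0 → c = 0)
    (hq : 5 ≤ finrank F W ∨ ((2 : F) ≠ 0 ∧ (3 ≤ finrank F W ∨ 5 ≤ Nat.card F)))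
    (hk : ∀ i, WK (T i) (Φ₁ i) Φ₂ Φ M l) (hs : Sw T M) (hn : ¬ Φ.EG ≤ M) : M ≤ hT.WR := by
  rcases isEmpty_or_nonempty ι with hι | ⟨⟨i⟩⟩
  · exact fun g _ i => hι.elim i
  have hσ : ∀ a, Φ.σ a = a := fun a => by rw [← (hk i).tf.σ₂, hS.σ]
  have hd := hS.d
  have m1 : (2 : F) ≠ 0 → ∃ a, Φ.σ a = a ∧ a ≠ 0 ∧ a ≠ 1 := fun h2 =>
    ⟨-1, hσ _, by simp, fun e => h2 (by linear_combination -e)⟩
  by_cases h3 : 3 ≤ finrank F W
  · have hA := hT.alU hS.tv (hk i).hl (hk i).l0 (by omega) (fun j => (hk j).R) hs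
    have hP : WP T Φ₁ Φ₂ Φ M l := ⟨hT, hk, Or.inl (by omega), fun j w _ => hq.elim
      (fun h5 => (hk j).loc_sp (hA j) hΛ hn hS h5) fun h2 => (hk j).loc_sp_odd (hA j) hΛ hn
        (hT.clU hS.tv (hk i).hl (hk i).l0 (by omega) (fun j => (hk j).R) (fun j => (hk j).tf) hS
          h2.1 j) hS h2.1 h3, Or.inr h3⟩
    by_cases hc : ∃ a, Φ.σ a = a ∧ a ≠ 0 ∧ a ≠ 1
    · exact hP.le_WR_three h3 (by omega) hc hs.cl
    · have h5 := hq.resolve_right fun h2 => hc (m1 h2.1)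
      exact hP.le_WR_two (by omega) (by omega) (by simpa using hc) (Or.inl ⟨hσ, by omega⟩) hs.cl
  obtain ⟨h2, h5⟩ := hq.resolve_left (by omega)
  have hQ : WQ T Φ₁ Φ₂ Φ M l pu κ := ⟨hT, hk, h, hs, m1 h2, fun x hx => exists_smul_of_comm fun s => by
    by_cases s0 : s = 0
    · exact ⟨0, by simp [s0]⟩
    · exact Fm.eq_smul_of_two (by omega) s0 (hS.B_self s) (hx s (hS.Q s))⟩
  exact WP.le_WR_sp2 ⟨hT, hk, hS.reg (by omega) (h5.resolve_left h3), fun j w => (hk j).loc_two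
    (by omega) (hQ.cen_two hS (by omega) h2 hV hn j), Or.inl h2⟩ hS (by omega) h2
    (h5.resolve_left h3) hs.cl

end Cfsg.Agent.Class.Max
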