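import Mathlib
import Cfsg.Agent.Class.Max.C7Y

/-!
The small tensor decompositions `U₂ ⊗ U₃` and `Sp₂ ⊗ O₃`.
-/

set_option autoImplicit false
set_option linter.unusedSectionVars false

namespace Cfsg.Agent.Class.Max

open Module

section Abstract

variable {F U W V : Type*} [Field F] [AddCommGroup U] [Module F U] [AddCommGroup W]
  [Module F W] [AddCommGroup V] [Module F V] {T : Tn F U W V} {Φ₁ : Fm F U} {Φ₂ : Fm F W}
  {Φ : Fm F V} {M : Subgroup (V ≃ₗ[F] V)} {l : F}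
  [FiniteDimensional F U] [FiniteDimensional F W] [FiniteDimensional F V]

theorem Fm.TvC.conj {e : V} (h : Φ.TvC M e) {g : V ≃ₗ[F] V} (hg : g ∈ M) (hI : g ∈ Φ.Iso) :
    Φ.TvC M (g e) :=
  ⟨by rw [hI.2, h.1], fun c hc => by simpa using (h.2 c hc).conj hg hI⟩

theorem Fm.TvC.smul {e : V} (h : Φ.TvC M e) (a : F) : Φ.TvC M (a • e) :=
  ⟨Φ.Q_smul_zero h.1 a, fun c hc => Fm.hasE_smul_left.2 (by
    simpa using h.2 _ (by rw [Φ.π_norm, hc, mul_zero]))⟩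

theorem Fm.TvC.of_smul {e : V} {a : F} (a0 : a ≠ 0) (h : Φ.TvC M (a • e)) : Φ.TvC M e := by
  simpa [a0] using h.smul a⁻¹

theorem Fm.TvC.inA_comm (hI : M ≤ Φ.Iso) {e x y : V} (hx : Φ.TvC M x) (hxe : Φ.B x e = 0)
    (hy : Φ.InA M e y) {c : F} (hc : Φ.π c = 0) : Φ.InA M e ((c * Φ.B x y) • x) := by
  obtain ⟨g, hg, eg⟩ := hx.2 (-(Φ.ε * c)) (by
    rcases mul_self_eq_one_iff.1 Φ.eps_sq with e | e <;> simp [e, hc])
  convert hy.comm_fix hg (hI hg) (by simp [eg, Fm.ef, hxe]) using 1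
  simp only [eg, Fm.ef, map_zero, LinearMap.zero_apply]
  linear_combination (norm := module) -(c * Φ.B x y * Φ.eps_sq) • x

theorem Tn.dvd_of_NG (h : (2 : F) ≠ 0 ∨ 3 ≤ finrank F W) (hU : ∃ u : U, u ≠ 0) (hW : ∃ w : W, w ≠ 0)
    {x : V ≃ₗ[F] V} (hx : x ∈ T.NG) {N : End F V} (e : ∀ v, x v = v + N v) (hN : ∀ v, N (N v) = 0)
    (hr : finrank F (LinearMap.range N) ≤ finrank F U) :
    ((∃ η, ∀ v, N v = T.sl η v) ∧ finrank F U ∣ finrank F (LinearMap.range N)) ∨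
      finrank F W ∣ finrank F (LinearMap.range N) := by
  rcases Tn.sl_or_cm h hU hx e hN hr with ⟨η, h⟩ | h
  · refine Or.inl ⟨⟨η, h⟩, ?_⟩
    rw [show N = T.krL LinearMap.id η from LinearMap.ext h, Tn.range_krL, Tn.finrank_ts]
    exact Dvd.intro _ rfl
  · obtain ⟨a, ea⟩ := h.exists_left hW
    rw [show N = T.swap.krL LinearMap.id a from LinearMap.ext (T.ext fun u w => by
      rw [ea, ← T.swap_tm w u, Tn.krL_tm]; rfl), Tn.range_krL, Tn.finrank_ts]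
    exact Or.inr (Dvd.intro _ rfl)

namespace TF

variable (hT : TF T Φ₁ Φ₂ Φ)
include hT

theorem decomp_two (h2 : finrank F U ≤ 2) {u u' : U} (hu : Φ₁.Q u = 0) (hu' : Φ₁.Q u' = 0)
    (e : Φ₁.B u u' = 1) (v : V) :
    v = T.tm u (T.cL (Φ₁.ε • Φ₁.B u') v) + T.tm u' (T.cL (Φ₁.B u) v) :=
  T.ext (f := LinearMap.id) (g := T.tm u ∘ₗ T.cL (Φ₁.ε • Φ₁.B u') + T.tm u' ∘ₗ T.cL (Φ₁.B u))
    (fun x y => by
      obtain ⟨t, et⟩ := Fm.eq_smul_of_two (y := x - Φ₁.B u x • u') h2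
        (fun e' => by simp [e'] at e) (Φ₁.B_self hu) (by simp [e])
      have := congrArg (Φ₁.B u') et
      simp only [Φ₁.bsimp, Φ₁.B_self hu', Fm.B_eq_eps e] at this
      have e1 : Φ₁.ε * Φ₁.B u' x = t := by linear_combination Φ₁.ε * this + t * Φ₁.eps_sq
      simp only [LinearMap.id_apply, LinearMap.add_apply, LinearMap.comp_apply, Tn.cL_tm,
        LinearMap.smul_apply, map_smul]
      conv_lhs => rw [eq_add_of_sub_eq et]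
      simp [← e1, mul_smul]) v

/-- The transvections whose centres are products of singular vectors. -/
theorem EG_le_of_tvC (htv : Φ.TV) (hl : Φ.π l = 0) (l0 : l ≠ 0)
    (hF : ∃ c, Φ.σ c = c ∧ c ≠ 0 ∧ c ≠ 1) (hI : M ≤ Φ.Iso) (h2 : finrank F U ≤ 2)
    (h3 : finrank F W = 3) {u₀ : U} (hu₀ : Φ₁.Q u₀ = 0) (u0 : u₀ ≠ 0) {w₀ : W} (hw₀ : Φ₂.Q w₀ = 0)
    (w0 : w₀ ≠ 0) (h : ∀ u w, Φ₁.Q u = 0 → Φ₂.Q w = 0 → Φ.TvC M (T.tm u w)) : Φ.EG ≤ M := by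
  have key : ∀ u w, Φ₁.Q u = 0 → u ≠ 0 → Φ₂.Q w = 0 → w ≠ 0 → Φ.Full M (T.tm u w) :=
    fun u w hu u0 hw w0 v c hv => by
      obtain ⟨u', hu', e1⟩ := Fm.exists_partner' hu u0
      obtain ⟨w', hw', e2⟩ := Fm.exists_partner' hw w0
      obtain ⟨z, z1, -, z3⟩ := Fm.exists_aniso h3 (Φ₂.B_self hw) e2
      have k1 : ∀ y, Φ₂.B w y = 0 → Φ.InA M (T.tm u w) (T.tm u' y) := fun y hy =>
        Fm.mem_of_diff hT.tv₂ (by simpa only [hT.σ₂] using hF) hw hw' (by simp [e2])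
          (Or.inr ⟨z, z1, z3⟩) ((Φ.inAG M hv.sing).comap (T.tm u').toAddMonoidHom)
          (fun x hx ex μ hμ => by
            simpa [Fm.inAG] using Fm.TvC.inA htv hl l0 hF hI (h u w hu hw) (h u' w' hu' hw')
              (h u' x hu' hx) (by simp [hT.B, e1, e2]) (by simp [hT.B, e1, ex, e2])
              ((hT.σ₂ μ).symm.trans hμ)) hy
      have k2 : ∀ s, Φ.InA M (T.tm u w) (T.tm u s) := Fm.sing_induction hw w0
        ((Φ.inAG M hv.sing).comap (T.tm u).toAddMonoidHom) fun s hs _ => by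
          change Φ.InA M _ (T.tm u s)
          by_cases hc : ∃ y, Φ₂.B w y = 0 ∧ Φ₂.B s y ≠ 0
          · obtain ⟨y, y1, y2⟩ := hc
            convert (h u s hu hs).inA_comm hI
              (by simp [hT.B, Φ₁.B_self hu]) (k1 ((l * Φ₂.B s y)⁻¹ • y) (by simp [y1])) hl using 1
            rw [hT.B, e1, one_mul, map_smul, smul_eq_mul, mul_left_comm,
              inv_mul_cancel₀ (mul_ne_zero l0 y2), one_smul]
          · push Not at hc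
            obtain ⟨a, rfl⟩ := Φ₂.exists_smul_of_perp hc
            simpa using Fm.inA_smul_self hv.sing a
      have e3 := hT.decomp_two h2 hu hu' e1 v
      refine (e3 ▸ (k2 _).add (k1 _ ?_) :).hasE (h u w hu hw).2 hv
      rw [T.cL_cR, ← hT.B_tm, hv.perp]
  obtain ⟨u', hu', e1⟩ := Fm.exists_partner' hu₀ u0
  obtain ⟨w', hw', e2⟩ := Fm.exists_partner' hw₀ w0
  exact Fm.EG_le_of_full (key _ _ hu₀ u0 hw₀ w0) (key u' w' hu' (fun e => by simp [e] at e1) hw'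
    fun e => by simp [e] at e2) (hT.Q_tm _ hw₀) (hT.Q_tm _ hw') (by simp [hT.B, e1, e2])

theorem exists_tv_notMem_NG (hl : Φ.π l = 0) (l0 : l ≠ 0) (htv : Φ.TV)
    (hd : (2 : F) ≠ 0 ∨ 3 ≤ finrank F W) (hU : 2 ≤ finrank F U) (hW : 2 ≤ finrank F W) {w : W}
    (hw : Φ₂.Q w = 0) (w0 : w ≠ 0) : ∃ g ∈ Φ.EG, g ∉ T.NG := by
  obtain ⟨u, u0⟩ := hT.ne₁
  obtain ⟨τ, hτ, e⟩ := htv.exists_tv hl (hT.Q_tm u hw) (map_one _)
  have r : finrank F (LinearMap.range (l • Φ.rk (T.tm u w) (T.tm u w))) = 1 := by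
    rw [Fm.range_tv l0 (T.tm_ne_zero u0 w0), finrank_span_singleton (T.tm_ne_zero u0 w0)]
  refine ⟨τ, hτ, fun hc => ?_⟩
  rcases Tn.dvd_of_NG hd hT.ne₁ hT.ne₂ hc (fun v => by rw [e, one_smul])
    (fun v => by simp [Φ.B_self (hT.Q_tm u hw)]) (by omega) with ⟨-, h⟩ | h <;>
    have := Nat.le_of_dvd (by omega) h <;> omega

end TF

namespace WK

variable (h : WK T Φ₁ Φ₂ Φ M l)
include h

theorem mem_of_sl (hr : Φ₂.Reg) (hL : ∀ w, Φ₂.Q w = 0 → w ≠ 0 → TF.Loc T Φ₂ M w) {w : W}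
    (hw : Φ₂.Q w = 0) (hw0 : w ≠ 0) {g : V ≃ₗ[F] V} (hg : g ∈ M) {η : End F W}
    (e : ∀ v, cjL g (T.sl (l • Φ₂.rk w w)) v = T.sl η v) : g ∈ T.NG := by
  obtain ⟨x, hx⟩ := Φ₂.exists_B_ne hw0
  obtain ⟨w', w0, e'⟩ := Tn.exists_sp_of_sl (T := T) (T' := T) (g := g) h.tf.ne₁ (φ := l • Φ₂.B w)
    (fun e => by simpa [h.l0, hx] using LinearMap.congr_fun e x) hw0 (x := η) fun v => by
      rw [← e, cjL_app]
      rw [Tn.sl_rk, WK.tv_apply]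
      simp
  refine h.mem_of_sp hr hL hg hw hw0 (h.tf.sing_of_perp fun u u' => ?_) w0
    fun u => e'.le ⟨_, T.tm_mem_sp u w, rfl⟩
  obtain ⟨_, ⟨a, rfl⟩, ha⟩ := e'.ge (T.tm_mem_sp u w')
  obtain ⟨_, ⟨b, rfl⟩, hb⟩ := e'.ge (T.tm_mem_sp u' w')
  rw [← ha, ← hb]
  exact ((h.I hg).1 _ _).trans (by simp [h.tf.B, Φ₂.B_self hw])

theorem qe_NG (hr : Φ₂.Reg) (hL : ∀ w, Φ₂.Q w = 0 → w ≠ 0 → TF.Loc T Φ₂ M w)
    (hd : (2 : F) ≠ 0 ∨ 3 ≤ finrank F W) (hnd : ¬ finrank F W ∣ finrank F U) {w : W}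
    (hw : Φ₂.Q w = 0) (hw0 : w ≠ 0) : Φ.QE M (T.NG ⊓ M) (T.sl (l • Φ₂.rk w w)) :=
  ⟨inf_le_right, h.I, WK.sq_tv hw, h.skew_tv w, fun _ hc =>
    let ⟨τ, hτ, e⟩ := h.hasU_tv hw hc
    ⟨_, ⟨T.krR_mem τ, h.R τ hτ⟩, e⟩,
    fun g hg e => ⟨h.mem_NG_of_stab hr hL hw hw0 hg fun u => by
      obtain ⟨v, hv⟩ := (h.range_tv hw0).ge (T.tm_mem_sp u w)
      exact hv ▸ h.range_tv hw0 ▸ e v, hg⟩, fun g hg hc => by
      obtain ⟨x, hx, e⟩ := hc 1 (map_one _)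
      have r : finrank F (LinearMap.range (cjL g (T.sl (l • Φ₂.rk w w)))) = finrank F U := by
        rw [range_cjL, LinearEquiv.finrank_map_eq, h.range_tv hw0, T.finrank_sp hw0]
      rw [one_smul] at e
      obtain ⟨⟨η, eη⟩, -⟩ := (Tn.dvd_of_NG hd h.tf.ne₁ h.tf.ne₂ hx.1 e (fun v => by
        simp only [cjL_apply, inv_app_app, WK.sq_tv hw, map_zero]) r.le).resolve_right (r ▸ hnd)
      exact ⟨h.mem_of_sl hr hL hw hw0 hg eη, hg⟩⟩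

theorem tvC_of_rk [Finite F] (hk : Φ₁.Rk) (hL : ∀ a ∈ Φ₁.EG, T.kr a 1 ∈ M) {u : U} (hu : Φ₁.Q u = 0)
    (u0 : u ≠ 0) {b : F} (b0 : b ≠ 0) (hb : b • Φ₁.rk u u ∈ T.cenG Φ₂ M) (u' : U) (w : W)
    (hu' : Φ₁.Q u' = 0) (hw : Φ₂.Q w = 0) : Φ.TvC M (T.tm u' w) := by
  have hT := h.tf
  have z : Φ.TvC M 0 := ⟨Φ.Q_zero, fun c _ => ⟨1, M.one_mem, fun x => by simp [Fm.ef, one_app]⟩⟩
  by_cases w0 : w = 0
  · simpa [w0] using z
  by_cases u1 : u' = 0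
  · simpa [u1] using z
  have k : ∀ c, Φ.σ c = c → Φ.HasE M (T.tm u w) 0 (c * -(Φ.ε * b)) := fun c hc => by
    obtain ⟨g, hg, e⟩ := h.smul_mem_cenG hb ((hT.σ₂ c).trans hc) w hw
    refine ⟨g, hg, fun v => ?_⟩
    simp only [e, Tn.xl_apply, Fm.ef, hT.B_tm, LinearMap.smul_apply, Fm.rk_apply, map_smul,
      map_zero, LinearMap.zero_apply]
    linear_combination (norm := module)
      (-(c * b * Φ₁.B u (T.cR (Φ₂.B w) v)) * Φ.eps_sq) • T.tm u w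
  obtain ⟨f, -, e⟩ := Fm.exists_partner' (hT.Q_tm u hw) (T.tm_ne_zero u0 w0)
  have k0 := Fm.π_of_hasU h.I (hT.Q_tm u hw) e (by simpa using k 1 (map_one _))
  have c0 : -(Φ.ε * b) ≠ 0 := by simp [Φ.eps_ne, b0]
  have k1 : Φ.TvC M (T.tm u w) := ⟨hT.Q_tm u hw, fun c hc => by
    simpa only [div_mul_cancel₀ _ c0] using k _ (Fm.fixed_div k0 c0 hc)⟩
  obtain ⟨a, ha, c, c0, e⟩ := hk.move_pt hu hu' u0 u1
  refine Fm.TvC.of_smul c0 ?_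
  simpa [e, one_app] using k1.conj (hL a ha) (h.I (hL a ha))

theorem exists_rk_herm [Finite F] {δ : F} (hδ : Φ₁.σ δ ≠ δ) (hl : Φ₁.π l = 0)
    (hF : ∃ c, Φ.σ c = c ∧ c ≠ 0 ∧ c ≠ 1) (hL : ∀ a ∈ Φ₁.EG, T.kr a 1 ∈ M) {e : U} (he : Φ₁.Q e = 0)
    (e0 : e ≠ 0) {C : End F U} (hC : C ∈ T.cenG Φ₂ M) (hn : ¬ ∃ c : F, ∀ u, C u = c • u) :
    ∃ u, Φ₁.Q u = 0 ∧ u ≠ 0 ∧ ∃ b : F, b ≠ 0 ∧ b • Φ₁.rk u u ∈ T.cenG Φ₂ M := by
  have hT := h.tf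
  obtain ⟨u, hu, hb⟩ : ∃ u, Φ₁.Q u = 0 ∧ Φ₁.B u (C u) ≠ 0 := by
    by_contra hc
    push Not at hc
    exact hn (Fm.smul_of_herm hl h.l0 hδ he e0 C hc)
  obtain ⟨a, a1, a0, a2⟩ := hF
  have k : ∀ c, Φ.σ c = c → c • (l • (Φ₁.rk u u ∘ₗ C - C ∘ₗ Φ₁.rk u u)) -
      (c * c) • ((l * l * Φ₁.B u (C u)) • Φ₁.rk u u) ∈ T.cenG Φ₂ M := fun c hc => by
    obtain ⟨τ, hτ, eτ⟩ := hT.tv₁.exists_tv hl hu ((hT.σ₁ c).trans hc)
    refine mem_of_ext (sub_mem (hT.cjL_mem_cenG (hL τ hτ) hC) hC) fun v => ?_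
    rw [LinearMap.sub_apply (cjL τ C), cjL_apply, inv_apply_of_unip (A := c • (l • Φ₁.rk u u))
      (fun v => by simp [Φ₁.B_self hu]) eτ, eτ]
    simp only [LinearMap.sub_apply, LinearMap.smul_apply, LinearMap.comp_apply, Fm.rk_apply, map_sub,
      map_smul]
    module
  refine ⟨u, hu, fun e => by simp [e] at hb, (a * a - a) * (l * l * Φ₁.B u (C u)),
    mul_ne_zero (by rw [← mul_sub_one]; exact mul_ne_zero a0 (sub_ne_zero.2 a2))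
      (by simp [h.l0, hb]), mem_of_ext (sub_mem (h.smul_mem_cenG (k 1 (map_one _))
        ((hT.σ₂ a).trans a1)) (k a a1)) fun v => ?_⟩
  simp only [LinearMap.sub_apply, LinearMap.smul_apply]
  module

theorem exists_rk_orth [Finite F] (hO : Φ₁.IsO) (hS : Φ₂.IsSp) (h2 : (2 : F) ≠ 0)
    (h3 : finrank F U = 3) (hq : Nat.card F ≠ 3) (hL : ∀ a ∈ Φ₁.EG, T.kr a 1 ∈ M) {C : End F U}
    (hC : C ∈ T.cenG Φ₂ M) (hn : ¬ ∃ c : F, ∀ u, C u = c • u) :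
    ∃ u, Φ₁.Q u = 0 ∧ u ≠ 0 ∧ ∃ b : F, b ≠ 0 ∧ b • Φ₁.rk u u ∈ T.cenG Φ₂ M := by
  have hT := h.tf
  obtain ⟨w, w0⟩ := hT.ne₂
  obtain ⟨u, hu, hb⟩ : ∃ u, Φ₁.Q u = 0 ∧ Φ₁.B u (C u) ≠ 0 := by
    by_contra hc
    push Not at hc
    exact hn (hO.smul_of_quadric h2 h3.ge (fun e => hq e.1) (fun v => by
      simpa [hS.ε] using hT.adj_of_cenG h.I (hS.Q w) w0 hC v) hc)
  have u0 : u ≠ 0 := fun e => by simp [e] at hb
  obtain ⟨u', -, e⟩ := Fm.exists_partner' hu u0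
  obtain ⟨z, z1, -, z3⟩ := Fm.exists_aniso h3 (Φ₁.B_self hu) e
  have z4 : Φ₁.Q z ≠ 0 := fun e => z3 (Φ₁.B_self e)
  obtain ⟨a, a0, a1⟩ := exists_mul_self_ne_one h2 hq
  have k := fun c : F => hT.cjL_mem_cenG (hL _ (hO.valid hu (w := c • z) (by simp [z1])).eich_mem) hC
  have s := fun c {X : End F U} (hX : X ∈ T.cenG Φ₂ M) => h.smul_mem_cenG hX (hS.σ c)
  refine ⟨u, hu, u0, 2 * (a * a) * (a * a - 1) * (Φ₁.Q z * Φ₁.Q z * Φ₁.B u (C u)),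
    by simp [h2, a0, sub_ne_zero.2 a1, z4, hb], mem_of_ext (sub_mem (sub_mem (add_mem (k a) (k (-a)))
      (s (a * a) (add_mem (k 1) (k (-1))))) (s (2 * (1 - a * a)) hC)) fun v => ?_⟩
  simp only [LinearMap.sub_apply, LinearMap.add_apply, LinearMap.smul_apply]
  rw [hO.cjL_eich, hO.cjL_eich, hO.cjL_eich, hO.cjL_eich]
  simp only [Fm.ef, Fm.rk_apply, map_sub C, map_add C, map_smul C, map_neg C, Φ₁.bsimp, hO.σ, hO.ε,
    hO.Q_smul]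
  module

end WK

namespace TF

variable (hT : TF T Φ₁ Φ₂ Φ) [Finite F]
include hT

theorem herm_two_three {δ : F} (hδ : Φ.σ δ ≠ δ) (hε₁ : Φ₁.ε = 1) (hε₂ : Φ₂.ε = 1) (htv : Φ.TV)
    (hd₁ : Φ₁.d = 2) (hd₂ : Φ₂.d = 2) (h2 : finrank F U = 2) (h3 : finrank F W = 3)
    (hF : ∃ c, Φ.σ c = c ∧ c ≠ 0 ∧ c ≠ 1) : Geo.IsMaximalIn Φ.EG (T.NG ⊓ Φ.EG) := by
  have c0 : δ - Φ.σ δ ≠ 0 := sub_ne_zero.2 hδ.symm
  have e₁ : Φ₁.π (δ - Φ.σ δ) = 0 := by simpa [hε₁, hT.σ₁] using Φ₁.π_sub_conj δ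
  have e₂ : Φ₂.π (δ - Φ.σ δ) = 0 := by simpa [hε₂, hT.σ₂] using Φ₂.π_sub_conj δ
  have e₃ : Φ.π (δ - Φ.σ δ) = 0 := by simpa [hT.ε, hε₁, hε₂] using Φ.π_sub_conj δ
  obtain ⟨u, -, u0, hu⟩ := Φ₁.iso ⊤ (by rw [finrank_top]; omega)
  obtain ⟨w, -, w0, hw⟩ := Φ₂.iso ⊤ (by rw [finrank_top]; omega)
  refine isMaximalIn_of inf_le_right ?_ fun M h1 hG g hg hg' => by_contra fun hn => hg' ⟨?_, hG hg⟩
  · obtain ⟨g, a, b⟩ := hT.exists_tv_notMem_NG e₃ c0 htv (Or.inr h3.ge) h2.ge (by omega) hw w0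
    exact ⟨g, a, fun h => b h.1⟩
  have h : WK T Φ₁ Φ₂ Φ M (δ - Φ.σ δ) :=
    ⟨hT, fun τ => hT.krR_mem h1, hG.trans Φ.EG_le_Iso, c0, e₂⟩
  have hL := fun a => hT.krL_mem (a := a) h1
  refine (h.le_of_three (H := T.NG ⊓ M) (fun τ hτ => ⟨T.krR_mem τ, h.R τ hτ⟩) h3.ge hd₂.le hF hw w0
    (h.qe_NG (Fm.reg_three hT.tv₂ e₂ c0 h3 (by simpa only [hT.σ₂] using hF))
      (fun w => h.loc_three hδ h3.le fun C hC => by_contra fun hc => ?_) (Or.inr h3.ge)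
      (by rw [h2, h3]; decide) hw w0) (fun γ hγ => Or.inl hγ.1) hg).1
  obtain ⟨x, hx, x0, b, b0, hb⟩ := h.exists_rk_herm (by rwa [hT.σ₁]) e₁ hF hL hu u0 hC hc
  exact hn (hT.EG_le_of_tvC htv e₃ c0 hF h.I h2.le h3 hu u0 hw w0
    (h.tvC_of_rk (Or.inr ⟨_, c0, e₁⟩) hL hx x0 b0 hb))

theorem orth_three_sp_two (h₁ : Φ₁.IsO) (h₂ : Φ₂.IsSp) (hS : Φ.IsSp) (h2 : (2 : F) ≠ 0)
    (hU : finrank F U = 3) (hW : finrank F W = 2) (hq : 5 ≤ Nat.card F) :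
    Geo.IsMaximalIn Φ.EG (T.NG ⊓ Φ.EG) := by
  obtain ⟨u, -, u0, hu⟩ := Φ₁.iso ⊤ (by rw [finrank_top, h₁.d]; omega)
  obtain ⟨w, w0⟩ := hT.ne₂
  have hw := h₂.Q w
  refine isMaximalIn_of inf_le_right ?_ fun M h1 hG g hg hg' => by_contra fun hn => hg' ⟨?_, hG hg⟩
  · obtain ⟨g, a, b⟩ := hT.exists_tv_notMem_NG (hS.π 1) one_ne_zero hS.tv (Or.inl h2) (by omega)
      hW.ge hw w0
    exact ⟨g, a, fun h => b h.1⟩
  have h : WK T Φ₁ Φ₂ Φ M 1 := ⟨hT, fun τ => hT.krR_mem h1, hG.trans Φ.EG_le_Iso, one_ne_zero, h₂.π 1⟩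
  have hL := fun a => hT.krL_mem (a := a) h1
  have hr := h₂.reg hW.le hq
  have hl : ∀ w, Φ₂.Q w = 0 → w ≠ 0 → TF.Loc T Φ₂ M w := fun w =>
    h.loc_two hW.le fun C hC => by_contra fun hc => by
      obtain ⟨x, hx, x0, b, b0, hb⟩ := h.exists_rk_orth h₁ h₂ h2 hU (by omega) hL hC hc
      exact hn (hT.swap.EG_le_of_tvC hS.tv (hS.π 1) one_ne_zero
        ⟨-1, hS.σ _, by simp, fun e => h2 (by linear_combination -e)⟩ h.I hW.le hU hw w0 hu u0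
        fun y x' hy hx' => h.tvC_of_rk (Or.inl hU.ge) hL hx x0 b0 hb x' y hx' hy)
  have D := h.qe_NG hr hl (Or.inl h2) (by rw [hU, hW]; decide) hw w0
  exact (h.le_of_two (H := T.NG ⊓ M) h₂ hW.le h2 hq (fun τ hτ => ⟨T.krR_mem τ, h.R τ hτ⟩) w0 D
    (fun γ hγ e => (D.stab γ hγ e).1) (fun γ hγ => Or.inl hγ.1)
    (fun g hg η e => ⟨h.mem_of_sl hr hl hw w0 hg e, hg⟩) hg).1

end TF

end Abstract

section Matrices

open Cfsg.Agent.Class.Asch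

variable {F : Type*} [Field F] [Fintype F] {f₁ : (Fin 2 → F) → (Fin 2 → F) → F}
  {f₂ : (Fin 3 → F) → (Fin 3 → F) → F}

theorem exists_conj_fixed_ne {q : ℕ} [U.UF F q] (hq : 3 ≤ q) :
    ∃ c, c ≠ 0 ∧ c ≠ 1 ∧ U.conj F q c = c := by
  by_contra hc
  push Not at hc
  have : Subsingleton {x : F // x ≠ 0 ∧ U.conj F q x = x} := ⟨fun a b => Subtype.ext
    ((by_contra fun h => hc a a.2.1 h a.2.2).trans (by_contra fun h => hc b b.2.1 h b.2.2).symm)⟩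
  have h5 := Finite.card_le_one_iff_subsingleton.2 this
  rw [U.card_fixed_ne_zero] at h5
  omega

theorem su_tensor_two_three {n q : ℕ} (hF : Fintype.card F = q ^ 2) (hq : 3 ≤ q)
    (e : Fin n ≃ Fin 2 × Fin 3) (P : GL (Fin n) F)
    (hf₁ : Geo.IsUnitaryFormPow q f₁) (hf₂ : Geo.IsUnitaryFormPow q f₂)
    (hT : Geo.IsTensorFormStructure (fun x : F => x ^ q) (hermForm n F q) f₁ f₂ e P) :
    Geo.IsMaximalIn (GU n F q ⊓ Geo.specialLinear (Fin n) F)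
      (Geo.tensorProductSubgroup 2 3 e P ⊓ (GU n F q ⊓ Geo.specialLinear (Fin n) F)) := by
  have : U.UF F q := U.UF.of_card hF
  have h₁ := isUnitaryForm_of_pow hf₁
  have h₂ := isUnitaryForm_of_pow hf₂
  obtain ⟨c, c0, h⟩ := exists_tm_eq (isSesq_of_unitary h₁) (isSesq_of_unitary h₂) hT
  obtain ⟨x, hx⟩ := exists_ne_zero_fin (F := F) (k := 2) (by omega)
  obtain ⟨y, hy⟩ := exists_ne_zero_fin (F := F) (k := 3) (by omega)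
  have hc : conjEquiv F q c = c := by
    obtain ⟨x', h3⟩ := (h₁.nondegenerate x hx).1
    obtain ⟨y', h4⟩ := (h₂.nondegenerate y hy).1
    have := (isUnitaryForm_hermForm n q).herm ((tnOf e P).tm x' y') ((tnOf e P).tm x y)
    rw [h, h, map_mul, map_mul, ← h₁.herm, ← h₂.herm] at this
    exact (mul_right_cancel₀ h3 (mul_right_cancel₀ h4 this)).symm
  have hT' : TF (tnOf e P) (fmU (unitary_smul h₁ c0 hc)) (fmU h₂) (fmUStd F n q) :=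
    ⟨fun _ => rfl, fun _ => rfl, (one_mul 1).symm, fun u w u' w' => h _ _ _ _,
      ⟨1, fun u w => (h _ _ _ _).trans (one_mul _).symm⟩, tv_fmU _, tv_fmU _, ⟨x, hx⟩, y, hy⟩
  obtain ⟨δ, hδ⟩ := U.exists_conj_ne F q
  obtain ⟨a, a0, a1, a2⟩ := exists_conj_fixed_ne (F := F) hq
  exact isMaximalIn_of_NG (mem_SU_iff n q) (hT'.herm_two_three hδ rfl rfl (tv_fmU _) rfl rfl
    (by simp) (by simp) ⟨a, a2, a0, a1⟩)

theorem sp_tensor_two_three {m : ℕ} (hodd : Odd (Fintype.card F)) (hq : 5 ≤ Fintype.card F)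
    (e : (Fin m ⊕ Fin m) ≃ Fin 2 × Fin 3) (P : GL (Fin m ⊕ Fin m) F)
    (hf₁ : Geo.IsSymplecticForm f₁) (hf₂ : Geo.IsSymmetricForm f₂)
    (hT : Geo.IsTensorFormStructure id (sympForm m F) f₁ f₂ e P) :
    Geo.IsMaximalIn (spGL m F) (Geo.tensorProductSubgroup 2 3 e P ⊓ spGL m F) := by
  have h2 := two_ne_zero_of_odd hodd
  obtain ⟨Φ₁, h₁, hT'⟩ := tf_sp_o h2 (by omega) (by omega) hf₁ hf₂ hT
  refine isMaximalIn_of_NG (mem_spGL_iff m) ?_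
  rw [← Tn.swap_NG]
  exact hT'.swap.orth_three_sp_two (isO_fmSym h2 hf₂) h₁ (isSp_fmSp _) h2 (by simp) (by simp)
    (by simpa)

end Matrices

end Cfsg.Agent.Class.Max
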