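import Mathlib
import Cfsg.Agent.Class.Max.C2U5
import Cfsg.Agent.Class.Max.C4Sm
import Cfsg.Agent.Class.Max.LowC5S

/-!
`SU₄(q)`: non-degenerate points, and pairs of orthogonal non-degenerate planes.
-/

set_option autoImplicit false

namespace Cfsg.Agent.Class.Max

open Module

section

variable {F V : Type*} [Field F] [AddCommGroup V] [Module F V] {ι : Type*}

namespace Fm

variable {Φ : Fm F V} {M : Subgroup (V ≃ₗ[F] V)} [FiniteDimensional F V]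

theorem EG_le_of_tvC_pair (hd : Φ.d + 2 ≤ finrank F V) {l : F} (hl : Φ.π l = 0) (l0 : l ≠ 0)
    (h : ∀ e, Φ.Q e = 0 → Φ.TvC M e) : Φ.EG ≤ M := EG_le fun e w c hv => by
  by_cases e0 : e = 0
  · exact (e0 ▸ full_zero : Φ.Full M e) w c hv
  obtain ⟨z, hz⟩ := exists_pair' hd hv.sing e0
  let A : AddSubgroup V :=
    { carrier := {y | Φ.InA M e y}
      zero_mem' := inA_zero hv.sing
      add_mem' := InA.add
      neg_mem' := InA.neg }
  refine InA.hasE (le_of_sing (Y := LinearMap.ker (Φ.B e)) hz.perp hz.q₂ hz.ind A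
    (fun s hs hs0 _ => ⟨0, valid_zero hv.sing hs hs0, ?_⟩) w hv.perp) (h e hv.sing).2 hv
  have k := neg_ne_zero.2 (mul_ne_zero Φ.eps_ne l0)
  have q := Φ.Q_smul_zero hs0 (-(Φ.ε * l))⁻¹
  have b : Φ.B e ((-(Φ.ε * l))⁻¹ • s) = 0 := by rw [map_smul, LinearMap.mem_ker.1 hs, smul_zero]
  have := (hasE_add_center hv.sing q b hl ((h _ (by rw [Φ.Q_add_perp b, hv.sing, q, add_zero])).2
    l hl) ((h e hv.sing).2 l hl)).1 ((h _ q).2 l hl)
  rwa [smul_smul, mul_inv_cancel₀ k, one_smul] at this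

namespace IsU

variable (h : Φ.IsU) [Finite F]
include h

theorem point_isMaximalIn (hd : 4 ≤ finrank F V) {W : Submodule F V} (hW : Φ.ND W)
    (h1 : finrank F W = 1) : Geo.IsMaximalIn Φ.EG (stab W ⊓ Φ.EG) := by
  have hd' : Φ.d + 2 ≤ finrank F V := by rw [h.dim]; omega
  have hU := hW.perp
  have h3 := hW.finrank_add
  rw [← stab_perp_inf]
  refine isMaximalIn_of inf_le_right ?_ fun M hH hM g hg hg' => ?_
  · obtain ⟨g, hg, hg'⟩ := exists_EG_not_stab hd' (W := Φ.perp W)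
      (fun e => by rw [e, finrank_bot] at h3; omega) fun e => by rw [e, finrank_top] at h3; omega
    exact ⟨g, hg, fun e => hg' e.1⟩
  have hI := hM.trans Φ.EG_le_Iso
  have tv : ∀ e ∈ Φ.perp W, Φ.Q e = 0 → Φ.TvC M e := fun e he he0 =>
    ⟨he0, ((hasOn_stab_EG le_rfl).mono hH le_rfl).lam he he0⟩
  obtain ⟨e₀, he₀, he₁, he₂⟩ := Φ.iso (Φ.perp W) (by rw [h.dim]; omega)
  obtain ⟨e, he, he0, hge⟩ : ∃ e ∈ Φ.perp W, Φ.Q e = 0 ∧ g e ∉ Φ.perp W := by
    by_contra hc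
    push Not at hc
    exact hg' ⟨mem_stab_of_mapsTo fun v hv => hU.induction_sing he₀ he₂ he₁
      (A := fun x => g x ∈ Φ.perp W) (fun x y hx hy => by
        rw [map_sub]; exact sub_mem hx hy) hc hv, hM hg⟩
  obtain ⟨l, l0, hl⟩ := h.exists_lam
  refine EG_le_of_tvC_pair hd' hl l0 fun y hy => ?_
  by_cases hy' : y ∈ Φ.perp W
  · exact tv y hy' hy
  have hx := (tv e he he0).conj hg (hI hg)
  generalize g e = x at hx hge
  obtain ⟨w, hw, hw'⟩ := hW.exists_decomp x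
  obtain ⟨v, hv, hv'⟩ := hW.exists_decomp y
  have w0 : w ≠ 0 := fun e => hge (by simpa [e] using hw')
  have v0 : v ≠ 0 := fun e => hy' (by simpa [e] using hv')
  have one : ∀ z ∈ W, ∃ c : F, c • w = z := fun z hz => by
    obtain ⟨c, hc⟩ := (finrank_eq_one_iff_of_nonzero' (⟨w, hw⟩ : W)
      (fun e => w0 (congrArg Subtype.val e))).1 h1 ⟨z, hz⟩
    exact ⟨c, congrArg Subtype.val hc⟩
  obtain ⟨c, rfl⟩ := one v hv
  have q : Φ.Q (c • w) ≠ 0 := fun e => v0 (hW _ hv fun z hz => by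
    obtain ⟨a, rfl⟩ := one z hz
    have := Φ.B_self e
    simp only [Φ.bsimp, mul_eq_zero, Φ.σ_eq_zero, left_ne_zero_of_smul v0, false_or] at this
    simp [this])
  have k : ∀ z, z - c • w ∈ Φ.perp W → Φ.Q z = 0 → Φ.Q (z - c • w) = -Φ.Q (c • w) := fun z a b => by
    have := Φ.Q_add_perp (a _ hv)
    rw [add_sub_cancel, b] at this
    linear_combination -this
  have hu : c • x - c • w ∈ Φ.perp W := smul_sub c x w ▸ (Φ.perp W).smul_mem c hw'
  have q1 := k _ hu (hx.smul c).1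
  have q2 := k _ hv' hy
  obtain ⟨s, hs, es⟩ := hU.exists_supp_move hu hv' (fun e => q (by simpa [e, Φ.Q_zero] using q1))
    (fun e => q (by simpa [e, Φ.Q_zero] using q2)) (q2.trans q1.symm)
  obtain ⟨b, hb, hb0, hb1⟩ := h.exists_nonsing hU x (Or.inl (by omega))
  obtain ⟨a, -, ha⟩ := h.exists_unit hb0
  obtain ⟨ζ, hζ, hk⟩ := h.exists_comp ha (supp_iso hs)
  have := (hx.smul c).conj (g := s * Φ.hm (a • b) ζ) (hH ⟨mem_stab_of_mapsTo fun z hz => by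
    rw [mul_app, hm_apply ha hζ]
    exact supp_apply hs (add_mem hz ((Φ.perp W).smul_mem _ ((Φ.perp W).smul_mem _ hb))), hk⟩)
    (Φ.EG_le_Iso hk)
  rwa [mul_app, hm_perp ha hζ (by simp [Φ.perp_symm hb1]), ← sub_add_cancel (c • x) (c • w),
    map_add, es, supp_fix hs (Φ.le_perp_perp W hv), sub_add_cancel] at this

omit [FiniteDimensional F V] in
theorem exists_conj_div {z : F} (hz : z * Φ.σ z = 1) : ∃ μ, μ ≠ 0 ∧ Φ.σ μ = z * μ := by
  by_cases e : 1 + Φ.σ z = 0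
  · obtain ⟨l, l0, hl⟩ := h.exists_lam
    rw [h.pi] at hl
    have := congrArg Φ.σ e
    simp only [Φ.bsimp] at this
    exact ⟨l, l0, by linear_combination hl - l * this⟩
  · exact ⟨_, e, by simp only [Φ.bsimp]; linear_combination -hz⟩

variable {D : ι → Submodule F V} (hD : Φ.ODec D) [Fintype ι]
include hD

theorem EG_le_of_two (h1 : Φ.HE D ≤ M) {i j : ι} (hij : i ≠ j) (hι : ∀ l, l = i ∨ l = j) {e y : V}
    (he : e ∈ D i) (he0 : Φ.Q e = 0) (he1 : e ≠ 0) (hy : y ∈ D j) (hy0 : Φ.Q y = 0) (hy1 : y ≠ 0)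
    (hw : Φ.InA M e y) : Φ.EG ≤ M := by
  have hon := fun j => (hD.hasOn j).mono h1 le_rfl
  obtain ⟨f, hf, hf0, hef⟩ := exists_partner he he0 ((hD.nd i).exists_ne he he1)
  obtain ⟨l, l0, hl⟩ := h.exists_lam
  have tv : ∀ m, ∀ s ∈ D m, Φ.Q s = 0 → ∃ t ∈ M, t ∈ Φ.Iso ∧ ∀ x, t x = x + (-(l * Φ.B s x)) • s :=
    fun m s hs hs0 => by
      obtain ⟨t, ht, et⟩ := (hon m).lam hs hs0 l hl
      exact ⟨t, ht, Valid.mem_Iso ⟨hs0, map_zero _, by rw [hl, Φ.Q_zero]⟩ et,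
        fun x => by simp [et, ef, h.eps, sub_eq_add_neg]⟩
  have h2 : ∀ a : F, Φ.InA M e (a • y) := by
    refine h.forall_of_mu (P := fun a => Φ.InA M e (a • y))
      (fun a b ha hb => by simpa [add_smul] using ha.add hb) (fun z a hz ha => ?_) one_ne_zero
      (by simpa using hw)
    obtain ⟨μ, μ0, hμ⟩ := h.exists_conj_div hz
    obtain ⟨t, ht⟩ := exists_isTor he0 hf0 hef μ0
    obtain ⟨s, hs, es⟩ := hD.exists_isSwap_eq hij he hy he1 hy1 (by rw [hy0, he0])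
    have t1 := hD.supp_le le_rfl (ht.mem_supp he hf)
    have tf : ∀ x ∈ D j, t x = x := fun x hx => supp_fix (ht.mem_supp he hf) (hD.le_perp hij hx)
    have m : t * s * t⁻¹ * s⁻¹ ∈ Φ.HI D := mul_mem (mul_mem (mul_mem t1 hs.mem) (inv_mem t1))
      (inv_mem hs.mem)
    have s1 : ∀ x, s⁻¹ x = s x := fun x => s.injective (by rw [app_inv_app, hs.invol])
    have s2 : s y = e := by rw [← es, hs.invol]
    have i1 : t⁻¹ e = μ⁻¹ • e := t.injective (by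
      rw [app_inv_app, map_smul, ht.fst, smul_smul, inv_mul_cancel₀ μ0, one_smul])
    have i2 : t⁻¹ y = y := t.injective (by rw [app_inv_app, tf y hy])
    have := ha.conj (h1 ⟨m.1, h.mem_EG m.2 (mem_SLV.1 (by
      simp [SLV, MonoidHom.mem_ker]))⟩) m.2
    simp only [mul_app, s1, map_smul, es, s2, i1, i2, ht.fst, tf y hy] at this
    convert this.of_smul_left μ0 using 1
    rw [smul_smul, smul_smul, hμ]
    congr 1
    field_simp
  have h3 : ∀ y ∈ D j, (∀ a : F, Φ.InA M e (a • y)) → ∀ s ∈ D j, Φ.Q s = 0 → Φ.B s y ≠ 0 →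
      ∀ a : F, Φ.InA M e (a • s) := fun y hy h2 s hs hs0 hb a => by
    obtain ⟨t, ht, hI, et⟩ := tv j s hs hs0
    have := ((h2 (a / -(l * Φ.B s y))).conj ht hI)
    rw [et e, hD.perp j i hij.symm s hs e he, map_smul, et y] at this
    simp only [mul_zero, neg_zero, zero_smul, add_zero, smul_add, smul_smul] at this
    rw [div_mul_cancel₀ _ (neg_ne_zero.2 (mul_ne_zero l0 hb))] at this
    simpa using this.sub (h2 (a / -(l * Φ.B s y)))
  have hF : Φ.Full M e := (hon i).full he he0 fun x hx =>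
    hD.induction (P := Φ.InA M e) (inA_zero he0) (fun _ _ => InA.add) x fun m => by
      rcases hι m with rfl | rfl
      · exact (hon m).inA he (hD.pr_mem m x) he0 (by rw [hD.B_pr he, hx])
      refine (hD.nd m).induction_sing hy hy0 hy1 (fun _ _ => InA.sub) (fun z hz hz0 => ?_)
        (hD.pr_mem m x)
      by_cases z0 : z = 0
      · rw [z0]; exact inA_zero he0
      rw [← one_smul F z]
      by_cases hb : Φ.B y z = 0
      · obtain ⟨s, hs, hs0, b1, b2⟩ := exists_sing_not_perp₂ (D m) hy hy0 hb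
          ((hD.nd m).exists_ne hy hy1) ((hD.nd m).exists_ne hz z0)
        exact h3 s hs (h3 y hy h2 s hs hs0 (Φ.ne_symm b1)) z hz hz0 b2 1
      · exact h3 y hy h2 z hz hz0 (Φ.ne_symm hb) 1
  obtain ⟨t, ht, hI, et⟩ := tv i f hf hf0
  refine EG_le_of_full hF (hF.conj ht hI) he0 (by rw [Iso.Q hI, he0]) ?_
  simp [et, Φ.B_self he0, hef, l0, B_eq_eps hef, Φ.eps_ne]

theorem isMaximalIn_two (hι : ∀ i j l : ι, i ≠ j → l = i ∨ l = j) (hd : 4 ≤ finrank F V) {i₀ : ι}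
    (hd' : finrank F (D i₀) + 2 ≤ finrank F V) (h2 : 2 ≤ finrank F (D i₀)) {c c' : F}
    (h3 : Φ.π c = 0) (h4 : Φ.π c' = 0) (h5 : c ≠ 0) (h6 : c' ≠ 0) (h7 : c ≠ c') :
    Geo.IsMaximalIn Φ.EG (Φ.HE D) := by
  classical
  refine isMaximalIn_of inf_le_right (hD.exists_EG_not_dstab (i := i₀) (by rw [h.dim]; omega)
    (by rw [h.dim]; omega)) fun M h1 h2 g hg hg' => ?_
  have h2' := h2.trans Φ.EG_le_Iso
  have hon := fun j => (hD.hasOn j).mono h1 le_rfl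
  obtain ⟨e₀, he₀, he₁, he₂⟩ := Φ.iso (D i₀) (by rw [h.dim]; omega)
  obtain ⟨l, v, hv, hv0, hv'⟩ : ∃ j, ∃ v ∈ D j, Φ.Q v = 0 ∧ ∀ l, g v ∉ D l := by
    by_contra hc
    push Not at hc
    exact hg' ⟨hD.mem_dstab_of_sing he₀ he₂ he₁ (h2' hg) hc, h2 hg⟩
  have conj : ∀ x ∈ M, ∀ w, (∀ c, Φ.π c = 0 → Φ.HasE M w 0 c) →
      ∀ c, Φ.π c = 0 → Φ.HasE M (x w) 0 c := fun x hx w hw c hc => by
    simpa using (hw c hc).conj hx (h2' hx)
  have hT := conj g hg v ((hon l).lam hv hv0)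
  have hw0 : Φ.Q (g v) = 0 := by rw [Iso.Q (h2' hg), hv0]
  set w := g v
  have : Nonempty ι := ⟨l⟩
  obtain ⟨i, j, hij, hi, hj⟩ := hD.exists_two hv'
  have tv : ∀ i, hD.pr i w ≠ 0 → ∃ s ∈ D i, Φ.Q s = 0 ∧ Φ.B w s ≠ 0 ∧ ∀ c, Φ.π c = 0 →
      ∃ t ∈ M, ∀ x, t x = x + (-(c * Φ.B s x)) • s := fun i hi => by
    obtain ⟨e, he, he0, he1⟩ := hD.exists_sing he₀ he₂ he₁ i
    obtain ⟨s, hs, hs0, hs1⟩ := exists_sing_not_perp (D i) he he0 ((hD.nd i).exists_ne he he1)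
      ((hD.nd i).exists_ne (hD.pr_mem i w) hi)
    refine ⟨s, hs, hs0, by rwa [hD.B_pr_left hs] at hs1, fun c hc => ?_⟩
    obtain ⟨t, ht, et⟩ := (hon i).lam hs hs0 c hc
    exact ⟨t, ht, fun x => by simp [et, ef, h.eps, sub_eq_add_neg]⟩
  obtain ⟨s, hs, hs0, hs1, hs2⟩ := tv j hj
  obtain ⟨t, ht, et⟩ := hs2 c h3
  have hκ : -(c * Φ.B s w) ≠ 0 := neg_ne_zero.2 (mul_ne_zero h5 (Φ.ne_symm hs1))
  have hd₂ := (D j).smul_mem (-(c * Φ.B s w)) hs
  have q₂ := Φ.Q_smul_zero hs0 (-(c * Φ.B s w))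
  have b₂ : Φ.B w ((-(c * Φ.B s w)) • s) ≠ 0 := by rw [Φ.B_smul_right]; exact mul_ne_zero hκ hs1
  have etw := et w
  generalize (-(c * Φ.B s w)) • s = d₂ at hd₂ q₂ b₂ etw
  obtain ⟨k, hk, d₁, hd₁, q₁, n₁, ek, b₁⟩ : ∃ k ∈ M, ∃ d₁ ∈ D i, Φ.Q d₁ = 0 ∧ d₁ ≠ 0 ∧
      k w = w + d₁ ∧ Φ.B w d₁ + Φ.B w d₂ ≠ 0 := by
    obtain ⟨s', hs', hs0', hs1', hs2'⟩ := tv i hi
    have h8 := Φ.ne_symm hs1'
    obtain ⟨c, h9, h10, h11⟩ : ∃ c, Φ.π c = 0 ∧ c ≠ 0 ∧
        -(c * Φ.B s' w) * Φ.B w s' + Φ.B w d₂ ≠ 0 := by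
      by_contra hc
      push Not at hc
      exact h7 (mul_right_cancel₀ (mul_ne_zero h8 hs1')
        (by linear_combination hc c' h4 h6 - hc c h3 h5))
    obtain ⟨k, hk, ek⟩ := hs2' c h9
    exact ⟨k, hk, _, (D i).smul_mem _ hs', Φ.Q_smul_zero hs0' _, smul_ne_zero
      (neg_ne_zero.2 (mul_ne_zero h10 h8)) fun e => by simp [e] at hs1', ek w,
      by rwa [Φ.B_smul_right]⟩
  have hdd := hD.perp i j hij d₁ hd₁ d₂ hd₂
  have e1 : t (k w) = w + (d₁ + d₂) := by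
    rw [ek, map_add, etw, et d₁, hD.perp j i hij.symm s hs d₁ hd₁]; module
  have k3 := conj t ht _ (conj k hk w hT)
  have k4 : Φ.Q (t (k w)) = 0 := by rw [Iso.Q (h2' ht), Iso.Q (h2' hk), hw0]
  rw [e1] at k3 k4
  rw [← map_add] at b₁
  rw [Φ.add, hw0, Φ.Q_add_perp hdd, q₁, q₂, h.pi] at k4
  have hσ := Φ.σ_ne b₁
  obtain ⟨t', ht', et'⟩ := hT (Φ.B w (d₁ + d₂))⁻¹ (by
    rw [h.pi, map_inv₀]; field_simp; linear_combination k4)
  have k5 := conj t' ht' _ k3 c h3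
  have e2 : t' (w + (d₁ + d₂)) = d₁ + d₂ := by
    rw [et', ef, map_add (Φ.B w) w, Φ.B_self hw0, zero_add, h.eps, map_zero, LinearMap.zero_apply,
      zero_add, inv_mul_cancel₀ b₁]
    module
  rw [e2] at k5
  have k6 := (hasE_add_center q₁ q₂ hdd h3 k5 ((hon i).lam hd₁ q₁ c h3)).1
    ((hon j).lam hd₂ q₂ c h3)
  have k7 := (D j).smul_mem (-(Φ.ε * c)) hd₂
  have k8 := Φ.Q_smul_zero q₂ (-(Φ.ε * c))
  exact h.EG_le_of_two hD h1 hij (fun l => hι i j l hij) hd₁ q₁ n₁ k7 k8 (smul_ne_zero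
    (neg_ne_zero.2 (mul_ne_zero Φ.eps_ne h5)) fun e => by simp [e] at b₂)
    ⟨0, valid_zero q₁ (hD.perp i j hij _ hd₁ _ k7) k8, k6⟩

end IsU

end Fm

end

variable {F : Type*} [Field F] [Fintype F] {q : ℕ}

theorem u_point_isMaximalIn {n : ℕ} (hF : Fintype.card F = q ^ 2) (hn : 4 ≤ n)
    {W : Submodule F (Fin n → F)} (hW : Geo.IsNondegenerateOn (hermForm n F q) W)
    (h1 : finrank F W = 1) : Geo.IsMaximalIn (GU n F q ⊓ Geo.specialLinear (Fin n) F)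
      (Geo.subspaceStabilizer W ⊓ (GU n F q ⊓ Geo.specialLinear (Fin n) F)) := by
  have := U.UF.of_card hF
  exact stab_isMaximalIn_of (mem_SU_iff n q) ((isU_fmUStd n q).point_isMaximalIn (by simpa using hn)
    (nd_of_on (Or.inr fun _ _ => rfl) hW) h1)

theorem u4_two_isMaximalIn (hF : Fintype.card F = q ^ 2) (hq : 3 ≤ q)
    {D : Fin 2 → Submodule F (Fin 4 → F)}
    (hD : Geo.IsNondegenerateMDecomposition (hermForm 4 F q) 2 D) :
    Geo.IsMaximalIn (GU 4 F q ⊓ Geo.specialLinear (Fin 4) F)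
      (Geo.decompositionStabilizer D ⊓ (GU 4 F q ⊓ Geo.specialLinear (Fin 4) F)) := by
  classical
  have := U.UF.of_card hF
  have h4 := U.card_trace_fiber (F := F) (q := q) (map_zero _)
  rw [Nat.card_eq_fintype_card] at h4
  obtain ⟨c, hc⟩ := exists_ne_list [(⟨0, by simp⟩ : {t : F // t + U.conj F q t = 0})]
    (by simp only [List.length_cons, List.length_nil]; omega)
  obtain ⟨c', hc'⟩ := exists_ne_list [⟨0, by simp⟩, c]
    (by simp only [List.length_cons, List.length_nil]; omega)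
  simp only [List.mem_cons, List.not_mem_nil, or_false, forall_eq_or_imp, forall_eq] at hc hc'
  exact dstab_isMaximalIn_of (mem_SU_iff 4 q) ((isU_fmUStd 4 q).isMaximalIn_two (u_oDec_of hD)
    (by decide) (by simp) (i₀ := 0) (by simp [hD.decomp.finrank_eq]) (by simp [hD.decomp.finrank_eq])
    c.2 c'.2 (fun e => hc (Subtype.ext e)) (fun e => hc'.1 (Subtype.ext e))
    fun e => hc'.2 (Subtype.ext e.symm))

end Cfsg.Agent.Class.Max
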