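import Mathlib
import Cfsg.Agent.Class.PGL2Dickson

/-!
Tame subgroups of `GL₂(F)` containing two anticommuting elements: trace conditions.
-/

set_option autoImplicit false

namespace Cfsg.Agent.Class.Max

open Matrix MatrixGroups Cfsg.Agent.Class.Dickson

variable {F : Type*} [Field F]

theorem pmk_pow_trace (γ : GL (Fin 2) F) (h1 : pmk γ ≠ 1) :
    (pmk γ ^ 2 = 1 → γ.1.trace = 0) ∧ (pmk γ ^ 3 = 1 → γ.1.trace ^ 2 = γ.1.det) ∧
    (pmk γ ^ 4 = 1 → γ.1.trace = 0 ∨ γ.1.trace ^ 2 = 2 * γ.1.det) ∧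
    (pmk γ ^ 5 = 1 → γ.1.trace ^ 4 - 3 * γ.1.trace ^ 2 * γ.1.det + γ.1.det ^ 2 = 0) := by
  have key : ∀ u : F, u * γ 0 1 = 0 → u * γ 1 0 = 0 → u * (γ 0 0 - γ 1 1) = 0 → u = 0 :=
    fun u e1 e2 e3 => by
      by_contra hu
      simp only [mul_eq_zero, hu, false_or, sub_eq_zero] at e1 e2 e3
      exact h1 ((pmk_eq_one_iff γ).2 ⟨e1, e2, e3⟩)
  rw [trace_fin_two, det_fin_two]
  refine ⟨fun h => ?_, fun h => ?_, fun h => ?_, fun h => ?_⟩ <;>
    rw [← map_pow, pmk_eq_one_iff] at h <;>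
    simp only [pow_succ, pow_zero, one_mul, gl_mul_apply] at h <;> obtain ⟨e1, e2, e3⟩ := h
  · exact key _ (by linear_combination e1) (by linear_combination e2) (by linear_combination e3)
  · rw [← sub_eq_zero]
    exact key _ (by linear_combination e1) (by linear_combination e2) (by linear_combination e3)
  · rw [← sub_eq_zero (a := _ ^ 2), ← mul_eq_zero]
    exact key _ (by linear_combination e1) (by linear_combination e2) (by linear_combination e3)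
  · exact key _ (by linear_combination e1) (by linear_combination e2) (by linear_combination e3)

theorem pmk_mul_self_of_trace (γ : GL (Fin 2) F) (h : γ.1.trace = 0) : pmk γ * pmk γ = 1 := by
  rw [trace_fin_two] at h
  rw [← map_mul, pmk_eq_one_iff]
  simp only [gl_mul_apply]
  exact ⟨by linear_combination γ 0 1 * h, by linear_combination γ 1 0 * h,
    by linear_combination (γ 0 0 - γ 1 1) * h⟩

theorem trace_of_unip {γ : GL (Fin 2) F} {x : P1 F} (h : pmk γ ∈ unip x) :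
    γ.1.trace ^ 2 = 4 * γ.1.det := by
  obtain ⟨g, rfl⟩ := exists_smul_inf x
  obtain ⟨η, rfl⟩ := exists_pmk g
  rw [← conj_mem_unip, ← map_inv, ← map_mul, ← map_mul, pmk_mem_unip_inf] at h
  rw [← trace_units_conj' η, ← det_units_conj' η, trace_fin_two, det_fin_two]
  obtain ⟨h1, h2⟩ := h
  change (η⁻¹ * γ * η).1 1 0 = 0 at h1
  change (η⁻¹ * γ * η).1 0 0 = (η⁻¹ * γ * η).1 1 1 at h2
  simp only [Units.val_mul] at h1 h2
  rw [h1, h2]; ring

theorem not_fix_of_anti (h2 : (2 : F) ≠ 0) {γ δ : GL (Fin 2) F} (h : γ.1 * δ.1 = -(δ.1 * γ.1))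
    {x : P1 F} (h1 : pmk γ • x = x) (h3 : pmk δ • x = x) : False := by
  induction x using Projectivization.ind with | h v hv =>
  rw [Projectivization.PGL.mk_smul_mk, Projectivization.mk_eq_mk_iff'] at h1 h3
  obtain ⟨a, ha⟩ := h1
  obtain ⟨b, hb⟩ := h3
  change a • v = γ.1 *ᵥ v at ha
  change b • v = δ.1 *ᵥ v at hb
  have h4 := congrArg (· *ᵥ v) h
  simp only [← mulVec_mulVec, neg_mulVec, ← ha, ← hb, mulVec_smul, smul_smul] at h4
  have h5 : (2 * (a * b)) • v = 0 := by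
    rw [two_mul, add_smul]; nth_rw 1 [mul_comm, h4]; exact neg_add_cancel _
  have key : ∀ (c : F) (g : GL (Fin 2) F), c • v = g.1 *ᵥ v → c ≠ 0 := fun c g e hc => hv (by
    have : (g⁻¹).1 *ᵥ (c • v) = (g⁻¹).1 *ᵥ (g.1 *ᵥ v) := congrArg _ e
    rw [hc, zero_smul, mulVec_zero, mulVec_mulVec, Units.inv_mul, one_mulVec] at this
    exact this.symm)
  simp [h2, hv, key a γ ha, key b δ hb] at h5

/-- Trace conditions in a subgroup of `GL₂(F)` without non-trivial unipotent elements modulo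
scalars, containing a suitable triple of projective involutions. -/
theorem tame_traces [Finite F] (h2 : (2 : F) ≠ 0) (Γ : Subgroup (GL (Fin 2) F))
    (hU : ∀ γ ∈ Γ, γ.1.trace ^ 2 = 4 * γ.1.det → pmk γ = 1) {γ₁ γ₂ δ : GL (Fin 2) F} (m₁ : γ₁ ∈ Γ)
    (m₂ : γ₂ ∈ Γ) (m : δ ∈ Γ) (h : γ₁.1 * γ₂.1 = -(γ₂.1 * γ₁.1)) (t₁ : γ₁.1.trace = 0)
    (t₂ : γ₂.1.trace = 0) (t₃ : (γ₁ * γ₂).1.trace = 0) (t : δ.1.trace = 0)
    (n₁ : pmk (γ₁ * δ) ≠ 1) (n₂ : pmk (γ₂ * δ) ≠ 1) (n₃ : pmk (γ₁ * γ₂ * δ) ≠ 1)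
    (s₁ : (γ₁ * δ).1.trace ≠ 0) (s₂ : (γ₂ * δ).1.trace ≠ 0) (s₃ : (γ₁ * γ₂ * δ).1.trace ≠ 0) :
    (∀ γ ∈ Γ, pmk γ ≠ 1 → γ.1.trace = 0 ∨ γ.1.trace ^ 2 = γ.1.det ∨ γ.1.trace ^ 2 = 2 * γ.1.det) ∨
    ∀ γ ∈ Γ, pmk γ ≠ 1 → γ.1.trace = 0 ∨ γ.1.trace ^ 2 = γ.1.det ∨
      γ.1.trace ^ 4 - 3 * γ.1.trace ^ 2 * γ.1.det + γ.1.det ^ 2 = 0 := by
  let k := AlgebraicClosure F
  let f := algebraMap F k
  let G := Γ.map (Matrix.ProjGenLinGroup.mk (n := Fin 2) (R := F))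
  have : Finite PGL(2, F) := Finite.of_surjective _ Matrix.ProjGenLinGroup.mk_surjective
  let φ : G →* PGL(2, k) := (pmap f).comp G.subtype
  have hφ : Function.Injective φ := (pmap_injective f).comp Subtype.val_injective
  let el : ∀ γ ∈ Γ, G := fun γ h => ⟨pmk γ, γ, h, rfl⟩
  have hel : ∀ γ h, φ (el γ h) = pmk (GeneralLinearGroup.map f γ) := fun _ _ => rfl
  have h2' : (2 : k) ≠ 0 := fun e => h2 (f.injective (by rw [map_ofNat, map_zero, e]))
  have hnf : ∀ x : P1 k, φ (el γ₁ m₁) • x = x → φ (el γ₂ m₂) • x = x → False := fun x =>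
    not_fix_of_anti h2' (by
      change γ₁.1.map f * γ₂.1.map f = -(γ₂.1.map f * γ₁.1.map f)
      rw [← Matrix.map_mul, h, ← Matrix.map_mul, Matrix.map_neg _ (map_neg f)])
  let _ : MulAction G (P1 k) := MulAction.compHom _ φ
  rcases (lineAction φ hφ).tame (fun x => eq_bot_iff.2 fun g hg => by
      obtain ⟨_, γ, hγ, rfl⟩ := g
      have h3 := trace_of_unip (γ := GeneralLinearGroup.map f γ) hg
      refine Subtype.ext (hU γ hγ (f.injective ?_))
      rw [map_mul, map_pow, map_ofNat, RingHom.map_det, AddMonoidHom.map_trace]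
      exact h3) with ⟨x, hx⟩ | ⟨x, hx⟩ | ⟨n, hn, ho⟩
  · exact (hnf x (hx _) (hx _)).elim
  · exfalso
    obtain ⟨y, hxy, hp⟩ := pair_of_card_orbit hx
    obtain ⟨a, -, -, ha, -⟩ := cyclic_or_dihedral_of_pair φ hφ hxy hp
    have key : ∀ γ (hγ : γ ∈ Γ), γ.1.trace = 0 → φ (el γ hγ) • x = x → pmk (γ * δ) ≠ 1 →
        (γ * δ).1.trace ≠ 0 → False := fun γ hγ e1 e2 e3 e4 => e4 ((pmk_pow_trace _ e3).1 (by
      have i1 := pmk_mul_self_of_trace γ e1
      have i2 := pmk_mul_self_of_trace δ t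
      rcases hp (el δ m) with e5 | e5
      · obtain ⟨i, hi⟩ := ha _ e2
        obtain ⟨j, hj⟩ := ha _ e5.1
        have : Commute (el γ hγ) (el δ m) := by
          rw [← hi, ← hj]; exact Commute.zpow_zpow (Commute.refl a) i j
        have e6 : Commute (pmk γ) (pmk δ) := congrArg Subtype.val this
        change (pmk γ * pmk δ) ^ 2 = 1
        rw [e6.mul_pow, sq, sq, i1, i2, mul_one]
      · have e6 : φ (el γ hγ) • y = y := ((hp (el γ hγ)).resolve_right fun e => hxy (e2.symm.trans e.1)).2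
        have e7 := mul_self_of_swap (g := φ (el γ hγ * el δ m)) hxy
          (by rw [map_mul, mul_smul]; exact (congrArg _ e5.1).trans e6)
          (by rw [map_mul, mul_smul]; exact (congrArg _ e5.2).trans e2)
        rw [← map_mul, map_eq_one_iff φ hφ] at e7
        rw [sq]
        exact congrArg Subtype.val e7))
    rcases hp (el γ₁ m₁) with e1 | e1
    · exact key _ m₁ t₁ e1.1 n₁ s₁
    rcases hp (el γ₂ m₂) with e2 | e2
    · exact key _ m₂ t₂ e2.1 n₂ s₂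
    refine key _ (Γ.mul_mem m₁ m₂) t₃ ?_ n₃ s₃
    change φ (el γ₁ m₁ * el γ₂ m₂) • x = x
    rw [map_mul, mul_smul]
    exact (congrArg _ e2.1).trans e1.2
  · have ho' : ∀ γ ∈ Γ, pmk γ ^ 2 = 1 ∨ pmk γ ^ 3 = 1 ∨ pmk γ ^ n = 1 := fun γ hγ => by
      have := ho (el γ hγ)
      simp only [orderOf_dvd_iff_pow_eq_one, Subtype.ext_iff] at this
      exact this
    rcases hn with ⟨-, rfl⟩ | ⟨-, rfl⟩ | ⟨-, rfl⟩
    · refine Or.inl fun γ hγ h1 => ?_
      obtain ⟨p2, p3, -, -⟩ := pmk_pow_trace γ h1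
      rcases ho' γ hγ with e | e | e
      exacts [Or.inl (p2 e), Or.inr (Or.inl (p3 e)), Or.inr (Or.inl (p3 e))]
    · refine Or.inl fun γ hγ h1 => ?_
      obtain ⟨p2, p3, p4, -⟩ := pmk_pow_trace γ h1
      rcases ho' γ hγ with e | e | e
      exacts [Or.inl (p2 e), Or.inr (Or.inl (p3 e)), (p4 e).imp_right Or.inr]
    · refine Or.inr fun γ hγ h1 => ?_
      obtain ⟨p2, p3, -, p5⟩ := pmk_pow_trace γ h1
      rcases ho' γ hγ with e | e | e
      exacts [Or.inl (p2 e), Or.inr (Or.inl (p3 e)), Or.inr (Or.inr (p5 e))]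

end Cfsg.Agent.Class.Max
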