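import Mathlib
import Cfsg.Agent.Class.Max.C7O2
import Cfsg.Agent.Class.Max.C3O3
import Cfsg.Agent.Class.Orth.OmegaCrit
import Cfsg.Agent.PLocal.HallHigman
import Cfsg.Agent.Solv.Coprime3
import Cfsg.Agent.Grp.ConjCount

/-!
Tensor products of orthogonal spaces: stabilisers of `z ⊗ W` for non-singular `z`.
-/

set_option autoImplicit false
set_option linter.unusedSectionVars false

namespace Cfsg.Agent.Class.Max

open Module

variable {F U W V : Type*} [Field F] [AddCommGroup U] [Module F U] [AddCommGroup W]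
  [Module F W] [AddCommGroup V] [Module F V]

/-- A group normalised by a cubic one-parameter group. -/
theorem le_of_cubic [Finite F] [FiniteDimensional F V] (h2 : (2 : F) ≠ 0) (hq : Nat.card F ≠ 3)
    (x : Multiplicative F →* (V ≃ₗ[F] V)) (hx : Function.Injective x)
    (h3 : ∀ t, ((x t).toLinearMap - 1) ^ 3 = 0) {N L : Subgroup (V ≃ₗ[F] V)}
    (hN : ∀ t, ∀ n ∈ N, x t * n * (x t)⁻¹ ∈ N)
    (hL : ∀ t, t ≠ 1 → ∀ n ∈ N, n * x t = x t * n → n ∈ L)
    (hp : ∀ n ∈ N, n ∈ L → n ^ ringChar F = 1 → n = 1) : N ≤ L := by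
  have : Finite V := Module.finite_of_finite F
  have : Finite (V ≃ₗ[F] V) := DFunLike.finite _
  have := Fact.mk (CharP.char_is_prime F (ringChar F))
  have p1 : ∀ t, x t ^ ringChar F ^ 1 = 1 := fun t => by
    rw [← map_pow, pow_one, show t ^ ringChar F = 1 from Multiplicative.toAdd.injective (by simp),
      map_one]
  have hn : x.range ≤ Subgroup.normalizer (N : Set _) := by
    rintro _ ⟨t, rfl⟩ n
    exact ⟨hN t n, fun h => by simpa [mul_assoc] using hN t⁻¹ _ h⟩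
  let t : Multiplicative F := Multiplicative.ofAdd 1
  have t1 : t ≠ 1 := by simp [t]
  have hP := PLocal.isPGroup_zpowers_of_pow_eq_one (p1 t)
  have hz : Subgroup.zpowers (x t) ≤ Subgroup.normalizer (N : Set _) :=
    (Subgroup.zpowers_le.2 (MonoidHom.mem_range.2 ⟨t, rfl⟩)).trans hn
  have hc : (Nat.card N).Coprime (ringChar F) := by
    refine ((Nat.Prime.coprime_iff_not_dvd this.out).2 fun h => ?_).symm
    obtain ⟨n, e⟩ := exists_prime_orderOf_dvd_card' (G := ↥(N ⊓ Subgroup.centralizer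
      (Subgroup.zpowers (x t) : Set (V ≃ₗ[F] V)))) (ringChar F) ((Grp.ConjCount.card_modEq hP N
        fun g hg n => (hz hg n).1).dvd_iff dvd_rfl |>.1 h)
    have h1 := hp n n.2.1 (hL t t1 n n.2.1 (n.2.2 _ (Subgroup.mem_zpowers _)).symm) (by
      rw [← e, ← Subgroup.coe_pow, pow_orderOf_eq_one]; rfl)
    exact this.out.one_lt.ne (by rw [← e, show n = 1 from Subtype.ext h1, orderOf_one])
  by_cases h5 : ringChar F = 3
  · have : IsMulCommutative x.range := ⟨⟨by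
      rintro ⟨_, a, rfl⟩ ⟨_, b, rfl⟩
      exact Subtype.ext (by simp [← map_mul, mul_comm])⟩⟩
    have e : Nat.card x.range = Nat.card F :=
      (Nat.card_congr (MonoidHom.ofInjective hx).toEquiv).symm
    have hX : IsPGroup (ringChar F) x.range := by
      rintro ⟨_, a, rfl⟩
      exact ⟨1, Subtype.ext (p1 a)⟩
    refine Solv.le_of_centralizers_le x.range N (fun h => ?_) hn
      (Solv.coprime_card_of_isPGroup hX hc).symm L ?_
    · obtain ⟨⟨_, a, rfl⟩, h1⟩ := IsCyclic.exists_ofOrder_eq_natCard (α := x.range)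
      have h4 := orderOf_dvd_of_pow_eq_one (x := (⟨x a, a, rfl⟩ : x.range)) (Subtype.ext (p1 a))
      rw [h1, e, h5, pow_one, Nat.dvd_prime Nat.prime_three] at h4
      exact h4.elim Finite.one_lt_card.ne' hq
    · rintro _ ⟨a, rfl⟩ ha n hn
      exact hL a (fun e => ha (by rw [e, map_one])) n hn.1
        (Subgroup.mem_centralizer_singleton_iff.1 hn.2)
  by_contra hc'
  obtain ⟨q, hq, hpq, Q, -, hQ, hxQ, hnt⟩ := PLocal.HH.exists_invariant_qgroup
    (D := Subgroup.zpowers (x t)) hP hc hz fun h =>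
      hc' fun n hn => hL t t1 n hn (h (Subgroup.mem_zpowers _) n hn)
  have := Fact.mk hq
  have h6 : 5 ≤ ringChar F := by
    have := CharP.char_is_prime F (ringChar F)
    have h7 : ringChar F ≠ 2 := fun e => h2 (by simpa [e] using ringChar.Nat.cast_ringChar (R := F))
    have h8 : ringChar F ≠ 4 := fun e => by rw [e] at this; norm_num at this
    have := this.two_le
    omega
  rcases PLocal.HH.of_qgroup (n := 0) hpq LinearEquiv.automorphismGroup.toLinearMapMonoidHom hQ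
    (hxQ (Subgroup.mem_zpowers _)) (p1 t) (by
      by_contra h
      push Not at h
      exact hnt ((Subgroup.eq_bot_iff_forall _).2 fun g hg =>
        LinearEquiv.toLinearMap_injective (h g (by simpa using hg)))) with h | ⟨n, m, a1, a2, -, -, -, h⟩
  · exact h (pow_eq_zero_of_le (by simp; omega) (h3 t))
  · exact h (pow_eq_zero_of_le (by simp [show n = 1 by omega]; omega) (h3 t))

theorem Tn.kr_pow (T : Tn F U W V) (a : U ≃ₗ[F] U) (d : W ≃ₗ[F] W) (n : ℕ) :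
    T.kr a d ^ n = T.kr (a ^ n) (d ^ n) := by
  induction n with
  | zero => simp [T.kr_one]
  | succ n ih => rw [pow_succ, ih, ← T.kr_mul, pow_succ, pow_succ]

namespace Fm.IsO

variable {Φ : Fm F W} (hO : Φ.IsO)
include hO

/-- The negative of a reflection. -/
def nr (v : W) : W ≃ₗ[F] W := LinearEquiv.neg F * hO.r v

theorem nr_apply (v x : W) : hO.nr v x = -hO.r v x := rfl

theorem nr_sq (v : W) : hO.nr v * hO.nr v = 1 := LinearEquiv.ext fun x => by
  simp [nr_apply, hO.r_r]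

theorem nr_mul (v v' : W) : hO.nr v * hO.nr v' = hO.r v * hO.r v' := LinearEquiv.ext fun x => by
  simp [nr_apply]

theorem r_comm {a c : W} (h : Φ.B a c = 0) : hO.r a * hO.r c = hO.r c * hO.r a := by
  rw [← mul_inv_eq_iff_eq_mul, hO.conj_r (hO.r_mem_Iso a), hO.r_of_perp h]

theorem Q_of_sim (h2 : (2 : F) ≠ 0) {a : W ≃ₗ[F] W} {m : F}
    (h : ∀ x y, m * Φ.B (a x) (a y) = Φ.B x y) (x : W) : m * Φ.Q (a x) = Φ.Q x :=
  mul_left_cancel₀ h2 (by linear_combination h x x - m * hO.B_self (a x) + hO.B_self x)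

theorem conj_nr (h2 : (2 : F) ≠ 0) {a : W ≃ₗ[F] W} {m : F} (m0 : m ≠ 0)
    (h : ∀ x y, m * Φ.B (a x) (a y) = Φ.B x y) (v : W) : a * hO.nr v * a⁻¹ = hO.nr (a v) := by
  refine mul_inv_eq_iff_eq_mul.2 (LinearEquiv.ext fun x => ?_)
  simp only [mul_app, nr_apply, hO.r_apply, map_neg, map_sub, map_smul, ← hO.Q_of_sim h2 h v, ← h v x,
    mul_inv, mul_assoc, mul_left_comm _ m, mul_inv_cancel_left₀ m0]

theorem smul_of_r_eq (h2 : (2 : F) ≠ 0) {v v' : W} (h : hO.r v v' = -v') : ∃ c : F, v' = c • v :=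
  ⟨2⁻¹ * ((Φ.Q v)⁻¹ * Φ.B v v'), by
    rw [mul_smul, eq_inv_smul_iff₀ h2]
    rw [hO.r_apply] at h
    linear_combination (norm := module) h⟩

variable [FiniteDimensional F W] (h2 : (2 : F) ≠ 0) (h3 : finrank F W = 3)
include h2 h3

theorem o3 : Φ.O3 := ⟨hO.σ, hO.ε, hO.π, h2, h3⟩

theorem nr_eq {v a c : W} (hv : Φ.Q v ≠ 0) (ha : Φ.Q a ≠ 0) (hc : Φ.Q c ≠ 0) (h1 : Φ.B v a = 0)
    (h4 : Φ.B v c = 0) (h5 : Φ.B a c = 0) : hO.nr v = hO.r a * hO.r c :=
  LinearEquiv.ext fun x => by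
    have k := And.intro (Φ.perp_symm h1) (And.intro (Φ.perp_symm h4) (Φ.perp_symm h5))
    obtain ⟨p, q, r, rfl⟩ := span_three h3 (x := v) (y := a) (z := c) (fun p q r e => by
      have e1 := congrArg (Φ.B v) e
      have e2 := congrArg (Φ.B a) e
      have e3 := congrArg (Φ.B c) e
      simp [h1, h4, h5, k, hO.B_self, h2, hv, ha, hc] at e1 e2 e3
      exact ⟨e1, e2, e3⟩) x
    simp only [nr_apply, mul_app, map_add, map_smul, map_neg, hO.r_self hv, hO.r_self ha,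
      hO.r_self hc, hO.r_of_perp h1, hO.r_of_perp h4, hO.r_of_perp h5, hO.r_of_perp k.1,
      hO.r_of_perp k.2.1, hO.r_of_perp k.2.2]
    module

theorem exists_mul_eq {v v' : W} (hv : Φ.Q v ≠ 0) (hv' : Φ.Q v' ≠ 0) (hne : hO.nr v ≠ hO.nr v')
    (h : hO.nr v * hO.nr v' = hO.nr v' * hO.nr v) : Φ.B v v' = 0 ∧ ∃ z, Φ.Q z ≠ 0 ∧ Φ.B z v = 0 ∧
      Φ.B z v' = 0 ∧ hO.nr v * hO.nr v' = hO.nr z := by
  have h1 : Φ.B v v' = 0 := by
    by_contra h0
    have := LinearEquiv.congr_fun h v'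
    rw [nr_mul, nr_mul, mul_app, mul_app, hO.r_self hv', map_neg, hO.r_apply v, map_sub,
      hO.r_self hv', map_smul] at this
    obtain ⟨c, rfl⟩ := hO.smul_of_r_eq h2 (v := v') (v' := v) (smul_right_injective W
      (mul_ne_zero (inv_ne_zero hv) h0) (by linear_combination (norm := module) this))
    exact hne (by rw [nr, nr, hO.r_smul fun e => hv (by simp [e, Φ.Q_zero])])
  obtain ⟨z, hz, z0⟩ := hO.exists_perp_nonsing (Φ.nd_top.inf_one (z := v) trivial (by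
    rw [hO.B_self]; exact mul_ne_zero h2 hv)) (by
      have := Module.Dual.finrank_ker_add_one_of_ne_zero (f := Φ.B v) fun h => by
        simpa [h, h2, hv] using hO.B_self v
      rw [top_inf_eq]; omega) (x := v') ⟨trivial, h1⟩ hv'
  exact ⟨h1, z, z0.1, Φ.perp_symm hz.2, z0.2, by
    rw [nr_mul, hO.nr_eq h2 h3 z0.1 hv hv' (Φ.perp_symm hz.2) z0.2 h1]⟩

theorem nr_ne {v a : W} (hv : Φ.Q v ≠ 0) (h : Φ.B a v = 0) : hO.nr a ≠ hO.nr v := fun e => by
  have := LinearEquiv.congr_fun e v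
  rw [nr_apply, nr_apply, hO.r_self hv, hO.r_of_perp h, neg_neg] at this
  exact hv (by rw [(smul_eq_zero_iff_right h2).1 (show (2 : F) • v = 0 by
    linear_combination (norm := module) -this), Φ.Q_zero])

theorem wide_three : ∀ s v, ¬ Φ.Pair s v := fun _ _ hp => by
  have := hp.finrank_span ▸ hp.ts.two_mul_le
  omega

end Fm.IsO

namespace TF

variable {T : Tn F U W V} {Φ₁ : Fm F U} {Φ₂ : Fm F W} {Φ : Fm F V}
  [FiniteDimensional F U] [FiniteDimensional F W] [FiniteDimensional F V]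
  (hT : TF T Φ₁ Φ₂ Φ) (h₂ : Φ₂.IsO) (h2 : (2 : F) ≠ 0)
include hT h₂ h2

theorem exists_sg_krR (hO : Φ.IsO) : ∃ D : F, ∀ v, Φ₂.Q v ≠ 0 → D ≠ 0 ∧
    hO.sg h2 ⟨_, hT.krR_Iso (h₂.r_mem_Iso v)⟩ =
      ((-1) ^ finrank F U, Orth.sqClass (Φ₂.Q v ^ finrank F U * D)) := by
  let b := finBasis F U
  refine ⟨(2 * 2) ^ finrank F U * (Matrix.of fun i j => Φ₁.B (b i) (b j)).det, fun v hv => ?_⟩
  have v0 : v ≠ 0 := fun e => hv (by rw [e, Φ₂.Q_zero])
  have e : ∀ u, T.tm u v - T.krR (h₂.r v) (T.tm u v) = ((2 : F) • T.tm.flip v) u := fun u => by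
    simp [h₂.r_self hv, two_smul]
  obtain ⟨k1, k2⟩ := Orth.isWallDisc_of_family (Q := hO.qf)
    ⟨_, hO.mem_OG.2 (hT.krR_Iso (h₂.r_mem_Iso v))⟩ (fun i => T.tm (b i) v) (by
      simp only [e]
      exact b.linearIndependent.map' _ (LinearMap.ker_eq_bot'.2 fun u hu =>
        T.left_inj v0 (by simpa [h2] using hu))) fun x => by
      simp only [e]
      rw [show (fun i => ((2 : F) • T.tm.flip v) (b i)) = ((2 : F) • T.tm.flip v) ∘ b from rfl,
        Set.range_comp, ← Submodule.map_span, b.span_eq, Submodule.map_top]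
      refine ⟨(2 * Φ₂.Q v)⁻¹ • T.cR (Φ₂.B v) x, T.ext (f := ((2 : F) • T.tm.flip v) ∘ₗ
        ((2 * Φ₂.Q v)⁻¹ • T.cR (Φ₂.B v))) (g := LinearMap.id - (T.krR (h₂.r v)).toLinearMap)
          (fun u w => ?_) x⟩
      simp only [LinearMap.comp_apply, LinearMap.smul_apply, Tn.cR_tm, map_smul,
        LinearMap.flip_apply, LinearMap.sub_apply, LinearMap.id_apply, LinearEquiv.coe_coe,
        Tn.krR_tm, h₂.r_apply, map_sub]
      match_scalars <;> field_simp
      ring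
  have e1 : (Matrix.of fun i j => QuadraticMap.polar hO.qf (T.tm (b i) v)
      (T.tm (b j) v - T.krR (h₂.r v) (T.tm (b j) v))) =
      (Φ₂.Q v * (2 * 2)) • Matrix.of fun i j => Φ₁.B (b i) (b j) := by
    ext i j
    rw [Matrix.of_apply, e]
    simp [hO.polar_qf, hT.B, h₂.B_self]
    ring
  erw [e1] at k2
  rw [Matrix.det_smul, Fintype.card_fin, mul_pow, mul_assoc] at k2
  rw [Fintype.card_fin] at k1
  exact ⟨right_ne_zero_of_mul (k2.ne_zero hO.nd_qf), Prod.ext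
    ((Orth.dickson_apply _ _ _).trans (congrArg _ k1)) (k2.spinor_eq _ _)⟩

theorem exists_notMem_NG' (hO : Φ.IsO) (hU : 3 ≤ finrank F U) {w : W} (hw : Φ₂.Q w = 0) (hw0 : w ≠ 0) :
    ∃ g ∈ Φ.EG, (∀ u, g (T.tm u w) = T.tm u w) ∧ g ∉ T.NG := by
  obtain ⟨u, u', hu⟩ := hT.exists_B_one
  obtain ⟨w', -, e1⟩ := Fm.exists_partner' hw hw0
  obtain ⟨x, x1, x2⟩ := exists_ker_notMem_span hU (Φ₁.B u') u'
  obtain ⟨α, a1, a2⟩ := exists_dual_zero_one x2
  have hv := Fm.valid_zero (hT.Q_tm u hw) (w := T.tm x w) (by simp [hT.B, Φ₂.B_self hw])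
    (hT.Q_tm x hw)
  have k : ∀ z, hv.eich (T.tm z w) = T.tm z w := fun z =>
    Fm.ef_apply_of_perp (by simp [hT.B, Φ₂.B_self hw]) (by simp [hT.B, Φ₂.B_self hw])
  refine ⟨_, hv.eich_mem, k, fun ⟨a, d, e⟩ => ?_⟩
  obtain ⟨d', e'⟩ := T.exists_krR_of_smul d hT.ne₁ (T.smul_of_fix (Y := ⊥) (y := w)
    (by simpa using hw0) fun u => by rw [← e, k, sub_self]; exact zero_mem _)
  have := congrArg (T.cL α) (LinearEquiv.congr_fun (e.trans e') (T.tm u' w'))
  simp [hv.eich_apply, hO.ef, hT.B, hu, e1, a1, a2, Φ₁.perp_symm x1, hw0] at this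

theorem smul_of_pow [Finite F] (h3 : finrank F W = 3) {a : U ≃ₗ[F] U} {d : W ≃ₗ[F] W}
    (hI : T.kr a d ∈ Φ.Iso) (hp : T.kr a d ^ ringChar F = 1) {v : W} (hv : Φ₂.Q v ≠ 0)
    (h : ∀ u, T.kr a d (T.tm u v) ∈ T.sp v) : ∃ c : F, ∀ x, d x = c • x := by
  obtain ⟨u, hu⟩ := hT.ne₁
  have v0 : v ≠ 0 := fun e => hv (by rw [e, Φ₂.Q_zero])
  obtain ⟨c, hc⟩ := Submodule.mem_span_singleton.1 (T.mem_of_tm_mem_ts (a.map_ne_zero_iff.2 hu)
    (T.sp_eq_ts v ▸ T.kr_tm a d u v ▸ h u))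
  have c0 : c ≠ 0 := fun e => v0 (d.map_eq_zero_iff.1 (by simp [← hc, e]))
  let a' := LinearEquiv.smulOfNeZero F U c c0 * a
  let d' := LinearEquiv.smulOfNeZero F W c⁻¹ (inv_ne_zero c0) * d
  have e : T.kr a d = T.kr a' d' := T.ext' fun u w => by simp [a', d', c0]
  have e1 : d' v = v := by simp [d', ← hc, c0]
  rw [e] at hI hp
  obtain ⟨m, -, -, hm⟩ := hT.exists_sim hI
  obtain rfl : m = 1 := by simpa [e1, h₂.B_self, h2, hv] using hm v v
  rw [T.kr_pow] at hp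
  have e2 : (d' ^ ringChar F) v = v := by
    generalize ringChar F = n
    induction n with
    | zero => rfl
    | succ n ih => rw [pow_succ, mul_app, e1, ih]
  have e3 := T.left_inj v0 (e2 ▸ (T.kr_tm _ _ u v).symm.trans (LinearEquiv.congr_fun hp _))
  have := h₂.eq_one_of_pow h2 h3 (hT.tv₂.mem_Iso (by simpa using hm)) hv e1
    (LinearEquiv.ext fun x => T.right_inj hu (by
      simpa [e3] using LinearEquiv.congr_fun hp (T.tm u x)))
  exact ⟨c, fun x => by simpa [d', inv_smul_eq_iff₀ c0] using LinearEquiv.congr_fun this x⟩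

/-- Elements mapping `z ⊗ W` to `z' ⊗ W`. -/
theorem mem_of_nonsing [Finite F] (hq : Nat.card F ≠ 3) (hW : 3 ≤ finrank F W)
    {G H : Subgroup (V ≃ₗ[F] V)} (hI : G ≤ Φ.Iso) (hK : ∀ τ ∈ Φ₂.EG, T.krR τ ∈ G)
    (hH : ∀ τ ∈ Φ₂.EG, T.krR τ ∈ H) (hS : ∀ g ∈ G, ∀ w w', Φ₂.Q w = 0 → w ≠ 0 → w' ≠ 0 →
      (T.sp w).map g.toLinearMap = T.sp w' → g ∈ H) {z z' : U} (hz : Φ₁.B z z ≠ 0)
    (hP : ∀ n ∈ G, n ∈ H → n ^ ringChar F = 1 → (∀ x, n (T.tm z' x) ∈ T.swap.sp z') →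
      ∃ d, n = T.krR d) {g : V ≃ₗ[F] V} (hg : g ∈ G)
    (h : (T.swap.sp z).map g.toLinearMap = T.swap.sp z') : g ∈ H := by
  obtain ⟨w, -, hw0, hw⟩ := Φ₂.iso ⊤ (by rw [finrank_top, h₂.d]; exact hW)
  obtain ⟨f, y, -, f1, y0, y1, -⟩ := h₂.exists_triple h2 hW hw hw0
  have z0 : z ≠ 0 := fun e => hz (by simp [e])
  have hv : ∀ t : F, Φ₂.Valid w (t • y) (Φ₂.Q (t • y)) := fun t => h₂.valid hw (by simp [y1])
  let x : Multiplicative F →* (W ≃ₗ[F] W) := MonoidHom.mk' (fun t => (hv t.toAdd).eich) fun s t =>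
    LinearEquiv.ext fun v => by
      rw [mul_app, Fm.Valid.eich_apply, Fm.Valid.eich_apply, Fm.Valid.eich_apply,
        (hv _).ef_ef (hv _), ← h₂.Q_add, toAdd_mul, add_smul]
  have ex : ∀ t v, x t v = Φ₂.ef w (t.toAdd • y) (Φ₂.Q (t.toAdd • y)) v := fun _ _ => rfl
  have x2 : ∀ t, ((x t).toLinearMap - 1) * ((x t).toLinearMap - 1) =
      (-(2 * Φ₂.Q (t.toAdd • y)) • Φ₂.B w).smulRight w := fun t => LinearMap.ext fun v => by
    simp only [Module.End.mul_apply, LinearMap.sub_apply, LinearEquiv.coe_coe, ex, h₂.ef,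
      Module.End.one_apply, Φ₂.bsimp, y1, Φ₂.B_self hw, h₂.symm w y, h₂.B_self y, h₂.σ, h₂.Q_smul,
      LinearMap.smulRight_apply, LinearMap.smul_apply, smul_eq_mul]
    module
  have ks : ∀ d v, T.sl (LinearEquiv.toLinearMap d - 1) v = T.krR d v - v := fun d v => by
    simp [T.krR_eq_sl]
  have k1 : ∀ t, t ≠ 1 → ∀ g ∈ G, ∀ d, g * T.krR (x t) * g⁻¹ = T.krR d → g ∈ H :=
    fun t ht g hg d e => by
      obtain ⟨w', h1, h3⟩ := Tn.exists_sp_of_sl (T := T) (T' := T) (g := g) hT.ne₁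
        (φ := -(2 * Φ₂.Q (t.toAdd • y)) • Φ₂.B w) (fun e => by
          simpa [f1, h2, y0, h₂.Q_smul, ht] using LinearMap.congr_fun e f) hw0
        (x := (d.toLinearMap - 1) * (d.toLinearMap - 1)) fun v => by
          simp only [← x2, ← T.sl_sl, ks, ← e, mul_app, inv_app_app, ← map_sub g]
      exact hS g hg w w' hw hw0 h1 h3
  obtain ⟨d, ed⟩ := Tn.exists_left' (T := T.swap) (T' := T.swap) (g := g) z0 (w' := z') (fun e => by
    obtain ⟨v, hv⟩ := h.le ⟨_, T.swap.tm_mem_sp w z, rfl⟩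
    exact T.tm_ne_zero z0 hw0 (by simpa [e] using hv.symm)) fun x =>
      h.le ⟨_, T.swap.tm_mem_sp x z, rfl⟩
  simp only [Tn.swap_tm] at ed
  have hd : ∀ x y, Φ₁.B z' z' / Φ₁.B z z * Φ₂.B (d x) (d y) = Φ₂.B x y := fun x y => by
    have := (hI hg).1 (T.tm z x) (T.tm z y)
    rw [ed, ed, hT.B, hT.B] at this
    field_simp
    linear_combination this
  generalize Φ₁.B z' z' / Φ₁.B z z = m at hd
  have z1 : z' ≠ 0 := fun e => T.tm_ne_zero z0 hw0 (by simpa [e] using ed w)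
  let N : Subgroup (V ≃ₗ[F] V) :=
    { carrier := {n | n ∈ G ∧ ∀ x, n (T.tm z' x) = T.tm z' x}
      one_mem' := ⟨G.one_mem, fun _ => rfl⟩
      mul_mem' := fun ha hb => ⟨G.mul_mem ha.1 hb.1, fun x => by rw [mul_app, hb.2, ha.2]⟩
      inv_mem' := fun {a} ha => ⟨G.inv_mem ha.1, fun x => a.injective (by rw [app_inv_app, ha.2])⟩ }
  have xe : ∀ t, x t ∈ Φ₂.EG := fun t => (hv _).eich_mem
  have hN : N ≤ H := le_of_cubic h2 hq (T.krR.comp x) ((injective_iff_map_eq_one _).2 fun t ht => by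
      simpa [ex, h₂.ef, f1, h₂.B_self, y0, h2, Φ₂.perp_symm y1] using
        congrArg (Φ₂.B y) (T.right_inj z0 ((T.krR_tm _ z f).symm.trans (LinearEquiv.congr_fun ht _))))
    (fun t => by
      rw [show ((T.krR.comp x) t).toLinearMap - 1 = T.sl ((x t).toLinearMap - 1) from
        LinearMap.ext fun v => (ks _ v).symm, ← map_pow, pow_three', x2,
        show _ * ((x t).toLinearMap - 1) = 0 from LinearMap.ext fun v => by
          simp [ex, (hv _).B_ef], map_zero])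
    (fun t n hn => ⟨G.mul_mem (G.mul_mem (hK _ (xe t)) hn.1) (G.inv_mem (hK _ (xe t))), fun v => by
      simp only [MonoidHom.comp_apply, ← map_inv T.krR, mul_app, Tn.krR_tm, hn.2, app_inv_app]⟩)
    (fun t ht n hn e => k1 t ht n hn.1 _ (mul_inv_eq_iff_eq_mul.2 e)) fun n hn h1 h3 => by
      obtain ⟨d, rfl⟩ := hP n hn.1 h1 h3 fun x => (hn.2 x).symm ▸ T.swap.tm_mem_sp x z'
      rw [show d = 1 from LinearEquiv.ext fun x => T.right_inj z1 (by simpa using hn.2 x), map_one]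
  let t : Multiplicative F := Multiplicative.ofAdd 1
  have hv' := h₂.valid (e := d w) (w := m • d y) (hT.tv₂.Q_zero (by
    by_contra h0
    have := hd w w
    rw [Φ₂.B_self hw, mul_eq_zero_iff_right h0] at this
    exact one_ne_zero (by rw [← f1, ← hd, this, zero_mul]))) (by simp [hd, y1])
  have e1 : ∀ v, (g * T.krR (x t) * g⁻¹) (T.tm z' v) = T.tm z' (hv'.eich v) := fun v => by
    obtain ⟨v, rfl⟩ := d.surjective v
    rw [mul_app, mul_app, ← ed, inv_app_app, Tn.krR_tm, ed, ex, hv'.eich_apply]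
    simp only [h₂.ef, map_sub, map_add, map_smul, t, toAdd_ofAdd, one_smul, h₂.B_smul_left,
      h₂.Q_smul, ← hd w v, ← hd y v, ← h₂.Q_of_sim h2 hd y]
    module
  have m1 := G.mul_mem (G.mul_mem hg (hK _ (xe t))) (G.inv_mem hg)
  obtain ⟨d', e⟩ := hP _ m1 (by
    simpa using H.mul_mem (hH _ hv'.eich_mem) (hN (show (T.krR hv'.eich)⁻¹ * _ ∈ N from
      ⟨G.mul_mem (G.inv_mem (hK _ hv'.eich_mem)) m1, fun v => by
        rw [mul_app, e1, ← Tn.krR_tm, inv_app_app]⟩))) (by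
      rw [conj_pow, ← map_pow, ← map_pow,
        show t ^ ringChar F = 1 from Multiplicative.toAdd.injective (by simp)]
      simp) fun v => (e1 v).symm ▸ T.swap.tm_mem_sp _ z'
  exact k1 t (by simp [t]) g hg d' e

end TF

end Cfsg.Agent.Class.Max
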