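import Mathlib
import Cfsg.Agent.Class.Max.C7O3
import Cfsg.Agent.Class.Max.Inv

/-!
The tensor product of an orthogonal `3`-space with a small orthogonal space.
-/

set_option autoImplicit false
set_option linter.unusedSectionVars false

namespace Cfsg.Agent.Class.Max

open Module

section Abstract

variable {F U W V : Type*} [Field F] [AddCommGroup U] [Module F U] [AddCommGroup W]
  [Module F W] [AddCommGroup V] [Module F V]

namespace Fm.IsO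

variable {Φ : Fm F W} (hO : Φ.IsO) [FiniteDimensional F W] (h2 : (2 : F) ≠ 0)
include hO h2

theorem r_eq_rk {v : W} (hv : Φ.Q v ≠ 0) : -(Φ.Q v)⁻¹ • Φ.B v ≠ 0 ∧ (hO.r v).toLinearMap =
    1 + (-(Φ.Q v)⁻¹ • Φ.B v).smulRight v :=
  ⟨fun e => by simpa [hO.B_self, h2, hv] using LinearMap.congr_fun e v,
    LinearMap.ext fun x => by simp [hO.r_apply, sub_eq_add_neg]⟩

theorem smul_of_nr_eq {v v' : W} (hv : Φ.Q v' ≠ 0) (h : hO.nr v = hO.nr v') : ∃ c : F, v' = c • v :=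
  hO.smul_of_r_eq h2 (by simpa [nr_apply, hO.r_self hv, neg_eq_iff_eq_neg] using
    LinearEquiv.congr_fun h v')

theorem exists_two_classes [Finite F] (h3 : finrank F W = 3) : ∃ v v' e, Φ.Q v ≠ 0 ∧ Φ.Q v' ≠ 0 ∧
    e ≠ 0 ∧ Φ.Q e = 0 ∧ Φ.B v e = 0 ∧ ∀ x, Φ.Q x = 0 → Φ.B v' x = 0 → x = 0 := by
  obtain ⟨e, -, e0, he⟩ := Φ.iso ⊤ (by rw [finrank_top, hO.d, h3])
  obtain ⟨f, w, fr⟩ := (hO.o3 h2 h3).exists_frame he e0
  obtain ⟨δ, hδ⟩ := FiniteField.exists_nonsquare (F := F) fun e =>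
    h2 (by simpa [e] using ringChar.Nat.cast_ringChar (R := F))
  have δ0 : δ ≠ 0 := fun e => hδ (by simp [e])
  have s := fr.simp
  refine ⟨w, e + (δ * Φ.Q w) • f, e, fr.qw, by
    simp [hO.Q_add, hO.Q_smul, he, fr.qf, s, δ0, fr.qw], e0, he, s.2.2.2.2.2.2.1, fun x h1 h4 => ?_⟩
  obtain ⟨a, b, c, rfl⟩ := span_three h3 (x := e) (y := f) (z := w) (fun a b c h => by
    have e1 := congrArg (Φ.B e) h
    have e2 := congrArg (Φ.B f) h
    have e3 := congrArg (Φ.B w) h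
    simp [s, h2, fr.qw] at e1 e2 e3
    exact ⟨e2, e1, e3⟩) x
  simp [hO.Q_add, hO.Q_smul, he, fr.qf, s] at h1 h4
  have ha : a = 0 := by
    by_contra ha
    refine hδ ⟨c / a, ?_⟩
    field_simp
    exact mul_right_cancel₀ fr.qw (by linear_combination a * h4 - h1)
  simp only [ha, mul_zero, add_zero, zero_add, mul_eq_zero, fr.qw, or_false, or_self] at h1 h4
  simp [ha, h1, h4]

end Fm.IsO

namespace TF

variable {T : Tn F U W V} {Φ₁ : Fm F U} {Φ₂ : Fm F W} {Φ : Fm F V}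
  [FiniteDimensional F U] [FiniteDimensional F W] [FiniteDimensional F V] [Finite F]
  (hT : TF T Φ₁ Φ₂ Φ) (h₁ : Φ₁.IsO) (h₂ : Φ₂.IsO) (h2 : (2 : F) ≠ 0) (hq : Nat.card F ≠ 3)
  (h3 : finrank F U = 3) (hW : 3 ≤ finrank F W)
include hT h₁ h₂ h2 hq h3 hW

theorem mem_of_nonsing_three {G H : Subgroup (V ≃ₗ[F] V)} (hI : G ≤ Φ.Iso)
    (hK : ∀ τ ∈ Φ₂.EG, T.krR τ ∈ G) (hH : ∀ τ ∈ Φ₂.EG, T.krR τ ∈ H)
    (hS : ∀ g ∈ G, ∀ w w', Φ₂.Q w = 0 → w ≠ 0 → w' ≠ 0 →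
      (T.sp w).map g.toLinearMap = T.sp w' → g ∈ H)
    (hN : ∀ n ∈ H, n ^ ringChar F = 1 → n ∈ T.NG) {z z' : U} (hz : Φ₁.Q z ≠ 0) {g : V ≃ₗ[F] V}
    (hg : g ∈ G) (h : (T.swap.sp z).map g.toLinearMap = T.swap.sp z') : g ∈ H := by
  refine hT.mem_of_nonsing h₂ h2 hq hW hI hK hH hS (by rw [h₁.B_self]; exact mul_ne_zero h2 hz)
    (fun n hn h4 h5 h6 => ?_) hg h
  obtain ⟨a, d, rfl⟩ := hN n h4 h5
  refine T.exists_krR_of_smul d hT.ne₁ (hT.swap.smul_of_pow h₁ h2 h3 (a := d)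
    (T.swap_kr a d ▸ hI hn) (T.swap_kr a d ▸ h5) (v := z') (fun e => hz ?_) fun u =>
      T.swap_kr a d ▸ h6 u)
  refine hT.swap.sing_of_perp fun x y => ?_
  obtain ⟨x', e1⟩ := h.le ⟨_, T.swap.tm_mem_sp x z, rfl⟩
  obtain ⟨y', e2⟩ := h.le ⟨_, T.swap.tm_mem_sp y z, rfl⟩
  rw [← (hI hg).1]
  change Φ.B (g.toLinearMap _) (g.toLinearMap _) = 0
  rw [← e1, ← e2]
  simp [hT.B, Φ₁.B_self e]

theorem o3_le_NG {M : Subgroup (V ≃ₗ[F] V)} (hO : Φ.IsO) (he : Even (finrank F W))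
    (hd : ¬ 3 ∣ finrank F W) (hp : ∀ s v, ¬ Φ₂.Pair s v) (hH : T.NG ⊓ Φ.EG ≤ M) (hG : M ≤ Φ.EG)
    (hn : ¬ Φ.EG ≤ M) : M ≤ T.NG := by
  have : Finite V := Module.finite_of_finite F
  have : Finite (V ≃ₗ[F] V) := DFunLike.finite _
  have hI := hG.trans Φ.EG_le_Iso
  have uq : ∀ g ∈ M, ∀ v, Φ₁.Q v ≠ 0 → g * T.swap.krR (h₁.nr v) * g⁻¹ ∈ T.NG → g ∈ T.NG := by
    rintro g hg v hv ⟨a, d, e⟩
    obtain ⟨φ0, er⟩ := h₁.r_eq_rk h2 hv
    generalize -(Φ₁.Q v)⁻¹ • Φ₁.B v = φ at φ0 er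
    have v0 : v ≠ 0 := fun e => hv (by rw [e, Φ₁.Q_zero])
    have ey : ∀ x, T.kr (LinearEquiv.neg F * a) d (g x) - g x = g (T.swap.sl (φ.smulRight v) x) :=
      fun x => by
        have k : ∀ x, T.kr (LinearEquiv.neg F * a) d x = -T.kr a d x :=
          T.ext (f := (T.kr _ d).toLinearMap) (g := -(T.kr a d).toLinearMap) fun u w => by simp
        have k' : T.swap.krR (h₁.nr v) x = -(x + T.swap.sl (φ.smulRight v) x) := by
          rw [Tn.krR_eq_sl, show (h₁.nr v).toLinearMap = -(h₁.r v).toLinearMap from rfl, er]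
          simp
        simp [k, ← e, k']
    generalize LinearEquiv.neg F * a = a at ey
    have hr := (LinearEquiv.finrank_map_eq g (T.swap.sp v)).trans (T.swap.finrank_sp v0)
    rw [← T.swap.range_sl_rk φ0, ← range_cjL] at hr
    have hL : ∀ x, T.kr a d x - x = cjL g (T.swap.sl (φ.smulRight v)) x := fun x => by
      rw [cjL_apply, ← ey, app_inv_app]
    by_cases ha : ∃ c : F, ∀ u, a u = c • u
    · obtain ⟨d, ed⟩ := T.exists_krR_of_smul d hT.ne₁ ha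
      rw [show cjL g _ = _ from LinearMap.ext fun x => (hL x).symm.trans (ed ▸ T.krR_sub d x),
        T.range_krL, T.finrank_ts, h3] at hr
      exact absurd ⟨_, hr.symm⟩ hd
    obtain ⟨a', ea⟩ := T.swap.exists_krR_of_smul a hT.ne₂ (T.swap.smul_of_rank h3.ge (a := d)
      (fun x => LinearMap.mem_range.2 ⟨x, (T.swap_kr a d ▸ hL x).symm⟩) hr.le ha)
    obtain ⟨v', -, k⟩ := Tn.exists_sp_of_sl (T := T.swap) (T' := T.swap) (g := g) hT.ne₂ φ0 v0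
      (x := a'.toLinearMap - 1) fun x => by simp [← ey, ← Tn.krR_eq_sl, ← ea, Tn.swap_kr]
    exact hT.mem_of_nonsing_three h₁ h₂ h2 hq h3 hW hI (fun _ => hT.krR_mem hH)
      (fun τ _ => T.krR_mem τ) (fun g hg w w' hw hw0 hw' e => hT.mem_of_sp hH hG
        (fun _ => hT.loc_one h₂ h₁ hO h2 h3.ge hW hH hG hn (fun h => hq h.1)
          (Or.inr (h₁.wide_three h2 h3)) hp) hW hg hw hw0 hw' fun u =>
            e.le ⟨_, T.tm_mem_sp u w, rfl⟩) (fun _ h _ => h) hv hg k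
  have mk : ∀ v, Φ₁.Q v ≠ 0 → T.swap.krR (h₁.nr v) ∈ M := fun v hv => by
    obtain ⟨a, c, ha, hc, e1, e2, e3, -⟩ := (h₁.o3 h2 h3).exists_basis hv
    obtain ⟨D, hD⟩ := hT.swap.exists_sg_krR h₁ h2 hO
    obtain ⟨m, hm⟩ := he
    refine hH (Subgroup.mem_inf.2 ⟨T.swap_NG ▸ T.swap.krR_mem _, ?_⟩)
    have hV : 3 ≤ finrank F V := by rw [T.finrank_eq, h3]; omega
    rw [h₁.nr_eq h2 h3 hv ha hc e1 e2 e3, map_mul, hO.mul_mem_EG_iff h2 hV
      (hT.swap.krR_Iso (h₁.r_mem_Iso a)) (hT.swap.krR_Iso (h₁.r_mem_Iso c)), (hD a ha).2, (hD c hc).2,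
      hm, ← mul_two, pow_mul (Φ₁.Q a), pow_mul (Φ₁.Q c), Orth.sqClass_sq_mul (pow_ne_zero m ha)
      (hD a ha).1, Orth.sqClass_sq_mul (pow_ne_zero m hc) (hD a ha).1]
  have ki : Function.Injective T.swap.krR := fun ρ ρ' e => LinearEquiv.toLinearMap_injective
    (T.swap.sl_inj hT.ne₂ fun v => by rw [← Tn.krR_eq_sl, ← Tn.krR_eq_sl, e])
  have cj : ∀ h ∈ M, h ∈ T.NG → ∃ a : U ≃ₗ[F] U, ∃ m, m ≠ 0 ∧
      (∀ x y, m * Φ₁.B (a x) (a y) = Φ₁.B x y) ∧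
      ∀ v, h * T.swap.krR (h₁.nr v) * h⁻¹ = T.swap.krR (h₁.nr (a v)) := by
    rintro _ hh ⟨a, d, rfl⟩
    obtain ⟨m, m0, -, hm⟩ := hT.swap.exists_sim (T.swap_kr a d ▸ hI hh)
    refine ⟨a, m, m0, hm, fun v => ?_⟩
    rw [← h₁.conj_nr h2 m0 hm, mul_inv_eq_iff_eq_mul]
    exact T.swap.ext' fun u w => by
      simp only [← T.swap_kr, mul_app, Tn.krR_tm, Tn.kr_tm, inv_app_app]
  let I : Unit → Set M := fun _ => {s | ∃ v, Φ₁.Q v ≠ 0 ∧ s.1 = T.swap.krR (h₁.nr v)}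
  have D : InvD (T.NG.subgroupOf M) I fun _ => ⊥ := by
    refine ⟨?_, ?_, fun h hh i => ⟨i, ?_, by simp⟩, by simp, by simp, ?_, ?_, ?_, ?_, ?_⟩
    · rintro - s ⟨v, -, e⟩
      exact Subtype.ext (by rw [Subgroup.coe_mul, e, ← map_mul, h₁.nr_sq, map_one]; rfl)
    · rintro - s ⟨v, -, e⟩
      exact (e ▸ T.swap_NG ▸ T.swap.krR_mem _ : s.1 ∈ T.NG)
    · rintro s ⟨v, hv, e⟩
      obtain ⟨a, m, m0, hm, k⟩ := cj h h.2 hh
      exact ⟨a v, fun h => hv (by rw [← h₁.Q_of_sim h2 hm, h, mul_zero]), by simp [e, k]⟩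
    · rintro - s ⟨v, hv, e⟩ (rfl : s = 1)
      obtain ⟨a, -, ha, -, e1, -⟩ := (h₁.o3 h2 h3).exists_basis hv
      have := LinearEquiv.congr_fun (ki ((map_one _).trans e)) a
      rw [h₁.nr_apply, h₁.r_of_perp e1, one_app] at this
      exact ha (by rw [(smul_eq_zero_iff_right h2).1 (show (2 : F) • a = 0 by
        linear_combination (norm := module) this), Φ₁.Q_zero])
    · rintro - s - s' ⟨v, -, e⟩ (h : s * s' = 1)
      rw [eq_inv_of_mul_eq_one_left h, inv_eq_iff_mul_eq_one]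
      exact Subtype.ext (by rw [Subgroup.coe_mul, e, ← map_mul, h₁.nr_sq, map_one]; rfl)
    · rintro - s ⟨v, hv, e⟩ g hg
      exact uq g g.2 v hv (e ▸ hg)
    · rintro - s ⟨v, hv, e⟩ s' ⟨v', hv', e'⟩ hne hc g hg
      obtain ⟨-, z, hz, -, -, ez⟩ := h₁.exists_mul_eq h2 h3 hv hv'
        (fun h => hne (Subtype.ext (by rw [e, e', h])))
        (ki (by rw [map_mul, map_mul, ← e, ← e']; exact congrArg Subtype.val hc))
      refine uq g g.2 z hz ?_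
      rw [← ez, map_mul, ← e, ← e', show g.1 * (s.1 * s'.1) = _ from congrArg Subtype.val hg,
        Subgroup.coe_mul, mul_inv_cancel_right, Subgroup.coe_mul, e, e', ← map_mul]
      exact T.swap_NG ▸ T.swap.krR_mem _
    · rintro - s ⟨v, hv, e⟩
      obtain ⟨a, -, ha, -, e1, -⟩ := (h₁.o3 h2 h3).exists_basis hv
      exact ⟨⟨_, mk a ha⟩, ⟨a, ha, rfl⟩, fun h => h₁.nr_ne h2 h3 hv (Φ₁.perp_symm e1)
        (ki (e ▸ congrArg Subtype.val h)), Subtype.ext (by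
          simp only [Subgroup.coe_mul, e, ← map_mul, h₁.nr_mul, h₁.r_comm e1])⟩
  intro g hg
  by_contra hg'
  obtain ⟨v, v', x, hv, hv', x0, hx, e1, e2⟩ := h₁.exists_two_classes h2 h3
  obtain ⟨c, -, hc⟩ := D.exists_conj (K := ⊤) (i := ()) (j := ()) (g := ⟨g, hg⟩) (d := ⟨_, mk v hv⟩)
    ⟨v, hv, rfl⟩ (s := ⟨_, mk v' hv'⟩) ⟨v', hv', rfl⟩ hg' trivial trivial
  have hc' : g⁻¹ * c.1 * T.swap.krR (h₁.nr v) * (g⁻¹ * c.1)⁻¹ = T.swap.krR (h₁.nr v') := by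
    have := congrArg Subtype.val hc
    simp only [Subgroup.coe_mul, Subgroup.coe_inv] at this
    rw [mul_inv_rev, inv_inv, mul_assoc g⁻¹, mul_assoc g⁻¹, ← mul_assoc _ c.1⁻¹, this]
    group
  have hm := M.mul_mem (M.inv_mem hg) c.2
  obtain ⟨a, m, m0, hm, k⟩ := cj _ hm (uq _ hm v hv (hc' ▸ T.swap_NG ▸ T.swap.krR_mem _))
  obtain ⟨t, rfl⟩ := h₁.smul_of_nr_eq h2 hv' (ki ((k v).symm.trans hc'))
  exact x0 (a.map_eq_zero_iff.1 (e2 _ (mul_left_cancel₀ m0 (by rw [h₁.Q_of_sim h2 hm, hx, mul_zero]))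
    (mul_left_cancel₀ m0 (by rw [h₁.B_smul_left, mul_left_comm, hm, e1, mul_zero, mul_zero]))))

theorem o3_isMaximalIn (hO : Φ.IsO) (he : Even (finrank F W)) (hd : ¬ 3 ∣ finrank F W)
    (hp : ∀ s v, ¬ Φ₂.Pair s v) : Geo.IsMaximalIn Φ.EG (T.NG ⊓ Φ.EG) := by
  refine isMaximalIn_of inf_le_right ?_ fun M h1 h4 g hg hg' => ?_
  · obtain ⟨w, -, hw0, hw⟩ := Φ₂.iso ⊤ (by rw [finrank_top, h₂.d]; exact hW)
    obtain ⟨g, h1, -, h4⟩ := hT.exists_notMem_NG' h₂ h2 hO h3.ge hw hw0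
    exact ⟨g, h1, fun h => h4 h.1⟩
  · by_contra hc
    exact hg' ⟨hT.o3_le_NG h₁ h₂ h2 hq h3 hW hO he hd hp h1 h4 hc hg, h4 hg⟩

end TF

end Abstract

section Matrices

open Cfsg.Agent.Class.Asch

variable {ι : Type} [Fintype ι] [DecidableEq ι] {F : Type*} [Field F] [Fintype F]

theorem o3_o4_isMaximalIn {f₁ : (Fin 3 → F) → (Fin 3 → F) → F} {f₂ : (Fin 4 → F) → (Fin 4 → F) → F}
    {Q : (ι → F) → F} (hQ : Geo.IsNondegenerateQuadraticForm Q) (hodd : Odd (Fintype.card F))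
    (hq : Fintype.card F ≠ 3) (e : ι ≃ Fin 3 × Fin 4) (P : GL ι F) (hf₁ : Geo.IsSymmetricForm f₁)
    (hf₂ : Geo.IsSymmetricForm f₂) (h4 : ¬ Geo.IsPlusTypeOn (fun v => f₂ v v) ⊤)
    (hT : Geo.IsTensorFormStructure id (QuadraticMap.polar Q) f₁ f₂ e P) :
    Geo.IsMaximalIn (Geo.omegaGL Q) (Geo.tensorProductSubgroup 3 4 e P ⊓ Geo.omegaGL Q) := by
  have h2 := two_ne_zero_of_odd hodd
  obtain ⟨c, c0, h⟩ := exists_tm_eq (isSesq_of_bilinear hf₁.bilinear)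
    (isSesq_of_bilinear hf₂.bilinear) hT
  have h₁ := isO_fmSym h2 (symmetric_smul hf₁ c0)
  have h₂ := isO_fmSym h2 (symmetric_smul hf₂ one_ne_zero)
  have hO := isO_fmO hQ
  have hB : ∀ u w u' w', (fmO hQ).B ((tnOf e P).tm u w) ((tnOf e P).tm u' w') =
      (fmSym h2 (symmetric_smul hf₁ c0)).B u u' *
        (fmSym h2 (symmetric_smul hf₂ one_ne_zero)).B w w' := fun u w u' w' => by
    rw [fmSym_B, fmSym_B, one_mul]; exact h _ _ _ _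
  have hT' : TF (tnOf e P) _ _ (fmO hQ) :=
    ⟨fun _ => rfl, fun _ => rfl, (mul_one _).symm, hB,
      ⟨2⁻¹, fun u w => by rw [← hB, hO.B_self, inv_mul_cancel_left₀ h2]⟩, h₁.tv h2, h₂.tv h2,
      exists_ne_zero_fin (by omega), exists_ne_zero_fin (by omega)⟩
  exact isMaximalIn_of_NG (mem_omegaGL_iff hQ (by simp [Fintype.card_congr e]))
    (hT'.o3_isMaximalIn h₁ h₂ h2 (by simpa) (by simp) (by simp) hO (by simp; decide) (by simp)
      (not_pair_fmSym h2 hf₂ one_ne_zero (fun _ => h4) (by simp)))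

end Matrices

end Cfsg.Agent.Class.Max
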