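import Mathlib
import Cfsg.Agent.Class.Max.C7O4
import Cfsg.Agent.Class.Max.C7Z

/-!
Tensor powers of an orthogonal `3`-space: the global argument.
-/

set_option autoImplicit false
set_option linter.unusedSectionVars false

namespace Cfsg.Agent.Class.Max

open Module

variable {F U W V : Type*} [Field F] [AddCommGroup U] [Module F U] [AddCommGroup W]
  [Module F W] [AddCommGroup V] [Module F V]

namespace Fm.IsO

variable {Φ : Fm F W} (hO : Φ.IsO)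
include hO

theorem eich_pow [Finite F] {e w : W} {c : F} (hv : Φ.Valid e w c) : hv.eich ^ ringChar F = 1 := by
  have k : ∀ (n : ℕ) x, (hv.eich ^ n) x = Φ.ef e ((n : F) • w) (Φ.Q ((n : F) • w)) x := fun n => by
    induction n with
    | zero => simp [Φ.Q_zero, ef_zero]
    | succ n ih =>
      intro x
      rw [pow_succ, mul_app, ih, hv.eich_apply, (hO.valid hv.sing (by simp [hv.perp])).ef_ef hv,
        ← hO.π c, hv.norm, ← hO.Q_add, Nat.cast_succ, add_smul, one_smul]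
  exact LinearEquiv.ext fun x => by simp [k, Φ.Q_zero, ef_zero]

variable [FiniteDimensional F W] [Finite F] (h2 : (2 : F) ≠ 0) (h3 : finrank F W = 3)
include h2 h3

theorem klein {v : W} (hv : Φ.Q v ≠ 0) : ∃ a c, Φ.Q a ≠ 0 ∧ Φ.Q c ≠ 0 ∧ Φ.B v a = 0 ∧
    Φ.B v c = 0 ∧ Φ.B a c = 0 ∧ hO.nr a ∈ Φ.EG := by
  have h1 := Φ.nd_top.inf_one (z := v) trivial (by rw [hO.B_self]; exact mul_ne_zero h2 hv)
  have h4 : 2 ≤ finrank F ↥(⊤ ⊓ LinearMap.ker (Φ.B v) : Submodule F W) := by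
    have := Module.Dual.finrank_ker_add_one_of_ne_zero (f := Φ.B v) fun h => by
      simpa [h, h2, hv] using hO.B_self v
    rw [top_inf_eq]; omega
  obtain ⟨c, hc, e⟩ := hO.rep h1 h4 (Φ.Q v)
  obtain ⟨a, ha, a0, e'⟩ := hO.exists_perp_nonsing h1 h4 hc (e ▸ hv)
  refine ⟨a, c, a0, e ▸ hv, ha.2, hc.2, e', ?_⟩
  rw [hO.nr_eq h2 h3 a0 hv (e ▸ hv) (Φ.perp_symm ha.2) e' hc.2]
  exact hO.rr_mem h2 h3.ge hv (e ▸ hv) ⟨_, by rw [e]⟩

end Fm.IsO

namespace TP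

open Tn

variable {ι : Type*} {T : ι → Tn F U W V} (hT : TP T) {g : V ≃ₗ[F] V} {i j : ι}
  [FiniteDimensional F U] [FiniteDimensional F W] [FiniteDimensional F V]
include hT

theorem swap_pi (hij : i ≠ j) (h : (T i).Mv (T j) g) (h2 : ∀ v, g (g v) = v) {L : Submodule F V}
    (hL : ∀ v, g v - v ∈ L) (hr : finrank F L ≤ finrank F U) (b : Basis (Fin 3) F W) {u : V}
    (hu : u ∈ L) (a : Fin 3) : (T i).sl ((b.coord a).smulRight (b a))
      (g ((T i).sl ((b.coord a).smulRight (b a)) (g u))) = 0 := by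
  let E : Fin 3 → Fin 3 → End F V := fun a c => (T i).sl ((b.coord c).smulRight (b a))
  have E1 : ∀ a c d v, E a c (E c d v) = E a d v := fun a c d v => by simp [E, sl_rk]
  have E0 : ∀ a c c' d v, c ≠ c' → E a c (E c' d v) = 0 := fun a c c' d v h => by
    simp [E, sl_rk, h.symm]
  have E2 : ∀ v, E 0 0 v + E 1 1 v + E 2 2 v = v := (T i).ext
    (f := E 0 0 + E 1 1 + E 2 2) (g := LinearMap.id) fun u w => by
      conv_rhs => rw [← b.sum_repr w, Fin.sum_univ_three]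
      simp [E]
  have cm : ∀ a c a' c' v, g (E a' c' (g (E a c v))) = E a c (g (E a' c' (g v))) :=
    fun a c a' c' v => by
      obtain ⟨x, e⟩ := h ((b.coord c').smulRight (b a'))
      simp only [E, e, h2]
      exact hT.cm i j hij x _ v
  let p : End F V := E 0 0 * g * E 1 1 * g + E 1 1 * g * E 2 2 * g + E 2 2 * g * E 0 0 * g
  have ep : ∀ v, p v = E 0 0 (g (E 1 1 (g v))) + E 1 1 (g (E 2 2 (g v))) + E 2 2 (g (E 0 0 (g v))) :=
    fun _ => rfl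
  have k1 : finrank F V ≤ 3 * finrank F (LinearMap.range p) := by
    let c : End F V := E 1 0 + E 2 1 + E 0 2
    have : ⊤ ≤ LinearMap.range p ⊔ (LinearMap.range p).map g.toLinearMap ⊔
        (LinearMap.range p).map c := fun v _ => by
      have e : v = p v + g (p (g v)) + c (p ((E 0 1 + E 1 2 + E 2 0) v)) := by
        have f := fun x => congrArg g (E2 (g x))
        simp only [map_add, h2] at f
        simp only [ep, c, LinearMap.add_apply, map_add, h2, cm, E1, E0, ne_eq, Fin.reduceEq,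
          not_false_eq_true, map_zero]
        rw [← E2 v, ← f v]
        simp only [map_add, cm, E1, E0, ne_eq, Fin.reduceEq, not_false_eq_true, map_zero, h2]
        abel
      rw [e]
      exact add_mem (Submodule.mem_sup_left (add_mem (Submodule.mem_sup_left ⟨_, rfl⟩)
        (Submodule.mem_sup_right ⟨_, ⟨_, rfl⟩, rfl⟩))) (Submodule.mem_sup_right ⟨_, ⟨_, rfl⟩, rfl⟩)
    have h1 := Submodule.finrank_mono this
    have h3 := Submodule.finrank_add_le_finrank_add_finrank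
      (LinearMap.range p ⊔ (LinearMap.range p).map g.toLinearMap) ((LinearMap.range p).map c)
    have h4 := Submodule.finrank_add_le_finrank_add_finrank (LinearMap.range p)
      ((LinearMap.range p).map g.toLinearMap)
    have h5 := Submodule.finrank_map_le c (LinearMap.range p)
    rw [finrank_top] at h1
    rw [LinearEquiv.finrank_map_eq] at h4
    omega
  have k2 : (LinearMap.range p).map (g.toLinearMap - LinearMap.id) = L := by
    refine Submodule.eq_of_le_of_finrank_le (by rintro _ ⟨v, -, rfl⟩; exact hL v) ?_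
    rw [← LinearMap.range_domRestrict, LinearMap.finrank_range_of_inj
      ((injective_iff_map_eq_zero _).2 ?_)]
    · rw [← (T i).e.finrank_eq, finrank_tensorProduct, finrank_eq_card_basis b,
        Fintype.card_fin] at k1
      omega
    rintro ⟨_, v, rfl⟩ hv
    have e1 : p (p v) = p (g (p v)) := by rw [show g (p v) = p v from sub_eq_zero.1 hv]
    simpa [ep, h2, cm, E1, E0] using e1
  obtain ⟨_, ⟨v, rfl⟩, e⟩ := k2.ge hu
  replace e : g (p v) - p v = u := e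
  change E a a (g (E a a (g u))) = 0
  fin_cases a <;> simp [← e, ep, h2, cm, E1, E0]

variable [Fintype ι] [DecidableEq ι] [Finite F] {Φ₁ : ι → Fm F U} {Φ₂ : Fm F W} {Φ : Fm F V}
  {M : Subgroup (V ≃ₗ[F] V)} (hF : ∀ i, TF (T i) (Φ₁ i) Φ₂ Φ) (h₂ : Φ₂.IsO) (h2 : (2 : F) ≠ 0)
  (h3 : finrank F W = 3) (hI : M ≤ Φ.Iso) (hK : ∀ i, ∀ τ ∈ Φ₂.EG, (T i).krR τ ∈ M)
  (hN : ∀ g ∈ M, ∀ i l v v', Φ₂.Q v ≠ 0 → v' ≠ 0 →
    ((T i).sp v).map g.toLinearMap = (T l).sp v' → (T i).Mv (T l) g)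
include hF h₂ h2 h3 hI hK hN

theorem o3_uniq (hg : g ∈ M) {v : W} (hv : Φ₂.Q v ≠ 0) (hv' : h₂.nr v ∈ Φ₂.EG)
    (hy : g * (T i).krR (h₂.nr v) * g⁻¹ ∈ hT.WR) : ∃ l, (T i).Mv (T l) g := by
  obtain ⟨φ0, er⟩ := h₂.r_eq_rk h2 hv
  generalize -(Φ₂.Q v)⁻¹ • Φ₂.B v = φ at φ0 er
  have v0 : v ≠ 0 := fun e => hv (by rw [e, Φ₂.Q_zero])
  have ym := M.mul_mem (M.mul_mem hg (hK i _ hv')) (M.inv_mem hg)
  set y' := g * (T i).krR (h₂.nr v) * g⁻¹ with hy'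
  let y : V ≃ₗ[F] V := LinearEquiv.neg F * y'
  have y1 : ∀ x, y x = -y' x := fun _ => rfl
  have ey : ∀ x, y (g x) = g x + g ((T i).sl (φ.smulRight v) x) := fun x => by
    rw [y1, hy', mul_app, mul_app, inv_app_app, krR_eq_sl,
      show (h₂.nr v).toLinearMap = -(h₂.r v).toLinearMap from rfl, er]
    simp
  have y2 : ∀ x, y (y x) = x := fun x => by
    rw [y1, y1, map_neg, neg_neg, ← mul_app, hy', conj_mul, ← map_mul, h₂.nr_sq]; simp
  have mv : ∀ {k l}, (T k).Mv (T l) y' → (T k).Mv (T l) y := fun h x =>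
    (h x).imp fun x' e w => by simp [y1, e]
  have hL : ∀ x, y x - x ∈ ((T i).sp v).map g.toLinearMap := fun x =>
    ⟨_, ⟨_, ((T i).sl_rk φ v (g⁻¹ x)).symm⟩, by
      rw [LinearEquiv.coe_coe, eq_sub_iff_add_eq', ← app_inv_app g x, ey, inv_app_app]⟩
  have hr : finrank F (((T i).sp v).map g.toLinearMap) ≤ finrank F U := by
    rw [LinearEquiv.finrank_map_eq, finrank_sp _ v0]
  by_cases hc : ∀ k, (T k).Mv (T k) y'
  · obtain ⟨u, hu⟩ := hT.neU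
    obtain ⟨x, hx⟩ := ((T i).range_sl_rk φ0 v).ge ((T i).tm_mem_sp u v)
    obtain ⟨l, d, ed⟩ := hT.exists_krR_of_fix h3.ge (fun k => mv (hc k)) hL hr i ⟨g x, by
      simpa [ey, hx] using (T i).tm_ne_zero hu v0⟩
    obtain ⟨v', v1, e⟩ := exists_sp_of_sl (T := T i) (T' := T l) (g := g) hT.neU φ0 v0
      (x := d.toLinearMap - 1) fun x => by simp [← krR_eq_sl, ← ed, ey]
    exact ⟨l, hN g hg i l v v' hv v1 e⟩
  push Not at hc
  obtain ⟨j, hj⟩ := hc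
  obtain ⟨l, hl⟩ := hy j
  have hjl : j ≠ l := fun e => hj (e ▸ hl)
  replace hl := mv hl
  have cm : ∀ x x' w, y ((T j).sl x' (y ((T j).sl x w))) = (T j).sl x (y ((T j).sl x' (y w))) :=
    fun x x' w => by
      obtain ⟨z, e⟩ := hl x'
      simp only [e, y2]
      exact hT.cm j l hjl z _ w
  let δ : (W ≃ₗ[F] W) →* (V ≃ₗ[F] V) := MonoidHom.mk'
    (fun τ => g⁻¹ * ((T j).krR τ * (y * (T j).krR τ * y)) * g) fun a b => LinearEquiv.ext fun x => by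
      simp only [map_mul, mul_app, krR_eq_sl, app_inv_app]
      rw [cm, y2]
  have eδ : ∀ τ x, g (δ τ x) = (T j).sl τ.toLinearMap (y ((T j).sl τ.toLinearMap (y (g x)))) :=
    fun τ x => by simp only [δ, MonoidHom.mk'_apply, mul_app, krR_eq_sl, app_inv_app]
  let S : Subgroup (W ≃ₗ[F] W) :=
    { carrier := {τ | (T i).Cm (δ τ).toLinearMap}
      one_mem' := fun x w => by simp
      mul_mem' := fun {a b} ha hb => by rw [Set.mem_ofPred_eq, map_mul]; exact ha.mul hb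
      inv_mem' := fun {a} ha x w => (δ a).injective (by
        have := ha x ((δ a)⁻¹ w)
        simp only [map_inv, LinearEquiv.coe_coe, app_inv_app] at this ⊢
        exact this.symm) }
  have hS : Φ₂.EG ≤ S := Fm.EG_le fun e w c hw => ⟨_, by
    have m : δ hw.eich ∈ M := by
      have k := hK j _ hw.eich_mem
      convert M.mul_mem (M.mul_mem (M.inv_mem hg) (M.mul_mem k (M.mul_mem (M.mul_mem ym k) ym))) hg
        using 1
      exact LinearEquiv.ext fun x => g.injective (by simp [eδ, krR_eq_sl, y1])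
    have c1 : ∀ x, δ hw.eich ((T i).sl (φ.smulRight v) x) = (T i).sl (φ.smulRight v) (δ hw.eich x) :=
      fun x => g.injective (by
        rw [← add_right_inj (g (δ hw.eich x)), ← ey, ← map_add, ← map_add]
        simp only [eδ, map_add g, ← ey, y2, cm])
    have s1 : ∀ u, δ hw.eich ((T i).tm u v) ∈ (T i).sp v := fun u => by
      obtain ⟨x, hx⟩ := ((T i).range_sl_rk φ0 v).ge ((T i).tm_mem_sp u v)
      exact ((T i).range_sl_rk φ0 v).le ⟨_, by rw [← hx, c1]⟩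
    obtain ⟨a, d, ed⟩ := (hN _ m i i v v hv v0 (mem_stab_iff_map.1 (mem_stab_of_mapsTo (by
      rintro _ ⟨u, rfl⟩; exact s1 u)))).mem_NG hT.neU hT.neW
    obtain ⟨c, hc⟩ := (hF i).smul_of_pow h₂ h2 h3 (ed ▸ hI m) (by
      rw [← ed, ← map_pow, h₂.eich_pow, map_one]) hv (ed ▸ s1)
    change (T i).Cm _
    rw [ed]
    exact fun x => (T i).ext (f := ((T i).kr a d).toLinearMap ∘ₗ (T i).sl x)
      (g := (T i).sl x ∘ₗ ((T i).kr a d).toLinearMap) fun u w => by simp [hc], hw.eich_apply⟩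
  obtain ⟨a, c, ha, hc, e1, e2, e3, m1⟩ := h₂.klein h2 h3 hv
  have k := And.intro (Φ₂.perp_symm e1) (And.intro (Φ₂.perp_symm e2) (Φ₂.perp_symm e3))
  let b := basisOfLinearIndependentOfCardEqFinrank (K := F) (b := ![v, a, c])
    (Fintype.linearIndependent_iff.2 fun t e => by
      have f1 := congrArg (Φ₂.B v) e
      have f2 := congrArg (Φ₂.B a) e
      have f3 := congrArg (Φ₂.B c) e
      simp [Fin.sum_univ_three, e1, e2, e3, k, h₂.B_self, h2, hv, ha, hc] at f1 f2 f3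
      exact Fin.forall_fin_succ.2 ⟨f1, Fin.forall_fin_two.2 ⟨f2, f3⟩⟩) (by simp [h3])
  have eb : b 0 = v ∧ b 1 = a ∧ b 2 = c := by simp [b]
  let P : Fin 3 → End F W := fun k => (b.coord k).smulRight (b k)
  have hP : ∀ x, (T j).sl (P 0) x + (T j).sl (P 1) x + (T j).sl (P 2) x = x := fun x => by
    rw [← LinearMap.add_apply, ← LinearMap.add_apply, ← map_add, ← map_add,
      show P 0 + P 1 + P 2 = 1 from b.ext fun m => by fin_cases m <;> simp [P], map_one]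
    rfl
  have n : ∀ k, (h₂.nr (b k)).toLinearMap = P k + P k - 1 := fun k => b.ext fun m => by
    by_cases e : m = k
    · have : Φ₂.Q (b k) ≠ 0 := by fin_cases k <;> simp [eb, hv, ha, hc]
      simp [P, e, h₂.nr_apply, h₂.r_self this]
    · have : Φ₂.B (b k) (b m) = 0 := by
        fin_cases k <;> fin_cases m <;> simp_all
      simp [P, e, h₂.nr_apply, h₂.r_of_perp this]
  have m : ∀ k, (T i).Cm (δ (h₂.nr (b k))).toLinearMap := fun k => hS (by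
    fin_cases k
    · simpa [eb]
    · simpa [eb]
    · convert mul_mem hv' m1 using 1
      simpa [eb, h₂.nr_mul] using h₂.nr_eq h2 h3 hc hv ha k.2.1 k.2.2 e1)
  let π : End F V := 1 + (δ (h₂.nr (b 0))).toLinearMap + (δ (h₂.nr (b 1))).toLinearMap +
    (δ (h₂.nr (b 2))).toLinearMap
  have eπ : ∀ x, g (π x) = (2 * 2 : F) • ∑ k, (T j).sl (P k) (y ((T j).sl (P k) (y (g x)))) :=
    fun x => by
      have := congrArg y (hP (y (g x)))
      simp only [π, LinearMap.add_apply, End.one_apply, map_add, LinearEquiv.coe_coe, eδ, n, map_sub,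
        map_one, LinearMap.sub_apply, Fin.sum_univ_three, y2] at this ⊢
      linear_combination (norm := module) (-2 : F) • hP (g x) - (2 : F) • this
  have π0 : π = 0 := Cm.eq_zero (T := T i) (x := φ.smulRight v)
    (((Cm.add (b := 1) (fun _ _ => rfl) (m 0)).add (m 1)).add (m 2))
    (fun e => φ0 (LinearMap.ext fun x => by simpa [v0] using LinearMap.congr_fun e x))
    (LinearMap.ext fun x => g.injective (by
      rw [End.mul_apply, eπ, Finset.sum_eq_zero fun k _ => hT.swap_pi hjl hl y2 hL hr b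
        (u := g _) ⟨_, ⟨_, ((T i).sl_rk φ v x).symm⟩, rfl⟩ k]
      simp))
  have p0 : P 0 ≠ 0 := fun e => b.ne_zero 0 (by simpa [P] using LinearMap.congr_fun e (b 0))
  obtain ⟨z, ez⟩ := hl (P 0)
  obtain ⟨x, hx⟩ := hT.exists_sl_ne_zero hjl p0 (y := z) fun e => p0 ((T j).sl_inj hT.neU
    fun x => y.injective (by simp [ez, e]))
  have := congrArg ((T j).sl (P 0)) (eπ (g⁻¹ x))
  rw [← y2 x, ← ez] at hx
  exact absurd (by simpa [π0, Fin.sum_univ_three, P, sl_rk, h2] using this.symm) hx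

theorem o3_le_WR (hs : ∀ j l, ∃ p ∈ M, ∀ i, (T i).Mv (T (Equiv.swap j l i)) p) : M ≤ hT.WR := by
  have un := fun g hg i v => hT.o3_uniq hF h₂ h2 h3 hI hK hN (g := g) (i := i) hg (v := v)
  obtain ⟨v₀, -, -, hv₀, -⟩ := h₂.exists_two_classes h2 h3
  refine hT.le_WR_of_inv {ρ | ∃ v, Φ₂.Q v ≠ 0 ∧ h₂.nr v ∈ Φ₂.EG ∧ ρ = h₂.nr v}
    (fun j k _ _ => ?_) ?_ ?_ ?_ ?_ ?_ ?_ ?_ ?_ ?_ fun g hg i hc => ?_
  · obtain ⟨p, hp, e⟩ := hs j k
    exact ⟨p, hp, fun i => ⟨_, e i⟩, by simpa using e j,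
      fun i h1 h2 => by simpa [Equiv.swap_apply_of_ne_of_ne h1 h2] using e i⟩
  · rintro i _ ⟨v, -, h, rfl⟩
    exact hK i _ h
  · rintro _ ⟨v, -, -, rfl⟩
    exact h₂.nr_sq v
  · rintro _ ⟨v, hv, -, rfl⟩ ⟨c, hc⟩
    obtain ⟨a, -, ha, -, e1, -⟩ := h₂.klein h2 h3 hv
    have h1 := congrArg (Φ₂.B v) (hc v)
    have h4 := congrArg (Φ₂.B a) (hc a)
    simp only [h₂.nr_apply, h₂.r_self hv, h₂.r_of_perp e1, Φ₂.bsimp, h₂.B_self] at h1 h4
    exact mul_ne_zero h2 (mul_ne_zero (mul_ne_zero h2 hv) ha) (by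
      linear_combination Φ₂.Q a * h1 - Φ₂.Q v * h4)
  · rintro _ ⟨v, -, -, rfl⟩ _ ⟨s, -, -, rfl⟩ ⟨c, hc⟩
    obtain ⟨y, y0, y1, y2⟩ := Fm.exists_perp_pair (Ψ := Φ₂) h3.ge v s
    have h1 := hc y
    rw [h₂.nr_mul, mul_app, h₂.r_of_perp y2, h₂.r_of_perp y1] at h1
    have := smul_left_injective F y0 (h1.symm.trans (one_smul F y).symm)
    exact mul_right_cancel ((LinearEquiv.ext fun x => by rw [hc, this, one_smul, one_app]).trans
      (h₂.nr_sq s).symm)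
  · rintro _ ⟨v, hv, -, rfl⟩
    obtain ⟨a, -, ha, -, e1, -, -, m⟩ := h₂.klein h2 h3 hv
    exact ⟨_, ⟨a, ha, m, rfl⟩, h₂.nr_ne h2 h3 hv (Φ₂.perp_symm e1), by
      simp only [h₂.nr_mul, h₂.r_comm e1]⟩
  · obtain ⟨a, -, ha, -, -, -, -, m⟩ := h₂.klein h2 h3 hv₀
    exact ⟨_, a, ha, m, rfl⟩
  · rintro g hg i j a d e _ ⟨v, hv, m, rfl⟩
    obtain ⟨c, c0, c1, c2, -⟩ := (hF i).exists_sim' (hF j) (hI hg) e
    have := (hF i).tv₂.EG_conj c0 c1 c2 m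
    rw [h₂.conj_nr h2 c0 c2] at this ⊢
    exact ⟨_, fun h => hv (by rw [← h₂.Q_of_sim h2 c2, h, mul_zero]), this, rfl⟩
  · rintro g hg i _ ⟨v, hv, m, rfl⟩
    exact un g hg i v hv m
  · rintro g hg i _ ⟨v, hv, m, rfl⟩ _ ⟨s, hs, m', rfl⟩ hne hc e
    obtain ⟨-, z, hz, -, -, ez⟩ := h₂.exists_mul_eq h2 h3 hv hs hne hc
    refine un g hg i z hz (ez ▸ mul_mem m m') ?_
    rw [← ez, e, mul_inv_cancel_right]
    exact hT.krR_mem i _
  obtain ⟨a, -, ha, -, -, -, -, m⟩ := h₂.klein h2 h3 hv₀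
  obtain ⟨c, -, hc', -, e, -, -, m'⟩ := h₂.klein h2 h3 ha
  obtain ⟨-, z, hz, -, -, ez⟩ := h₂.exists_mul_eq h2 h3 ha hc' (h₂.nr_ne h2 h3 hc' e)
    (by simp only [h₂.nr_mul, h₂.r_comm e])
  exact un g hg i z hz (ez ▸ mul_mem m m') (ez ▸ hc _ ⟨a, ha, m, rfl⟩ _ ⟨c, hc', m', rfl⟩)

end TP

variable [FiniteDimensional F U] [FiniteDimensional F W] [FiniteDimensional F V] [Finite F]
  {Φ₂ : Fm F W} {Φ : Fm F V}

theorem Tn.exists_TF (T : Tn F U W V) (h₂ : Φ₂.IsO) (hO : Φ.IsO) (h2 : (2 : F) ≠ 0)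
    (hU : ∃ u : U, u ≠ 0) (hW : ∃ w : W, w ≠ 0)
    (h : ∀ x v v', Φ.B (T.sl x v) v' = Φ.B v (T.sl (Φ₂.adj x) v')) :
    ∃ Φ₁ : Fm F U, Φ₁.IsO ∧ TF T Φ₁ Φ₂ Φ := by
  obtain ⟨w, -, hw⟩ := h₂.exists_nonsing Φ₂.nd_top (by
    obtain ⟨w, hw⟩ := hW; exact fun e => hw (e.le trivial))
  have w2 : Φ₂.B w w ≠ 0 := by rw [h₂.B_self]; exact mul_ne_zero h2 hw
  let Q : QuadraticForm F U := (Φ₂.B w w)⁻¹ • hO.qf.comp (T.tm.flip w)
  have hB : ∀ u x u' x', Φ.B (T.tm u x) (T.tm u' x') = QuadraticMap.polar Q u u' * Φ₂.B x x' :=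
    fun u x u' x' => by
      have := h (Φ₂.rk x w) (T.tm u w) (T.tm u' x')
      simp only [Tn.sl_tm, Fm.rk_apply, Fm.adj_rk, map_smul, h₂.ε, hO.B_smul_left,
        smul_eq_mul] at this
      rw [show QuadraticMap.polar Q u u' = (Φ₂.B w w)⁻¹ * Φ.B (T.tm u w) (T.tm u' w) by
        rw [← hO.polar_qf]; simp [QuadraticMap.polar, Q, mul_sub]]
      field_simp
      linear_combination this
  have nd : Orth.ND Q := fun u hu => T.left_inj (w := w) (fun e => w2 (by simp [e])) (by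
    simpa using Φ.nondeg _ (T.ext (g := 0) fun u' y => by simp [hB, hu]))
  have h₁ : (fmQuad Q nd).IsO := ⟨fun _ => rfl, rfl, fun _ => rfl, rfl⟩
  exact ⟨_, h₁, fun a => (hO.σ a).symm, fun a => (h₂.σ a).trans (hO.σ a).symm, by
    rw [hO.ε, h₁.ε, h₂.ε, mul_one], hB, ⟨2⁻¹, fun u x => by
      rw [eq_inv_mul_iff_mul_eq₀ h2, ← hO.B_self, hB]; rfl⟩, h₁.tv h2, h₂.tv h2, hU, hW⟩

theorem TF.cov {T : Tn F U W V} {Φ₁ : Fm F U} (hT : TF T Φ₁ Φ₂ Φ) (h₂ : Φ₂.IsO) (hO : Φ.IsO)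
    (h2 : (2 : F) ≠ 0) (ho : Odd (finrank F U)) (hW : 3 ≤ finrank F W) {g : V ≃ₗ[F] V}
    (hg : g ∈ Φ.Iso) : ∃ d ∈ Φ₂.Iso, T.krR d * g ∈ Φ.EG := by
  obtain ⟨D, hD⟩ := hT.exists_sg_krR h₂ h2 hO
  have k : ∀ c, ∃ v, hO.sg h2 ⟨_, hT.krR_Iso (h₂.r_mem_Iso v)⟩ = (-1, c) := fun c => by
    obtain ⟨a, a0, rfl⟩ := Orth.sqClass_surjective c
    obtain ⟨w, -, hw⟩ := h₂.rep Φ₂.nd_top (by rw [finrank_top]; omega) 1
    have D0 := (hD w (by simp [hw])).1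
    obtain ⟨v, -, hv⟩ := h₂.rep Φ₂.nd_top (by rw [finrank_top]; omega) (a * D)
    obtain ⟨n, hn⟩ := ho
    have v0 := mul_ne_zero a0 D0
    refine ⟨v, ?_⟩
    rw [(hD v (hv ▸ v0)).2, hv, hn, show (a * D) ^ (2 * n + 1) * D = ((a * D) ^ n * D) ^ 2 * a by ring,
      Orth.sqClass_sq_mul (mul_ne_zero (pow_ne_zero _ v0) D0) a0]
    simp [pow_succ]
  have hV : 3 ≤ finrank F V := by
    have := ho.pos
    rw [T.finrank_eq]; nlinarith
  rcases e : hO.sg h2 ⟨g, hg⟩ with ⟨s, c⟩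
  rcases Int.units_eq_one_or s with rfl | rfl
  · obtain ⟨v, hv⟩ := k c
    obtain ⟨w, hw⟩ := k 1
    have m := mul_mem (h₂.r_mem_Iso v) (h₂.r_mem_Iso w)
    refine ⟨_, m, (hO.mul_mem_EG_iff h2 hV (hT.krR_Iso m) hg).2 ?_⟩
    have := map_mul (hO.sg h2) ⟨_, hT.krR_Iso (h₂.r_mem_Iso v)⟩ ⟨_, hT.krR_Iso (h₂.r_mem_Iso w)⟩
    rw [hv, hw] at this
    simpa [e] using this
  · obtain ⟨v, hv⟩ := k c
    exact ⟨_, h₂.r_mem_Iso v, (hO.mul_mem_EG_iff h2 hV (hT.krR_Iso (h₂.r_mem_Iso v)) hg).2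
      (hv.trans e.symm)⟩

variable {ι : Type*} [Fintype ι] [DecidableEq ι] {T : ι → Tn F U W V} {Φ₁ : ι → Fm F U}

theorem TP.notMem_WR (hT : TP T) {g : V ≃ₗ[F] V} {i : ι} {w : W} (hw : w ≠ 0)
    (e : ∀ u, g ((T i).tm u w) = (T i).tm u w) (h : g ∉ (T i).NG) : g ∉ hT.WR := fun hg => by
  obtain ⟨j, hj⟩ := hg i
  by_cases hij : i = j
  · exact h (Tn.Mv.mem_NG hT.neU hT.neW (hij ▸ hj))
  obtain ⟨a, d, ea⟩ := hj.exists_tm hT.neU hT.neW
  have h1 := hT.finrank_inf hij (Submodule.span F {w}) (Submodule.span F {d w})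
  rw [← Tn.sp_eq_ts, ← Tn.sp_eq_ts, inf_eq_left.2 (by
    rintro _ ⟨u, rfl⟩
    exact ⟨a u, (ea u w).symm.trans (e u)⟩), Tn.finrank_sp _ hw,
    finrank_span_singleton hw, finrank_span_singleton (d.map_ne_zero_iff.2 hw)] at h1
  have := hT.two
  have := (finrank_pos_iff_exists_ne_zero (R := F)).2 hT.neU
  nlinarith

theorem TP.isMaximalIn_o (hT : TP T) (hF : ∀ i, TF (T i) (Φ₁ i) Φ₂ Φ) (h₂ : Φ₂.IsO) (hO : Φ.IsO)
    (h2 : (2 : F) ≠ 0) (hU : 3 ≤ finrank F U) (hW : 3 ≤ finrank F W) (i : ι)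
    (key : ∀ M, hT.WR ⊓ Φ.EG ≤ M → M ≤ Φ.EG → ¬ Φ.EG ≤ M → M ≤ hT.WR) :
    Geo.IsMaximalIn Φ.EG (hT.WR ⊓ Φ.EG) := by
  refine isMaximalIn_of inf_le_right ?_ fun M h1 h4 g hg hg' => by_contra fun hc =>
    hg' ⟨key M h1 h4 hc hg, h4 hg⟩
  obtain ⟨w, -, hw0, hw⟩ := Φ₂.iso ⊤ (by rw [finrank_top, h₂.d]; exact hW)
  obtain ⟨g, h1, e, h4⟩ := (hF i).exists_notMem_NG' h₂ h2 hO hU hw hw0
  exact ⟨g, h1, fun h => hT.notMem_WR hw0 e h4 h.1⟩

theorem TP.sw_odd (hT : TP T) (hF : ∀ i, TF (T i) (Φ₁ i) Φ₂ Φ) (h₂ : Φ₂.IsO) (hO : Φ.IsO)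
    (h2 : (2 : F) ≠ 0) (ho : Odd (finrank F U)) (hW : 3 ≤ finrank F W)
    (hp : ∀ j l, ∃ p ∈ Φ.Iso, ∀ i, (T i).Mv (T (Equiv.swap j l i)) p) (j l : ι) :
    ∃ p ∈ hT.WR ⊓ Φ.EG, ∀ i, (T i).Mv (T (Equiv.swap j l i)) p := by
  obtain ⟨p, hp, e⟩ := hp j l
  obtain ⟨d, -, hd⟩ := (hF j).cov h₂ hO h2 ho hW hp
  have k : ∀ i, (T i).Mv (T (Equiv.swap j l i)) ((T j).krR d * p) := fun i => Tn.Mv.mul (by
    generalize Equiv.swap j l i = k
    by_cases hk : k = j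
    · exact hk ▸ Tn.mv_of_NG ((T k).krR_mem d)
    · exact (hT.cm_krR hk d).mv) (e i)
  exact ⟨_, ⟨fun i => ⟨_, k i⟩, hd⟩, k⟩

theorem PT.sw_iso {pu : MultilinearMap F (fun _ : ι => W) V} {κ : F} (h : PT T Φ₂ Φ pu κ) (hT : TP T)
    (htv : Φ.TV) (hp : ∀ j l, ∃ p : V ≃ₗ[F] V, p * p = 1 ∧
      ∀ i x v, p ((T i).sl x v) = (T (Equiv.swap j l i)).sl x (p v)) (j l : ι) :
    ∃ p ∈ Φ.Iso, ∀ i, (T i).Mv (T (Equiv.swap j l i)) p :=
  let ⟨p, p2, e⟩ := hp j l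
  ⟨p, htv.mem_Iso (h.B_swap hT (Equiv.swap_apply_self j l) p2 e), fun i x => ⟨x, e i x⟩⟩

theorem TP.o3_two (hT : TP T) (hF : ∀ i, TF (T i) (Φ₁ i) Φ₂ Φ) (h₁ : ∀ i, (Φ₁ i).IsO) (h₂ : Φ₂.IsO)
    (hO : Φ.IsO) (h2 : (2 : F) ≠ 0) (hq : Nat.card F ≠ 3) (hU : finrank F U = 3)
    (hW : finrank F W = 3) (hι : ∀ i j k : ι, j ≠ i → k ≠ i → j = k)
    (hp : ∀ j l, ∃ p ∈ Φ.Iso, ∀ i, (T i).Mv (T (Equiv.swap j l i)) p) {M : Subgroup (V ≃ₗ[F] V)}
    (hH : hT.WR ⊓ Φ.EG ≤ M) (hG : M ≤ Φ.EG) (hn : ¬ Φ.EG ≤ M) : M ≤ hT.WR := by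
  have hI := hG.trans Φ.EG_le_Iso
  have hs := fun j l => (hT.sw_odd hF h₂ hO h2 (by rw [hU]; decide) hW.ge hp j l).imp
    fun p h => And.intro (hH h.1) h.2
  refine hT.o3_le_WR hF h₂ h2 hW hI (fun i τ hτ => hH ⟨hT.krR_mem i τ, (hF i).krR_EG hτ⟩)
    (fun g hg i l v v' hv v1 e => ?_) hs
  obtain ⟨p, hp, ep⟩ := hs l i
  have pl : (T l).Mv (T i) p := by simpa using ep l
  obtain ⟨a, d, ea⟩ := pl.exists_tm hT.neU hT.neW
  have hN : (T i).swap.NG ⊓ Φ.EG ≤ M := fun x hx => hH ⟨fun k => by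
    have h0 := Tn.mv_of_NG ((T i).swap_NG ▸ hx.1)
    by_cases hk : k = i
    · exact ⟨k, hk ▸ h0⟩
    · exact ⟨k, hT.mv_of_others fun m hm => ⟨i, Ne.symm hk, hι k m i hm (Ne.symm hk) ▸ h0⟩⟩, hx.2⟩
  have hT' := (hF i).swap
  have := hT'.mem_of_nonsing_three h₂ (h₁ i) h2 hq hW hU.ge hI (fun _ => hT'.krR_mem hN)
    (fun τ _ => (T i).swap.krR_mem τ) (fun g hg w w' hw hw0 hw' e => hT'.mem_of_sp hN hG
      (fun _ => hT'.loc_one (h₁ i) h₂ hO h2 hW.ge hU.ge hN hG hn (fun h => hq h.1)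
        (Or.inr (h₂.wide_three h2 hW)) ((h₁ i).wide_three h2 hU)) hU.ge hg hw hw0 hw' fun u =>
          e.le ⟨_, (T i).swap.tm_mem_sp u w, rfl⟩) (fun _ h _ => h) hv (M.mul_mem hp hg) (z' := d v')
    (Tn.map_sp_eq (T := T i) (T' := T i) (fun e => hv (by rw [e, Φ₂.Q_zero])) (d.map_ne_zero_iff.2 v1) (by
      rintro _ ⟨u, rfl⟩
      obtain ⟨x, hx, ex⟩ := e.ge ((T l).tm_mem_sp (a⁻¹ u) v')
      exact ⟨x, hx, (congrArg p ex).trans (by simp [ea])⟩))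
  exact inv_mul_cancel_left p g ▸ (pl.inv hT.neU).mul (Tn.mv_of_NG ((T i).swap_NG ▸ this))

theorem o3_wreath_two {ι : Type} [Fintype ι] [DecidableEq ι] {F : Type*} [Field F] [Fintype F]
    {f₁ : (Fin 3 → F) → (Fin 3 → F) → F} {Q : (ι → F) → F} (hQ : Geo.IsNondegenerateQuadraticForm Q)
    (hodd : Odd (Fintype.card F)) (hq : Fintype.card F ≠ 3) (e : ι ≃ (Fin 2 → Fin 3)) (P : GL ι F)
    (hf₁ : Geo.IsSymmetricForm f₁)
    (hT : Geo.IsTensorPowerFormStructure id (QuadraticMap.polar Q) f₁ e P) :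
    Geo.IsMaximalIn (Geo.omegaGL Q) (Geo.tensorWreathSubgroup 3 2 e P ⊓ Geo.omegaGL Q) := by
  have h2 := two_ne_zero_of_odd hodd
  have h₂ := isO_fmSym h2 hf₁
  have hO := isO_fmO hQ
  refine isMaximalIn_of_PT (by omega) (by simp) (Asch.isSesq_of_bilinear hf₁.bilinear) hT
    (Φ₂ := fmSym h2 hf₁) (Or.inl ⟨fun _ _ => rfl, fmSym_B h2 hf₁⟩)
    (mem_omegaGL_iff hQ (by simp [Fintype.card_congr e])) fun T c h hT hp _ h3 => ?_
  choose Φ₁ h₁ hF using fun i => (T i).exists_TF h₂ hO h2 hT.neU hT.neW (h.B_sl i)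
  exact hT.isMaximalIn_o hF h₂ hO h2 h3 (by simp) 0 fun M => hT.o3_two hF h₁ h₂ hO h2 (by simpa)
    (by simp) (by simp) (by decide) (h.sw_iso hT (hO.tv h2) hp)

end Cfsg.Agent.Class.Max
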