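import Mathlib
import Cfsg.Agent.Class.Max.C7O5

/-!
Tensor powers of orthogonal spaces: removing a slot, and invariant subalgebras.
-/

set_option autoImplicit false
set_option linter.unusedSectionVars false

namespace Cfsg.Agent.Class.Max

open Module

variable {F U W V : Type*} [Field F] [AddCommGroup U] [Module F U] [AddCommGroup W]
  [Module F W] [AddCommGroup V] [Module F V]
  [FiniteDimensional F U] [FiniteDimensional F W] [FiniteDimensional F V]

theorem exists_tn_of_hom (φ : End F W →ₐ[F] End F V) (hW : ∃ w : W, w ≠ 0) :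
    ∃ T : Tn F (Fin (finrank F V / finrank F W) → F) W V, ∀ x, T.sl x = φ x := by
  obtain ⟨w, hw⟩ := hW
  obtain ⟨α, hα⟩ := exists_dual_eq_one (F := F) hw
  have m : ∀ (β γ : Dual F W) (x y : W) v, φ (β.smulRight x) (φ (γ.smulRight y) v) =
      β y • φ (γ.smulRight x) v := fun β γ x y v => by
    rw [← End.mul_apply, ← map_mul, ← LinearMap.smul_apply, ← map_smul]
    congr 2
    exact LinearMap.ext fun z => by simp [smul_smul, mul_comm]
  let X := LinearMap.range (φ (α.smulRight w))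
  let f : TensorProduct F X W →ₗ[F] V := TensorProduct.lift (LinearMap.flip
    (((LinearMap.lcomp F V X.subtype) ∘ₗ φ.toLinearMap) ∘ₗ LinearMap.smulRightₗ α))
  have ef : ∀ x y, f (x ⊗ₜ y) = φ (α.smulRight y) x := fun _ _ => rfl
  let b := finBasis F W
  let g : V →ₗ[F] TensorProduct F X W := ∑ k, (TensorProduct.mk F X W).flip (b k) ∘ₗ
    (φ (α.smulRight w)).rangeRestrict ∘ₗ φ ((b.coord k).smulRight w)
  let e : TensorProduct F X W ≃ₗ[F] V := LinearEquiv.ofLinearMap f g (LinearMap.ext fun v => by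
      simp only [g, LinearMap.comp_apply, LinearMap.sum_apply, map_sum, LinearMap.flip_apply,
        TensorProduct.mk_apply, ef, LinearMap.codRestrict_apply, m, hα, one_smul]
      rw [← LinearMap.sum_apply, ← map_sum, show ∑ k, (b.coord k).smulRight (b k) = 1 from
        LinearMap.ext fun y => by simp, map_one]
      rfl) (TensorProduct.ext' fun x y => by
      obtain ⟨_, x, rfl⟩ := x
      simp only [g, LinearMap.comp_apply, LinearMap.sum_apply, LinearMap.flip_apply,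
        TensorProduct.mk_apply, ef, m, hα, one_smul, map_smul, LinearMap.id_apply]
      simp only [← TensorProduct.tmul_smul, ← TensorProduct.tmul_sum, Basis.coord_apply,
        Basis.sum_repr]
      exact congrArg (· ⊗ₜ y) (Subtype.ext (by simp [m, hα])))
  have h1 := e.finrank_eq
  rw [finrank_tensorProduct] at h1
  let e' : (Fin (finrank F V / finrank F W) → F) ≃ₗ[F] X := LinearEquiv.ofFinrankEq _ _ (by
    rw [Module.finrank_fin_fun, ← h1, Nat.mul_div_cancel _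
      ((finrank_pos_iff_exists_ne_zero (R := F)).2 ⟨w, hw⟩)])
  let T : Tn F _ W V := ⟨(TensorProduct.congr e' (LinearEquiv.refl F W)).trans e⟩
  have eT : ∀ u y, T.tm u y = φ (α.smulRight y) (e' u) := fun _ _ => rfl
  refine ⟨T, fun x => LinearMap.ext (T.ext fun u y => ?_)⟩
  rw [Tn.sl_tm, eT, eT, ← End.mul_apply, ← map_mul]
  congr 2
  exact LinearMap.ext fun z => by simp

/-- A tensor power of an orthogonal space. -/
structure OT {ι : Type*} [DecidableEq ι] (T : ι → Tn F U W V) (Φ₂ : Fm F W) (Φ : Fm F V) :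
    Prop where
  tp : TP T
  o₂ : Φ₂.IsO
  o : Φ.IsO
  two : (2 : F) ≠ 0
  three : 3 ≤ finrank F W
  adj : ∀ i x v v', Φ.B ((T i).sl x v) v' = Φ.B v ((T i).sl (Φ₂.adj x) v')
  sw : ∀ j l, ∃ p ∈ Φ.Iso, ∀ i x v, p ((T i).sl x v) = (T (Equiv.swap j l i)).sl x (p v)

variable {ι : Type*} [DecidableEq ι] {T : ι → Tn F U W V} {Φ₂ : Fm F W} {Φ : Fm F V}

theorem Tn.swap_sl_inj (T : Tn F U W V) (hW : ∃ w : W, w ≠ 0) {a b : End F U}
    (h : T.swap.sl a = T.swap.sl b) : a = b := T.swap.sl_inj hW (LinearMap.congr_fun h)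

theorem Tn.Cm.exists_swap {T : Tn F U W V} {c : End F V} (h : T.Cm c) (hW : ∃ w : W, w ≠ 0) :
    ∃ a, T.swap.sl a = c :=
  let ⟨a, e⟩ := h.exists_left hW
  ⟨a, LinearMap.ext (T.ext fun u w => by simp [e])⟩

theorem OT.exists_down (h : OT T Φ₂ Φ) {i j₀ : ι} (h0 : j₀ ≠ i) {Φ₁ : Fm F U} (h₁ : Φ₁.IsO)
    (hF : TF (T i) Φ₁ Φ₂ Φ) :
    ∃ T' : {j // j ≠ i} → Tn F (Fin (finrank F U / finrank F W) → F) W U, OT T' Φ₂ Φ₁ ∧
      ∀ j x, (T i).swap.sl ((T' j).sl x) = (T j).sl x := by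
  have inj := fun a b => (T i).swap_sl_inj h.tp.neW (a := a) (b := b)
  have : ∀ j : {j // j ≠ i}, ∃ T' : Tn F (Fin (finrank F U / finrank F W) → F) W U,
      ∀ x, (T i).swap.sl (T'.sl x) = (T j).sl x := fun j => by
    choose f hf using fun x => (h.tp.cm i j j.2.symm x).exists_swap h.tp.neW
    obtain ⟨T', e⟩ := exists_tn_of_hom (V := U) (AlgHom.ofLinearMap
      { toFun := f
        map_add' := fun x y => inj _ _ (by simp [hf])
        map_smul' := fun c x => inj _ _ (by simp [hf]) }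
      (inj _ _ (by simp [hf])) fun x y => inj _ _ (by simp [hf])) h.tp.neW
    exact ⟨T', fun x => by rw [e]; exact hf x⟩
  choose T' e using this
  obtain ⟨w, hw⟩ := h.tp.neW
  have e' : ∀ j x u y, (T i).tm ((T' j).sl x u) y = (T j).sl x ((T i).tm u y) := fun j x u y => by
    rw [← e, Tn.swap_sl_tm]
  refine ⟨T', ⟨⟨fun j l hjl x y u => (T i).left_inj hw ?_, fun b hb => ?_, ?_, h.tp.two⟩, h.o₂, h₁,
    h.two, h.three, fun j x u u' => ?_, fun j l => ?_⟩, e⟩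
  · simp only [e']
    exact h.tp.cm j l (fun e => hjl (Subtype.ext e)) x y _
  · obtain ⟨c, hc⟩ := h.tp.scal ((T i).swap.sl b) fun k => by
      by_cases hk : k = i
      · exact hk ▸ Tn.cm_swap b
      · exact fun x => (T i).ext (f := (T i).swap.sl b ∘ₗ (T k).sl x)
          (g := (T k).sl x ∘ₗ (T i).swap.sl b) fun u y => by
            simp [← e' ⟨k, hk⟩, hb ⟨k, hk⟩ x u]
    exact ⟨c, fun u => (T i).left_inj hw (by simpa using hc ((T i).tm u w))⟩
  · by_contra hc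
    push Not at hc
    obtain ⟨u, hu⟩ := h.tp.neU
    exact hu ((T' ⟨j₀, h0⟩).ext (f := LinearMap.id) (g := 0) (fun u y => by simp [hc u]) u)
  · obtain ⟨z, hz⟩ := Φ₂.exists_B_ne hw
    refine mul_right_cancel₀ hz ?_
    rw [← hF.B, ← hF.B, e', e', h.adj]
  · obtain ⟨p, hp, ep⟩ := h.sw j l
    obtain ⟨a, rfl⟩ := Tn.Cm.exists_kr (T := T i) (g := p) (fun x v => by
      simpa [Equiv.swap_apply_of_ne_of_ne j.2.symm l.2.symm] using ep i x v) h.tp.neW
    refine ⟨a, hF.swap.B_of_krR ((T i).swap_kr a 1 ▸ hp :), fun k x u => (T i).left_inj hw ?_⟩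
    have := ep k x ((T i).tm u w)
    rw [← e', Tn.kr_tm, Tn.kr_tm, Subtype.coe_injective.swap_apply, ← e'] at this
    exact this

theorem Fm.IsO.mem_of_np (hO : Φ.IsO) (h2 : (2 : F) ≠ 0) (h3 : 3 ≤ finrank F V) {s : V}
    (hs : Φ.Q s = 0) (s0 : s ≠ 0) (N : Submodule F V) (h : ∀ t, Φ.Q t = 0 → Φ.B s t = 1 → t ∈ N)
    (x : V) : x ∈ N := by
  obtain ⟨f, y, hf, e1, y0, y1, y2⟩ := hO.exists_triple h2 h3 hs s0
  have k : ∀ z, Φ.B s z = 0 → z - (Φ.B z f + Φ.Q z) • s ∈ N := fun z hz => by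
    have hv := hO.valid hs hz
    convert N.sub_mem (h _ ((hv.Q_ef f).trans hf) (by rw [hv.B_ef, e1])) (h f hf e1) using 1
    simp [hO.ef, e1]
    module
  have k1 : s ∈ N := (N.smul_mem_iff (neg_ne_zero.2 (mul_ne_zero h2 y0))).1 (by
    convert N.add_mem (k y y1) (k (-y) (by simp [y1])) using 1
    simp [Φ.Q_neg, Φ.perp_symm y2]
    module)
  exact (N.sub_mem_iff_left (N.smul_mem (Φ.B s x) (h f hf e1))).1
    ((N.sub_mem_iff_left (N.smul_mem _ k1)).1 (k (x - Φ.B s x • f) (by simp [e1])))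

theorem Fm.IsO.mem_of_rk_np (hO : Φ.IsO) (h2 : (2 : F) ≠ 0) (h3 : 3 ≤ finrank F V)
    (R : Submodule F (End F V)) (h : ∀ s t, Φ.Q s = 0 → Φ.Q t = 0 → Φ.B s t = 1 → Φ.rk s t ∈ R)
    (x : End F V) : x ∈ R := by
  obtain ⟨e, -, he0, he⟩ := Φ.iso ⊤ (by rw [finrank_top, hO.d]; exact h3)
  exact Fm.mem_of_rk_sing he he0 R (fun x z _ hz _ z0 => hO.mem_of_np h2 h3 hz z0
    (R.comap (LinearMap.smulRightₗ (Φ.B z))) (fun t ht e => h t z ht hz (hO.symm _ _ ▸ e)) x) x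

namespace Tn

variable (T : Tn F U W V)

/-- A matrix coefficient with respect to the first factor. -/
def cp (α : Dual F U) (u : U) : End F V →ₗ[F] End F W :=
  LinearMap.llcomp F W V W (T.cL α) ∘ₗ LinearMap.lcomp F V (T.tm u)

theorem cp_apply (α : Dual F U) (u : U) (b : End F V) (x : W) :
    T.cp α u b x = T.cL α (b (T.tm u x)) := rfl

theorem cL_sl (α : Dual F U) (x : End F W) (v : V) : T.cL α (T.sl x v) = x (T.cL α v) :=
  T.ext (f := T.cL α ∘ₗ T.sl x) (g := x ∘ₗ T.cL α) (fun u w => by simp) v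

theorem cp_Sy (α : Dual F U) (u : U) (s y : W) (b : End F V) :
    T.cp α u (Φ₂.Sy T.sl s y b) = Φ₂.Sy (AlgHom.id F _) s y (T.cp α u b) :=
  LinearMap.ext fun x => by simp [Fm.Sy, cp_apply, cL_sl]

theorem cm_of_cp (hW : ∃ w : W, w ≠ 0) {b : End F V}
    (h : ∀ α u, ∃ c : F, ∀ x, T.cp α u b x = c • x) : T.Cm b :=
  cm_of_co (fun v β e => LinearMap.ext (T.ext fun u w => by
    rw [co_tm, show T.cR β (b (T.tm u v)) = 0 from (forall_dual_apply_eq_zero_iff F _).1 fun α => by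
      obtain ⟨c, hc⟩ := h α u
      rw [← cL_cR, ← cp_apply, hc, map_smul, e, smul_zero]]
    simp)) hW

theorem cj_eE (h₂ : Φ₂.IsO) {s y : W} (hv : Φ₂.Valid s y (Φ₂.Q y)) (b : End F V) :
    T.sl (Φ₂.eE s y) * b * T.sl (Φ₂.eE s (-y)) = cjL (T.krR hv.eich) b :=
  LinearMap.ext fun v => by
    rw [cjL_apply, ← map_inv, krR_eq_sl, krR_eq_sl, show Φ₂.eE s (-y) = hv.eich⁻¹.toLinearMap from
      LinearMap.ext fun x => by simp [hv.eich_inv, Fm.eE_apply, Φ₂.Q_neg, h₂.σ, h₂.ε]]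
    rfl

variable {T}

theorem Cm.Sy {g : V ≃ₗ[F] V} (hg : T.Cm g.toLinearMap) (s y : W) (b : End F V) (v : V) :
    g (Φ₂.Sy T.sl s y b v) = Φ₂.Sy T.sl s y (Max.cjL g b) (g v) := by
  have k : ∀ x v, g (T.sl x v) = T.sl x (g v) := hg
  simp [Fm.Sy, k, ← cjL_app g b]

end Tn

namespace TP

open Tn

variable [Fintype ι] [Finite F] (hT : TP T) (h₂ : Φ₂.IsO) (h2 : (2 : F) ≠ 0) (h3 : 3 ≤ finrank F W)
include hT h₂ h2 h3

theorem mem_of_inv {j : ι} (X : Submodule F V)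
    (h : ∀ l, l ≠ j → ∀ τ ∈ Φ₂.EG, ∀ x ∈ X, (T l).krR τ x ∈ X) {b : End F V} (hb : (T j).Cm b) :
    ∀ x ∈ X, b x ∈ X :=
  hT.full (X.compatibleMaps X) (fun _ h => h) (fun _ hb _ hc _ h => hb (hc h)) (Finset.univ.erase j)
    (fun l hl => h₂.all_mem_of_eE h2 h3 ((X.compatibleMaps X).comap (T l).sl.toLinearMap)
      (fun b hb c hc x h => by simpa using hb (hc h)) (fun x h => by simpa using h)
      fun s y hs hy x hx => ((T l).krR_eq_sl _ x ▸
        h l (Finset.ne_of_mem_erase hl) _ (h₂.valid hs hy).eich_mem x hx :))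
    b fun i hi => by rwa [show i = j by simpa using hi]

variable (hq : ¬ (Nat.card F = 3 ∧ finrank F W = 3)) (hW : Φ₂.Wide)
include hq hW

theorem cm_of_quad (G : Set (End F V)) (hG : ∀ l, ∀ τ ∈ Φ₂.EG, ∀ b ∈ G, cjL ((T l).krR τ) b ∈ G)
    (j : ι) (h0 : ∀ b ∈ G, ∀ s, Φ₂.Q s = 0 → (T j).sl (Φ₂.rk s s) * b * (T j).sl (Φ₂.rk s s) = 0)
    (hm : ∀ s y f, Φ₂.Q s = 0 → Φ₂.B s y = 0 → Φ₂.Q f = 0 → ∀ b ∈ G, ∀ b' ∈ G, (T j).sl (Φ₂.rk f f) *
      (Φ₂.Sy (T j).sl s y b * Φ₂.Sy (T j).sl s y b') * (T j).sl (Φ₂.rk f f) = 0)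
    {b : End F V} (hb : b ∈ G) : (T j).Cm b := by
  have k : ∀ {s : W} {v : V}, (T j).sl (Φ₂.rk s s) v = 0 → ∀ α, Φ₂.B s ((T j).cL α v) = 0 :=
    fun {s v} h α => by
      by_cases s0 : s = 0
      · simp [s0]
      rw [Fm.rk, sl_rk] at h
      rw [cL_cR, show (T j).cR (Φ₂.B s) v = 0 from (T j).left_inj s0 (by simpa using h), map_zero]
  have k' : ∀ s : W, s = 0 ∨ ∃ f, ∀ u, (T j).sl (Φ₂.rk s s) ((T j).tm u f) = (T j).tm u s := fun s => by
    refine or_iff_not_imp_left.2 fun s0 => ?_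
    obtain ⟨f, hf⟩ := Φ₂.exists_B_ne s0
    exact ⟨(Φ₂.B s f)⁻¹ • f, fun u => by simp [hf]⟩
  refine (T j).cm_of_cp hT.neW fun α u => h₂.smul_of_quad h2 h3 hq hW
    {β | ∃ α u, ∃ b ∈ G, β = (T j).cp α u b} ?_ ?_ ?_ ⟨α, u, b, hb, rfl⟩
  · rintro τ hτ _ ⟨α, u, b, hb, rfl⟩
    exact ⟨α, u, _, hG j τ hτ b hb, LinearMap.ext fun x => by
      simp [cjL_apply, cp_apply, ← map_inv, krR_eq_sl _ τ, cL_sl]⟩
  · rintro _ ⟨α, u, b, hb, rfl⟩ s hs
    rcases k' s with rfl | ⟨f, hf⟩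
    · simp
    · have := LinearMap.congr_fun (h0 b hb s hs) ((T j).tm u f)
      rw [End.mul_apply, End.mul_apply, hf] at this
      exact k this α
  · rintro s y f hs hy hf _ ⟨α, u, b, hb, rfl⟩ _ ⟨α', u', b', hb', rfl⟩
    rcases k' f with rfl | ⟨f', hf'⟩
    · simp
    let X := Submodule.span F {x | ∃ c ∈ G, ∃ v, x = Φ₂.Sy (T j).sl s y c ((T j).sl (Φ₂.rk f f) v)}
    have h1 : X ≤ LinearMap.ker ((T j).sl (Φ₂.rk f f) * Φ₂.Sy (T j).sl s y b) :=
      Submodule.span_le.2 (by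
        rintro _ ⟨c, hc, v, rfl⟩
        exact LinearMap.congr_fun (hm s y f hs hy hf b hb c hc) v)
    have := k (h1 (hT.mem_of_inv h₂ h2 h3 (j := j) X (fun l hl τ hτ => Submodule.span_le (p := X.comap
      ((T l).krR τ).toLinearMap) |>.2 (by
        rintro _ ⟨c, hc, v, rfl⟩
        have cm := hT.cm_krR hl.symm τ
        exact Submodule.mem_comap.2 (Submodule.subset_span ⟨_, hG l τ hτ c hc, (T l).krR τ v,
          (cm.Sy s y c _).trans (congrArg _ (cm _ v))⟩))) (cm_swap (α'.smulRight u)) _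
        (Submodule.subset_span ⟨b', hb', (T j).tm u' f', rfl⟩))) α
    rwa [hf', sl_rk, swap_tm, ← cp_apply, ← cL, ← cp_apply, cp_Sy, cp_Sy] at this

/-- Invariant subalgebras. -/
theorem algO (A : Finset ι) : ∀ R : Submodule F (End F V), (∀ b ∈ R, ∀ i ∉ A, (T i).Cm b) →
    (∀ b ∈ R, ∀ c ∈ R, b * c ∈ R) → (∀ l, ∀ τ ∈ Φ₂.EG, ∀ b ∈ R, cjL ((T l).krR τ) b ∈ R) →
    ∀ b ∈ R, b ≠ 0 → 1 ∈ R ∧ ((∃ c : F, ∀ v, b v = c • v) ∨ ∃ j ∈ A, ∀ x, (T j).sl x ∈ R) := by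
  induction A using Finset.induction_on with
  | empty =>
    intro R h1 _ _ b hb b0
    obtain ⟨c, hc⟩ := hT.scal b fun i => h1 b hb i (by simp)
    have c0 : c ≠ 0 := fun e => b0 (LinearMap.ext fun v => by simp [hc, e])
    refine ⟨?_, Or.inl ⟨c, hc⟩⟩
    rw [show (1 : End F V) = c⁻¹ • b from LinearMap.ext fun v => by simp [hc, c0]]
    exact R.smul_mem _ hb
  | insert j A hj ih =>
    intro R h1 hm h4 b hb b0
    by_cases hc : ∀ b ∈ R, (T j).Cm b
    · obtain ⟨k1, k2⟩ := ih R (fun b hb i hi => by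
        by_cases h : i = j
        · exact h ▸ hc b hb
        · exact h1 b hb i (by simp [h, hi])) hm h4 b hb b0
      exact ⟨k1, k2.imp_right fun ⟨l, hl, k⟩ => ⟨l, by simp [hl], k⟩⟩
    have cj : ∀ s, Φ₂.Q s = 0 → ∀ y, Φ₂.B s y = 0 → ∀ b ∈ R.toAddSubgroup,
        (T j).sl (Φ₂.eE s y) * b * (T j).sl (Φ₂.eE s (-y)) ∈ R.toAddSubgroup := fun s hs y hy b hb =>
      (T j).cj_eE h₂ (h₂.valid hs hy) b ▸ h4 j _ (h₂.valid hs hy).eich_mem b hb
    obtain ⟨b, hb, s, hs, h5⟩ : ∃ b ∈ R, ∃ s, Φ₂.Q s = 0 ∧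
        (T j).sl (Φ₂.rk s s) * b * (T j).sl (Φ₂.rk s s) ≠ 0 := by
      by_contra h
      push Not at h
      exact hc fun b => hT.cm_of_quad h₂ h2 h3 hq hW R h4 j h fun s y f hs hy hf b hb b' hb' =>
        h _ (hm _ (Fm.Sy_mem (cj s hs) hy hb) _ (Fm.Sy_mem (cj s hs) hy hb')) f hf
    obtain ⟨κ, k0, k1⟩ := h₂.sand h2 h3 hq hs (cj s hs)
    replace k1 := (R.smul_mem_iff k0).1 (k1 b hb)
    rw [Fm.rk, ← co_mul] at h5 k1
    have cc := (T j).cm_co b (Φ₂.B s) s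
    let I : Submodule F (End F V) :=
      { carrier := {c | (∀ i ∉ A, (T i).Cm c) ∧ ∀ s, Φ₂.Q s = 0 → c * (T j).sl (Φ₂.rk s s) ∈ R}
        zero_mem' := ⟨fun i _ x v => by simp, fun v _ => by simp⟩
        add_mem' := fun ha hb => ⟨fun i hi => (ha.1 i hi).add (hb.1 i hi), fun v h => by
          rw [add_mul]; exact R.add_mem (ha.2 v h) (hb.2 v h)⟩
        smul_mem' := fun c a ha => ⟨fun i hi => (ha.1 i hi).smul c, fun v h => by
          rw [smul_mul_assoc]; exact R.smul_mem c (ha.2 v h)⟩ }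
    obtain ⟨k3, -⟩ := ih I (fun c hc => hc.1) (fun c hc c' hc' => ⟨fun i hi =>
        (hc.1 i hi).mul (hc'.1 i hi), fun v _ => h₂.mem_of_rk_np h2 h3
          (R.comap (LinearMap.mulLeft F (c * c') ∘ₗ (T j).sl.toLinearMap)) (fun s t hs ht e =>
            show c * c' * (T j).sl (Φ₂.rk s t) ∈ R from
            mem_of_ext (hm _ (hc.2 s hs) _ (hc'.2 t ht)) fun x => by
              simp [(hc.1 j hj).app, (hc'.1 j hj).app, Fm.rk, sl_rk_rk, e]) _⟩)
      (fun l τ hτ c hc => by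
        by_cases hl : l ∈ A
        · have k : ∀ i ∉ A, (T i).Cm ((T l).krR τ).toLinearMap := fun i hi =>
            hT.cm_krR (fun e : i = l => hi (e ▸ hl)) τ
          exact ⟨fun i hi => (hc.1 i hi).cjL (k i hi), fun s hs =>
            mem_of_ext (h4 l τ hτ _ (hc.2 s hs)) fun x => by
              obtain ⟨x, rfl⟩ := ((T l).krR τ).surjective x
              rw [cjL_app, End.mul_apply, End.mul_apply, ← cjL_app]
              exact congrArg _ (k j hj _ x).symm⟩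
        · rwa [(hc.1 l hl).cjL_krR]) ((T j).co b (Φ₂.B s) s) ⟨fun i hi => by
      by_cases h : i = j
      · exact h ▸ cc
      · exact hT.cm_co h (h1 b hb i (by simp [h, hi])) _ _, fun t ht => by
      by_cases t0 : t = 0
      · exact mem_of_ext R.zero_mem fun x => by simp [t0, Fm.rk]
      obtain ⟨τ, hτ, a, a0, e⟩ := Fm.Rk.move_pt (Ψ := Φ₂) (Or.inl h3) hs ht
        (fun e => h5 (LinearMap.ext fun x => by simp [e])) t0
      refine (R.smul_mem_iff (mul_ne_zero a0 a0)).1 (mem_of_ext (h4 j τ hτ _ k1) fun x => ?_)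
      rw [cjL_mul', cc.cjL_krR, cjL_krR_sl, ← mul_smul_comm, ← map_smul]
      congr 3
      exact LinearMap.ext fun y => by
        simp only [cjL_apply, LinearMap.smul_apply, LinearMap.smulRight_apply, map_smul,
          Fm.Iso.B_inv (Φ₂.EG_le_Iso hτ), e, h₂.B_smul_left, Fm.rk_apply]
        module⟩
      fun e => h5 (by simp [e])
    have k4 := h₂.all_mem h2 h3 (R.comap (T j).sl.toLinearMap)
      (fun b hb c hc => by simpa using hm _ hb _ hc) fun s hs => by simpa using k3.2 s hs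
    exact ⟨by simpa using k4 1, Or.inr ⟨j, by simp, k4⟩⟩

/-- Invariant commutative sets of maps consist of scalars. -/
theorem smul_of_commO (G : Set (End F V)) (hG : ∀ l, ∀ τ ∈ Φ₂.EG, ∀ b ∈ G, cjL ((T l).krR τ) b ∈ G)
    (hc : ∀ b ∈ G, ∀ c ∈ G, b * c = c * b) {b : End F V} (hb : b ∈ G) : ∃ c : F, ∀ v, b v = c • v := by
  by_cases b0 : b = 0
  · exact ⟨0, by simp [b0]⟩
  let R := Subalgebra.centralizer F (Subalgebra.centralizer F G : Set (End F V))
  have cj : ∀ (S : Set (End F V)), (∀ l, ∀ τ ∈ Φ₂.EG, ∀ b ∈ S, cjL ((T l).krR τ) b ∈ S) →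
      ∀ l, ∀ τ ∈ Φ₂.EG, ∀ b ∈ Subalgebra.centralizer F S,
        cjL ((T l).krR τ) b ∈ Subalgebra.centralizer F S := fun S hS l τ hτ b hb c hc =>
    LinearMap.ext fun v => by
      simpa [cjL_apply] using congrArg ((T l).krR τ)
        (LinearMap.congr_fun (hb _ (hS l _ (inv_mem hτ) c hc)) (((T l).krR τ)⁻¹ v))
  obtain ⟨-, h | ⟨j, -, h⟩⟩ := hT.algO h₂ h2 h3 hq hW Finset.univ R.toSubmodule (by simp)
    (fun _ hb _ hc => R.mul_mem hb hc) (cj _ (cj G hG)) b (fun c hc => (hc b hb).symm) b0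
  · exact h
  obtain ⟨x, hx⟩ := hT.not_smul
  exact absurd (smul_of_cm_sl hT.neU hT.neW fun y => LinearMap.congr_fun
    (h y _ fun c hc' => (h x c fun d hd => hc d hd c hc')))  hx

end TP

end Cfsg.Agent.Class.Max
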