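import Mathlib
import Cfsg.Agent.Class.Max.C7O6

/-!
Tensor powers of orthogonal spaces: the centre of the unipotent radical of the stabiliser of
`U ⊗ w`.
-/

set_option autoImplicit false
set_option linter.unusedSectionVars false

namespace Cfsg.Agent.Class.Max

open Module

variable {F X U W V : Type*} [Field F] [AddCommGroup U] [Module F U] [AddCommGroup W]
  [Module F W] [AddCommGroup V] [Module F V] [AddCommGroup X] [Module F X] [FiniteDimensional F X]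
  [FiniteDimensional F U] [FiniteDimensional F W] [FiniteDimensional F V]
  {Φ₁ : Fm F U} {Φ₂ : Fm F W} {Φ : Fm F V} {M : Subgroup (V ≃ₗ[F] V)}

theorem Fm.IsO.adj_rk' (h₂ : Φ₂.IsO) (x y : W) : Φ₂.adj (Φ₂.rk x y) = Φ₂.rk y x :=
  LinearMap.ext fun v => by simp [Fm.adj_rk, h₂.ε]

namespace Tn

variable {T : Tn F U W V}

theorem co_cm (hW : ∃ w : W, w ≠ 0) {e e' : End F V} (he : T.Cm e) (he' : T.Cm e') (b : End F V)
    (β : Dual F W) (y : W) : e * T.co b β y * e' = T.co (e * b * e') β y := by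
  obtain ⟨a, ea⟩ := he.exists_left hW
  obtain ⟨a', ea'⟩ := he'.exists_left hW
  exact LinearMap.ext (T.ext fun u w => by simp [ea, ea', Cm.cR ea])

variable (T Φ₂) in
/-- `b` is symmetric in the slot. -/
def SyS (b : End F V) : Prop := ∀ x y z z', T.sl (Φ₂.rk z x) * b * T.sl (Φ₂.rk y z') =
  T.sl (Φ₂.rk z y) * b * T.sl (Φ₂.rk x z')

theorem Cm.syS (h₂ : Φ₂.IsO) {b : End F V} (hb : T.Cm b) : T.SyS Φ₂ b := fun x y z z' =>
  LinearMap.ext fun v => by simp [hb.app, Fm.rk, sl_rk_rk, h₂.symm x y]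

theorem syS_rk (h₂ : Φ₂.IsO) (s : W) (b : End F V) :
    T.SyS Φ₂ (T.sl (Φ₂.rk s s) * b * T.sl (Φ₂.rk s s)) := fun x y z z' =>
  LinearMap.ext fun v => by
    simp [Fm.rk, sl_rk_rk, h₂.symm s, smul_smul, mul_comm]

theorem cR_of_sand {s : W} {b : End F V} (h : T.sl (Φ₂.rk s s) * b * T.sl (Φ₂.rk s s) = 0) (u : U) :
    T.cR (Φ₂.B s) (b (T.tm u s)) = 0 := by
  by_cases s0 : s = 0
  · simp [s0]
  obtain ⟨f, hf⟩ := Φ₂.exists_B_ne s0
  exact T.left_inj s0 (by simpa [Fm.rk, sl_rk, hf] using LinearMap.congr_fun h (T.tm u f))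

theorem Sy_three (h₂ : Φ₂.IsO) {s y : W} (hs : Φ₂.Q s = 0) (hy : Φ₂.B s y = 0) {b c d : End F V}
    (hb : ∀ u, T.cR (Φ₂.B s) (b (T.tm u s)) = 0) (hc : ∀ u, T.cR (Φ₂.B s) (c (T.tm u s)) = 0)
    (hd : ∀ u, T.cR (Φ₂.B s) (d (T.tm u s)) = 0) (v : V) :
    Φ₂.Sy T.sl s y b (Φ₂.Sy T.sl s y c (Φ₂.Sy T.sl s y d v)) = 0 := by
  have p := Φ₂.B_self hs
  have k1 : T.cR (Φ₂.B s) (Φ₂.Sy T.sl s y d v) = 0 := by
    simp [h₂.Sy_eq, Fm.rt, Fm.rk, sl_rk, p, hy, hd]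
  generalize Φ₂.Sy T.sl s y d v = v at k1
  obtain ⟨u, hu⟩ : Φ₂.Sy T.sl s y c v ∈ T.sp s := by
    simp only [h₂.Sy_eq, Fm.rt, Fm.rk, sl_rk, k1, hc, LinearMap.sub_apply, End.mul_apply, map_sub,
      LinearMap.smul_apply, map_zero, LinearMap.zero_apply, smul_zero, sub_zero, zero_sub, map_neg]
    exact sub_mem (neg_mem (Submodule.smul_mem _ _ (T.tm_mem_sp _ _)))
      (Submodule.smul_mem _ _ (neg_mem (neg_mem (T.tm_mem_sp _ _))))
  rw [← hu]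
  simp [h₂.Sy_eq, Fm.rt, Fm.rk, sl_rk, p, Φ₂.perp_symm hy, hb]

theorem xl_eq_rk (C : End F U) (w : W) : T.xl C w (Φ₂.B w) = T.swap.sl C * T.sl (Φ₂.rk w w) :=
  LinearMap.ext fun v => by simp [xl_apply, Fm.rk, sl_rk]

end Tn

variable {ι : Type*} [DecidableEq ι] [Fintype ι]

theorem TP.cm_cjL_krR {T : ι → Tn F U W V} (hT : TP T) {m : ι} {b : End F V} (hb : (T m).Cm b)
    (l : ι) (τ : W ≃ₗ[F] W) : (T m).Cm (cjL ((T l).krR τ) b) := by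
  by_cases h : m = l
  · rwa [← h, hb.cjL_krR]
  · exact hb.cjL (hT.cm_krR h τ)

theorem OT.symm_of {T : ι → Tn F U W V} (h : OT T Φ₂ Φ) {b : End F V}
    (hb : ∀ l, (T l).SyS Φ₂ b) : ∀ v v', Φ.B (b v) v' = Φ.B v (b v') := by
  suffices k : ∀ (A : Finset ι) (b : End F V), (∀ l ∉ A, (T l).Cm b) → (∀ l, (T l).SyS Φ₂ b) →
      ∀ v v', Φ.B (b v) v' = Φ.B v (b v') from k Finset.univ b (by simp) hb
  intro A
  induction A using Finset.induction_on with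
  | empty =>
    intro b h1 _ v v'
    obtain ⟨c, hc⟩ := h.tp.scal b fun i => h1 i (by simp)
    simp [hc, h.o.σ]
  | insert j A hj ih =>
    intro b h1 h2
    obtain ⟨f, hf⟩ := h.tp.neW
    obtain ⟨s, hs⟩ := Φ₂.exists_B_ne hf
    have ad : ∀ x y v v', Φ.B ((T j).sl (Φ₂.rk x y) v) v' = Φ.B v ((T j).sl (Φ₂.rk y x) v') :=
      fun x y v v' => by rw [h.adj, h.o₂.adj_rk']
    refine (T j).induction (by simp) (fun u x => (T j).ext (g := Φ.B _ ∘ₗ b) fun u' y => ?_)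
      fun v v' h1 h2 z => by simp [h1, h2]
    have k := ih ((T j).co b (Φ₂.B y) x) (fun l hl => by
      by_cases e : l = j
      · exact e ▸ (T l).cm_co _ _ _
      · exact h.tp.cm_co e (h1 l (by simp [e, hl])) _ _) (fun l => by
      by_cases e : l = j
      · exact e ▸ ((T l).cm_co _ _ _).syS h.o₂
      · intro a c z z'
        have cm := h.tp.cm j l (Ne.symm e)
        rw [Tn.co_cm h.tp.neW (cm _) (cm _), Tn.co_cm h.tp.neW (cm _) (cm _), h2 l])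
      ((T j).sl (Φ₂.rk f f) ((T j).tm u s)) ((T j).tm u' s)
    rw [ad, ← ((T j).cm_co _ _ _).app, ← End.mul_apply, ← End.mul_apply, Fm.rk, Tn.co_mul] at k
    change Φ.B (((T j).sl (Φ₂.rk f y) * b * (T j).sl (Φ₂.rk x f)) _) _ =
      Φ.B _ (((T j).sl (Φ₂.rk f y) * b * (T j).sl (Φ₂.rk x f)) _) at k
    nth_rw 2 [h2 j] at k
    simp only [End.mul_apply, ad f y, ← ad x f] at k
    refine mul_left_cancel₀ (mul_ne_zero hs hs) ?_
    simpa [h.o.σ, mul_assoc] using k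

namespace TF

variable {T : Tn F U W V} {T' : ι → Tn F X W U} (hT : TF T Φ₁ Φ₂ Φ) (h : OT T' Φ₂ Φ₁) [Finite F]
  (hq : ¬ (Nat.card F = 3 ∧ finrank F W = 3)) (hW : Φ₂.Wide) (hI : M ≤ Φ.Iso)
  (hK : ∀ τ ∈ Φ₂.EG, T.krR τ ∈ M) (hL : ∀ j, ∀ τ ∈ Φ₂.EG, T.kr ((T' j).krR τ) 1 ∈ M)
include hT h hq hW hI hK hL

theorem exists_slot {w : W} (hw : Φ₂.Q w = 0) (hw0 : w ≠ 0) (A : Finset ι) {C : End F U}
    (hC : C ∈ T.cenW Φ₂ M hw) (C0 : C ≠ 0) (hA : ∀ l ∉ A, (T' l).Cm C) :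
    ∃ j ∈ A, ∀ x, ∀ c ∈ T.pureW Φ₂ M hw, (T' j).sl x * c ∈ T.pureW Φ₂ M hw := by
  by_contra hn
  have h₂ := h.o₂
  let G : Finset ι → Set (End F U) := fun S => {C | C ∈ T.cenW Φ₂ M hw ∧ (∀ l ∉ A, (T' l).Cm C) ∧
    ∀ l ∈ S, ∃ s b, C = (T' l).sl (Φ₂.rk s s) * b * (T' l).sl (Φ₂.rk s s)}
  have cj : ∀ j s, Φ₂.Q s = 0 → ∀ y, Φ₂.B s y = 0 → ∀ b ∈ T.cenW Φ₂ M hw,
      (T' j).sl (Φ₂.eE s y) * b * (T' j).sl (Φ₂.eE s (-y)) ∈ T.cenW Φ₂ M hw := fun j s hs y hy b hb =>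
    (T' j).cj_eE h₂ (h₂.valid hs hy) b ▸ Tn.cjL_mem_cenW (hL j _ (h₂.valid hs hy).eich_mem) hb
  obtain ⟨S, -, ⟨C, hC, C0⟩, hS⟩ := Finite.exists_le_maximal (p := fun S => ∃ C ∈ G S, C ≠ 0)
    (a := ∅) ⟨C, ⟨hC, hA, by simp⟩, C0⟩
  have k : ∀ j ∈ A, j ∉ S → (T' j).Cm C := fun j hj hjS => by
    have cA : ∀ x, ∀ l ∉ A, (T' l).Cm ((T' j).sl x) := fun x l hl =>
      h.tp.cm l j (fun e => hl (e ▸ hj)) x
    have h0 : ∀ b ∈ G S, ∀ s, Φ₂.Q s = 0 →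
        (T' j).sl (Φ₂.rk s s) * b * (T' j).sl (Φ₂.rk s s) = 0 := fun b hb s hs => by
      obtain ⟨κ, k0, k1⟩ := h₂.sand h.two h.three hq hs (cj j s hs)
      by_contra h1
      refine hjS (hS (y := insert j S) ⟨_, ⟨k1 b hb.1, fun l hl =>
        (((cA _ l hl).mul (hb.2.1 l hl)).mul (cA _ l hl)).smul κ, fun l hl => ?_⟩,
        smul_ne_zero k0 h1⟩ (Finset.subset_insert _ _) (by simp))
      rcases Finset.mem_insert.1 hl with rfl | hl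
      · exact ⟨s, κ • b, by simp⟩
      obtain ⟨t, c, rfl⟩ := hb.2.2 l hl
      exact ⟨t, κ • ((T' j).sl (Φ₂.rk s s) * c * (T' j).sl (Φ₂.rk s s)), LinearMap.ext fun v => by
        simp [(h.tp.cm l j (fun e => hjS (e ▸ hl)) _).app]⟩
    refine h.tp.cm_of_quad h₂ h.two h.three hq hW (G S) (fun l τ hτ b hb =>
      ⟨Tn.cjL_mem_cenW (hL l τ hτ) hb.1, fun m hm => h.tp.cm_cjL_krR (hb.2.1 m hm) l τ,
        fun m hm => ?_⟩) j h0 (fun s y f hs hy hf b hb b' hb' => by_contra fun h1 => hn ?_) hC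
    · obtain ⟨t, c, rfl⟩ := hb.2.2 m hm
      by_cases e : l = m
      · exact ⟨τ t, _, by rw [cjL_mul', cjL_mul', e, Tn.cjL_krR_sl,
          LinearMap.ext (Fm.cjL_rk (Φ₂.EG_le_Iso hτ) t t)]⟩
      · exact ⟨t, _, by rw [cjL_mul', cjL_mul', (h.tp.cm l m e _).cjL_krR]⟩
    let R : Submodule F (End F U) :=
      { carrier := {b | (∀ l ∉ A, (T' l).Cm b) ∧ ∀ c ∈ T.pureW Φ₂ M hw, b * c ∈ T.pureW Φ₂ M hw}
        zero_mem' := ⟨fun _ _ _ _ => by simp, fun c _ => by simp⟩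
        add_mem' := fun ha hb => ⟨fun l hl => (ha.1 l hl).add (hb.1 l hl), fun c hc => by
          rw [add_mul]; exact add_mem (ha.2 c hc) (hb.2 c hc)⟩
        smul_mem' := fun a b hb => ⟨fun l hl => (hb.1 l hl).smul a, fun c hc => by
          rw [smul_mul_assoc]; exact Submodule.smul_mem _ a (hb.2 c hc)⟩ }
    obtain ⟨w', hw', e1⟩ := Fm.exists_partner' hw hw0
    obtain ⟨τ, hτ, a, a0, ea⟩ := Fm.Rk.move_pt (Ψ := Φ₂) (Or.inl h.three) hw hw'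
      hw0 fun h => by simp [h] at e1
    have hτI := Φ₂.EG_le_Iso hτ
    have c1 := fun u => Tn.cR_of_sand (h0 b hb s hs) u
    have c2 := fun u => Tn.cR_of_sand (h0 b' hb' s hs) u
    have cS : ∀ b ∈ G S, ∀ l ∉ A, (T' l).Cm (Φ₂.Sy (T' j).sl s y b) := fun b hb l hl x v => by
      simp [Fm.Sy, (cA _ l hl).app, (hb.2.1 l hl).app]
    have r1 : Φ₂.Sy (T' j).sl s y b * Φ₂.Sy (T' j).sl s y b' ∈ R := by
      refine (R.smul_mem_iff (mul_ne_zero a0 a0)).1 ⟨fun l hl =>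
        ((cS b hb l hl).mul (cS b' hb' l hl)).smul _, fun c hc z hz => ?_⟩
      convert (hc z hz).levi hw ((hτI.2 w).trans hw) (Fm.Sy_mem (cj j s hs) hy hb.1)
        (HasU.conj' (Fm.Sy_mem (cj j s hs) hy hb'.1) (hK τ hτ) fun v => by
          rw [Tn.xl_apply, Tn.xl_apply, hT.cR_krR_iso hτI, Tn.krR_tm])
        (Tn.Sy_three h₂ hs hy c1 c2 c1) (Tn.Sy_three h₂ hs hy c2 c1 c2) using 1
      rw [ea, h₂.symm w, map_smul, e1, smul_eq_mul, mul_one]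
      rfl
    obtain ⟨-, ⟨c, hc⟩ | ⟨l, hl, k⟩⟩ := h.tp.algO h₂ h.two h.three hq hW A R (fun b hb => hb.1)
      (fun b hb c hc => ⟨fun l hl => (hb.1 l hl).mul (hc.1 l hl), fun d hd => by
        rw [mul_assoc]; exact hb.2 _ (hc.2 d hd)⟩) (fun l τ hτ b hb =>
        ⟨fun m hm => h.tp.cm_cjL_krR (hb.1 m hm) l τ, fun c hc z hz => by
          convert (hb.2 _ (fun y hy => (hc y hy).cjL hw (hL l _ (inv_mem hτ))) z hz).cjL hw
            (hL l τ hτ) using 2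
          exact LinearMap.ext fun v => by simp [cjL_apply]⟩) _ r1 fun e => h1 (by simp [e])
    · exact (h1 (LinearMap.ext fun v => by
        rw [End.mul_apply, End.mul_apply, hc]
        simp [Fm.rk, Tn.sl_rk, Φ₂.B_self hf])).elim
    · exact ⟨l, hl, fun x => (k x).2⟩
  have s1 := h.symm_of (b := C) fun l => by
    by_cases hl : l ∈ S
    · obtain ⟨s, b, e⟩ := hC.2.2 l hl
      exact e ▸ Tn.syS_rk h₂ s b
    · exact Tn.Cm.syS h₂ (by_cases (fun hA => k l hA hl) (hC.2.1 l))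
  exact C0 (LinearMap.ext fun u => Φ₁.nondeg _ fun y => mul_left_cancel₀ h.two (by
    linear_combination s1 u y + hT.skew_of_hasU h₂ hI hw hw0 hC.1 u y))

end TF

theorem Tn.kr_krR {T T₂ : Tn F U W V} {T' : Tn F X W U} (e : ∀ x, T.swap.sl (T'.sl x) = T₂.sl x)
    (τ : W ≃ₗ[F] W) : T.kr (T'.krR τ) 1 = T₂.krR τ :=
  T.ext' fun u w => by simp [Tn.krR_eq_sl, ← e]

namespace OT

variable {T : ι → Tn F U W V} (h : OT T Φ₂ Φ) [Nontrivial ι] [Finite F]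
include h

theorem three_le : 3 ≤ finrank F U := by
  obtain ⟨j, i, h0⟩ := exists_pair_ne ι
  obtain ⟨Φ₁, h₁, hF⟩ := (T i).exists_TF h.o₂ h.o h.two h.tp.neU h.tp.neW (h.adj i)
  obtain ⟨T', h', -⟩ := h.exists_down h0 h₁ hF
  have := (finrank_pos_iff_exists_ne_zero (R := F)).2 h'.tp.neU
  have := h.three
  rw [(T' ⟨j, h0⟩).finrank_eq]; nlinarith

theorem three_le' (i : ι) : 3 ≤ finrank F V := by
  have := h.three_le
  have := h.three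
  rw [(T i).finrank_eq]; nlinarith

variable (hH : h.tp.WR ⊓ Φ.EG ≤ M)
include hH

theorem krR_mem (i : ι) {τ : W ≃ₗ[F] W} (hτ : τ ∈ Φ₂.EG) : (T i).krR τ ∈ M :=
  let ⟨_, _, hF⟩ := (T i).exists_TF h.o₂ h.o h.two h.tp.neU h.tp.neW (h.adj i)
  hH ⟨h.tp.krR_mem i τ, hF.krR_EG hτ⟩

theorem exists_cyc (i j l : ι) : ∃ p ∈ M, ∀ m x v, p ((T m).sl x v) = (T ((Equiv.swap i j *
    Equiv.swap j l * (Equiv.swap i j * Equiv.swap j l)) m)).sl x (p v) := by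
  obtain ⟨p, hp, e⟩ := h.sw i j
  obtain ⟨p', hp', e'⟩ := h.sw j l
  have k : ∀ m x v, (p * p' * (p * p')) ((T m).sl x v) = (T ((Equiv.swap i j *
      Equiv.swap j l * (Equiv.swap i j * Equiv.swap j l)) m)).sl x ((p * p' * (p * p')) v) :=
    fun m x v => by simp only [mul_app, e, e', Equiv.Perm.mul_apply]
  exact ⟨_, hH ⟨fun m => ⟨_, fun x => ⟨x, k m x⟩⟩, (h.o.mul_mem_EG_iff h.two (h.three_le' i)
    (mul_mem hp hp') (mul_mem hp hp')).2 rfl⟩, k⟩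

variable (hq : ¬ (Nat.card F = 3 ∧ finrank F W = 3)) (hW : Φ₂.Wide) (hG : M ≤ Φ.EG) (hn : ¬ Φ.EG ≤ M)
include hq hW hG hn

theorem eq_zero_of_hasU {i : ι} {w : W} (hw : Φ₂.Q w = 0) (hw0 : w ≠ 0) {b : End F V}
    (hb : (T i).Cm b) (h1 : HasU M (b * (T i).sl (Φ₂.rk w w))) : b = 0 := by
  by_contra b0
  have h₂ := h.o₂
  have hI := hG.trans Φ.EG_le_Iso
  obtain ⟨j₀, h0⟩ := exists_ne i
  obtain ⟨Φ₁, h₁, hF⟩ := (T i).exists_TF h₂ h.o h.two h.tp.neU h.tp.neW (h.adj i)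
  obtain ⟨T', h', e⟩ := h.exists_down h0 h₁ hF
  have hK := fun τ => h.krR_mem hH i (τ := τ)
  have key : ∀ (A : Finset {j // j ≠ i}) b, b ≠ 0 → (T i).Cm b → (∀ l ∉ A, (T l).Cm b) →
      HasU M (b * (T i).sl (Φ₂.rk w w)) → ∃ j ∈ A, ∀ x, ∀ c ∈ (T i).pureW Φ₂ M hw,
        (T' j).sl x * c ∈ (T i).pureW Φ₂ M hw := fun A b b0 hb hA h1 => by
    obtain ⟨C, rfl⟩ := hb.exists_swap h.tp.neW
    exact hF.exists_slot h' hq hW hI hK (fun j τ hτ => Tn.kr_krR (e j) τ ▸ h.krR_mem hH j hτ) hw hw0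
      A (show HasU M _ by rwa [Tn.xl_eq_rk]) (fun e => b0 (by simp [e])) fun l hl x u => (T i).left_inj hw0 (by
        simpa [← e] using hA l hl x ((T i).tm u w))
  obtain ⟨j, -, k⟩ := key Finset.univ b b0 hb (by simp) h1
  have one := hF.one_mem_pureW h₂ hK hw
  obtain ⟨f, z, hf, e1, z0, z1, z2⟩ := h₂.exists_triple h.two h.three hw hw0
  obtain ⟨τ, hτ, a, a0, ea⟩ := Fm.Rk.move_pt (Ψ := Φ₂) (Or.inl h.three) hw hf
    hw0 fun h => by simp [h] at e1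
  let δ := (2 * Φ₂.Q z) • Φ₂.rt w z
  have p := Φ₂.B_self hw
  have e2 : Φ₂.B f w = 1 := (h₂.symm f w).symm ▸ e1
  have n1 : HasU M ((T j).sl δ * (T i).sl (Φ₂.rk w w)) := by
    have := hF.gen_comm' h₂ hI hw z1 (one z z1) (k (Φ₂.rk z w) 1 one z z1)
    have h5 : ((1 : End F U) ∘ₗ (T i).cR (Φ₂.B z)) ∘ₗ (T i).tm.flip z = (2 * Φ₂.Q z) • LinearMap.id :=
      LinearMap.ext fun u => by simp [h₂.B_self]
    have h6 : Φ₁.adj ((T' j).sl (Φ₂.rk z w)) = (T' j).sl (Φ₂.rk w z) := LinearMap.ext fun u =>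
      Fm.adj_eq fun y => by rw [h'.adj, h₂.adj_rk']
    rw [h5, mul_one, h6, Φ₁.adj_smul, Φ₁.adj_id, h₁.σ] at this
    rw [← e, ← Tn.xl_eq_rk]
    exact HasU.congr this fun v => by simp [δ, Fm.rt, smul_sub, Tn.xl_apply]
  have mm : ∀ a b a' b' v, ((T j).sl a * (T i).sl b) (((T j).sl a' * (T i).sl b') v) =
      ((T j).sl (a * a') * (T i).sl (b * b')) v := fun a b a' b' v => by
    simp [(h.tp.cm i j j.2.symm _).app]
  have d2 : δ * δ = (-(2 * Φ₂.Q z) ^ 3) • Φ₂.rk w w := LinearMap.ext fun x => by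
    simp [δ, p, z1, Φ₂.perp_symm z1, h₂.B_self]
    module
  have d3 : δ * (δ * δ) = 0 := LinearMap.ext fun x => by simp [d2, δ, p, Φ₂.perp_symm z1]
  have r2 : ∀ s, Φ₂.Q s = 0 → Φ₂.rk s s * Φ₂.rk s s = 0 := fun s hs => LinearMap.ext fun x => by
    simp [Φ₂.B_self hs]
  have n2 : HasU M ((T i).sl ((-(2 * Φ₂.Q z) ^ 3 * (a * a)) • Φ₂.rt f w) * (T j).sl (Φ₂.rk w w)) :=
    (n1.comm (B := (T j).sl δ * (T i).sl (Φ₂.rk (τ w) (τ w))) (n1.conj' (hK τ hτ) fun v => by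
      rw [← cjL_app, cjL_mul', (h.tp.cm i j j.2.symm _).cjL_krR, Tn.cjL_krR_sl,
        LinearMap.ext (Fm.cjL_rk (Φ₂.EG_le_Iso hτ) w w)]) (fun v => by rw [mm, r2 w hw]; simp)
      (fun v => by rw [mm, r2 _ ((Φ₂.EG_le_Iso hτ).2 w ▸ hw)]; simp) (fun v => by simp only [mm, d3]; simp)
      fun v => by simp only [mm, d3]; simp).congr fun v => by
        simp only [LinearMap.sub_apply, LinearMap.comp_apply, mm, d2]
        rw [End.mul_apply, End.mul_apply, End.mul_apply, (h.tp.cm j i j.2 _).app, ← map_sub,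
          ← LinearMap.sub_apply, ← map_sub, show Φ₂.rk w w * Φ₂.rk (τ w) (τ w) - Φ₂.rk (τ w) (τ w) *
            Φ₂.rk w w = (a * a) • Φ₂.rt f w from LinearMap.ext fun x => by
              simp [ea, e1, e2, h₂.σ]; module]
        simp [smul_smul, mul_comm]
  refine hn (hF.EG_le_of_pure h₂ hK h₁ h.o h.two h.three_le h.three hI hw hw0 fun b => ?_)
  let R : Submodule F (End F U) :=
    { carrier := {b | ∀ c ∈ (T i).pureW Φ₂ M hw, b * c ∈ (T i).pureW Φ₂ M hw}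
      zero_mem' := fun c _ => by simp
      add_mem' := fun ha hb c hc => by rw [add_mul]; exact add_mem (ha c hc) (hb c hc)
      smul_mem' := fun a b hb c hc => by
        rw [smul_mul_assoc]; exact Submodule.smul_mem _ a (hb c hc) }
  refine mul_one b ▸ h'.tp.full R (fun c hc => by rwa [one_mul]) (fun b hb c hc d hd => by
    rw [mul_assoc]; exact hb _ (hc d hd)) Finset.univ (fun l _ => ?_) b (by simp) 1 one
  by_cases hl : l = j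
  · exact hl ▸ k
  obtain ⟨g, hg, eg⟩ := h.exists_cyc hH i j l
  have hl' : l.1 ≠ j := fun e => hl (Subtype.ext e)
  obtain ⟨m, hm, k⟩ := key {l} ((T l).sl ((-(2 * Φ₂.Q z) ^ 3 * (a * a)) • Φ₂.rt f w))
    (fun e => hw0 (by
      have := LinearMap.congr_fun ((T l).sl_inj h.tp.neU (y := 0) fun v => by rw [e, map_zero]) w
      simpa [h.two, z0, a0, p, e2] using this))
    (h.tp.cm i l l.2.symm _) (fun m hm => h.tp.cm m l (fun e => hm (by simp [Subtype.ext e])) _)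
    (n2.conj' hg fun v => by
      simp [eg, Equiv.swap_apply_def, l.2, j.2.symm, l.2.symm, hl'])
  exact Finset.mem_singleton.1 hm ▸ k

/-- The local analysis. -/
theorem loc {i : ι} {Φ₁ : Fm F U} (h₁ : Φ₁.IsO) (hF : TF (T i) Φ₁ Φ₂ Φ) (hp : 5 ≤ finrank F W ∨
    (∀ s v, ¬ Φ₂.Pair s v) ∧ (finrank F W = 3 ∨ ∀ y, (T i).krR (h.o₂.r y) ∈ M)) {w : W}
    (hw : Φ₂.Q w = 0) (hw0 : w ≠ 0) : TF.Loc (T i) Φ₂ M w := by
  have h₂ := h.o₂
  have hI := hG.trans Φ.EG_le_Iso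
  obtain ⟨j₀, h0⟩ := exists_ne i
  obtain ⟨T', h', e⟩ := h.exists_down h0 h₁ hF
  have hK := fun τ => h.krR_mem hH i (τ := τ)
  have z0 : ∀ C ∈ (T i).cenW Φ₂ M hw, C = 0 := fun C hC => (T i).swap_sl_inj h.tp.neW
    ((h.eq_zero_of_hasU hH hq hW hG hn hw hw0 (Tn.cm_swap C) (by rwa [← Tn.xl_eq_rk])).trans
      (map_zero _).symm)
  have sc : ∀ y, ∀ τ ∈ Φ₂.EG, Φ₂.B w y = 0 → τ w = w → Φ₂.B y (τ y) ≠ 0 → ∀ b : End F U,
      (T i).Gen Φ₂ M w (b ∘ₗ (T i).cR (Φ₂.B y)) → ∃ c : F, ∀ u, b u = c • u :=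
    fun y τ hτ hy e1 e2 b hb => by
      have hτI := Φ₂.EG_le_Iso hτ
      have y1 : Φ₂.B w (τ y) = 0 := by rw [← e1, hτI.1, hy]
      have k : ∀ b : End F U, (b ∘ₗ (T i).cR (Φ₂.B y)) ∘ₗ (T i).tm.flip (τ y) = Φ₂.B y (τ y) • b :=
        fun b => LinearMap.ext fun u => by simp
      have ad : ∀ b : End F U, (T i).Gen Φ₂ M w (b ∘ₗ (T i).cR (Φ₂.B y)) → Φ₁.adj b = b :=
        fun b hb => by
          have := z0 _ (hF.gen_comm' h₂ hI hw y1 hb (hF.one_mem_pureW h₂ hK hw _ y1))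
          rw [k, show (1 : End F U) = LinearMap.id from rfl, Φ₁.adj_id, Φ₁.adj_smul, h₁.σ] at this
          exact smul_right_injective _ e2 (sub_eq_zero.1 this)
      refine h'.tp.smul_of_commO h₂ h.two h.three hq hW
        {b | (T i).Gen Φ₂ M w (b ∘ₗ (T i).cR (Φ₂.B y))}
        (fun l κ hκ b hb => hb.cjL hw (Tn.kr_krR (e l) κ ▸ h.krR_mem hH l hκ)) (fun b hb c hc => ?_) hb
      have := z0 _ (hF.gen_comm' h₂ hI hw y1 hc (c := b) (by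
        convert Tn.Gen.conj hb (a := 1) hτI (hK τ hτ) using 1
        · exact e1.symm
        ext v
        obtain ⟨v, rfl⟩ := ((T i).krR τ).surjective v
        change b _ = b ((T i).cR _ (((T i).krR τ)⁻¹ ((T i).krR τ v)))
        rw [hF.cR_krR_iso hτI, inv_app_app]))
      rw [k, Φ₁.adj_smul, h₁.σ, ad b hb, ad c hc, LinearMap.comp_smul, LinearMap.smul_comp] at this
      exact smul_right_injective _ e2 (sub_eq_zero.1 this)
  refine ⟨fun A hA y hy => ?_, fun C hC => ⟨0, by simp [z0 C hC]⟩⟩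
  have fin : ∀ y, ∀ τ ∈ Φ₂.EG, Φ₂.B w y = 0 → τ w = w → Φ₂.B y (τ y) ≠ 0 → ∀ κ : F, κ ≠ 0 →
      (T i).Gen Φ₂ M w ((κ • A ∘ₗ (T i).tm.flip y) ∘ₗ (T i).cR (Φ₂.B y)) →
      ∃ c : F, ∀ u, A ((T i).tm u y) = c • u := fun y τ hτ hy e1 e2 κ k0 hb =>
    let ⟨c, hc⟩ := sc y τ hτ hy e1 e2 _ hb
    ⟨κ⁻¹ * c, fun u => by rw [mul_smul, eq_inv_smul_iff₀ k0]; exact hc u⟩
  rcases hp with h5 | ⟨hp, h3⟩
  · let S : AddSubgroup W :=
      { carrier := {y | ∃ c : F, ∀ u, A ((T i).tm u y) = c • u}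
        zero_mem' := ⟨0, by simp⟩
        add_mem' := fun ⟨c, hc⟩ ⟨d, hd⟩ => ⟨c + d, fun u => by simp [hc, hd, add_smul]⟩
        neg_mem' := fun ⟨c, hc⟩ => ⟨-c, fun u => by simp [hc]⟩ }
    refine Fm.mem_of_pair (by rw [h₂.d]; omega) hw hw0 S (fun s hp => ?_) hy
    obtain ⟨τ, hτ, e1, e2⟩ := hp.exists_move (Or.inr h5)
    obtain ⟨f, hf, f1, f2⟩ := hp.exists_partner
    obtain ⟨y, c, c0, hc, y1, y2, -⟩ := hp.exists_valid (Or.inr h5) hf f1 f2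
    have hv : Φ₂.Valid s y c := ⟨hp.q₂, y2, hc⟩
    have key := fun {A : V →ₗ[F] U} (hA : (T i).Gen Φ₂ M w A) => hA.diff hw (hv.mem_Iso hv.eich_apply)
      (hK _ hv.eich_mem) (Fm.ef_apply_of_perp (Φ₂.perp_symm hp.perp) (Φ₂.perp_symm y1))
    exact fin s τ hτ hp.perp e1 e2 (-(2 * c)) (by simp [h.two, c0]) ((key (key hA)).congr hw fun v _ => by
      simp [TF.krR_ef hv.eich_apply, y2, Φ₂.perp_symm y2, Φ₂.B_self hp.q₂, h₂.B_self, ← hc, h₂.π,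
        h₂.ε])
  by_cases y0 : Φ₂.Q y = 0
  · obtain ⟨c, rfl⟩ := (Fm.pair_or_eq_smul hw hw0 y0 hy).resolve_left (hp _ _)
    exact ⟨0, by simp [hA.1]⟩
  have y2 : Φ₂.B y y ≠ 0 := by rw [h₂.B_self]; exact mul_ne_zero h.two y0
  rcases h3 with h3 | hr
  · refine fin y 1 (one_mem _) hy rfl y2 _ (inv_ne_zero y2) (hA.congr hw fun v =>
      hF.eq_on_perp fun u z hz => ?_)
    obtain ⟨a, c, rfl⟩ := Fm.exists_dec h3.le hw0 (Φ₂.B_self hw) hy hz (by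
      rintro c rfl
      simp [h₂.Q_smul, hw] at y0)
    simp [hA.1, Φ₂.perp_symm hy, y2, smul_smul, mul_comm a]
  · exact fin y 1 (one_mem _) hy rfl y2 _ (neg_ne_zero.2 (inv_ne_zero y0))
      ((hA.diff hw (h₂.r_mem_Iso y) (hr y) (h₂.r_of_perp (Φ₂.perp_symm hy))).congr hw fun v _ =>
        (T i).ext (f := ((-(Φ₂.Q y)⁻¹) • A ∘ₗ (T i).tm.flip y) ∘ₗ (T i).cR (Φ₂.B y))
          (fun u x => by simp [h₂.r_apply, smul_smul]) v)

end OT

end Cfsg.Agent.Class.Max
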