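import Mathlib
import Cfsg.Agent.Class.Max.C7O7

/-!
Tensor decompositions with an orthogonal factor: the stabiliser of `U ⊗ w`.
-/

set_option autoImplicit false
set_option linter.unusedSectionVars false

namespace Cfsg.Agent.Class.Max

open Module

variable {F U W V : Type*} [Field F] [AddCommGroup U] [Module F U] [AddCommGroup W]
  [Module F W] [AddCommGroup V] [Module F V]
  [FiniteDimensional F U] [FiniteDimensional F W] [FiniteDimensional F V]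

namespace Fm

variable (Φ : Fm F W)

/-- The stabiliser of `w` has no trivial twisted quotient on `w^⊥ / w`. -/
def Irw (w : W) : Prop := ∀ S : Submodule F W, w ∈ S →
  (∀ κ ∈ Φ.EG, ∀ c : F, κ w = c • w → ∀ y, Φ.B w y = 0 → κ y - c • y ∈ S) →
    ∀ y, Φ.B w y = 0 → y ∈ S

variable {Φ} (hO : Φ.IsO) (h2 : (2 : F) ≠ 0) {w : W} (hw : Φ.Q w = 0) (hw0 : w ≠ 0)
include hO h2 hw hw0

theorem IsO.irw_five (h5 : 5 ≤ finrank F W) : Φ.Irw w := fun S _ k y hy => by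
  refine Fm.mem_of_pair (by rw [hO.d]; omega) hw hw0 S.toAddSubgroup (fun s hp => ?_) hy
  obtain ⟨f, hf, f1, f2⟩ := hp.exists_partner
  obtain ⟨z, c, c0, hc, y1, y2, y3⟩ := hp.exists_valid (Or.inr h5) hf f1 f2
  rw [hO.π] at hc
  have key : ∀ z, Φ.B w z = 0 → Φ.B s z = 0 → Φ.B f z = 0 → z - Φ.Q z • s ∈ S := fun z a b c => by
    have hv := hO.valid hp.q₂ b
    convert k _ hv.eich_mem 1 (by
      simp [hv.eich_apply, hO.ef, Φ.perp_symm hp.perp, Φ.perp_symm a]) f f2 using 1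
    simp [hv.eich_apply, hO.ef, f1, Φ.perp_symm c]
    abel
  refine (S.smul_mem_iff (neg_ne_zero.2 (mul_ne_zero h2 c0))).1 ?_
  convert S.add_mem (key z y1 y2 y3) (key (-z) (by simp [y1]) (by simp [y2]) (by simp [y3])) using 1
  rw [Φ.Q_neg, ← hc]
  module

theorem IsO.exists_torus [Finite F] (h3 : 3 ≤ finrank F W) {f : W} (hf : Φ.Q f = 0)
    (e : Φ.B w f = 1) {a : F} (a0 : a ≠ 0) :
    ∃ κ ∈ Φ.EG, κ w = (a * a) • w ∧ ∀ y, Φ.B w y = 0 → Φ.B f y = 0 → κ y = y := by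
  have q : ∀ a : F, Φ.Q (w + a • f) = a := fun a => by simp [hO.Q_add, hw, hO.Q_smul, hf, e]
  have e' : Φ.B f w = 1 := by rw [hO.symm, e]
  refine ⟨_, hO.rr_mem h2 h3 (a := w + (1 : F) • f) (b := w + (a * a) • f)
    (by rw [q]; exact one_ne_zero) (by simp [q, a0]) ⟨a, by simp only [q, one_mul]⟩, ?_, fun y h1 h4 => ?_⟩
  · simp only [mul_app, hO.r_apply, q, Φ.bsimp, hO.σ, e, e', Φ.B_self hw, Φ.B_self hf]
    match_scalars <;> field_simp <;> ring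
  · rw [mul_app, hO.r_of_perp (x := y) (by simp [h1, h4]), hO.r_of_perp (by simp [h1, h4])]

omit hO hw hw0 in
theorem exists_sq_ne_one [Finite F] (hq : Nat.card F ≠ 3) : ∃ a : F, a ≠ 0 ∧ a * a ≠ 1 := by
  classical
  by_contra hc
  push Not at hc
  have := Fintype.ofFinite F
  refine hq (le_antisymm ?_ ?_)
  · rw [Nat.card_eq_fintype_card, ← Finset.card_univ]
    refine (Finset.card_le_card (t := {0, 1, -1}) fun a _ => ?_).trans Finset.card_le_three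
    by_cases a0 : a = 0
    · simp [a0]
    · simpa [a0] using mul_self_eq_one_iff.1 (hc a a0)
  · rw [Nat.card_eq_fintype_card, ← Finset.card_univ]
    refine (Finset.card_eq_three.2 ⟨0, 1, -1, by simp, by simp, fun e => h2 (by
      linear_combination e), rfl⟩).ge.trans (Finset.card_le_univ _)

theorem IsO.irw_torus [Finite F] (h3 : 3 ≤ finrank F W) (hq : Nat.card F ≠ 3) : Φ.Irw w :=
  fun S wS k y hy => by
    obtain ⟨f, hf, e⟩ := Fm.exists_partner' hw hw0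
    obtain ⟨a, a0, a1⟩ := exists_sq_ne_one h2 hq
    obtain ⟨κ, hκ, e1, e2⟩ := hO.exists_torus h2 hw hw0 h3 hf e a0
    have h1 : Φ.B w (y - Φ.B f y • w) = 0 := by simp [hy, Φ.B_self hw]
    have := k κ hκ _ e1 _ h1
    rw [e2 _ h1 (by simp [hO.symm w f, e]), show y - Φ.B f y • w - (a * a) • (y - Φ.B f y • w) =
      (1 - a * a) • (y - Φ.B f y • w) by module, S.smul_mem_iff (sub_ne_zero.2 a1.symm)] at this
    exact (S.sub_mem_iff_left (S.smul_mem _ wS)).1 this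

end Fm

namespace TF

variable {T : Tn F U W V} {Φ₁ : Fm F U} {Φ₂ : Fm F W} {Φ : Fm F V} {M : Subgroup (V ≃ₗ[F] V)}
  (hT : TF T Φ₁ Φ₂ Φ) {w : W} (hw : Φ₂.Q w = 0) (hw0 : w ≠ 0) (hL : Loc T Φ₂ M w)
include hT hw hw0 hL

/-- The Levi decomposition of an element of the stabiliser of `U ⊗ w`. -/
theorem exists_dec_stab (h3 : 3 ≤ finrank F W) {g : V ≃ₗ[F] V} (hI : g ∈ Φ.Iso)
    (hg : ∀ τ ∈ Φ₂.EG, g⁻¹ * T.krR τ * g ∈ M) (hE : ∀ u, g (T.tm u w) ∈ T.sp w) :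
    ∃ a d, T.kr a d ∈ Φ.Iso ∧ d w = w ∧ (∀ u, (g⁻¹ * T.kr a d) (T.tm u w) = T.tm u w) ∧
      (∀ v, T.cR (Φ₂.B w) v = 0 → (g⁻¹ * T.kr a d) v - v ∈ T.sp w) ∧
      ∀ κ ∈ Φ₂.EG, g⁻¹ * T.kr a d * T.krR κ * (g⁻¹ * T.kr a d)⁻¹ ∈ M := by
  obtain ⟨a, ea⟩ := T.exists_left (h := g) hw0 (by rintro _ ⟨u, rfl⟩; exact hE u)
  have ea' : ∀ u, g⁻¹ (T.tm u w) = T.tm (a⁻¹ u) w := fun u => g.injective (by simp [ea])
  have p1 : ∀ v, T.cR (Φ₂.B w) v = 0 → T.cR (Φ₂.B w) (g v) = 0 := fun v hv =>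
    hT.cR_eq_zero fun u => by rw [← Fm.Iso.B_inv_left hI, ea', hT.B_tm, hv, map_zero]
  have p2 : ∀ y, Φ₂.B w y = 0 → ∃ y', ∀ v, T.cR (Φ₂.B w) v = 0 →
      T.cR (Φ₂.B y) (g v) = a (T.cR (Φ₂.B y') v) := fun y hy => by
    obtain ⟨τ, hτ, e0, eτ⟩ := WK.gen_cR (T := T) hw hy
    have e1 : ∀ v, T.cR (Φ₂.B w) v = 0 →
        (g⁻¹ * T.krR τ * g) v = v + T.tm (a⁻¹ (T.cR (Φ₂.B y) (g v))) w := fun v hv => by
      rw [mul_app, mul_app, eτ _ (p1 v hv), map_add, inv_app_app, ea']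
    obtain ⟨y', -, e⟩ := hL.exists_cR hT (A := (a⁻¹ : U ≃ₗ[F] U).toLinearMap ∘ₗ T.cR (Φ₂.B y) ∘ₗ
      g.toLinearMap) ⟨fun u => by simp [ea, Φ₂.perp_symm hy], _, hg τ hτ, e1⟩
    exact ⟨y', fun v hv => by rw [← e v hv]; simp⟩
  obtain ⟨u₀, u₁, hu⟩ := hT.exists_B_one
  obtain ⟨α, hα⟩ := exists_dual_eq_one (F := F) (show a u₀ ≠ 0 from fun e => by
    simp [a.map_eq_zero_iff.1 e] at hu)
  let d : W →ₗ[F] W := T.cL α ∘ₗ g.toLinearMap ∘ₗ T.tm u₀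
  have d1 : d w = w := by simp [d, ea, hα]
  have d2 : ∀ z, Φ₂.B w z = 0 → Φ₂.B w (d z) = 0 := fun z hz => by
    change Φ₂.B w (T.cL α (g (T.tm u₀ z))) = 0
    rw [T.cL_cR, p1 _ (by simp [hz]), map_zero]
  have d3 : ∀ u z, Φ₂.B w z = 0 → g (T.tm u z) - T.tm (a u) (d z) ∈ T.sp w := fun u z hz =>
    hT.mem_sp_of fun y hy => by
      obtain ⟨y', e⟩ := p2 y hy
      have : Φ₂.B y (d z) = Φ₂.B y' z := by
        change Φ₂.B y (T.cL α (g (T.tm u₀ z))) = _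
        rw [T.cL_cR, e _ (by simp [hz])]
        simp [hα]
      rw [map_sub, e _ (by simp [hz])]
      simp [this]
  have d4 : ∀ u u' z z', Φ₂.B w z = 0 → Φ₂.B w z' = 0 →
      Φ₁.B (a u) (a u') * Φ₂.B (d z) (d z') = Φ₁.B u u' * Φ₂.B z z' := fun u u' z z' hz hz' => by
    obtain ⟨x, hx⟩ := d3 u z hz
    obtain ⟨x', hx'⟩ := d3 u' z' hz'
    rw [← hT.B u, ← hI.1, eq_add_of_sub_eq hx.symm, eq_add_of_sub_eq hx'.symm]
    simp [hT.B, Φ₂.B_self hw, d2 z' hz', Φ₂.perp_symm (d2 z hz)]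
  obtain ⟨w', hw', e1⟩ := Fm.exists_partner' hw hw0
  have e2 := Fm.B_eq_eps e1
  obtain ⟨z₀, z₁, q1, -, q2, -, q3⟩ := Fm.exists_perp_pair_B h3 hw hw' (by simp [e1]) 1
  set m := Φ₁.B (a u₀) (a u₁) with hm
  have m1 : m * Φ₂.B (d z₀) (d z₁) = 1 := by rw [d4 _ _ _ _ q1 q2, hu, q3, mul_one]
  have m0 : m ≠ 0 := left_ne_zero_of_mul_eq_one m1
  have m2 : ∀ u u', Φ₁.B (a u) (a u') = m * Φ₁.B u u' := fun u u' => by
    have := d4 u u' _ _ q1 q2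
    rw [q3] at this
    linear_combination m * this - Φ₁.B (a u) (a u') * m1
  have m3 : Φ₂.σ m = m := by
    have := m2 u₁ u₀
    rw [Φ₁.symm, ← hm, Fm.B_eq_eps hu, mul_comm m, ← hT.σ₁₂] at this
    exact mul_left_cancel₀ Φ₁.eps_ne this
  let p : W →ₗ[F] W := LinearMap.id - (Φ₂.B w).smulRight w' - (Φ₂.ε • Φ₂.B w').smulRight w
  have ep : ∀ x, p x = x - Φ₂.B w x • w' - (Φ₂.ε * Φ₂.B w' x) • w := fun _ => rfl
  have p3 : ∀ x, Φ₂.B w (p x) = 0 ∧ Φ₂.B w' (p x) = 0 := Fm.sub_mem_ker_hyp hw hw' e1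
  have p4 : ∀ x y, Φ₂.B (p x) (p y) = Φ₂.B x y - Φ₂.B x w * Φ₂.ε * Φ₂.B w' y -
      Φ₂.B x w' * Φ₂.B w y := fun x y => by
    rw [ep x]
    simp only [Φ₂.bsimp, (p3 y).1, (p3 y).2]
    simp only [Φ₂.bsimp, ep y]
    ring
  let d' : W →ₗ[F] W := p ∘ₗ d ∘ₗ p + (Φ₂.ε • Φ₂.B w').smulRight w + (m⁻¹ • Φ₂.B w).smulRight w'
  have ed : ∀ x, d' x = p (d (p x)) + (Φ₂.ε * Φ₂.B w' x) • w + (m⁻¹ * Φ₂.B w x) • w' :=
    fun _ => rfl
  have d5 : ∀ x y, m * Φ₂.B (d' x) (d' y) = Φ₂.B x y := fun x y => by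
    have f1 := d4 u₀ u₁ _ _ (p3 x).1 (p3 y).1
    have f2 := p4 (d (p x)) (d (p y))
    rw [d2 _ (p3 y).1, Φ₂.perp_symm (d2 _ (p3 x).1)] at f2
    rw [← hm, hu, p4, Φ₂.symm w x, Φ₂.symm w' x] at f1
    simp only [ed, Φ₂.bsimp, (p3 _).1, (p3 _).2, Φ₂.perp_symm (p3 _).1, Φ₂.perp_symm (p3 _).2, f2,
      e1, e2, Φ₂.B_self hw, Φ₂.B_self hw', m3]
    field_simp
    linear_combination m * f1
  let d'' := LinearEquiv.ofInjectiveEndo d' ((injective_iff_map_eq_zero d').2 fun x hx =>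
    Φ₂.nondeg x fun y => by rw [← d5, hx]; simp)
  have ed' : ∀ x, d'' x = d' x := fun _ => rfl
  have g1 : T.kr a d'' ∈ Φ.Iso := hT.kr_Iso fun u u' x y => by
    rw [ed', ed', m2, ← d5 x y]; ring
  have pw : p w = 0 := by simp [ep, Φ₂.B_self hw, e2, Φ₂.eps_sq]
  have dw : d'' w = w := by simp [ed', ed, pw, Φ₂.B_self hw, e2, Φ₂.eps_sq]
  refine ⟨a, d'', g1, dw, fun u => by simp [dw, ea'], fun v hv => ?_, fun κ hκ => ?_⟩
  · obtain ⟨u, hu⟩ : g v - T.kr a d'' v ∈ T.sp w := by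
      rw [← Submodule.Quotient.eq]
      refine hT.eq_on_perp (f := (T.sp w).mkQ ∘ₗ g.toLinearMap)
        (g := (T.sp w).mkQ ∘ₗ (T.kr a d'').toLinearMap) (fun u z hz => ?_) hv
      refine (Submodule.Quotient.eq _).2 ?_
      have := add_mem (d3 u z hz) (T.tm_mem_sp ((Φ₂.ε * (Φ₂.B w' (d z) - Φ₂.B w' z)) • a u) w)
      convert this using 1
      simp only [LinearEquiv.coe_coe, Tn.kr_tm, ed', ed, ep z, hz, map_sub, map_add, map_smul, d1,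
        pw, ep (d z), d2 z hz, LinearMap.smul_apply, map_zero]
      module
    refine ⟨-a⁻¹ u, ?_⟩
    change T.tm u w = _ at hu
    change T.tm _ w = _
    rw [map_neg, LinearMap.neg_apply, ← ea', hu, map_sub, inv_app_app, mul_app, neg_sub]
  · have := hg _ (hT.tv₂.EG_conj m0 m3 d5 hκ (d := d''))
    rw [show T.krR (d'' * κ * d''⁻¹) = T.kr a d'' * T.krR κ * (T.kr a d'')⁻¹ from
      T.ext' fun u x => by rw [Tn.krR_tm, T.kr_inv]; simp] at this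
    simpa [mul_assoc] using this

variable (hK : ∀ τ ∈ Φ₂.EG, T.krR τ ∈ M)
include hK

/-- An element of the unipotent radical normalising enough of `M`. -/
theorem exists_nu_of_norm (hr : Φ₂.Irw w) {x : V ≃ₗ[F] V} (hx : x ∈ Φ.Iso)
    (h1 : ∀ u, x (T.tm u w) = T.tm u w) (h2 : ∀ v, T.cR (Φ₂.B w) v = 0 → x v - v ∈ T.sp w)
    (hn : ∀ κ ∈ Φ₂.EG, x * T.krR κ * x⁻¹ ∈ M) : ∃ τ ∈ Φ₂.EG, τ w = w ∧ ∃ C,
      ∀ v, (x * (T.krR τ)⁻¹) v = v + T.xl C w (Φ₂.B w) v := by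
  obtain ⟨A, ⟨a0, -⟩, e⟩ := hT.exists_gen (M := ⊤) trivial hw0 h1 h2
  have e' : ∀ v, T.cR (Φ₂.B w) v = 0 → x⁻¹ v = v - T.tm (A v) w := fun v hv => x.injective (by
    rw [app_inv_app, map_sub, h1, e v hv, add_sub_cancel_right])
  let S : Submodule F W :=
    { carrier := {y | ∃ c : F, ∀ u, A (T.tm u y) = c • u}
      zero_mem' := ⟨0, by simp⟩
      add_mem' := fun ⟨c, hc⟩ ⟨d, hd⟩ => ⟨c + d, fun u => by simp [hc, hd, add_smul]⟩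
      smul_mem' := fun a _ ⟨c, hc⟩ => ⟨a * c, fun u => by simp [hc, mul_smul]⟩ }
  obtain ⟨y, hy, e1⟩ := hT.exists_cR a0 (hr S ⟨0, by simp [a0]⟩ fun κ hκ c ec y hy => by
    have hI := Φ₂.EG_le_Iso hκ
    have c0 : c ≠ 0 := fun e => hw0 (by simpa [e] using ec)
    have p : ∀ v, T.cR (Φ₂.B w) v = 0 ↔ T.cR (Φ₂.B w) (T.krR κ v) = 0 := fun v => by
      rw [← hT.cR_krR_iso hI w v, ec]; simp [c0]
    obtain ⟨a, ha⟩ := hL.A (A - c • A ∘ₗ ((T.krR κ)⁻¹ : V ≃ₗ[F] V).toLinearMap)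
      ⟨fun u => by
        have : κ⁻¹ w = c⁻¹ • w := κ.injective (by simp [ec, smul_smul, c0])
        simp [← map_inv, this, a0], _, M.mul_mem (hn κ hκ) (M.inv_mem (hK κ hκ)), fun v hv => by
        obtain ⟨v, rfl⟩ := (T.krR κ).surjective v
        rw [mul_app, inv_app_app, mul_app, mul_app, e' v ((p v).2 hv), map_sub, map_sub, e _ hv]
        simp [ec, h1]
        abel⟩ (κ y) (by
          have := hI.1 w y
          rwa [ec, hy, Φ₂.B_smul_left, mul_eq_zero, or_iff_right (Φ₂.σ_ne c0)] at this)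
    exact ⟨a, fun u => by simpa [← map_inv] using ha u⟩)
  obtain ⟨τ, hτ, e0, eτ⟩ := WK.gen_cR (T := T) hw hy
  have hI := hT.krR_Iso (Φ₂.EG_le_Iso hτ)
  exact ⟨τ, hτ, e0, hT.exists_nu (Φ.Iso.mul_mem hx (Φ.Iso.inv_mem hI)) hw0 fun v hv => by
    obtain ⟨v, rfl⟩ := (T.krR τ).surjective v
    have : T.cR (Φ₂.B w) v = 0 := by rw [← hT.cR_krR_iso (Φ₂.EG_le_Iso hτ), e0, hv]
    rw [mul_app, inv_app_app, e v this, eτ v this, e1 v this]⟩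

/-- The stabiliser of `U ⊗ w`, modulo the centre of the unipotent radical. -/
theorem exists_nu_stab (h3 : 3 ≤ finrank F W) (hr : Φ₂.Irw w) {g : V ≃ₗ[F] V} (hI : g ∈ Φ.Iso)
    (hg : ∀ τ ∈ Φ₂.EG, g⁻¹ * T.krR τ * g ∈ M) (hE : ∀ u, g (T.tm u w) ∈ T.sp w) :
    ∃ a d z C, T.kr a d ∈ Φ.Iso ∧ d w = w ∧ g * z = T.kr a d ∧
      (∀ v, z v = v + T.xl C w (Φ₂.B w) v) ∧ ∀ κ ∈ Φ₂.EG, z * T.krR κ * z⁻¹ ∈ M := by
  obtain ⟨a, d, h1, h2, h4, h5, h6⟩ := hT.exists_dec_stab hw hw0 hL h3 hI hg hE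
  obtain ⟨τ, hτ, e0, C, e⟩ := hT.exists_nu_of_norm hw hw0 hL hK hr
    (mul_mem (inv_mem hI) h1) h4 h5 h6
  have e1 : T.kr a d * (T.krR τ)⁻¹ = T.kr a (d * τ⁻¹) := T.ext' fun u x => by
    simp [← map_inv]
  refine ⟨a, d * τ⁻¹, _, C, e1 ▸ mul_mem h1 (inv_mem (hT.krR_Iso (Φ₂.EG_le_Iso hτ))), ?_,
    by rw [← e1]; group, e, fun κ hκ => ?_⟩
  · rw [mul_app, show τ⁻¹ w = w from τ.injective (by rw [app_inv_app, e0]), h2]
  · convert h6 _ (mul_mem (mul_mem (inv_mem hτ) hκ) hτ) using 1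
    simp only [map_mul, map_inv]
    group

omit hL hw0 in
theorem hasU_of_norm {z : V ≃ₗ[F] V} {C : End F U} (e : ∀ v, z v = v + T.xl C w (Φ₂.B w) v)
    (hn : ∀ κ ∈ Φ₂.EG, z * T.krR κ * z⁻¹ ∈ M) {κ : W ≃ₗ[F] W} (hκ : κ ∈ Φ₂.EG)
    (hκw : Φ₂.B w (κ w) = 0) : HasU M (T.xl C (κ w) (Φ₂.B (κ w)) - T.xl C w (Φ₂.B w)) := by
  refine ⟨_, M.mul_mem (hK κ hκ) (M.inv_mem (hn _ hκ)), fun v => ?_⟩
  have q : ∀ v, z⁻¹ v = v - T.xl C w (Φ₂.B w) v :=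
    inv_apply_of_unip (fun v => by simp [Tn.xl_apply, Φ₂.B_self hw]) e
  rw [show T.krR κ * (z * T.krR κ * z⁻¹)⁻¹ = T.krR κ * z * (T.krR κ)⁻¹ * z⁻¹ by group, mul_app,
    mul_app, mul_app, e, map_add, app_inv_app, Tn.xl_apply, Tn.krR_tm,
    ← hT.cR_krR_iso (Φ₂.EG_le_Iso hκ), app_inv_app, q]
  simp [Tn.xl_apply, Φ₂.perp_symm hκw]
  abel

omit hL hK hT hw0 in
theorem mem_NG_of_smul {z : V ≃ₗ[F] V} {C : End F U} (e : ∀ v, z v = v + T.xl C w (Φ₂.B w) v)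
    {c : F} (hc : ∀ u, C u = c • u) : z ∈ T.NG := by
  rw [show z = T.krR (unip ((c • Φ₂.B w).smulRight w) fun v => by
      simp [Φ₂.B_self hw]) from LinearEquiv.ext fun v => by
    rw [e, T.krR_apply_of_tv (φ := c • Φ₂.B w) (w := w) fun _ => rfl]
    simp [Tn.xl_apply, hc]]
  exact T.krR_mem _

omit hL in
/-- The stabiliser of `U ⊗ w` for a factor of dimension at least five. -/
theorem mem_NG_five (h₂ : Φ₂.IsO) (h2 : (2 : F) ≠ 0) (h5 : 5 ≤ finrank F W)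
    (hL : ∀ w, Φ₂.Q w = 0 → w ≠ 0 → Loc T Φ₂ M w) {g : V ≃ₗ[F] V} (hI : g ∈ Φ.Iso)
    (hg : ∀ τ ∈ Φ₂.EG, g⁻¹ * T.krR τ * g ∈ M) (hE : ∀ u, g (T.tm u w) ∈ T.sp w) : g ∈ T.NG := by
  obtain ⟨a, d, z, C, -, -, e, ez, hz⟩ := hT.exists_nu_stab hw hw0 (hL w hw hw0) hK (by omega)
    (h₂.irw_five h2 hw hw0 h5) hI hg hE
  have hd : Φ₂.d + 2 ≤ finrank F W := by rw [h₂.d]; omega
  obtain ⟨w', s, s', -, q1, -, e1, e2, e3, e4, e5, -⟩ := Fm.exists_hyp2 hd hw hw0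
  have s0 : s ≠ 0 := fun e => by simp [e] at e2
  obtain ⟨κ, hκ, eκ⟩ := Fm.move_EG hd hw0 (y := w + s) (fun e => Φ₂.eps_ne (by
    simpa [Φ₂.perp_symm e4, Fm.B_eq_eps e2] using congrArg (Φ₂.B s') e))
    (by rw [Φ₂.Q_add_perp e3, q1, add_zero])
  obtain ⟨x, hx, ex⟩ := hT.hasU_of_norm hw hK ez hz hκ (by simp [eκ, e3, Φ₂.B_self hw])
  obtain ⟨c, hc⟩ := (hL s q1 s0).A (C ∘ₗ T.cR (Φ₂.B w)) ⟨fun u => by simp [e3], x, hx,
    fun v hv => by simp [ex, eκ, Tn.xl_apply, hv]⟩ w' (Φ₂.perp_symm e5)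
  exact (T.NG.mul_mem_cancel_right (mem_NG_of_smul hw ez (c := c) (by simpa [e1] using hc))).1
    (e ▸ T.kr_mem a d)

end TF

end Cfsg.Agent.Class.Max
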