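import Mathlib
import Cfsg.Agent.Class.Max.C7O8

/-!
Tensor powers of orthogonal spaces of dimension at least five: quadratic elements.
-/

set_option autoImplicit false
set_option linter.unusedSectionVars false

namespace Cfsg.Agent.Class.Max

open Module

variable {F U W V : Type*} [Field F] [AddCommGroup U] [Module F U] [AddCommGroup W]
  [Module F W] [AddCommGroup V] [Module F V]
  [FiniteDimensional F U] [FiniteDimensional F W] [FiniteDimensional F V]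
  {Φ₂ : Fm F W} {Φ : Fm F V} {M H : Subgroup (V ≃ₗ[F] V)}

namespace TF

variable {T T' : Tn F U W V} {Φ₁ Φ₁' : Fm F U} (hT : TF T Φ₁ Φ₂ Φ)
include hT

theorem sing_iff (hT' : TF T' Φ₁' Φ₂ Φ) {g : V ≃ₗ[F] V} (hg : g ∈ Φ.Iso) {w w' : W} (hw : w ≠ 0)
    (hw' : w' ≠ 0) (h : ∀ u, g (T.tm u w) ∈ T'.sp w') : Φ₂.Q w = 0 ↔ Φ₂.Q w' = 0 := by
  obtain ⟨a, e⟩ := Tn.exists_left' hw hw' h
  refine ⟨fun h0 => hT'.sing_of_perp fun u u' => ?_, fun h0 => hT.sing_of_perp fun u u' => ?_⟩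
  · rw [← app_inv_app a u, ← app_inv_app a u', ← e, ← e, hg.1, hT.B, Φ₂.B_self h0, mul_zero]
  · rw [← hg.1, e, e, hT'.B, Φ₂.B_self h0, mul_zero]

/-- Consequences of the counting argument. -/
theorem exc'' [Finite F] {δ : W →ₗ[F] W} (D : Fm.QE Φ M H (T.krL LinearMap.id δ))
    (hmv : ∀ γ ∈ H, γ ∈ T.NG ∨ ∃ x ∈ LinearMap.range (cjL γ (T.krL LinearMap.id δ)),
      T.krL LinearMap.id δ x = 0 ∧ x ∉ LinearMap.range (T.krL LinearMap.id δ))
    (δ2 : ∀ η, Φ₂.Skew η → (∀ x, η x ∈ LinearMap.range δ) → ∃ c, Φ.σ c = c ∧ ∀ x, η x = c • δ x)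
    (δ3 : ∃ y, δ y = 0 ∧ y ∉ LinearMap.range δ) (hF : ∃ l, Φ.σ l = l ∧ l ≠ 0 ∧ l ≠ 1)
    {g : V ≃ₗ[F] V} (hg : g ∈ M) (hg' : g ∉ H)
    (h : Fm.QMax M H (T.krL LinearMap.id δ) (finrank F
      ↥(LinearMap.range (T.krL LinearMap.id δ) ⊓ LinearMap.range (cjL g (T.krL LinearMap.id δ))))) :
    (LinearMap.range (T.krL LinearMap.id δ) ⊓ LinearMap.range (cjL g (T.krL LinearMap.id δ)) = ⊥ ∧
      ∀ y, δ y = 0 → ∃ m ∈ LinearMap.range δ, ∀ u,
        cjL g (T.krL LinearMap.id δ) (T.tm u (y - m)) = 0) ∨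
    ∃ d : W ≃ₗ[F] W, Φ₂.Skew (cjL d δ) ∧ LinearMap.range δ ⊓ LinearMap.range (cjL d δ) ≠ ⊥ ∧
      ¬ LinearMap.range (cjL d δ) ≤ LinearMap.range δ ∧
      (∀ v, T.krL LinearMap.id (δ ∘ₗ cjL d δ + cjL d δ ∘ₗ δ) (cjL g (T.krL LinearMap.id δ) v) =
        cjL g (T.krL LinearMap.id δ) (T.krL LinearMap.id (δ ∘ₗ cjL d δ + cjL d δ ∘ₗ δ) v)) ∧
      ∀ x ∈ LinearMap.range (cjL d δ), δ x = 0 → x ∈ LinearMap.range δ := by
  obtain ⟨γ, hγ, a1, a2, hc⟩ := D.exists_exc hF hg hg' h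
  set θ := T.krL LinearMap.id δ with hθ
  set θ' := cjL g θ with hθ'
  have k1 := D.skew
  have k2 : Φ.Skew θ' := k1.cjL (D.iso hg)
  have k0 := hT.skew_of_krL k1
  have hI := D.iso (D.le hγ)
  obtain ⟨u₀, u₁, hu⟩ := hT.exists_B_one
  have hu0 : u₀ ≠ 0 := fun e => by simp [e] at hu
  have tθ : ∀ u x, θ (T.tm u x) = T.tm u (δ x) := fun u x => T.krL_tm _ _ u x
  have q0 : ∀ x, δ (δ x) = 0 := fun x => T.right_inj hu0 (by rw [← tθ, ← tθ, D.sq, map_zero])
  have mL : ∀ {x}, T.tm u₀ x ∈ LinearMap.range θ → x ∈ LinearMap.range δ := fun h =>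
    T.mem_of_tm_mem_ts hu0 (T.range_krL δ ▸ h)
  have rk : finrank F (LinearMap.range θ) = finrank F (LinearMap.range θ') := by
    rw [hθ', range_cjL, LinearEquiv.finrank_map_eq]
  have dec : ∀ v, θ v = 0 → ∃ l ∈ LinearMap.range θ, θ (v - l) = 0 ∧ θ' (v - l) = 0 := fun v hv =>
    k1.exists_sub_ker k2 D.sq rk (fun v hv h1 => by
      rw [inf_comm] at h1 ⊢
      exact D.fact h hg M.one_mem (by simpa using hg') rfl inf_le_right inf_le_left hv h1) hv
  have hJ0 : ∀ x ∈ LinearMap.range θ ⊓ LinearMap.range θ', γ x = x := by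
    rintro _ ⟨⟨a, rfl⟩, b, hb⟩
    exact a1 _ (D.sq a) (hb ▸ D.sq' g b)
  have k3 := k1.cjL hI
  have k5 : ∀ k, θ k = 0 → θ' k = 0 → cjL γ θ k = 0 := fun k h1 h2 => by
    rw [← a1 k h1 h2, cjL_app, h1, map_zero]
  have k6 : ∀ x ∈ LinearMap.range (cjL γ θ), θ x = 0 → x ∈ LinearMap.range θ := fun x hx h0 => by
    obtain ⟨l, hl, h1, h2⟩ := dec x h0
    simpa using add_mem (k1.mem_range (x := x - l) fun y hy => by
      obtain ⟨l', hl', h4, h5⟩ := dec y hy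
      rw [← sub_add_cancel y l', Φ.B_add_left, k1.perp_of_eq_zero hl' h1, map_sub,
        Φ.perp_symm (k1.perp_of_eq_zero hl h4), Φ.perp_symm (k3.perp_of_eq_zero hx (k5 _ h4 h5))]
      simp) hl
  obtain ⟨a, d, e0⟩ := (hmv γ hγ).resolve_right fun ⟨x, hx, h0, hx'⟩ => hx' (k6 x hx h0)
  rcases hc with ⟨c1, c2, c3⟩ | ⟨c1, c2⟩
  · have t1 : ∀ v, θ v = 0 → γ v - v ∈ LinearMap.range θ := fun v hv => by
      obtain ⟨_, ⟨x, rfl⟩, h1, h2⟩ := dec v hv
      have := a1 _ h1 h2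
      rw [map_sub, sub_eq_sub_iff_sub_eq_sub] at this
      exact this ▸ sub_mem (c1 x) ⟨x, rfl⟩
    obtain ⟨y₀, y1, y2⟩ := δ3
    obtain ⟨d', e⟩ := T.exists_krR_of_smul d hT.ne₁ (T.smul_of_fix y2 fun u =>
      T.range_krL δ ▸ (e0 ▸ t1) _ (by rw [tθ, y1, map_zero]))
    obtain rfl : T.krR d' = γ := e.symm.trans e0.symm
    have t2 : ∀ y, δ y = 0 → d' y - y ∈ LinearMap.range δ := fun y hy =>
      mL (by simpa using t1 (T.tm u₀ y) (by rw [tθ, hy, map_zero]))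
    obtain ⟨c, -, ec⟩ := δ2 (d'.toLinearMap ∘ₗ δ) (fun x y => by
      simpa [tθ, hT.B, hu] using c3 (T.tm u₀ x) (T.tm u₁ y)) fun x =>
        mL (by simpa [tθ] using c1 (T.tm u₀ x))
    replace ec : ∀ x, d' (δ x) = c • δ x := ec
    have ec' : ∀ l ∈ LinearMap.range θ, T.krR d' l = c • l := by
      rintro _ ⟨v, rfl⟩
      exact T.ext (f := (T.krR d').toLinearMap ∘ₗ θ) (g := c • θ) (fun u x => by simp [tθ, ec]) v
    by_cases hc1 : c = 1
    · have hd' := hT.B_of_krR hI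
      have t3 : ∀ x, d' x - x ∈ LinearMap.range δ := fun x => k0.mem_range fun y hy => by
        obtain ⟨l, hl, h1, h2⟩ := dec (T.tm u₀ y) (by rw [tθ, hy, map_zero])
        have := a1 _ h1 h2
        rw [map_sub, ec' l hl, hc1, one_smul, sub_left_inj, Tn.krR_tm] at this
        rw [map_sub, ← hd'.1 y x, T.right_inj hu0 this, sub_self]
      obtain ⟨c', h1, h2⟩ := δ2 (d'.toLinearMap - LinearMap.id) (fun x y => by
        have e1 := k0.perp q0 (t3 x) (t3 y)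
        simp only [LinearMap.sub_apply, LinearEquiv.coe_coe, LinearMap.id_apply, Φ₂.bsimp,
          hd'.1 x y] at e1 ⊢
        linear_combination -e1) t3
      refine absurd (fun v => eq_add_of_sub_eq' ?_) (c2 c' h1)
      rw [T.krR_sub]
      exact T.ext (g := c' • θ) (fun u x => by rw [Tn.krL_tm, h2]; simp [tθ]) v
    have c0 := sub_ne_zero.2 hc1
    have z : ∀ l ∈ LinearMap.range θ, T.krR d' l = l → l = 0 := fun l hl e =>
      (smul_eq_zero_iff_right c0).1 (by rw [sub_smul, ← ec' l hl, e, one_smul, sub_self])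
    refine Or.inl ⟨eq_bot_iff.2 fun x hx => z x hx.1 (hJ0 x hx), fun y hy => ?_⟩
    obtain ⟨x, hx⟩ := t2 y hy
    refine ⟨_, ⟨(c - 1)⁻¹ • x, rfl⟩, fun u => ?_⟩
    obtain ⟨l, hl, h1, h2⟩ := dec (T.tm u (y - δ ((c - 1)⁻¹ • x))) (by simp [tθ, hy, q0])
    have e1 := a1 _ h1 h2
    rw [map_sub, Tn.krR_tm, show d' (y - δ ((c - 1)⁻¹ • x)) = y - δ ((c - 1)⁻¹ • x) by
      rw [map_sub, ec, eq_add_of_sub_eq hx.symm, map_smul]
      match_scalars <;> field_simp <;> ring, sub_right_inj] at e1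
    rwa [z l hl e1, sub_zero] at h2
  subst e0
  have eγ : cjL (T.kr a d) θ = T.krL LinearMap.id (cjL d δ) := T.cjL_kr a d δ
  have k4 := hT.skew_of_krL (eγ ▸ k3)
  have hJ : LinearMap.range θ ⊓ LinearMap.range θ' ≤
      T.ts (LinearMap.range δ ⊓ LinearMap.range (cjL d δ)) := fun x hx => T.ts_inf _ _
    ⟨T.range_krL δ ▸ hx.1, by
      rw [← T.range_krL, ← eγ, range_cjL]
      exact ⟨x, hx.1, hJ0 x hx⟩⟩
  by_cases hb : LinearMap.range δ ⊓ LinearMap.range (cjL d δ) = ⊥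
  swap
  · refine Or.inr ⟨d, k4, hb, fun hc => c1 fun v => ?_, fun v => ?_, fun x hx h0 => ?_⟩
    · rw [← cjL_app, eγ, T.range_krL]
      exact T.krL_mem_ts _ (fun w => hc ⟨w, rfl⟩) _
    · have : ∀ v, T.krL LinearMap.id (δ ∘ₗ cjL d δ + cjL d δ ∘ₗ δ) v =
          θ (cjL (T.kr a d) θ v) + cjL (T.kr a d) θ (θ v) := T.ext
            (g := θ ∘ₗ cjL (T.kr a d) θ + cjL (T.kr a d) θ ∘ₗ θ) fun u x => by simp [eγ, tθ]
      rw [this, this, c2]
    · exact mL (k6 _ (by rw [eγ, T.range_krL]; exact T.tm_mem_ts _ hx) (by rw [tθ, h0, map_zero]))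
  refine Or.inl ⟨eq_bot_iff.2 (by rwa [hb, T.ts_bot] at hJ), fun y hy => ?_⟩
  have s1 : LinearMap.range θ ⊔ LinearMap.range (cjL (T.kr a d) θ) =
      LinearMap.range θ ⊔ LinearMap.range θ' := Submodule.eq_of_le_of_finrank_le
    (sup_le le_sup_left (by
      rw [range_cjL]
      rintro _ ⟨l, hl, rfl⟩
      simpa using add_mem (a2 l) (Submodule.mem_sup_left hl))) (by
      have e1 := Submodule.finrank_sup_add_finrank_inf_eq (LinearMap.range θ) (LinearMap.range θ')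
      have e2 := Submodule.finrank_sup_add_finrank_inf_eq (LinearMap.range θ)
        (LinearMap.range (cjL (T.kr a d) θ))
      have e3 : LinearMap.range θ ⊓ LinearMap.range (cjL (T.kr a d) θ) = ⊥ := eq_bot_iff.2 (by
        rw [eγ, hθ, T.range_krL, T.range_krL, ← T.ts_bot, ← hb]
        exact T.ts_inf _ _)
      rw [e3, finrank_bot, range_cjL, LinearEquiv.finrank_map_eq, ← range_cjL] at e2
      omega)
  obtain ⟨α, hα⟩ := exists_dual_eq_one (F := F) hu0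
  obtain ⟨l, hl, h1, h2⟩ := dec (T.tm u₀ y) (by rw [tθ, hy, map_zero])
  have e1 : y - T.cL α l = T.cL α (T.tm u₀ y - l) := by simp [hα]
  have e2 : ∀ η : W →ₗ[F] W, Φ₂.Skew η → T.krL LinearMap.id η (T.tm u₀ y - l) = 0 →
      η (y - T.cL α l) = 0 := fun η hη h0 => hη.eq_zero fun x => by
    rw [e1, T.cL_cR, hT.cR_eq_zero fun u => (hT.skew_krL hη).perp_of_eq_zero
      ⟨T.tm u x, T.krL_tm _ _ _ _⟩ h0, map_zero]
  refine ⟨T.cL α l, T.cL_mem α (T.range_krL δ ▸ hl), fun u => k2.eq_zero fun x => ?_⟩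
  obtain ⟨p, hp, q, hq, e⟩ := Submodule.mem_sup.1 (s1.ge (Submodule.mem_sup_right ⟨x, rfl⟩))
  rw [← e, Φ.B_add_left, k1.perp_of_eq_zero hp (by rw [tθ, e2 δ k0 h1, map_zero]),
    k3.perp_of_eq_zero hq (by
      rw [eγ, Tn.krL_tm, e2 _ k4 (by rw [← eγ]; exact k5 _ h1 h2), map_zero]), add_zero]

end TF

theorem Tn.sl_or_cm' {T : Tn F U W V} (h2 : (2 : F) ≠ 0) (hU : ∃ u : U, u ≠ 0) {x : V ≃ₗ[F] V}
    (hx : x ∈ T.NG) {N : End F V} (e : ∀ v, x v = v + N v) (hN : ∀ v, N (N v) = 0) :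
    (∃ η, ∀ v, N v = T.sl η v) ∨ T.Cm N := by
  obtain ⟨a, d, rfl⟩ := hx
  by_cases ha : ∃ c : F, ∀ u, a u = c • u
  · obtain ⟨d', e'⟩ := T.exists_krR_of_smul d hU ha
    exact Or.inl ⟨d'.toLinearMap - 1, fun v => by
      rw [map_sub, LinearMap.sub_apply, ← Tn.krR_eq_sl, ← e', e]; simp⟩
  obtain ⟨c, hc⟩ := T.smul_of_quad h2 (a := a) (d := d)
    (fun v => by rw [e v, add_sub_cancel_left, e, hN, add_zero]) ha
  refine Or.inr fun y v => ?_
  rw [← add_right_inj (T.sl y v), ← e, ← map_add, ← e]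
  exact T.ext (f := (T.kr a d).toLinearMap ∘ₗ T.sl y) (g := T.sl y ∘ₗ (T.kr a d).toLinearMap)
    (fun u w => by simp [hc]) v

variable {ι : Type*} {T : ι → Tn F U W V} {Φ₁ : ι → Fm F U} {i j k : ι} {g : V ≃ₗ[F] V}

/-- Quadratic subgroups fix all slots. -/
theorem TP.mv_self' [Finite ι] (hT : TP T) (h2 : (2 : F) ≠ 0) {N : End F V}
    (hN : ∀ v, N (N v) = 0) (hc : ∀ c : F, HasU hT.WR (c • N)) (i : ι) :
    (∃ η, ∀ v, N v = (T i).sl η v) ∨ (T i).Cm N := by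
  by_contra hn
  have k2 : ∀ c : F, c ≠ 0 → ∀ y, (T i).Cm ((T i).sl y + c • (N * (T i).sl y -
      (T i).sl y * N) - (c * c) • (N * (T i).sl y * N)) := fun c c0 y => by
    obtain ⟨x, hx, e⟩ := hc c
    obtain ⟨j, hj⟩ := hx i
    have hij : j ≠ i := by
      rintro rfl
      rcases Tn.sl_or_cm' h2 hT.neU (hj.mem_NG hT.neU hT.neW) e (fun v => by simp [hN])
        with ⟨η, h⟩ | h
      · exact hn (Or.inl ⟨c⁻¹ • η, fun v => by simp [← h, c0]⟩)
      · exact hn (Or.inr (by simpa [c0] using h.smul c⁻¹))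
    convert hT.cm_cjL hij hj y using 1
    refine LinearMap.ext fun v => ?_
    rw [cjL_apply, inv_apply_of_unip (A := c • N) (fun v => by simp [hN]) e, e]
    simp only [LinearMap.sub_apply, LinearMap.add_apply, LinearMap.smul_apply, End.mul_apply,
      map_sub, map_smul]
    module
  obtain ⟨y, hy⟩ := hT.neW
  obtain ⟨φ, hφ⟩ := exists_dual_eq_one (F := F) hy
  obtain ⟨z', hz⟩ := exists_notMem_span hT.two y
  have z0 : z' - φ z' • y ≠ 0 := fun e => hz (by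
    rw [sub_eq_zero.1 e]; exact Submodule.smul_mem _ _ (Submodule.mem_span_singleton_self y))
  set E := (T i).sl (φ.smulRight y) with hE
  obtain ⟨a, ea⟩ := (((k2 1 one_ne_zero (φ.smulRight y)).add (k2 (-1)
    (by simp) (φ.smulRight y))).smul 2⁻¹).exists_left hT.neW
  have e1 : ∀ u w, N (E (N ((T i).tm u w))) = φ w • (T i).tm u y - (T i).tm (a u) w := fun u w => by
    rw [← ea]
    simp only [← hE, LinearMap.sub_apply, LinearMap.add_apply, LinearMap.smul_apply, End.mul_apply,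
      show E ((T i).tm u w) = φ w • (T i).tm u y by simp [hE]]
    match_scalars <;> field_simp <;> ring
  obtain ⟨u, hu⟩ := hT.neU
  have q : ∀ v, N (E (N (N (E (N v))))) = 0 := fun v => by rw [hN, map_zero, map_zero]
  have e2 : ∀ u, a (a u) = 0 := fun u => (T i).left_inj z0 (by
    have := q ((T i).tm u (z' - φ z' • y))
    rw [e1, show φ (z' - φ z' • y) = 0 by simp [hφ], zero_smul, zero_sub, ← LinearMap.neg_apply,
      ← map_neg, e1] at this
    simpa [hφ] using this)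
  have e3 : ∀ u, u - (2 : F) • a u = 0 := fun u => (T i).left_inj hy (by
    have := q ((T i).tm u y)
    rw [e1, hφ, one_smul, ← LinearMap.sub_apply, ← map_sub, e1, hφ, map_sub a, e2] at this
    simp only [map_sub, map_smul, map_zero, LinearMap.sub_apply, LinearMap.smul_apply,
      LinearMap.zero_apply] at this ⊢
    linear_combination (norm := module) this)
  have := e3 (a u)
  rw [e2, smul_zero, sub_zero] at this
  exact hu (by simpa [this] using e3 u)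

end Cfsg.Agent.Class.Max
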