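import Mathlib
import Cfsg.Agent.Class.Max.C7O9

/-!
Tensor powers of orthogonal spaces of dimension at least five: the global argument.
-/

set_option autoImplicit false
set_option linter.unusedSectionVars false

namespace Cfsg.Agent.Class.Max

open Module

variable {F U W V : Type*} [Field F] [AddCommGroup U] [Module F U] [AddCommGroup W]
  [Module F W] [AddCommGroup V] [Module F V]
  [FiniteDimensional F U] [FiniteDimensional F W] [FiniteDimensional F V]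

/-- The hypotheses of the global argument. -/
structure OP {ι : Type*} (T : ι → Tn F U W V) (Φ₁ : ι → Fm F U) (Φ₂ : Fm F W) (Φ : Fm F V)
    (M : Subgroup (V ≃ₗ[F] V)) : Prop where
  tp : TP T
  tf : ∀ i, TF (T i) (Φ₁ i) Φ₂ Φ
  o : Φ₂.IsO
  two : (2 : F) ≠ 0
  I : M ≤ Φ.Iso
  K : ∀ i, ∀ τ ∈ Φ₂.EG, (T i).krR τ ∈ M
  S : ∀ i j, ∀ g ∈ M, ∀ w w', Φ₂.Q w = 0 → w ≠ 0 → w' ≠ 0 →
    (∀ u, g ((T i).tm u w) ∈ (T j).sp w') → (T i).Mv (T j) g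

variable {ι : Type*} {T : ι → Tn F U W V} {Φ₁ : ι → Fm F U} {Φ₂ : Fm F W} {Φ : Fm F V}
  {M N : Subgroup (V ≃ₗ[F] V)} {i j k : ι} {g : V ≃ₗ[F] V}

namespace OP

variable (h : OP T Φ₁ Φ₂ Φ M)
include h

theorem mv_of_perp (hg : g ∈ M) {w y z : W} (hw : Φ₂.Q w = 0) (hw0 : w ≠ 0)
    (hy : Φ₂.Q y ≠ 0) (hwy : Φ₂.B w y = 0) (hz : Φ₂.Q z = 0) (hz0 : z ≠ 0)
    (h1 : ∀ u u', Φ.B (g ((T i).tm u' w)) ((T j).tm u z) = 0)
    (h3 : ∀ u u', Φ.B (g ((T i).tm u' y)) ((T j).tm u z) = 0) : (T i).Mv (T j) g := by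
  have hO := h.o
  have h2 := h.two
  have hI := h.I hg
  have hv := hO.valid hw hwy
  have hk := h.K i _ hv.eich_mem
  have k1 : ∀ u, (g * ((T i).krR hv.eich * g⁻¹)) ((T j).tm u z) = (T j).tm u z := fun u => by
    rw [mul_app, mul_app, TF.krR_ef hv.eich_apply,
      (h.tf i).cR_eq_zero fun u' => by rw [Fm.Iso.B_inv hI, h1],
      (h.tf i).cR_eq_zero fun u' => by rw [Fm.Iso.B_inv hI, h3]]
    simp
  obtain ⟨a, d, e⟩ := (h.S j j _ (M.mul_mem hg (M.mul_mem hk (M.inv_mem hg))) z z hz hz0 hz0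
    fun u => (k1 u).symm ▸ (T j).tm_mem_sp u z).mem_NG h.tp.neU h.tp.neW
  obtain ⟨d', e'⟩ := (T j).exists_krR_of_smul d h.tp.neU ((T j).smul_of_fix (Y := ⊥) (y := z)
    (by simpa using hz0) fun u => by rw [← e, k1, sub_self]; exact zero_mem _)
  set n := d'.toLinearMap - LinearMap.id with hn
  have k2 : ∀ v, (T j).krL LinearMap.id n (g v) = g ((T i).krR hv.eich v - v) := fun v => by
    rw [← (T j).krR_sub, ← e', ← e, mul_app, mul_app, inv_app_app, map_sub]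
  have k3 : ∀ v, (T j).krL LinearMap.id (n ∘ₗ n) (g v) =
      g ((T i).tm ((-(2 * Φ₂.Q y)) • (T i).cR (Φ₂.B w) v) w) := fun v => by
    rw [show (T j).krL LinearMap.id (n ∘ₗ n) (g v) =
      (T j).krL LinearMap.id n ((T j).krL LinearMap.id n (g v)) from (T j).ext
        (g := (T j).krL _ n ∘ₗ (T j).krL _ n) (fun u x => by simp) _, k2, k2, (T i).krR_sub,
      (T i).krR_sub]
    refine congrArg g ((T i).ext (f := (T i).krL _ _ ∘ₗ (T i).krL _ _)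
      (g := (T i).tm.flip w ∘ₗ ((-(2 * Φ₂.Q y)) • (T i).cR (Φ₂.B w))) (fun u x => ?_) v)
    simp only [LinearMap.comp_apply, Tn.krL_tm, LinearMap.sub_apply, LinearEquiv.coe_coe,
      Fm.Valid.eich_apply, hO.ef, LinearMap.id_apply, Φ₂.bsimp, hwy, Φ₂.B_self hw, hO.symm w y,
      hO.B_self y, map_add, map_sub, map_smul, LinearMap.smul_apply, Tn.cR_tm, LinearMap.flip_apply]
    module
  obtain ⟨x, hx⟩ : ∃ x, (n ∘ₗ n) x ≠ 0 := by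
    by_contra hc
    push Not at hc
    obtain ⟨u, hu⟩ := h.tp.neU
    obtain ⟨w', -, e1⟩ := Fm.exists_partner' hw hw0
    have := k3 ((T i).tm u w')
    rw [(T j).ext (g := 0) (fun u x => by rw [Tn.krL_tm, hc]; simp)] at this
    exact (T i).tm_ne_zero hu hw0 (by simpa [e1, h2, hy] using this.symm)
  have k4 : ∀ u, g⁻¹ ((T j).tm u ((n ∘ₗ n) x)) ∈ (T i).sp w := fun u => by
    have := k3 (g⁻¹ ((T j).tm u x))
    rw [app_inv_app, Tn.krL_tm, LinearMap.id_apply] at this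
    rw [this, inv_app_app]
    exact (T i).tm_mem_sp _ _
  simpa using (h.S j i _ (M.inv_mem hg) _ w (((h.tf j).sing_iff (h.tf i) (inv_mem hI) hx hw0 k4).2 hw)
    hx hw0 k4).inv h.tp.neU

variable (h5 : 5 ≤ finrank F W)
include h5

theorem mv_of_line (hg : g ∈ M) {w s z : W} (hp : Φ₂.Pair w s) (hz0 : z ≠ 0)
    (hz : ∀ u, (T j).tm u z ∈ ((T i).ts (Submodule.span F {w, s})).map g.toLinearMap) :
    (T i).Mv (T j) g := by
  have hI := h.I hg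
  obtain ⟨f, f0, f1, f2⟩ := hp.exists_partner
  obtain ⟨y, c, c0, y0, y1, y2, -⟩ := hp.exists_valid (Or.inr h5) f0 f1 f2
  have k : ∀ {x}, Φ₂.B w x = 0 → Φ₂.B s x = 0 →
      ∀ u u', Φ.B (g ((T i).tm u' x)) ((T j).tm u z) = 0 := fun {x} h1 h3 u u' => by
    obtain ⟨v, hv, e⟩ := hz u
    rw [← e, LinearEquiv.coe_coe, hI.1]
    refine (T i).eq_zero_on_ts (fun p q hq => ?_) hv
    obtain ⟨a, b, rfl⟩ := Submodule.mem_span_pair.1 hq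
    simp [(h.tf i).B, Φ₂.perp_symm h1, Φ₂.perp_symm h3]
  refine h.mv_of_perp hg hp.q₁ hp.ne (by rwa [← y0, h.o.π]) y1
    ((h.tf j).sing_of_perp fun u u' => ?_) hz0 (k (Φ₂.B_self hp.q₁) (Φ₂.perp_symm hp.perp)) (k y1 y2)
  obtain ⟨v, hv, e⟩ := hz u
  rw [← e]
  refine Φ.perp_symm ((T i).eq_zero_on_ts (f := Φ.B _ ∘ₗ g.toLinearMap) (fun p q hq => ?_) hv)
  obtain ⟨a, b, rfl⟩ := Submodule.mem_span_pair.1 hq
  exact Φ.perp_symm (k (by simp [Φ₂.B_self hp.q₁, hp.perp])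
    (by simp [Φ₂.B_self hp.q₂, Φ₂.perp_symm hp.perp]) _ _)

variable [Fintype ι] [DecidableEq ι] (hN : N ≤ M) (hR : ∀ τ ∈ Φ₂.EG, (T j).krR τ ∈ N)
  (hK : ∀ k, ∀ g ∈ N, (T j).Mv (T k) g → g ∈ h.tp.WR)
include hN hR hK

theorem qe {w s : W} (hp : Φ₂.Pair w s) :
    Φ.QE N (h.tp.WR ⊓ N) ((T j).krL LinearMap.id (Φ₂.rt w s)) := by
  have hO := h.o
  set θ := (T j).krL LinearMap.id (Φ₂.rt w s) with hθ
  have hr : LinearMap.range θ = (T j).ts (Submodule.span F {w, s}) := by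
    rw [hθ, (T j).range_krL, hp.range_rt]
  have hq : ∀ v, θ (θ v) = 0 :=
    (T j).ext (f := (T j).krL _ _ ∘ₗ (T j).krL _ _) (g := 0) fun u x => by
      simp [Φ₂.B_self hp.q₁, Φ₂.B_self hp.q₂, hp.perp, Φ₂.perp_symm hp.perp]
  have hσ : ∀ a, Φ.σ a = a := fun a => ((h.tf j).σ₂ a).symm.trans (hO.σ a)
  obtain ⟨u₀, hu₀⟩ := h.tp.neU
  have m := fun u => hr.ge ((T j).tm_mem_ts u (Submodule.subset_span (Set.mem_insert w _)))
  refine ⟨inf_le_right, hN.trans h.I, hq, (h.tf j).skew_krL (hO.skew_rt w s), fun c hc => ?_,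
    fun g hg h1 => ⟨hK j g hg ?_, hg⟩, fun g hg hc => ?_⟩
  · exact ⟨_, ⟨h.tp.krR_mem j _, hR _ (hp.valid c).eich_mem⟩, (T j).ext
      (f := ((T j).krR _).toLinearMap) (g := LinearMap.id + c • (T j).krL _ _) fun u x => by
        simp [Fm.Valid.eich_apply, hO.ef, hO.σ]
        module⟩
  · simpa using (h.mv_of_line h5 (M.inv_mem (hN hg)) hp hp.ne fun u => by
      obtain ⟨v, hv⟩ := m u
      exact ⟨_, hr ▸ h1 v, hv ▸ inv_app_app _ _⟩).inv h.tp.neU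
  have q : ∀ v, cjL g θ (cjL g θ v) = 0 := fun v => by simp [cjL_apply, hq]
  have key := h.tp.mv_self' h.two q fun c => let ⟨x, hx, e⟩ := hc c (hσ c); ⟨x, hx.1, e⟩
  obtain ⟨v₀, hv₀⟩ := m u₀
  have n0 : cjL g θ (g v₀) ≠ 0 := by
    rw [cjL_app, hv₀, g.map_ne_zero_iff]
    exact (T j).tm_ne_zero hu₀ hp.ne
  by_cases hs : ∃ k η, ∀ v, cjL g θ v = (T k).sl η v
  · obtain ⟨k, η, e⟩ := hs
    obtain ⟨x, hx⟩ : ∃ x, η x ≠ 0 := not_forall.1 fun hη => n0 (by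
      rw [e, show η = 0 from LinearMap.ext hη, map_zero, LinearMap.zero_apply])
    exact ⟨hK k g hg (h.mv_of_line h5 (hN hg) hp hx fun u => by
      rw [← Tn.sl_tm, ← e, ← hr, ← range_cjL]; exact ⟨_, rfl⟩), hg⟩
  obtain ⟨c, e⟩ := h.tp.scal _ fun i => (key i).resolve_left fun hi => hs ⟨i, hi⟩
  have := q (g v₀)
  rw [e (cjL g θ _), smul_eq_zero_iff_left n0] at this
  exact absurd (by rw [e, this, zero_smul]) n0

theorem le_five [Finite F] : N ≤ h.tp.WR ⊓ N := by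
  intro g₀ hg₀
  by_contra hg₁
  have hO := h.o
  have h2 := h.two
  have hT := h.tf j
  obtain ⟨w, -, hw0, hw⟩ := Φ₂.iso ⊤ (by rw [finrank_top, hO.d]; omega)
  obtain ⟨w', s, s', -, q1, q2, -, e2, e3, e4, -, -⟩ :=
    Fm.exists_hyp2 (by rw [hO.d]; omega) hw hw0
  have hp : Φ₂.Pair w s := ⟨hw, q1, e3, hw0, s', e4, by simp [e2]⟩
  obtain ⟨y₀, c, c0, y0, y1, y2, -⟩ := hp.exists_valid (Or.inr h5) q2 e2 e4
  replace y0 : Φ₂.Q y₀ ≠ 0 := by rwa [← y0, hO.π]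
  have D := h.qe h5 hN hR hK hp
  have hr := hp.range_rt
  set θ := (T j).krL LinearMap.id (Φ₂.rt w s) with hθ
  have hr' : LinearMap.range θ = (T j).ts (Submodule.span F {w, s}) := by
    rw [hθ, (T j).range_krL, hr]
  have y3 : y₀ ∉ LinearMap.range (Φ₂.rt w s) := fun h => y0 (hp.ts.1 _ (hr ▸ h))
  have hmv : ∀ γ ∈ h.tp.WR ⊓ N, γ ∈ (T j).NG ∨ ∃ x ∈ LinearMap.range (cjL γ θ),
      θ x = 0 ∧ x ∉ LinearMap.range θ := fun γ hγ => by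
    obtain ⟨k, hk⟩ := hγ.1 j
    by_cases hjk : k = j
    · exact Or.inl ((hjk ▸ hk).mem_NG h.tp.neU h.tp.neW)
    obtain ⟨η, e⟩ := hk (Φ₂.rt w s)
    have y4 : y₀ ≠ 0 := fun e => y3 (by simp [e])
    obtain ⟨φ, hφ⟩ := exists_dual_eq_one (F := F) y4
    obtain ⟨u, hu⟩ := h.tp.neU
    obtain ⟨v, hv⟩ := h.tp.exists_sl_ne_zero (Ne.symm hjk) (x := φ.smulRight y₀) (y := η)
      (fun e => y4 (by simpa [hφ] using LinearMap.congr_fun e y₀)) fun e0 =>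
        (T j).tm_ne_zero hu hw0 (by simpa [e0, e2, e4] using e ((T j).tm u s'))
    refine Or.inr ⟨(T j).sl (φ.smulRight y₀) ((T k).sl η v), ⟨(T j).sl (φ.smulRight y₀) v, ?_⟩, ?_,
      fun hc => ?_⟩
    · rw [cjL_apply, ← h.tp.cm j k (Ne.symm hjk), ← app_inv_app γ ((T j).sl _ v), ← e, inv_app_app]
      rfl
    · simp [Tn.sl_rk, hθ, y1, y2]
    · rw [Tn.sl_rk] at hv hc
      exact y3 ((T j).mem_of_tm_mem_ts (fun e => hv (by simp [e])) ((T j).range_krL _ ▸ hc))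
  have key : ∀ g ∈ N, g ∉ h.tp.WR ⊓ N → Fm.QMax N (h.tp.WR ⊓ N) θ
      (finrank F ↥(LinearMap.range θ ⊓ LinearMap.range (cjL g θ))) →
      LinearMap.range θ ⊓ LinearMap.range (cjL g θ) = ⊥ ∧ ∃ x, Φ₂.Q x ≠ 0 ∧ Φ₂.B w x = 0 ∧
        Φ₂.B s x = 0 ∧ ∀ u, cjL g θ ((T j).tm u x) = 0 := fun g hg hg' hq => by
    have hσ : ∀ a, Φ.σ a = a := fun a => (hT.σ₂ a).symm.trans (hO.σ a)
    rcases hT.exc'' D hmv (fun η h1 h3 =>
        let ⟨c, hc⟩ := hO.eq_smul_rt h2 hp h1 (hr ▸ h3); ⟨c, hσ c, hc⟩)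
      ⟨y₀, by simp [y1, y2], y3⟩
      (let ⟨a, ha⟩ := hO.exists_ne_ne h2; ⟨a, hσ a, ha⟩) hg hg' hq with
      ⟨h0, h1⟩ | ⟨d, k1, k2, k3, k4, k5⟩
    · obtain ⟨m, hm, h3⟩ := h1 y₀ (by simp [y1, y2])
      obtain ⟨a, b, rfl⟩ := Submodule.mem_span_pair.1 (hr ▸ hm)
      refine ⟨h0, _, ?_, by simp [y1, Φ₂.B_self hw, e3],
        by simp [y2, Φ₂.B_self q1, Φ₂.perp_symm e3], h3⟩
      rw [hO.Q_sub, hp.ts.1 (a • w + b • s) (hr ▸ hm)]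
      simpa [hO.symm _ y₀, y1, y2] using y0
    obtain ⟨p, ⟨p1, p2⟩, p0⟩ := Submodule.exists_mem_ne_zero_of_ne_bot k2
    obtain ⟨a, ha⟩ := hO.exists_rt_eq (hr ▸ p1) p0
    set δ := Φ₂.rt w s
    set δ' := cjL d δ
    have q' : ∀ x, δ' (δ' x) = 0 := fun x => by
      simp [δ', δ, cjL_apply, Φ₂.B_self hw, Φ₂.B_self q1, e3, Φ₂.perp_symm e3]
    have p3 : δ' p = 0 := by
      obtain ⟨x, rfl⟩ := p2
      exact q' x
    have p4 : ∀ x, Φ₂.B p (δ' x) = 0 := fun x => k1.perp_of_eq_zero p2 (q' x)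
    have p5 : ∀ x, δ' (δ x) = Φ₂.B p x • δ' a := fun x => by simp [ha, p3]
    have p6 : δ' a ∈ LinearMap.range δ :=
      k5 _ ⟨a, rfl⟩ (by simp [ha, p4, hO.skew_self h2 k1 a])
    obtain ⟨_, ⟨x, rfl⟩, hx⟩ := SetLike.not_le_iff_exists.1 k3
    have p7 : δ (δ' x) + δ' (δ x) ≠ 0 := fun e => hx (k5 _ ⟨x, rfl⟩ (by
      have e1 := congrArg (Φ₂.B x) e
      rw [p5] at e e1
      simp only [ha, Fm.rt_apply, Φ₂.bsimp, p4, hO.symm p x] at e1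
      have e2 := k1 a x
      rw [hO.symm] at e2
      by_cases h0 : Φ₂.B p x = 0
      · simpa [h0] using e
      · have : Φ₂.B a (δ' x) = 0 := mul_left_cancel₀ (mul_ne_zero h2 h0) (by
          linear_combination -e1 + Φ₂.B p x * e2)
        simp [ha, p4, this]))
    have p8 : ∀ v, (T j).krL LinearMap.id (δ ∘ₗ δ' + δ' ∘ₗ δ) v ∈ LinearMap.range θ := fun v => by
      rw [hθ, (T j).range_krL]
      exact (T j).krL_mem_ts _ (fun x => add_mem (LinearMap.mem_range_self δ _)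
        (show δ' (δ x) ∈ _ from p5 x ▸ Submodule.smul_mem _ _ p6)) v
    refine (hg' ⟨hK j g hg (h.mv_of_line h5 (hN hg) hp p7 fun u => ?_), hg⟩).elim
    have := D.fact hq hg N.one_mem (by simpa using hg') rfl inf_le_right inf_le_left
      (p8 ((T j).tm u x)) ⟨k4 _ ▸ p8 _, _, rfl⟩
    rw [← hr', ← range_cjL]
    simpa using this.2
  obtain ⟨g, hg, hg', hq⟩ := Fm.exists_qMax (H := h.tp.WR ⊓ N) hg₀ hg₁ θ
  rw [(key g hg hg' hq).1, finrank_bot] at hq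
  set P := LinearMap.ker ((T j).tm.flip.compr₂ (cjL g θ))
  have hP : ∀ x, x ∈ P ↔ ∀ u, cjL g θ ((T j).tm u x) = 0 := fun x => LinearMap.ext_iff
  have st : ∀ τ ∈ Φ₂.EG, ∃ x ∈ P, Φ₂.Q x ≠ 0 ∧ Φ₂.B (τ w) x = 0 ∧ Φ₂.B (τ s) x = 0 := fun τ hτ => by
    have h1 : (T j).krR τ ∈ h.tp.WR ⊓ N := ⟨h.tp.krR_mem j τ, hR τ hτ⟩
    have h3 := N.mul_mem (N.inv_mem h1.2) hg
    have h4 : ((T j).krR τ)⁻¹ * g ∉ h.tp.WR ⊓ N := fun h => hg' (by simpa using mul_mem h1 h)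
    obtain ⟨-, x, x0, x1, x2, x3⟩ := key _ h3 h4 (by rwa [Nat.le_zero.1 (hq _ h3 h4)])
    have hI := Φ₂.EG_le_Iso hτ
    refine ⟨τ x, (hP _).2 fun u => ?_, by rwa [hI.2], by rwa [hI.1], by rwa [hI.1]⟩
    simpa [cjL_mul, cjL_apply ((T j).krR τ)⁻¹] using x3 u
  obtain ⟨x₁, a1, a2, a3, a4⟩ := st 1 (one_mem _)
  obtain ⟨τ₁, t1, t2, t3⟩ := hO.exists_move_off h2 hp.symm a2 a4 a3
  obtain ⟨x₂, b1, b2, b3, b4⟩ := st τ₁ t1
  obtain ⟨τ₂, t4, t5, t6⟩ := hO.exists_move_off h2 (hp.map (Φ₂.EG_le_Iso t1)) b2 b3 b4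
  obtain ⟨x₃, c1, c2, c3, c4⟩ := st _ (mul_mem t4 t1)
  rw [mul_app, t5] at c3
  have f1 : P ⊓ LinearMap.ker (Φ₂.B (τ₁ w)) < P :=
    SetLike.lt_iff_le_and_exists.2 ⟨inf_le_left, x₁, a1, fun h => t3 h.2⟩
  have f2 : P ⊓ LinearMap.ker (Φ₂.B (τ₁ w)) ⊓ LinearMap.ker (Φ₂.B (τ₂ (τ₁ s))) <
      P ⊓ LinearMap.ker (Φ₂.B (τ₁ w)) :=
    SetLike.lt_iff_le_and_exists.2 ⟨inf_le_left, x₂, Submodule.mem_inf.2 ⟨b1, b3⟩,
      fun h => t6 (Submodule.mem_inf.1 h).2⟩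
  have f3 : ⊥ < P ⊓ LinearMap.ker (Φ₂.B (τ₁ w)) ⊓ LinearMap.ker (Φ₂.B (τ₂ (τ₁ s))) :=
    SetLike.lt_iff_le_and_exists.2 ⟨bot_le, x₃, Submodule.mem_inf.2 ⟨⟨c1, c3⟩, c4⟩,
      fun h => c2 ((Submodule.mem_bot F).1 h ▸ Φ₂.Q_zero)⟩
  obtain ⟨x, x1, x0, x2⟩ := Φ₂.iso P (by
    have := Submodule.finrank_lt_finrank_of_lt f1
    have := Submodule.finrank_lt_finrank_of_lt f2
    have := Submodule.finrank_lt_finrank_of_lt f3
    rw [hO.d]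
    omega)
  obtain ⟨τ, hτ, c, c0, e⟩ := Fm.Rk.move_pt (Ψ := Φ₂) (Or.inl (by omega)) hw x2 hw0 x0
  obtain ⟨y, d1, d2, d3, -⟩ := st τ hτ
  have k : ∀ x ∈ P, ∀ u u', Φ.B (g⁻¹ ((T j).tm u' x)) ((T j).tm u w) = 0 := fun x hx u u' => by
    rw [Fm.Iso.B_inv_left (D.iso hg)]
    refine Φ.perp_symm ((D.skew.cjL (D.iso hg)).perp_of_eq_zero ?_ ((hP x).1 hx u'))
    rw [range_cjL, hr']
    exact ⟨_, (T j).tm_mem_ts u (Submodule.subset_span (Set.mem_insert w _)), rfl⟩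
  exact hg' ⟨hK j g hg (by
    simpa using (h.mv_of_perp (M.inv_mem (hN hg)) x2 x0 d2 (by simpa [e, c0] using d3) hw hw0
      (k x x1) (k y d1)).inv h.tp.neU), hg⟩

end OP

variable [Fintype ι] [DecidableEq ι]

/-- Descending induction on the set of normalised slots, using only `3`-cycles. -/
theorem TP.le_WR_cyc (hT : TP T) (hR : ∀ i, ∀ τ ∈ Φ₂.EG, (T i).krR τ ∈ M)
    (hp : ∀ j l i, j ≠ l → i ≠ j → i ≠ l → ∃ p ∈ M, p ∈ hT.WR ∧ (T j).Mv (T l) p ∧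
      ∀ m, m ≠ i → m ≠ j → m ≠ l → (T m).Mv (T m) p)
    (step : ∀ N ≤ M, ∀ j, (∀ τ ∈ Φ₂.EG, (T j).krR τ ∈ N) →
      (∀ k, ∀ g ∈ N, (T j).Mv (T k) g → g ∈ hT.WR) → N ≤ hT.WR ⊓ N) : M ≤ hT.WR := by
  have key : ∀ n, ∀ A : Finset ι, Aᶜ.card = n → ∀ g ∈ M, (∀ i ∈ A, (T i).Mv (T i) g) →
      g ∈ hT.WR := fun n => by
    induction n using Nat.strong_induction_on with | h n ih => ?_
    rintro A rfl g hg hA
    by_cases h : ∀ j, j ∈ A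
    · exact fun i => ⟨i, hA i (h i)⟩
    obtain ⟨j, hj⟩ := not_forall.1 h
    have ih' := ih _ (Finset.card_lt_card (Finset.compl_ssubset_compl.2 (Finset.ssubset_insert hj)))
      _ rfl
    let N : Subgroup (V ≃ₗ[F] V) :=
      { carrier := {g | g ∈ M ∧ ∀ i ∈ A, (T i).Mv (T i) g}
        one_mem' := ⟨M.one_mem, fun i _ x => ⟨x, fun _ => rfl⟩⟩
        mul_mem' := fun ha hb => ⟨M.mul_mem ha.1 hb.1, fun i hi => (ha.2 i hi).mul (hb.2 i hi)⟩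
        inv_mem' := fun ha => ⟨M.inv_mem ha.1, fun i hi => (ha.2 i hi).inv hT.neU⟩ }
    refine (step N (fun _ h => h.1) j (fun τ hτ => ⟨hR j τ hτ, fun i hi =>
      (hT.cm_krR (fun e : i = j => hj (e ▸ hi)) τ).mv⟩) (fun l g ⟨hg, hA⟩ hl => ?_) ⟨hg, hA⟩).1
    by_cases hjl : j = l
    · subst hjl
      exact ih' g hg (by simpa [hl] using hA)
    have hl' : l ∉ A := fun e => hjl (hT.mv_inj hl (hA l e))
    by_cases h3 : ∃ i ∉ A, i ≠ j ∧ i ≠ l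
    · obtain ⟨i, hi, h1, h2⟩ := h3
      obtain ⟨p, p1, p2, p3, p4⟩ := hp j l i hjl h1 h2
      have := ih' _ (M.mul_mem (M.inv_mem p1) hg) (Finset.forall_mem_insert _ _ _ |>.2
        ⟨(p3.inv hT.neU).mul hl, fun m hm => ((p4 m (fun e => hi (e ▸ hm)) (fun e => hj (e ▸ hm))
          fun e => hl' (e ▸ hm)).inv hT.neU).mul (hA m hm)⟩)
      simpa using hT.WR.mul_mem p2 this
    push Not at h3
    intro i
    by_cases hi : i ∈ A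
    · exact ⟨i, hA i hi⟩
    by_cases hij : i = j
    · exact ⟨l, hij ▸ hl⟩
    refine ⟨j, hT.mv_of_others fun k hk => ?_⟩
    by_cases hk' : k ∈ A
    · exact ⟨k, fun e => hi (e ▸ hk'), hA k hk'⟩
    · exact ⟨j, Ne.symm hij, h3 k hk' hk ▸ hl⟩
  exact fun g hg => key _ ∅ rfl g hg (by simp)

namespace OT

variable (h : OT T Φ₂ Φ) [Nontrivial ι] [Finite F] (hH : h.tp.WR ⊓ Φ.EG ≤ M) (hG : M ≤ Φ.EG)
include h hH hG

/-- From a slot to another slot. -/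
theorem mv_of_sp (hF : ∀ i, TF (T i) (Φ₁ i) Φ₂ Φ) (hS : ∀ w, Φ₂.Q w = 0 → w ≠ 0 → ∀ g ∈ Φ.Iso,
      (∀ τ ∈ Φ₂.EG, g⁻¹ * (T i).krR τ * g ∈ M) → (∀ u, g ((T i).tm u w) ∈ (T i).sp w) → g ∈ (T i).NG)
    (hg : g ∈ M) {w w' : W} (hw : Φ₂.Q w = 0) (hw0 : w ≠ 0) (hw0' : w' ≠ 0)
    (e : ∀ u, g ((T i).tm u w) ∈ (T j).sp w') : (T i).Mv (T j) g := by
  have hI := Φ.EG_le_Iso (hG hg)
  obtain ⟨p, hp, ep⟩ := h.sw i j
  replace ep : ∀ x v, p ((T j).sl x v) = (T i).sl x (p v) := by simpa using ep j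
  have pm : (T j).Mv (T i) p := fun x => ⟨x, ep x⟩
  obtain ⟨a, d, ea⟩ := pm.exists_tm h.tp.neU h.tp.neW
  have d0 := d.map_ne_zero_iff.2 hw0'
  obtain ⟨τ, hτ, c, c0, eτ⟩ := Fm.Rk.move_pt (Ψ := Φ₂) (Or.inl h.three)
    (((hF j).sing_iff (hF i) hp hw0' d0 fun u => ⟨_, (ea u w').symm⟩).1
      (((hF i).sing_iff (hF j) hI hw0 hw0' e).1 hw)) hw d0 hw0
  have := hS w hw hw0 ((T i).krR τ * (p * g))
    (mul_mem ((hF i).krR_Iso (Φ₂.EG_le_Iso hτ)) (mul_mem hp hI)) (fun κ hκ => by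
      convert M.mul_mem (M.mul_mem (M.inv_mem hg) (h.krR_mem hH j
        (mul_mem (mul_mem (inv_mem hτ) hκ) hτ))) hg using 1
      have : p * (T j).krR (τ⁻¹ * κ * τ) = (T i).krR (τ⁻¹ * κ * τ) * p := LinearEquiv.ext fun v => by
        simp only [mul_app, Tn.krR_eq_sl, ep]
      rw [eq_inv_mul_iff_mul_eq.2 this]
      simp only [map_mul, map_inv]
      group) fun u => by
    obtain ⟨x, hx⟩ := e u
    exact ⟨c • a x, by rw [mul_app, mul_app, ← hx]; simp [ea, eτ]⟩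
  simpa using (pm.inv h.tp.neU).mul (((Tn.mv_of_NG ((T i).krR_mem τ)).inv h.tp.neU).mul
    (Tn.mv_of_NG this))

theorem cyc (j l i : ι) (h1 : j ≠ l) (h2 : i ≠ j) (h3 : i ≠ l) : ∃ p ∈ M, p ∈ h.tp.WR ∧
    (T j).Mv (T l) p ∧ ∀ m, m ≠ i → m ≠ j → m ≠ l → (T m).Mv (T m) p := by
  obtain ⟨p, hp, e⟩ := h.exists_cyc hH l j i
  refine ⟨p, hp, fun m => ⟨_, fun x => ⟨x, e m x⟩⟩, fun x => ⟨x, ?_⟩, fun m a b c x => ⟨x, ?_⟩⟩
  · simpa [Equiv.swap_apply_def, h1, h2, h3, h1.symm, h2.symm, h3.symm] using e j x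
  · simpa [Equiv.swap_apply_def, a, b, c] using e m x

/-- Tensor powers of orthogonal spaces of dimension at least five. -/
theorem le_WR_five (h5 : 5 ≤ finrank F W) (hn : ¬ Φ.EG ≤ M) : M ≤ h.tp.WR := by
  choose Φ₁ h₁ hF using fun i => (T i).exists_TF h.o₂ h.o h.two h.tp.neU h.tp.neW (h.adj i)
  have hK := fun i τ => h.krR_mem hH i (τ := τ)
  have D : OP T Φ₁ Φ₂ Φ M := ⟨h.tp, hF, h.o₂, h.two, hG.trans Φ.EG_le_Iso, hK,
    fun i j g hg w w' => h.mv_of_sp hH hG hF (fun w hw hw0 g => (hF i).mem_NG_five hw hw0 (hK i)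
      h.o₂ h.two h5 fun _ => h.loc hH (by omega) (Or.inl h5) hG hn (h₁ i) (hF i) (Or.inl h5)) hg⟩
  exact h.tp.le_WR_cyc hK (h.cyc hH hG) fun N hN j h1 h2 => D.le_five h5 hN h1 h2

end OT

end Cfsg.Agent.Class.Max
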