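import Mathlib
import Cfsg.Agent.Class.Max.C7OA
import Cfsg.Agent.Class.QF.Disc

/-!
Tensor powers of three-dimensional orthogonal spaces: auxiliary results.
-/

set_option autoImplicit false
set_option linter.unusedSectionVars false

namespace Cfsg.Agent.Class.Max

open Module

variable {F U W V : Type*} [Field F] [AddCommGroup U] [Module F U] [AddCommGroup W]
  [Module F W] [AddCommGroup V] [Module F V]
  [FiniteDimensional F U] [FiniteDimensional F W] [FiniteDimensional F V]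

namespace Fm.IsO

variable {Φ : Fm F W} (hO : Φ.IsO) (h2 : (2 : F) ≠ 0)
include hO h2

/-- Similarities in odd dimension. -/
theorem exists_iso_of_sim (ho : Odd (finrank F W)) {a : W ≃ₗ[F] W} {m : F}
    (h : ∀ x y, m * Φ.B (a x) (a y) = Φ.B x y) : ∃ a' ∈ Φ.Iso, ∃ c : F, c ≠ 0 ∧ ∀ x, a x = c • a' x := by
  obtain ⟨u, hu, e⟩ := QF.gramDet_of_similar hO.qf (Q' := hO.qf) a⁻¹ m (fun v => by
    change Φ.Q _ = m * Φ.Q v
    rw [← hO.Q_of_sim h2 h, app_inv_app]) (finBasis F W) (finBasis F W)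
  have hd := QF.gramDet_ne_zero ((Orth.nd_iff _).1 hO.nd_qf) (finBasis F W)
  obtain ⟨k, hk⟩ := ho
  rw [(Fintype.card_fin _).trans hk] at e
  have h1 : u ^ 2 * m ^ (2 * k + 1) = 1 := mul_right_cancel₀ hd (by rw [← e, one_mul])
  have h3 : u * m ^ (k + 1) * (u * m ^ (k + 1)) = m := by linear_combination m * h1
  have s0 : u * m ^ (k + 1) ≠ 0 := fun e => by
    rw [e, zero_mul] at h3
    simp [← h3] at h1
  refine ⟨LinearEquiv.smulOfNeZero F W _ s0 * a, (hO.tv h2).mem_Iso fun x y => ?_, _, inv_ne_zero s0,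
    fun x => (inv_smul_smul₀ s0 _).symm⟩
  simp only [mul_app, LinearEquiv.smulOfNeZero_apply, Φ.bsimp, hO.σ, ← h x y]
  linear_combination Φ.B (a x) (a y) * h3

theorem move_nonsing [Finite F] (h3 : finrank F W = 3) {v v' : W} (hv : Φ.Q v ≠ 0)
    (e : Φ.Q v' = Φ.Q v) : ∃ τ ∈ Φ.EG, τ v' = v := by
  have key : ∀ v', Φ.Q v' = Φ.Q v → Φ.Q (v - v') ≠ 0 → ∃ τ ∈ Φ.EG, τ v' = v := fun v' e h => by
    obtain ⟨z, hz, ez⟩ := hO.rep (Φ.nd_top.inf_one (z := v) trivial (by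
      rw [hO.B_self]; exact mul_ne_zero h2 hv)) (by
        have := Module.Dual.finrank_ker_add_one_of_ne_zero (f := Φ.B v) fun h => by
          simpa [h, h2, hv] using hO.B_self v
        rw [top_inf_eq]; omega) (Φ.Q (v - v'))
    refine ⟨_, hO.rr_mem h2 h3.ge (ez ▸ h) h ⟨_, by rw [ez]⟩, ?_⟩
    rw [mul_app, hO.r_apply (v - v'), show (Φ.Q (v - v'))⁻¹ * Φ.B (v - v') v' = -1 by
      rw [inv_mul_eq_iff_eq_mul₀ h, hO.Q_sub, Φ.B_sub_left, hO.B_self, e]; ring]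
    simpa using hO.r_of_perp (Φ.perp_symm hz.2)
  by_cases h : Φ.Q (v - v') = 0
  · obtain ⟨a, -, -, -, e1, -, -, m⟩ := hO.klein h2 h3 (e ▸ hv : Φ.Q v' ≠ 0)
    obtain ⟨τ, hτ, eτ⟩ := key (-v') (by rw [Φ.Q_neg, e]) fun h' => mul_ne_zero h2 (mul_ne_zero h2 hv) (by
      rw [hO.Q_sub, e] at h
      rw [hO.Q_sub, Φ.Q_neg, e, map_neg] at h'
      linear_combination h + h')
    exact ⟨_, mul_mem hτ m, by rw [mul_app, hO.nr_apply, hO.r_of_perp (Φ.perp_symm e1), eτ]⟩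
  · exact key v' e h

theorem exists_root (h3 : 3 ≤ finrank F W) {w : W} (hw : Φ.Q w = 0) (hw0 : w ≠ 0) :
    ∃ x : Multiplicative F →* (W ≃ₗ[F] W), (∀ t, x t ∈ Φ.EG) ∧ Function.Injective x ∧
      (∀ t, x t w = w) ∧ (∀ t, ((x t).toLinearMap - 1) ^ 3 = 0) ∧ ∀ t, t ≠ 1 → ∃ c : F, c ≠ 0 ∧
        ((x t).toLinearMap - 1) * ((x t).toLinearMap - 1) = c • Φ.rk w w := by
  obtain ⟨f, y, -, f1, y0, y1, -⟩ := hO.exists_triple h2 h3 hw hw0
  have hv : ∀ t : F, Φ.Valid w (t • y) (Φ.Q (t • y)) := fun t => hO.valid hw (by simp [y1])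
  let x : Multiplicative F →* (W ≃ₗ[F] W) := MonoidHom.mk' (fun t => (hv t.toAdd).eich) fun s t =>
    LinearEquiv.ext fun v => by
      rw [mul_app, Fm.Valid.eich_apply, Fm.Valid.eich_apply, Fm.Valid.eich_apply,
        (hv _).ef_ef (hv _), ← hO.Q_add, toAdd_mul, add_smul]
  have ex : ∀ t v, x t v = Φ.ef w (t.toAdd • y) (Φ.Q (t.toAdd • y)) v := fun _ _ => rfl
  have x2 : ∀ t, ((x t).toLinearMap - 1) * ((x t).toLinearMap - 1) =
      (-(2 * Φ.Q (t.toAdd • y))) • Φ.rk w w := fun t => LinearMap.ext fun v => by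
    simp only [Module.End.mul_apply, LinearMap.sub_apply, LinearEquiv.coe_coe, ex, hO.ef,
      Module.End.one_apply, Φ.bsimp, y1, Φ.B_self hw, hO.symm w y, hO.B_self y, hO.σ, hO.Q_smul,
      Fm.rk_apply, LinearMap.smul_apply]
    module
  refine ⟨x, fun t => (hv _).eich_mem, (injective_iff_map_eq_one _).2 fun t ht => ?_,
    fun t => (hv _).ef_self, fun t => ?_, fun t ht => ⟨_, by simp [h2, y0, hO.Q_smul, ht], x2 t⟩⟩
  · simpa [ex, hO.ef, f1, hO.B_self, y0, h2, Φ.perp_symm y1] using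
      congrArg (Φ.B y) (LinearEquiv.congr_fun ht f)
  · rw [pow_three', x2]
    exact LinearMap.ext fun v => by simp [ex, (hv _).B_ef]

end Fm.IsO

variable {Φ₂ : Fm F W} {Φ : Fm F V} {g : V ≃ₗ[F] V}

namespace Tn

variable {T : Tn F U W V}

theorem exists_kr_of_smul (hU : ∃ u : U, u ≠ 0) {a a' : U ≃ₗ[F] U} {c : F}
    (h : ∀ u, a u = c • a' u) (d : W ≃ₗ[F] W) : ∃ d', T.kr a d = T.kr a' d' := by
  obtain ⟨d', e⟩ := T.exists_krR_of_smul (a := a'⁻¹ * a) d hU ⟨c, fun u => by simp [h]⟩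
  exact ⟨d', T.ext' fun u w => by simpa using congrArg (T.kr a' 1) (LinearEquiv.congr_fun e (T.tm u w))⟩

theorem exists_kr_of_tm (hU : ∃ u : U, u ≠ 0) (hg : g ∈ T.NG) {a : U ≃ₗ[F] U} {c : F} {w : W}
    (hw : w ≠ 0) (c0 : c ≠ 0) (h : ∀ u, g (T.tm u w) = c • T.tm (a u) w) : ∃ d, g = T.kr a d := by
  obtain ⟨a', d, rfl⟩ := hg
  obtain ⟨φ, hφ⟩ := exists_dual_eq_one (F := F) hw
  have k : ∀ u, φ (d w) • a' u = c • a u := fun u => by simpa [hφ] using congrArg (T.cR φ) (h u)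
  obtain ⟨u, hu⟩ := hU
  have k0 : φ (d w) ≠ 0 := fun e => hu (by simpa [e, c0] using (k u).symm)
  exact exists_kr_of_smul ⟨u, hu⟩ (c := (φ (d w))⁻¹ * c)
    (fun u => by rw [mul_smul, eq_inv_smul_iff₀ k0, k]) d

theorem SyS.add {b c : End F V} (hb : T.SyS Φ₂ b) (hc : T.SyS Φ₂ c) : T.SyS Φ₂ (b + c) :=
  fun x y z z' => by rw [mul_add, add_mul, mul_add, add_mul, hb, hc]

theorem syS_of_comm (h₂ : Φ₂.IsO) (h2 : (2 : F) ≠ 0) (h3 : finrank F W = 3) {e a c : W}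
    (he : Φ₂.Q e ≠ 0) (ha : Φ₂.Q a ≠ 0) (hc : Φ₂.Q c ≠ 0) (e1 : Φ₂.B e a = 0) (e2 : Φ₂.B e c = 0)
    (e3 : Φ₂.B a c = 0) {b : End F V} (h1 : ∀ v, b (T.krR (h₂.nr a) v) = T.krR (h₂.nr a) (b v))
    (h4 : ∀ v, b (T.krR (h₂.nr c) v) = T.krR (h₂.nr c) (b v)) : T.SyS Φ₂ b := by
  have h5 : ∀ v, b (T.krR (h₂.nr e) v) = T.krR (h₂.nr e) (b v) := fun v => by
    rw [h₂.nr_eq h2 h3 he ha hc e1 e2 e3, ← h₂.nr_mul, map_mul, mul_app, mul_app, h1, h4]
  have n : ∀ x v, T.krR (h₂.nr x) v = (Φ₂.Q x)⁻¹ • T.sl (Φ₂.rk x x) v - v := fun x =>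
    T.ext (f := (T.krR (h₂.nr x)).toLinearMap) (g := (Φ₂.Q x)⁻¹ • T.sl (Φ₂.rk x x) - LinearMap.id)
      fun u w => by simp [h₂.nr_apply, h₂.r_apply, smul_smul]
  have k : ∀ x, Φ₂.Q x ≠ 0 → (∀ v, b (T.krR (h₂.nr x) v) = T.krR (h₂.nr x) (b v)) →
      T.SyS Φ₂ (((2 * Φ₂.Q x)⁻¹ • T.sl (Φ₂.rk x x)) * b) := fun x hx h => by
    convert syS_rk (T := T) h₂ x (((2 * Φ₂.Q x)⁻¹ * (2 * Φ₂.Q x)⁻¹) • b) using 1
    refine LinearMap.ext fun v => ?_
    have : ∀ v, b (T.sl (Φ₂.rk x x) v) = T.sl (Φ₂.rk x x) (b v) := fun v => by simpa [n, hx] using h v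
    simp only [End.mul_apply, LinearMap.smul_apply, this, map_smul]
    simp only [Fm.rk, sl_rk_rk, h₂.B_self, smul_smul, mul_assoc, inv_mul_cancel₀ (mul_ne_zero h2 hx),
      mul_one]
  convert ((k e he h5).add (k a ha h1)).add (k c hc h4) using 1
  have := LinearEquiv.congr_fun (congrArg T.krR ((h₂.nr_eq h2 h3 he ha hc e1 e2 e3).trans
    (h₂.nr_mul a c).symm))
  refine LinearMap.ext fun v => ?_
  have p := this (b v)
  simp only [map_mul, mul_app, n, map_sub, map_smul, Fm.rk, sl_rk_rk, e3] at p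
  simp only [LinearMap.add_apply, End.mul_apply, LinearMap.smul_apply, Fm.rk, mul_inv, mul_smul]
  rw [← smul_add, ← smul_add, eq_inv_smul_iff₀ h2]
  linear_combination (norm := module) -p

end Tn

variable {ι : Type*} [Fintype ι] [DecidableEq ι] {T : ι → Tn F U W V} {i j l : ι}

theorem TP.mem_NG_of_sp (hT : TP T) (hg : g ∈ hT.WR) {w : W} (hw : w ≠ 0)
    (e : ∀ u, g ((T i).tm u w) ∈ (T i).sp w) : g ∈ (T i).NG := by
  obtain ⟨j, hj⟩ := hg i
  by_cases hij : i = j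
  · exact Tn.Mv.mem_NG hT.neU hT.neW (hij ▸ hj)
  obtain ⟨a, d, ea⟩ := hj.exists_tm hT.neU hT.neW
  have h1 := hT.finrank_inf hij (Submodule.span F {w}) (Submodule.span F {d w})
  rw [← Tn.sp_eq_ts, ← Tn.sp_eq_ts, inf_eq_right.2 (by
    rintro _ ⟨u, rfl⟩
    simpa [ea] using e (a⁻¹ u)), Tn.finrank_sp _ (d.map_ne_zero_iff.2 hw),
    finrank_span_singleton hw, finrank_span_singleton (d.map_ne_zero_iff.2 hw)] at h1
  have := hT.two
  have := (finrank_pos_iff_exists_ne_zero (R := F)).2 hT.neU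
  nlinarith

theorem TP.cjL_krR_mul (hT : TP T) (m : ι) {τ : W ≃ₗ[F] W} {x y : End F W}
    (hx : m = j → cjL τ x = x) (hy : m = l → cjL τ y = y) :
    cjL ((T m).krR τ) ((T j).sl x * (T l).sl y) = (T j).sl x * (T l).sl y := by
  have k : ∀ j x, (m = j → cjL τ x = x) → cjL ((T m).krR τ) ((T j).sl x) = (T j).sl x :=
    fun j x hx => by
      by_cases h : m = j
      · rw [← h, Tn.cjL_krR_sl, hx h]
      · exact (hT.cm m j h x).cjL_krR τ
  rw [cjL_mul', k j x hx, k l y hy]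

namespace OT

variable (h : OT T Φ₂ Φ) (hjl : j ≠ l)
include h hjl

/-- A diagonal involution outside the wreath product. -/
theorem exists_rho {a : W} (ha : Φ₂.Q a ≠ 0) : ∃ ρ ∈ Φ.Iso, ρ ∉ h.tp.WR ∧
    ∀ m, ∀ τ ∈ Φ₂.Iso, (τ a = a ∨ τ a = -a) → (T m).krR τ * ρ = ρ * (T m).krR τ := by
  have h₂ := h.o₂
  let P := (2 * Φ₂.Q a)⁻¹ • Φ₂.rk a a
  have eP : ∀ x, P x = ((2 * Φ₂.Q a)⁻¹ * Φ₂.B a x) • a := fun x => by simp [P, smul_smul]
  have Pa : P a = a := by rw [eP, h₂.B_self, inv_mul_cancel₀ (mul_ne_zero h.two ha), one_smul]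
  have PP : P * P = P := LinearMap.ext fun x => by rw [End.mul_apply, eP x, map_smul, Pa]
  have ad : Φ₂.adj P = P := by rw [Φ₂.adj_smul, h₂.adj_rk', h₂.σ]
  let E := (T j).sl P * (T l).sl P
  have cm := (h.tp.cm j l hjl P).app
  have EE : ∀ v, E (E v) = E v := fun v => by
    simp only [E, End.mul_apply, cm, Tn.sl_sl, PP]
  have aE : ∀ v v', Φ.B (E v) v' = Φ.B v (E v') := fun v v' => by
    simp only [E, End.mul_apply, h.adj, ad, cm]
  let ρ := LinearEquiv.ofInvolutive (1 - (2 : F) • E) fun v => by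
    simp only [LinearMap.sub_apply, End.one_apply, LinearMap.smul_apply, map_sub, map_smul, EE]
    module
  have eρ : ∀ v, ρ v = v - (2 : F) • E v := fun _ => rfl
  have a0 : a ≠ 0 := fun e => ha (by rw [e, Φ₂.Q_zero])
  refine ⟨ρ, (h.o.tv h.two).mem_Iso fun x y => ?_, fun hρ => ?_, fun m τ hτ e => ?_⟩
  · simp only [eρ, Φ.bsimp, h.o.σ, aE, EE]
    ring
  · obtain ⟨c, c0, hc, -⟩ := Fm.exists_perp_pair (Ψ := Φ₂) h.three a a
    have k : ∀ u, ρ ((T j).tm u c) = (1 : F) • (T j).tm ((1 : U ≃ₗ[F] U) u) c := fun u => by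
      simp [eρ, E, ← cm, eP, hc]
    obtain ⟨d, ed⟩ := Tn.exists_kr_of_tm h.tp.neU (h.tp.mem_NG_of_sp hρ c0 fun u => by
      rw [k, one_smul]; exact (T j).tm_mem_sp _ _) c0 one_ne_zero k
    obtain ⟨v, hv⟩ := h.tp.exists_sl_ne_zero hjl (x := P) (y := Φ₂.rk c a * P - P * Φ₂.rk c a)
      (fun e => a0 (by rw [← Pa, e]; rfl)) fun e => c0 (by
        simpa [eP, hc, h₂.B_self, h.two, ha] using LinearMap.congr_fun e a)
    have := h.tp.cm_krR hjl.symm d (Φ₂.rk c a) v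
    change (T j).kr 1 d _ = (T l).sl _ ((T j).kr 1 d _) at this
    simp only [← ed, eρ, map_sub, map_smul, sub_right_inj, E, End.mul_apply] at this
    refine hv (smul_right_injective V h.two ?_)
    simp only [map_sub, map_mul, LinearMap.sub_apply, End.mul_apply, smul_sub, this,
      (h.tp.cm j l hjl _).app, sub_self, smul_zero]
  · have k : cjL τ P = P := LinearMap.ext fun x => by
      rw [cjL_apply, eP, eP, Fm.Iso.B_inv hτ]
      rcases e with e | e <;> simp [e]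
    refine LinearEquiv.ext fun v => ?_
    rw [mul_app, mul_app, eρ, eρ, map_sub, map_smul, ← cjL_app, h.tp.cjL_krR_mul m (fun _ => k)
      fun _ => k]

/-- A long root element. -/
theorem exists_long {η : End F W} (hη : Φ₂.Skew η) {w : W} (hw : Φ₂.Q w = 0) : ∃ n ∈ Φ.Iso,
    ∀ v, n v = v + ((T j).sl η * (T l).sl (Φ₂.rk w w)) v := by
  have cm := fun y => (h.tp.cm j l hjl y).app
  have q : ∀ v, ((T j).sl η * (T l).sl (Φ₂.rk w w)) (((T j).sl η * (T l).sl (Φ₂.rk w w)) v) = 0 :=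
    fun v => by simp [cm, Fm.rk, Tn.sl_rk_rk, Φ₂.B_self hw]
  have s : Φ.Skew ((T j).sl η * (T l).sl (Φ₂.rk w w)) := fun x y => by
    rw [End.mul_apply, h.adj, h.adj, h.o₂.adj_rk', show Φ₂.adj η = -η from LinearMap.ext fun v =>
      Fm.adj_eq fun y => by simp [hη v y], cm]
    simp
  exact ⟨unip _ q, (h.o.tv h.two).mem_Iso fun x y => by
    simp only [unip_apply, Φ.bsimp, s x, q]; simp, fun _ => rfl⟩

end OT

end Cfsg.Agent.Class.Max
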