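import Mathlib
import Cfsg.Agent.Class.Max.C7OB

/-!
Tensor powers of three-dimensional orthogonal spaces: induction on the number of factors.
-/

set_option autoImplicit false
set_option linter.unusedSectionVars false

namespace Cfsg.Agent.Class.Max

open Module

section Step

variable {F X U W V : Type*} [Field F] [AddCommGroup U] [Module F U] [AddCommGroup W]
  [Module F W] [AddCommGroup V] [Module F V] [AddCommGroup X] [Module F X] [FiniteDimensional F X]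
  [FiniteDimensional F U] [FiniteDimensional F W] [FiniteDimensional F V]
  {ι : Type*} [Fintype ι] [DecidableEq ι]

/-- The complement of a slot, with the induction hypothesis. -/
structure Dn (T : ι → Tn F U W V) (Φ₂ : Fm F W) (Φ : Fm F V) (i : ι) (Φ₁ : Fm F U)
    (T' : {j // j ≠ i} → Tn F X W U) : Prop where
  tf : TF (T i) Φ₁ Φ₂ Φ
  ot : OT T' Φ₂ Φ₁
  e : ∀ j x, (T i).swap.sl ((T' j).sl x) = (T j).sl x
  nt : ∃ j l : {j // j ≠ i}, j ≠ l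
  odd : Odd (finrank F U)
  ih : ∀ G, ot.tp.WR ⊓ Φ₁.Iso ≤ G → G ≤ Φ₁.Iso → G ≤ ot.tp.WR ∨ Φ₁.Iso ≤ G

variable {T : ι → Tn F U W V} {Φ₂ : Fm F W} {Φ : Fm F V} {i : ι} {Φ₁ : Fm F U}
  {T' : {j // j ≠ i} → Tn F X W U} {M : Subgroup (V ≃ₗ[F] V)} {g : V ≃ₗ[F] V}

namespace Dn

variable (D : Dn T Φ₂ Φ i Φ₁ T')
include D

theorem tm (j : {j // j ≠ i}) (x : End F W) (u : U) (y : W) :
    (T i).tm ((T' j).sl x u) y = (T j).sl x ((T i).tm u y) := by rw [← D.e, Tn.swap_sl_tm]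

variable (h : OT T Φ₂ Φ)

theorem kr_mem_WR {a : U ≃ₗ[F] U} (ha : a ∈ D.ot.tp.WR) (d : W ≃ₗ[F] W) :
    (T i).kr a d ∈ h.tp.WR := fun m => by
  by_cases hm : m = i
  · exact ⟨i, hm.symm ▸ Tn.mv_of_NG ((T i).kr_mem a d)⟩
  obtain ⟨l, hl⟩ := ha ⟨m, hm⟩
  exact ⟨l, fun x => (hl x).imp fun x' e => (T i).ext (f := ((T i).kr a d).toLinearMap ∘ₗ (T m).sl x)
    (g := (T l).sl x' ∘ₗ ((T i).kr a d).toLinearMap) fun u y => by
      simp only [LinearMap.comp_apply, LinearEquiv.coe_coe, ← D.tm ⟨m, hm⟩, Tn.kr_tm, e, ← D.tm l]⟩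

variable [Finite F] [Nontrivial ι] (hH : h.tp.WR ⊓ Φ.EG ≤ M)
include hH

theorem exists_kr {a : U ≃ₗ[F] U} (ha : a ∈ D.ot.tp.WR ⊓ Φ₁.Iso) :
    ∃ d ∈ Φ₂.Iso, (T i).kr a d ∈ M := by
  obtain ⟨d, hd, e⟩ := D.tf.cov h.o₂ h.o h.two D.odd h.three
    (show (T i).kr a 1 ∈ Φ.Iso from (T i).swap_kr a 1 ▸ D.tf.swap.krR_Iso ha.2)
  rw [show (T i).krR d * (T i).kr a 1 = (T i).kr a d from (T i).ext' fun u w => by simp] at e
  exact ⟨d, hd, hH ⟨D.kr_mem_WR h ha.1 d, e⟩⟩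

variable (h3 : finrank F W = 3) (hq : Nat.card F ≠ 3) (hG : M ≤ Φ.EG) (hn : ¬ Φ.EG ≤ M)
include h3 hq hG hn

theorem exists_not_kr {j l : {j // j ≠ i}} (hjl : l ≠ j) {w : W} (hw : Φ₂.Q w = 0) (hw0 : w ≠ 0) :
    ∃ a ∈ Φ₁.Iso, (∀ d, (T i).kr a d ∉ M) ∧
      ∀ τ ∈ Φ₂.Iso, τ w = w → (T' j).krR τ * a = a * (T' j).krR τ := by
  have h₂ := h.o₂
  obtain ⟨f, y, hf, e1, y0, y1, y2⟩ := h₂.exists_triple h.two h.three hw hw0
  obtain ⟨a, ha, ea⟩ := D.ot.exists_long hjl (h₂.skew_rt w y) hw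
  refine ⟨a, ha, fun d hd => ?_, fun τ hτ e => LinearEquiv.ext fun v => ?_⟩
  swap
  · rw [mul_app, mul_app, ea, ea, map_add, ← cjL_app, D.ot.tp.cjL_krR_mul j
      (fun e => absurd e.symm hjl) fun _ => LinearMap.ext fun x => by rw [Fm.cjL_rk hτ, e]]
  obtain ⟨κ, hκ, c, c0, ec⟩ := Fm.Rk.move_pt (Ψ := Φ₂) (Or.inl h.three) hw hf hw0
    fun h => by simp [h] at e1
  have hk := h.krR_mem hH l hκ
  have m := M.mul_mem (M.mul_mem (M.mul_mem hd hk) (M.inv_mem hd)) (M.inv_mem hk)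
  have hjl' : j.1 ≠ l := fun e => hjl (Subtype.ext e.symm)
  have cm := fun y => (D.ot.tp.cm l j hjl y).app
  have := h.eq_zero_of_hasU hH (fun h => hq h.1) (Or.inr (h₂.wide_three h.two h3)) hG hn hw hw0
    (h.tp.cm j l hjl' (Φ₂.rt w y - cjL κ (Φ₂.rt w y))) ⟨_, m, by
      rw [← Tn.kr_krR (D.e l), Tn.kr_inv, Tn.kr_inv, ← Tn.kr_mul, ← Tn.kr_mul, ← Tn.kr_mul]
      refine (T i).ext (g := LinearMap.id + _ * _) fun u x => ?_
      rw [LinearEquiv.coe_coe, Tn.kr_tm, mul_app, mul_app, mul_app, inv_apply_of_unip (A := _ * _)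
        (fun v => by simp [cm, Fm.rk, Tn.sl_rk_rk, Φ₂.B_self hw]) ea, map_sub, app_inv_app,
        ← cjL_apply, cjL_mul', Tn.cjL_krR_sl, (D.ot.tp.cm l j hjl _).cjL_krR, ea]
      simp [← D.tm, cm, Fm.rk, Tn.sl_rk_rk, Φ₂.B_self hw]
      abel⟩
  have := LinearMap.congr_fun ((T l).sl_inj h.tp.neU (y := 0) fun v => by rw [this, map_zero]) (κ w)
  rw [LinearMap.sub_apply, cjL_app, ec] at this
  exact y0 (by
    rw [show y = 0 by simpa [c0, e1, Φ₂.perp_symm y2, Φ₂.perp_symm y1, Φ₂.B_self hw] using this,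
      Φ₂.Q_zero])

theorem mem_WR' {a : U ≃ₗ[F] U} (ha : a ∈ Φ₁.Iso) {d : W ≃ₗ[F] W} (hd : (T i).kr a d ∈ M) :
    a ∈ D.ot.tp.WR := by
  let G : Subgroup (U ≃ₗ[F] U) :=
    { carrier := {a | a ∈ Φ₁.Iso ∧ ∃ d, (T i).kr a d ∈ M}
      one_mem' := ⟨one_mem _, 1, by rw [Tn.kr_one]; exact M.one_mem⟩
      mul_mem' := fun ⟨h1, d, hd⟩ ⟨h2, d', hd'⟩ =>
        ⟨mul_mem h1 h2, d * d', by rw [Tn.kr_mul]; exact M.mul_mem hd hd'⟩
      inv_mem' := fun ⟨h1, d, hd⟩ => ⟨inv_mem h1, d⁻¹, by rw [← Tn.kr_inv]; exact M.inv_mem hd⟩ }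
  obtain ⟨j, l, hjl⟩ := D.nt
  obtain ⟨w, -, hw0, hw⟩ := Φ₂.iso ⊤ (by rw [finrank_top, h.o₂.d, h3])
  obtain ⟨b, hb, k, -⟩ := D.exists_not_kr h hH h3 hq hG hn hjl hw hw0
  exact (D.ih G (fun a ha => let ⟨d, _, e⟩ := D.exists_kr h hH ha; ⟨ha.2, d, e⟩)
    fun _ h => h.1).resolve_right (fun h => let ⟨_, d, e⟩ := h hb; k d e) ⟨ha, d, hd⟩

omit hH h3 hq hG hn in
theorem exists_iso {a : U ≃ₗ[F] U} {d : W ≃ₗ[F] W} (hd : (T i).kr a d ∈ Φ.Iso) :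
    ∃ a' ∈ Φ₁.Iso, ∃ c : F, c ≠ 0 ∧ ∀ u, a u = c • a' u :=
  let ⟨_, _, _, e⟩ := D.tf.swap.exists_sim ((T i).swap_kr a d ▸ hd :)
  D.ot.o.exists_iso_of_sim D.ot.two D.odd e

theorem mem_WR (hg : g ∈ M) (hN : g ∈ (T i).NG) : g ∈ h.tp.WR := by
  obtain ⟨a, d, rfl⟩ := hN
  obtain ⟨a', ha, c, -, e⟩ := D.exists_iso (Φ.EG_le_Iso (hG hg))
  obtain ⟨d', e'⟩ := Tn.exists_kr_of_smul (T := T i) h.tp.neU e d
  exact e' ▸ D.kr_mem_WR h (D.mem_WR' h hH h3 hq hG hn ha (e' ▸ hg)) d'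

omit hq hG hn in
theorem exists_kr_fix {w : W} (hw0 : w ≠ 0) {a : U ≃ₗ[F] U} (ha : a ∈ D.ot.tp.WR ⊓ Φ₁.Iso) :
    ∃ d c, c ≠ (0 : F) ∧ (T i).kr a d ∈ M ∧ d w = c • w ∧ (Φ₂.Q w ≠ 0 → c = 1) := by
  obtain ⟨d, hd, e⟩ := D.exists_kr h hH ha
  obtain ⟨τ, hτ, c, c0, ec, c1⟩ : ∃ τ ∈ Φ₂.EG, ∃ c : F, c ≠ 0 ∧ τ (d w) = c • w ∧
      (Φ₂.Q w ≠ 0 → c = 1) := by
    by_cases hw : Φ₂.Q w = 0
    · obtain ⟨τ, hτ, c, c0, ec⟩ := Fm.Rk.move_pt (Ψ := Φ₂) (Or.inl h.three) ((hd.2 w).trans hw) hw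
        (d.map_ne_zero_iff.2 hw0) hw0
      exact ⟨τ, hτ, c, c0, ec, fun h => absurd hw h⟩
    · obtain ⟨τ, hτ, e⟩ := h.o₂.move_nonsing h.two h3 hw (hd.2 w)
      exact ⟨τ, hτ, 1, one_ne_zero, by rw [e, one_smul], fun _ => rfl⟩
  refine ⟨τ * d, c, c0, ?_, ec, c1⟩
  convert M.mul_mem (h.krR_mem hH i hτ) e using 1
  exact (T i).ext' fun u w => by simp

omit hq hG hn in
theorem cases {w : W} (hw0 : w ≠ 0) :
    (∀ a ∈ Φ₁.Iso, ∀ g ∈ M, ∀ c : F, c ≠ 0 → (∀ u, g ((T i).tm u w) = c • (T i).tm (a u) w) →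
      a ∈ D.ot.tp.WR) ∨
    ∀ a ∈ Φ₁.Iso, ∃ g ∈ M, ∃ c : F, c ≠ 0 ∧ ∀ u, g ((T i).tm u w) = c • (T i).tm (a u) w := by
  let G : Subgroup (U ≃ₗ[F] U) :=
    { carrier := {a | a ∈ Φ₁.Iso ∧ ∃ g ∈ M, ∃ c : F, c ≠ 0 ∧
        ∀ u, g ((T i).tm u w) = c • (T i).tm (a u) w}
      one_mem' := ⟨one_mem _, 1, M.one_mem, 1, one_ne_zero, fun u => by simp⟩
      mul_mem' := fun ⟨h1, g, hg, c, c0, e⟩ ⟨h2, g', hg', c', c0', e'⟩ =>
        ⟨mul_mem h1 h2, _, M.mul_mem hg hg', _, mul_ne_zero c0' c0, fun u => by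
          simp [e, e', mul_smul]⟩
      inv_mem' := fun ⟨h1, g, hg, c, c0, e⟩ => ⟨inv_mem h1, _, M.inv_mem hg, _, inv_ne_zero c0,
        fun u => g.injective (by simp [e, c0])⟩ }
  exact (D.ih G (fun a ha => let ⟨_, c, c0, e, ec, _⟩ := D.exists_kr_fix h hH h3 hw0 ha
    ⟨ha.2, _, e, c, c0, fun u => by simp [ec]⟩) fun _ h => h.1).imp
      (fun k a ha g hg c c0 e => k ⟨ha, g, hg, c, c0, e⟩) fun k a ha => (k ha).2

/-- The stabiliser of `U ⊗ w` for singular `w`. -/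
theorem mem_NG {w : W} (hw : Φ₂.Q w = 0) (hw0 : w ≠ 0) (hg : g ∈ M)
    (hE : ∀ u, g ((T i).tm u w) ∈ (T i).sp w) : g ∈ (T i).NG := by
  have h₂ := h.o₂
  have hI := hG.trans Φ.EG_le_Iso
  have hW : Φ₂.Wide := Or.inr (h₂.wide_three h.two h3)
  have hL := h.loc hH (fun h => hq h.1) hW hG hn D.ot.o D.tf
    (Or.inr ⟨h₂.wide_three h.two h3, Or.inl h3⟩) hw hw0
  have hK := fun τ => h.krR_mem hH i (τ := τ)
  have dec := fun g (hg : g ∈ M) => D.tf.exists_nu_stab hw hw0 hL hK h.three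
    (h₂.irw_torus h.two hw hw0 h.three hq) (hI hg)
    fun τ hτ => M.mul_mem (M.mul_mem (M.inv_mem hg) (hK τ hτ)) hg
  rcases D.cases h hH h3 hw0 with k | k
  · obtain ⟨a, d, z, C, h1, h2, e, ez, -⟩ := dec g hg hE
    obtain ⟨a', ha, c, c0, ea⟩ := D.exists_iso h1
    have z1 : ∀ u, z ((T i).tm u w) = (T i).tm u w := fun u => by
      simp [ez, Tn.xl_apply, Φ₂.B_self hw]
    have zE := D.tf.mem_EG_of_unip ((Φ.Iso.mul_mem_cancel_left (hI hg)).1 (e ▸ h1)) hw z1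
      fun v hv => by simp [ez, Tn.xl_apply, hv]
    obtain ⟨d', e'⟩ := Tn.exists_kr_of_smul (T := T i) h.tp.neU ea d
    obtain ⟨b, hb⟩ := hL.Z C ⟨z, (M.mul_mem_cancel_left hg).1 (hH ⟨by
      rw [e, e']
      exact D.kr_mem_WR h (k a' ha g hg c c0 fun u => by
        rw [← z1, ← mul_app, e]; simp [h2, ea]) d', mul_mem (hG hg) zE⟩), ez⟩
    exact ((T i).NG.mul_mem_cancel_right (TF.mem_NG_of_smul hw ez hb)).1 (e ▸ (T i).kr_mem a d)
  obtain ⟨j, l, hjl⟩ := D.nt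
  obtain ⟨v₀, -, -, hv₀, -⟩ := h₂.exists_two_classes h.two h3
  obtain ⟨a, -, ha, -, -, -, -, m⟩ := h₂.klein h.two h3 hv₀
  obtain ⟨c, b, hc, hb, e1, e2, e3, m'⟩ := h₂.klein h.two h3 ha
  obtain ⟨ρ, hρ, n, cρ⟩ := D.ot.exists_rho hjl ha
  obtain ⟨g, hg, s, s0, eg⟩ := k ρ hρ
  obtain ⟨a', d, z, C, h1, h2, e, ez, -⟩ := dec g hg fun u => by
    rw [eg]; exact Submodule.smul_mem _ _ ((T i).tm_mem_sp _ _)
  have z1 : ∀ u, z ((T i).tm u w) = (T i).tm u w := fun u => by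
    simp [ez, Tn.xl_apply, Φ₂.B_self hw]
  obtain ⟨d', e'⟩ := Tn.exists_kr_of_tm h.tp.neU (e ▸ (T i).kr_mem a' d) hw0 s0 fun u => by
    rw [mul_app, z1, eg]
  have zI := (Φ.Iso.mul_mem_cancel_left (hI hg)).1 (e ▸ h1)
  have cC : ∀ m, ∀ τ ∈ Φ₂.EG, (τ a = a ∨ τ a = -a) → ∀ u, C ((T' m).krR τ u) = (T' m).krR τ (C u) :=
    fun m τ hτ eτ u => by
      have hk := Tn.kr_krR (D.e m) τ ▸ h.krR_mem hH m hτ
      set κ := (T' m).krR τ
      have := h.eq_zero_of_hasU hH (fun h => hq h.1) hW hG hn hw hw0 (Tn.cm_swap (C - cjL κ C))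
        ⟨_, M.mul_mem (M.mul_mem (M.mul_mem (M.inv_mem hg) hk) hg) (M.inv_mem hk), fun v => by
          rw [show g⁻¹ * (T i).kr κ 1 * g * ((T i).kr κ 1)⁻¹ =
              z * ((T i).kr κ 1 * z⁻¹ * ((T i).kr κ 1)⁻¹) by
            have : (T i).kr κ 1 * (g * z) = g * z * (T i).kr κ 1 := by
              rw [e', ← Tn.kr_mul, ← Tn.kr_mul, cρ m τ (Φ₂.EG_le_Iso hτ) eτ, mul_one, one_mul]
            rw [mul_assoc g⁻¹, show (T i).kr κ 1 * g = g * z * (T i).kr κ 1 * z⁻¹ by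
              rw [← this]; group]
            group, ← Tn.xl_eq_rk, mul_app, mul_app, mul_app, inv_apply_of_unip
              (fun v => by simp [Tn.xl_apply, Φ₂.B_self hw]) ez, map_sub, app_inv_app, ez]
          simp [Tn.xl_apply, Φ₂.B_self hw, cjL_apply, Tn.kr_inv, Tn.cR_kr]
          abel⟩
      rw [← cjL_app, ← sub_eq_zero.1 ((T i).swap_sl_inj h.tp.neW (this.trans (map_zero _).symm))]
  have s1 := D.ot.symm_of (b := C) fun m => Tn.syS_of_comm h₂ h.two h3 hb ha hc (Φ₂.perp_symm e2)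
    (Φ₂.perp_symm e3) e1 (cC m _ ‹_› (Or.inl (by rw [h₂.nr_apply, h₂.r_self ha, neg_neg])))
    (cC m _ m' (Or.inr (by rw [h₂.nr_apply, h₂.r_of_perp (Φ₂.perp_symm e1)])))
  have C0 : C = 0 := LinearMap.ext fun u => Φ₁.nondeg _ fun y => mul_left_cancel₀ h.two (by
    linear_combination s1 u y + D.tf.skew_of_hasU h₂ le_rfl hw hw0 ⟨z, zI, ez⟩ u y)
  rw [show z = 1 from LinearEquiv.ext fun v => by simp [ez, C0, Tn.xl_apply], mul_one] at e'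
  exact absurd (D.mem_WR' h hH h3 hq hG hn hρ (e' ▸ hg)) n

theorem mem_WR_of_comm {w : W} (hw : Φ₂.Q w = 0) (hw0 : w ≠ 0) {x : W ≃ₗ[F] W}
    (hx : ∃ c : F, c ≠ 0 ∧ (x.toLinearMap - 1) * (x.toLinearMap - 1) = c • Φ₂.rk w w) (hg : g ∈ M)
    (e : g * (T i).krR x = (T i).krR x * g) : g ∈ h.tp.WR := by
  obtain ⟨c, c0, hx⟩ := hx
  obtain ⟨f, -, e1⟩ := Fm.exists_partner' hw hw0
  have k : ∀ v, g ((T i).sl (x.toLinearMap - 1) v) = (T i).sl (x.toLinearMap - 1) (g v) := fun v => by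
    simpa [← Tn.krR_eq_sl] using LinearEquiv.congr_fun e v
  refine D.mem_WR h hH h3 hq hG hn hg (D.mem_NG h hH h3 hq hG hn hw hw0 hg fun u => ?_)
  have := k ((T i).sl (x.toLinearMap - 1) ((T i).tm (c⁻¹ • u) f))
  rw [k ((T i).tm _ f), Tn.sl_sl, Tn.sl_sl, hx, Tn.sl_tm] at this
  rw [show (T i).tm u w = (T i).tm (c⁻¹ • u) ((c • Φ₂.rk w w) f) by simp [e1, c0], this, map_smul,
    LinearMap.smul_apply, Fm.rk, Tn.sl_rk]
  exact Submodule.smul_mem _ _ ((T i).tm_mem_sp _ _)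

end Dn

namespace OT

variable (h : OT T Φ₂ Φ) [Finite F] [Nontrivial ι] {Φ₁ : ι → Fm F U}
  {T' : ∀ i, {j // j ≠ i} → Tn F X W U} (D : ∀ i, Dn T Φ₂ Φ i (Φ₁ i) (T' i))
  (hH : h.tp.WR ⊓ Φ.EG ≤ M) (h3 : finrank F W = 3) (hq : Nat.card F ≠ 3) (hG : M ≤ Φ.EG)
  (hn : ¬ Φ.EG ≤ M)
include D hH h3 hq hG hn

/-- The stabiliser of `U ⊗ v` for non-singular `v`. -/
theorem mem_NG_ns {v : W} (hv : Φ₂.Q v ≠ 0) (hg : g ∈ M) {a : U ≃ₗ[F] U} (ha : a ∈ (Φ₁ i).Iso)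
    (e : ∀ u, g ((T i).tm u v) = (T i).tm (a u) v) : g ∈ (T i).NG := by
  have h₂ := h.o₂
  have hI := hG.trans Φ.EG_le_Iso
  have v0 : v ≠ 0 := fun e => hv (by rw [e, Φ₂.Q_zero])
  obtain ⟨j, l, hjl⟩ := (D i).nt
  obtain ⟨w, -, hw0, hw⟩ := Φ₂.iso ⊤ (by rw [finrank_top, h₂.d, h3])
  obtain ⟨x, x1, x2, x3, x4, x5⟩ := h₂.exists_root h.two h.three hw hw0
  have ex : ∀ τ u, (T j).krR τ ((T i).tm u v) = (T i).tm ((T' i j).krR τ u) v := fun τ u => by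
    simp only [Tn.krR_eq_sl, (D i).tm]
  have k1 := fun t ht g => (D j).mem_WR_of_comm h hH h3 hq hG hn hw hw0 (x5 t ht) (g := g)
  let N : Subgroup (V ≃ₗ[F] V) :=
    { carrier := {n | n ∈ M ∧ ∀ u, n ((T i).tm u v) = (T i).tm u v}
      one_mem' := ⟨M.one_mem, fun _ => rfl⟩
      mul_mem' := fun ha hb => ⟨M.mul_mem ha.1 hb.1, fun x => by rw [mul_app, hb.2, ha.2]⟩
      inv_mem' := fun {a} ha => ⟨M.inv_mem ha.1, fun x => a.injective (by rw [app_inv_app, ha.2])⟩ }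
  have kr : ∀ n ∈ N, n ∈ (T i).NG → ∃ d, n = (T i).krR d := fun n hn h1 =>
    Tn.exists_kr_of_tm h.tp.neU h1 v0 one_ne_zero fun u => by simpa using hn.2 u
  have hp : ∀ n ∈ N, n ∈ (T i).NG → n ^ ringChar F = 1 → n = 1 := fun n hn h1 hp => by
    obtain ⟨d, rfl⟩ := kr n hn h1
    obtain ⟨u, hu⟩ := h.tp.neU
    rw [h₂.eq_one_of_pow h.two h3 ((D i).tf.B_of_krR (hI hn.1)) hv
      ((T i).right_inj hu (by simpa using hn.2 u)) (LinearEquiv.ext fun y => (T i).right_inj hu (by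
        simpa [← map_pow] using LinearEquiv.congr_fun hp ((T i).tm u y))), map_one]
  have hK := fun t => h.krR_mem hH j (x1 t)
  have hN : N ≤ (T i).NG := le_of_cubic h.two hq ((T j).krR.comp x)
    (fun s t e => x2 (LinearEquiv.toLinearMap_injective ((T j).sl_inj h.tp.neU fun y => by
      simpa only [MonoidHom.comp_apply, Tn.krR_eq_sl] using LinearEquiv.congr_fun e y)))
    (fun t => by
      rw [show (((T j).krR.comp x) t).toLinearMap - 1 = (T j).sl ((x t).toLinearMap - 1) from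
        LinearMap.ext fun v => by simp [Tn.krR_eq_sl], ← map_pow, x4, map_zero])
    (fun t n hn => ⟨M.mul_mem (M.mul_mem (hK t) hn.1) (M.inv_mem (hK t)), fun u => by
      simp only [MonoidHom.comp_apply, ← map_inv (T j).krR, mul_app, ex, hn.2]
      rw [← mul_app, ← map_mul, mul_inv_cancel, map_one, one_app]⟩)
    (fun t ht n hn e => h.tp.mem_NG_of_sp (k1 t ht n hn.1 e) v0 fun u =>
      (hn.2 u).symm ▸ (T i).tm_mem_sp u v) hp
  rcases (D i).cases h hH h3 v0 with k | k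
  · obtain ⟨d, c, -, m, ed, c1⟩ := (D i).exists_kr_fix h hH h3 v0
      ⟨k a ha g hg 1 one_ne_zero (by simpa using e), ha⟩
    simpa using (T i).NG.mul_mem ((T i).kr_mem a d) (hN (show ((T i).kr a d)⁻¹ * g ∈ N from
      ⟨M.mul_mem (M.inv_mem m) hg, fun u => ((T i).kr a d).injective (by
        rw [mul_app, app_inv_app, e, Tn.kr_tm, ed, c1 hv, one_smul])⟩))
  obtain ⟨b, hb, n, cb⟩ := (D i).exists_not_kr h hH h3 hq hG hn hjl.symm hw hw0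
  obtain ⟨g, hg, c, c0, eg⟩ := k b hb
  let t : Multiplicative F := Multiplicative.ofAdd 1
  set y := (T j).krR (x t) with hy
  have m : y⁻¹ * g⁻¹ * y * g ∈ N :=
    ⟨M.mul_mem (M.mul_mem (M.mul_mem (M.inv_mem (hK t)) (M.inv_mem hg)) (hK t)) hg, fun u => by
      rw [mul_app, mul_app, mul_app, eg, map_smul, ex, ← mul_app _ b,
        cb _ (Φ₂.EG_le_Iso (x1 t)) (x3 t), mul_app, ← eg, inv_app_app, ← ex, inv_app_app]⟩
  obtain ⟨d, ed⟩ := kr _ m (hN m)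
  have p : y ^ ringChar F = 1 := by
    rw [hy, ← map_pow, ← map_pow,
      show t ^ ringChar F = 1 from Multiplicative.toAdd.injective (by simp), map_one, map_one]
  have cm : Commute y ((T i).krR d) := LinearEquiv.ext fun z => by
    simp only [mul_app, hy, Tn.krR_eq_sl]
    exact h.tp.cm i j j.2.symm _ _ z
  have := hp _ m (hN m) (by
    have := cm.mul_pow (ringChar F)
    rw [p, one_mul, ← ed, show y * (y⁻¹ * g⁻¹ * y * g) = g⁻¹ * y * g⁻¹⁻¹ by group, conj_pow, p] at this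
    rw [← this]; group)
  obtain ⟨d, rfl⟩ := Tn.exists_kr_of_tm h.tp.neU (h.tp.mem_NG_of_sp (k1 t (by simp [t]) g hg (by
    rw [← hy, ← mul_one (g * y), ← this]; group)) v0 fun u => by
      rw [eg]; exact Submodule.smul_mem _ _ ((T i).tm_mem_sp _ _)) v0 c0 eg
  exact absurd hg (n d)

theorem step : M ≤ h.tp.WR := by
  have hI := hG.trans Φ.EG_le_Iso
  obtain ⟨i₀, -⟩ := exists_pair_ne ι
  have hs := fun j l => (h.tp.sw_odd (fun i => (D i).tf) h.o₂ h.o h.two (D i₀).odd h.three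
    (fun j l => (h.sw j l).imp fun p hp => ⟨hp.1, fun i x => ⟨x, hp.2 i x⟩⟩) j l).imp
      fun p h => And.intro (hH h.1) h.2
  refine h.tp.o3_le_WR (fun i => (D i).tf) h.o₂ h.two h3 hI (fun i _ => h.krR_mem hH i)
    (fun g hg i l v v' hv v1 e => ?_) hs
  obtain ⟨p, hp, ep⟩ := hs l i
  have pl : (T l).Mv (T i) p := by simpa using ep l
  obtain ⟨a, d, ea⟩ := pl.exists_tm h.tp.neU h.tp.neW
  have v0 : v ≠ 0 := fun e => hv (by rw [e, Φ₂.Q_zero])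
  obtain ⟨b, eb⟩ := Tn.exists_left' (T := T i) (T' := T i) (g := p * g) v0 (d.map_ne_zero_iff.2 v1)
    fun u => by
      obtain ⟨x, hx⟩ := e.le ⟨_, (T i).tm_mem_sp u v, rfl⟩
      exact ⟨a x, (ea x v').symm.trans (congrArg p hx)⟩
  have v2 : Φ₂.B v v ≠ 0 := by rw [h.o₂.B_self]; exact mul_ne_zero h.two hv
  have k : ∀ u u', (Φ₁ i).B (b u) (b u') * Φ₂.B (d v') (d v') = (Φ₁ i).B u u' * Φ₂.B v v :=
    fun u u' => by rw [← (D i).tf.B, ← eb, ← eb, (hI (M.mul_mem hp hg)).1, (D i).tf.B]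
  obtain ⟨b', hb, c, c0, ec⟩ := (D i).ot.o.exists_iso_of_sim h.two (D i).odd (a := b)
    (m := Φ₂.B (d v') (d v') / Φ₂.B v v) fun u u' => by field_simp; linear_combination k u u'
  obtain ⟨τ, hτ, eτ⟩ := h.o₂.move_nonsing h.two h3 hv (v' := c • d v') (by
    obtain ⟨u, u', hu⟩ := (D i).tf.exists_B_one
    have := k u u'
    simp only [ec, (Φ₁ i).bsimp, (D i).ot.o.σ, hb.1 u u', hu, h.o₂.B_self] at this
    rw [h.o₂.Q_smul]
    exact mul_left_cancel₀ h.two (by linear_combination this))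
  have := h.mem_NG_ns D hH h3 hq hG hn hv (M.mul_mem (h.krR_mem hH i hτ) (M.mul_mem hp hg)) hb
    fun u => by rw [mul_app, eb, ec, ← eτ]; simp
  simpa using (pl.inv h.tp.neU).mul (((Tn.mv_of_NG ((T i).krR_mem τ)).inv h.tp.neU).mul
    (Tn.mv_of_NG this))

end OT

end Step

universe u

theorem OT.le_WR_three {F : Type u} {W : Type*} [Field F] [Finite F] [AddCommGroup W] [Module F W]
    [FiniteDimensional F W] {Φ₂ : Fm F W} (h3 : finrank F W = 3) (hq : Nat.card F ≠ 3) (n : ℕ) :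
    ∀ {ι : Type} [Fintype ι] [DecidableEq ι] {U V : Type u} [AddCommGroup U] [Module F U]
      [AddCommGroup V] [Module F V] [FiniteDimensional F U] [FiniteDimensional F V]
      {T : ι → Tn F U W V} {Φ : Fm F V} (h : OT T Φ₂ Φ), Fintype.card ι = n + 2 →
      finrank F V = 3 ^ (n + 2) → ∀ M, h.tp.WR ⊓ Φ.EG ≤ M → M ≤ Φ.EG → ¬ Φ.EG ≤ M → M ≤ h.tp.WR := by
  induction n with
  | zero =>
    intro ι _ _ U V _ _ _ _ _ _ T Φ h hι hV M
    choose Φ₁ h₁ hF using fun i => (T i).exists_TF h.o₂ h.o h.two h.tp.neU h.tp.neW (h.adj i)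
    obtain ⟨a, b, -, e⟩ := Finset.card_eq_two.1 hι
    have e' : ∀ i, i = a ∨ i = b := fun i => by simpa using e.le (Finset.mem_univ i)
    rw [(T a).finrank_eq, h3] at hV
    exact h.tp.o3_two hF h₁ h.o₂ h.o h.two hq (by omega) h3 (fun i j k => by
      rcases e' i with rfl | rfl <;> rcases e' j with rfl | rfl <;> rcases e' k with rfl | rfl <;>
        simp) fun j l => (h.sw j l).imp fun p hp => ⟨hp.1, fun i x => ⟨x, hp.2 i x⟩⟩
  | succ n ih =>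
    intro ι _ _ U V _ _ _ _ _ _ T Φ h hι hV M hH hG hn
    have : Nontrivial ι := Fintype.one_lt_card_iff_nontrivial.1 (by omega)
    choose Φ₁ h₁ hF using fun i => (T i).exists_TF h.o₂ h.o h.two h.tp.neU h.tp.neW (h.adj i)
    choose T' h' e using fun i => h.exists_down (exists_ne i).choose_spec (h₁ i) (hF i)
    refine h.step (Φ₁ := Φ₁) (T' := T') (fun i => ?_) hH h3 hq hG hn
    have hc : Fintype.card {j // j ≠ i} = n + 2 := by simp [Fintype.card_subtype_compl, hι]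
    rw [(T i).finrank_eq, h3, pow_succ] at hV
    replace hV := Nat.eq_of_mul_eq_mul_right three_pos hV
    obtain ⟨j, l, hjl⟩ := Fintype.one_lt_card_iff.1 (hc ▸ by omega : 1 < Fintype.card {j // j ≠ i})
    refine ⟨hF i, h' i, e i, ⟨j, l, hjl⟩, hV ▸ Odd.pow (by decide), fun G h1 h2 => ?_⟩
    obtain ⟨Φ', -, hF'⟩ := (T' i j).exists_TF h.o₂ (h₁ i) h.two (h' i).tp.neU h.tp.neW ((h' i).adj j)
    have cov : ∀ a ∈ (Φ₁ i).Iso, ∃ d, (T' i j).krR d ∈ G ∧ (T' i j).krR d * a ∈ (Φ₁ i).EG :=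
      fun a ha => by
        obtain ⟨d, hd, e⟩ := hF'.cov h.o₂ (h₁ i) h.two (by
          rw [Module.finrank_fin_fun, hV, h3, pow_succ, Nat.mul_div_cancel _ three_pos]
          exact Odd.pow (by decide)) h.three ha
        exact ⟨d, h1 ⟨(h' i).tp.krR_mem j d, hF'.krR_Iso hd⟩, e⟩
    by_cases hc' : (Φ₁ i).EG ≤ G ⊓ (Φ₁ i).EG
    · exact Or.inr fun a ha => let ⟨_, k1, k2⟩ := cov a ha; (G.mul_mem_cancel_left k1).1 (hc' k2).1
    · exact Or.inl fun a ha => let ⟨d, k1, k2⟩ := cov a (h2 ha)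
        ((h' i).tp.WR.mul_mem_cancel_left ((h' i).tp.krR_mem j d)).1 (ih (h' i) hc hV (G ⊓ _)
          (fun x hx => ⟨h1 ⟨hx.1, (Φ₁ i).EG_le_Iso hx.2⟩, hx.2⟩) inf_le_right hc' ⟨G.mul_mem k1 ha, k2⟩)

/-- Tensor powers of orthogonal spaces, matrix form. -/
theorem o_wreath_isMaximalIn {ι : Type} [Fintype ι] [DecidableEq ι] {F : Type*} [Field F] [Fintype F]
    {k t : ℕ} {f₁ : (Fin k → F) → (Fin k → F) → F} {Q : (ι → F) → F}
    (hQ : Geo.IsNondegenerateQuadraticForm Q) (hodd : Odd (Fintype.card F)) (ht : 2 ≤ t)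
    (hk : 5 ≤ k ∨ k = 3 ∧ Fintype.card F ≠ 3) (e : ι ≃ (Fin t → Fin k)) (P : GL ι F)
    (hf₁ : Geo.IsSymmetricForm f₁)
    (hT : Geo.IsTensorPowerFormStructure id (QuadraticMap.polar Q) f₁ e P) :
    Geo.IsMaximalIn (Geo.omegaGL Q) (Geo.tensorWreathSubgroup k t e P ⊓ Geo.omegaGL Q) := by
  have h2 := two_ne_zero_of_odd hodd
  have h₂ := isO_fmSym h2 hf₁
  have hO := isO_fmO hQ
  have hc : Fintype.card ι = k ^ t := by simp [Fintype.card_congr e]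
  have k3 : 3 ≤ k := by omega
  have k1 : ∀ s, 1 ≤ s → k ≤ k ^ s := fun s hs => Nat.le_self_pow (by omega) k
  obtain ⟨n, rfl⟩ := Nat.exists_eq_add_of_le' ht
  refine isMaximalIn_of_PT (by omega) (k3.trans (k1 _ (by omega)))
    (Asch.isSesq_of_bilinear hf₁.bilinear) hT (Φ₂ := fmSym h2 hf₁)
    (Or.inl ⟨fun _ _ => rfl, fmSym_B h2 hf₁⟩) (mem_omegaGL_iff hQ (by
      have := k1 (n + 1) (by omega)
      rw [hc, pow_succ]; nlinarith)) fun T c h hT hp _ h3 => ?_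
  choose Φ₁ h₁ hF using fun i => (T i).exists_TF h₂ hO h2 hT.neU hT.neW (h.B_sl i)
  have D : OT T (fmSym h2 hf₁) (fmO hQ) := ⟨hT, h₂, hO, h2, by simpa, h.B_sl, fun j l =>
    let ⟨p, p2, e⟩ := hp j l
    ⟨p, (hO.tv h2).mem_Iso (h.B_swap hT (Equiv.swap_apply_self j l) p2 e), e⟩⟩
  refine hT.isMaximalIn_o hF h₂ hO h2 h3 (by simpa) 0 fun M hH hG hn => ?_
  rcases hk with h5 | ⟨rfl, hq⟩
  · exact D.le_WR_five hH hG (by simpa) hn
  · exact OT.le_WR_three (by simp) (by simpa) n D (by simp) (by simp [hc]) M hH hG hn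

end Cfsg.Agent.Class.Max
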