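import Mathlib
import Cfsg.Agent.Class.Max.C7OC

/-!
Four-dimensional orthogonal spaces of minus type.
-/

set_option autoImplicit false
set_option linter.unusedSectionVars false

namespace Cfsg.Agent.Class.Max

open Module

variable {F U W V : Type*} [Field F] [AddCommGroup U] [Module F U] [AddCommGroup W]
  [Module F W] [AddCommGroup V] [Module F V]
  [FiniteDimensional F U] [FiniteDimensional F W] [FiniteDimensional F V]

namespace Fm

variable (Φ : Fm F W)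

/-- Four-dimensional of minus type, odd characteristic. -/
structure M4 : Prop where
  o : Φ.IsO
  two : (2 : F) ≠ 0
  four : finrank F W = 4
  np : ∀ s v, ¬ Φ.Pair s v

/-- Two orthogonal non-singular vectors. -/
structure Pl (a b : W) : Prop where
  qa : Φ.Q a ≠ 0
  qb : Φ.Q b ≠ 0
  ab : Φ.B a b = 0

/-- An orthogonal frame. -/
structure Fr (a b c d : W) : Prop where
  p₁ : Φ.Pl a b
  p₂ : Φ.Pl c d
  ac : Φ.B a c = 0
  ad : Φ.B a d = 0
  bc : Φ.B b c = 0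
  bd : Φ.B b d = 0

/-- An anisotropic plane. -/
def An (a b : W) : Prop := ∀ s t : F, s * s * Φ.Q a + t * t * Φ.Q b = 0 → s = 0 ∧ t = 0

/-- The root group of a singular vector. -/
def RG (w : W) : Subgroup (W ≃ₗ[F] W) where
  carrier := {τ | τ ∈ Φ.EG ∧ τ w = w ∧ ∀ y, Φ.B w y = 0 → ∃ c : F, τ y = y + c • w}
  one_mem' := ⟨one_mem _, rfl, fun _ _ => ⟨0, by simp⟩⟩
  mul_mem' := fun ⟨h1, h2, h3⟩ ⟨k1, k2, k3⟩ => ⟨mul_mem h1 k1, by rw [mul_app, k2, h2], fun y hy =>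
    let ⟨c, e⟩ := h3 y hy
    let ⟨c', e'⟩ := k3 y hy
    ⟨c + c', by rw [mul_app, e', map_add, map_smul, e, h2, add_smul, add_assoc]⟩⟩
  inv_mem' := fun {τ} ⟨h1, h2, h3⟩ => ⟨inv_mem h1, inv_app_of_eq h2, fun y hy =>
    let ⟨c, e⟩ := h3 y hy
    ⟨-c, inv_app_of_eq (by simp [e, h2])⟩⟩

variable {Φ} {a b c d : W}

theorem IsO.sg_rr (hO : Φ.IsO) (h2 : (2 : F) ≠ 0) (ha : Φ.Q a ≠ 0) (hb : Φ.Q b ≠ 0) :
    hO.sg h2 ⟨_, mul_mem (hO.r_mem_Iso a) (hO.r_mem_Iso b)⟩ = (1, Orth.sqClass (Φ.Q a * Φ.Q b)) := by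
  rw [← MulMemClass.mk_mul_mk _ _ _ (hO.r_mem_Iso a) (hO.r_mem_Iso b), map_mul, hO.sg_r h2 ha,
    hO.sg_r h2 hb, Orth.sqClass_mul ha hb]
  simp

theorem IsO.sg_fst (hO : Φ.IsO) (h2 : (2 : F) ≠ 0) {g : W ≃ₗ[F] W} (hg : g ∈ Φ.Iso) :
    (hO.sg h2 ⟨g, hg⟩).1 = 1 ↔ LinearMap.det g.toLinearMap = 1 := by
  rw [← Orth.coe_detO (Q := hO.qf) ⟨g, hO.mem_OG.2 hg⟩, Units.val_eq_one,
    Orth.detO_eq_one_iff_dickson hO.nd_qf (hO.nd_qf.reflGen_odd h2) h2]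
  rfl

theorem Pl.symm (h : Φ.Pl a b) : Φ.Pl b a := ⟨h.qb, h.qa, Φ.perp_symm h.ab⟩

theorem Fr.symm (h : Φ.Fr a b c d) : Φ.Fr c d a b :=
  ⟨h.p₂, h.p₁, Φ.perp_symm h.ac, Φ.perp_symm h.bc, Φ.perp_symm h.ad, Φ.perp_symm h.bd⟩

theorem Fr.simp (h : Φ.Fr a b c d) : Φ.B a b = 0 ∧ Φ.B a c = 0 ∧ Φ.B a d = 0 ∧ Φ.B b c = 0 ∧
    Φ.B b d = 0 ∧ Φ.B c d = 0 ∧ Φ.B b a = 0 ∧ Φ.B c a = 0 ∧ Φ.B d a = 0 ∧ Φ.B c b = 0 ∧
    Φ.B d b = 0 ∧ Φ.B d c = 0 ∧ Φ.Q a ≠ 0 ∧ Φ.Q b ≠ 0 ∧ Φ.Q c ≠ 0 ∧ Φ.Q d ≠ 0 :=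
  ⟨h.p₁.ab, h.ac, h.ad, h.bc, h.bd, h.p₂.ab, h.p₁.symm.ab, h.symm.ac, h.symm.bc, h.symm.ad,
    h.symm.bd, h.p₂.symm.ab, h.p₁.qa, h.p₁.qb, h.p₂.qa, h.p₂.qb⟩

theorem ne_of_Q {x : W} (h : Φ.Q x ≠ 0) : x ≠ 0 := fun e => h (by rw [e, Φ.Q_zero])

namespace M4

variable (h : Φ.M4)
include h

theorem three : 3 ≤ finrank F W := by rw [h.four]; omega

theorem wide : Φ.Wide := Or.inr h.np

theorem smul_of_sing {s z : W} (hs : Φ.Q s = 0) (s0 : s ≠ 0) (hz : Φ.Q z = 0) (e : Φ.B s z = 0) :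
    ∃ t : F, z = t • s :=
  Φ.exists_smul_of_perp fun y hy => by_contra fun k => h.np s z ⟨hs, hz, e, s0, y, hy, k⟩

theorem sing_iff {x : W} : Φ.B x x = 0 ↔ Φ.Q x = 0 := by simp [h.o.B_self, h.two]

theorem exists_sing : ∃ w, w ≠ 0 ∧ Φ.Q w = 0 :=
  let ⟨w, _, k⟩ := Φ.iso ⊤ (by rw [finrank_top, h.o.d]; exact h.three)
  ⟨w, k⟩

theorem nd_two (hp : Φ.Pl a b) : Φ.ND (⊤ ⊓ LinearMap.ker (Φ.B a) ⊓ LinearMap.ker (Φ.B b)) ∧
    finrank F ↥(⊤ ⊓ LinearMap.ker (Φ.B a) ⊓ LinearMap.ker (Φ.B b) : Submodule F W) = 2 := by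
  have h1 := Φ.nd_top.inf_one (z := a) trivial (mt h.sing_iff.1 hp.qa)
  refine ⟨h1.inf_one (z := b) ⟨trivial, hp.ab⟩ (mt h.sing_iff.1 hp.qb), le_antisymm ?_ ?_⟩
  · have k1 := Submodule.finrank_lt_finrank_of_lt (s := ⊤ ⊓ LinearMap.ker (Φ.B a)) (t := ⊤)
      (lt_top_iff_ne_top.2 fun e => hp.qa (h.sing_iff.1 (e.ge trivial : a ∈ _).2))
    have k2 := Submodule.finrank_lt_finrank_of_lt (t := ⊤ ⊓ LinearMap.ker (Φ.B a))
      (s := ⊤ ⊓ LinearMap.ker (Φ.B a) ⊓ LinearMap.ker (Φ.B b)) (lt_of_le_of_ne inf_le_left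
        fun e => hp.qb (h.sing_iff.1 (e.ge ⟨trivial, hp.ab⟩ : b ∈ _).2))
    rw [finrank_top, h.four] at k1
    omega
  · have := finrank_le_inf_ker₂ (⊤ : Submodule F W) (Φ.B a) (Φ.B b)
    rw [finrank_top, h.four] at this
    omega

theorem exists_fr_of {c : W} (hp : Φ.Pl a b) (hc : Φ.Q c ≠ 0) (e1 : Φ.B a c = 0) (e2 : Φ.B b c = 0) :
    ∃ d, Φ.Fr a b c d :=
  let ⟨d, k, d0, e⟩ := h.o.exists_perp_nonsing (h.nd_two hp).1 (h.nd_two hp).2.ge
    (x := c) ⟨⟨trivial, e1⟩, e2⟩ hc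
  ⟨d, hp, ⟨hc, d0, Φ.perp_symm e⟩, e1, k.1.2, e2, k.2⟩

theorem eq_zero (f : Φ.Fr a b c d) {x : W} (e1 : Φ.B a x = 0) (e2 : Φ.B b x = 0) (e3 : Φ.B c x = 0)
    (e4 : Φ.B d x = 0) : x = 0 := by
  obtain ⟨t, rfl⟩ := (h.nd_two f.p₁).1.plane_perp (h.nd_two f.p₁).2 (n := c) (x := d) (y := x)
    ⟨⟨trivial, f.ac⟩, f.bc⟩ (ne_of_Q f.p₂.qa) ⟨⟨trivial, f.ad⟩, f.bd⟩ (ne_of_Q f.p₂.qb)
    ⟨⟨trivial, e1⟩, e2⟩ f.p₂.ab e3
  rw [show t = 0 by simpa [h.sing_iff, f.p₂.qb] using e4, zero_smul]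

theorem sum (f : Φ.Fr a b c d) (x : W) : x = (Φ.B a x / (2 * Φ.Q a)) • a + (Φ.B b x / (2 * Φ.Q b)) • b +
    (Φ.B c x / (2 * Φ.Q c)) • c + (Φ.B d x / (2 * Φ.Q d)) • d :=
  sub_eq_zero.1 (h.eq_zero f (by simp [f.simp, h.o.B_self, h.two]) (by simp [f.simp, h.o.B_self, h.two])
    (by simp [f.simp, h.o.B_self, h.two]) (by simp [f.simp, h.o.B_self, h.two]))

theorem ext (f : Φ.Fr a b c d) {X : Type*} [AddCommGroup X] [Module F X] {g g' : W →ₗ[F] X}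
    (e1 : g a = g' a) (e2 : g b = g' b) (e3 : g c = g' c) (e4 : g d = g' d) (x : W) : g x = g' x := by
  rw [h.sum f x]
  simp only [map_add, map_smul, e1, e2, e3, e4]

theorem rr_apply (hp : Φ.Pl a b) (x : W) : (h.o.r a * h.o.r b) x =
    x - ((Φ.Q a)⁻¹ * Φ.B a x) • a - ((Φ.Q b)⁻¹ * Φ.B b x) • b := by
  simp only [mul_app, h.o.r_apply, Φ.bsimp, hp.ab]
  module

theorem rr_neg (f : Φ.Fr a b c d) (x : W) : (h.o.r c * h.o.r d) x = -(h.o.r a * h.o.r b) x :=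
  h.ext f (g := (h.o.r c * h.o.r d).toLinearMap) (g' := -(h.o.r a * h.o.r b).toLinearMap)
    (by simp [h.o.r_of_perp, h.o.r_self, f.simp]) (by simp [h.o.r_of_perp, h.o.r_self, f.simp])
    (by simp [h.o.r_of_perp, h.o.r_self, f.simp]) (by simp [h.o.r_of_perp, h.o.r_self, f.simp]) x

theorem rr_sq (hp : Φ.Pl a b) : h.o.r a * h.o.r b * (h.o.r a * h.o.r b) = 1 := by
  rw [mul_assoc, ← mul_assoc (h.o.r b), ← h.o.r_comm hp.ab, mul_assoc, h.o.r_mul_self, mul_one,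
    h.o.r_mul_self]

theorem an_or (f : Φ.Fr a b c d) : Φ.An a b ∨ Φ.An c d := by
  by_contra hc
  simp only [An, not_or, not_forall] at hc
  obtain ⟨⟨s, t, e, k⟩, s', t', e', k'⟩ := hc
  obtain ⟨u, hu⟩ := h.smul_of_sing (s := s • a + t • b) (z := s' • c + t' • d)
    (by simpa [h.o.Q_add, h.o.Q_smul, h.o.σ, f.simp] using e)
    (fun e => k ⟨by simpa [f.simp, h.sing_iff] using congrArg (Φ.B a) e,
      by simpa [f.simp, h.sing_iff] using congrArg (Φ.B b) e⟩)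
    (by simpa [h.o.Q_add, h.o.Q_smul, h.o.σ, f.simp] using e') (by simp [f.simp])
  exact k' ⟨by simpa [f.simp, h.sing_iff] using congrArg (Φ.B c) hu,
    by simpa [f.simp, h.sing_iff] using congrArg (Φ.B d) hu⟩

theorem An.q_add (ha : Φ.An a b) : Φ.Q a + Φ.Q b ≠ 0 := fun e => one_ne_zero (ha 1 1 (by simpa)).1

/-- Skew maps with scalar square vanish. -/
theorem skew_eq_zero {e : End F W} (he : Φ.Skew e) {t : F} (ht : ∀ x, e (e x) = t • x) (x : W) :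
    e x = 0 := by
  have k := h.o.skew_self h.two he
  have q : ∀ x, Φ.B (e x) (e x) = -(t * Φ.B x x) := fun x => by rw [he, ht, map_smul, smul_eq_mul]
  by_cases t0 : t = 0
  · by_contra hx
    obtain ⟨y, hy⟩ := Φ.exists_B_ne hx
    obtain ⟨u, hu⟩ := h.smul_of_sing (h.sing_iff.1 (by simp [q, t0])) hx (z := e y)
      (h.sing_iff.1 (by simp [q, t0])) (by simp [he x, ht, t0])
    exact hy (by rw [he, hu, map_smul, k, smul_zero, neg_zero])
  obtain ⟨s, s0, hs⟩ := h.exists_sing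
  obtain ⟨l, hl⟩ := h.smul_of_sing hs s0 (z := e s) (h.sing_iff.1 (by simp [q, Φ.B_self hs])) (k s)
  have ll : l * l = t := smul_left_injective F s0 (by simpa [hl, smul_smul] using ht s)
  obtain ⟨-, y, -, -, y0, y1, -⟩ := h.o.exists_triple h.two h.three hs s0
  have key : ∀ m, m * m = t → ∃ u : F, e y + m • y = u • s := fun m hm =>
    h.smul_of_sing hs s0 (h.sing_iff.1 (by
      simp only [Φ.bsimp, q, k, h.o.symm y (e y), h.o.σ]; linear_combination Φ.B y y * hm))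
      (by have := he s y; rw [hl] at this; simp [y1] at this; simp [this, y1])
  obtain ⟨u, hu⟩ := key l ll
  obtain ⟨u', hu'⟩ := key (-l) (by simpa)
  have := congrArg (Φ.B y) (show ((2 : F) * l) • y = (u - u') • s by
    linear_combination (norm := module) hu - hu')
  have l0 : l ≠ 0 := fun e => t0 (by rw [← ll, e, mul_zero])
  simp [Φ.perp_symm y1, h.two, l0, h.sing_iff, y0] at this

/-- Similarities with a quadratic minimal polynomial. -/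
theorem sa_of_quad {g : W ≃ₗ[F] W} {m s t : F} (hm : ∀ x y, m * Φ.B (g x) (g y) = Φ.B x y)
    (hq : ∀ x, g (g x) = s • g x + t • x) (hn : ¬ ∃ c : F, ∀ x, g x = c • x) :
    s = 0 ∧ m * t = 1 ∧ ∀ x y, Φ.B (g x) y = Φ.B x (g y) := by
  have k : ∀ x y, Φ.B x (g y) = m * t * Φ.B (g x) y + s * Φ.B x y := fun x y => by
    rw [← hm x (g y), hq, ← hm x y]; simp only [Φ.bsimp]; ring
  have k2 : ∀ x, (1 - m * t * (m * t)) • g x = (s * (1 + m * t)) • x := fun x =>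
    Φ.eq_of_B_eq fun y => by
      simp only [Φ.bsimp, h.o.σ]
      linear_combination h.o.symm y (g x) + k y x + m * t * h.o.symm x (g y) + m * t * k x y +
        s * h.o.symm x y
  have k3 : m * t * (m * t) = 1 := by_contra fun e => hn ⟨_, fun x =>
    (eq_inv_smul_iff₀ (sub_ne_zero.2 (Ne.symm e))).2 (k2 x) |>.trans (smul_smul _ _ _)⟩
  rcases mul_self_eq_one_iff.1 k3 with e | e
  · obtain ⟨x, x0, -⟩ := h.exists_sing
    have s0 : s = 0 := by simpa [e, x0, one_add_one_eq_two, h.two] using (k2 x).symm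
    exact ⟨s0, e, fun x y => by rw [k, e, s0]; ring⟩
  · refine absurd ⟨s / 2, fun x => sub_eq_zero.1 (h.skew_eq_zero
      (e := g.toLinearMap - (s / 2) • LinearMap.id) (t := t + s / 2 * (s / 2)) (fun x y => ?_)
        (fun x => ?_) x)⟩ hn
    · have := h.two
      simp only [LinearMap.sub_apply, LinearMap.smul_apply, LinearMap.id_apply, LinearEquiv.coe_coe,
        Φ.bsimp, h.o.σ, k, e]
      field_simp
      ring
    · have := h.two
      simp only [LinearMap.sub_apply, LinearMap.smul_apply, LinearMap.id_apply, LinearEquiv.coe_coe,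
        map_sub, map_smul, hq]
      match_scalars <;> field_simp <;> ring

theorem skew_eq_rt (f : Φ.Fr a b c d) {e : End F W} (he : Φ.Skew e) (e1 : e c = 0) (e2 : e d = 0) :
    ∃ m : F, ∀ x, e x = m • Φ.rt a b x := by
  have k := h.o.skew_self h.two he
  have k1 : ∀ x, Φ.B c (e x) = 0 := fun x => by simpa [e1] using (he c x).symm
  have k2 : ∀ x, Φ.B d (e x) = 0 := fun x => by simpa [e2] using (he d x).symm
  have := h.two
  have := f.p₁.qa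
  have := f.p₁.qb
  refine ⟨Φ.B b (e a) / (2 * Φ.Q a * (2 * Φ.Q b)), h.ext f (g := e)
    (g' := (Φ.B b (e a) / (2 * Φ.Q a * (2 * Φ.Q b))) • Φ.rt a b) ?_ ?_ ?_ ?_⟩
  · conv_lhs => rw [h.sum f (e a)]
    simp only [k, k1, k2, LinearMap.smul_apply, rt_apply, f.simp, h.o.B_self, zero_div, zero_smul]
    match_scalars
    field_simp
  · conv_lhs => rw [h.sum f (e b)]
    simp only [k, k1, k2, LinearMap.smul_apply, rt_apply, f.simp, h.o.B_self,
      h.o.symm (e a) b, he a b, zero_div, zero_smul]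
    match_scalars
    field_simp
  · simp [e1, f.simp]
  · simp [e2, f.simp]

theorem rot_eq (hp : Φ.Pl a b) (ha : Φ.An a b) (x : W) :
    (Φ.Q a + Φ.Q b) • (h.o.r a * h.o.r (a + b)) x = Φ.Q a • x + Φ.Q b • (h.o.r a * h.o.r b) x -
      Φ.rt a b x := by
  have := hp.qa
  have := hp.qb
  have := An.q_add h ha
  simp only [mul_app, h.o.r_apply, Φ.bsimp, hp.ab, rt_apply, h.o.Q_add, h.o.B_self, add_zero]
  match_scalars <;> field_simp <;> ring

theorem rt_rt (hp : Φ.Pl a b) {x : W} (hx : (h.o.r a * h.o.r b) x = -x) :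
    Φ.rt a b (Φ.rt a b x) = -(4 * Φ.Q a * Φ.Q b) • x := by
  have := hp.qa
  have := hp.qb
  rw [h.rr_apply hp] at hx
  have e : (2 : F) • x = ((Φ.Q a)⁻¹ * Φ.B a x) • a + ((Φ.Q b)⁻¹ * Φ.B b x) • b := by
    linear_combination (norm := module) hx
  rw [show -(4 * Φ.Q a * Φ.Q b) = -(2 * Φ.Q a * Φ.Q b) * 2 by ring, mul_smul, e]
  simp only [rt_apply, Φ.bsimp, hp.ab, hp.symm.ab, h.o.B_self]
  match_scalars <;> field_simp <;> ring

variable [Finite F]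

theorem exists_pl (ha : Φ.Q a ≠ 0) {t : F} (ht : t ≠ 0) : ∃ b, Φ.Pl a b ∧ Φ.Q b = t := by
  obtain ⟨b, hb, e⟩ := h.o.rep (Φ.nd_top.inf_one (z := a) trivial (mt h.sing_iff.1 ha)) (by
    have := finrank_le_inf_ker (⊤ : Submodule F W) (Φ.B a)
    rw [finrank_top, h.four] at this
    omega) t
  exact ⟨b, ⟨ha, e ▸ ht, hb.2⟩, e⟩

theorem exists_fr (hp : Φ.Pl a b) {t : F} (ht : t ≠ 0) : ∃ c d, Φ.Fr a b c d ∧ Φ.Q c = t :=
  let ⟨c, hc, e⟩ := h.o.rep (h.nd_two hp).1 (h.nd_two hp).2.ge t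
  let ⟨d, f⟩ := h.exists_fr_of hp (e ▸ ht) hc.1.2 hc.2
  ⟨c, d, f, e⟩

theorem exists_fr₀ : ∃ a b c d, Φ.Fr a b c d := by
  obtain ⟨w, w0, hw⟩ := h.exists_sing
  obtain ⟨-, a, -, -, ha, -⟩ := h.o.exists_triple h.two h.three hw w0
  obtain ⟨b, hp, -⟩ := h.exists_pl ha one_ne_zero
  obtain ⟨c, d, f, -⟩ := h.exists_fr hp one_ne_zero
  exact ⟨a, b, c, d, f⟩

theorem not_isSquare (f : Φ.Fr a b c d) : ¬ IsSquare (Φ.Q a * Φ.Q b * (Φ.Q c * Φ.Q d)) := by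
  rintro ⟨m, hm⟩
  have := f.p₁.qa
  have := f.p₁.qb
  have := f.p₂.qa
  obtain ⟨s, t, e⟩ := Orth.exists_mul_sq_add_mul_sq h.two f.p₁.qa f.p₁.qb (-Φ.Q c)
  obtain ⟨u, hu⟩ := h.smul_of_sing (s := s • a + t • b + c)
    (z := (-(t * Φ.Q b)) • a + (s * Φ.Q a) • b + (m / Φ.Q d) • d)
    (by simp only [h.o.Q_add, h.o.Q_smul, Φ.bsimp, f.simp]; linear_combination e)
    (fun e => f.p₂.qa (by simpa [f.simp, h.sing_iff] using congrArg (Φ.B c) e))
    (by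
      have := f.p₂.qb
      simp only [h.o.Q_add, h.o.Q_smul, Φ.bsimp, f.simp]
      field_simp
      linear_combination Φ.Q a * Φ.Q b * Φ.Q d * e - hm)
    (by simp only [Φ.bsimp, f.simp, h.o.B_self, h.o.σ]; ring)
  have u0 : u = 0 := by simpa [f.simp, h.sing_iff] using congrArg (Φ.B c) hu
  have m0 : m = 0 := by simpa [f.simp, h.sing_iff, u0] using congrArg (Φ.B d) hu
  simp [m0, f.simp] at hm

theorem irw {w : W} (hw : Φ.Q w = 0) (hw0 : w ≠ 0) : Φ.Irw w := fun S wS k y hy => by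
  obtain ⟨f, hf, e⟩ := exists_partner' hw hw0
  have e' : Φ.B f w = 1 := by rw [h.o.symm, e]
  have q1 : Φ.Q (w + f) = 1 := by simp [h.o.Q_add, hw, hf, e]
  have q2 : Φ.Q (w - f) = -1 := by simp [h.o.Q_sub, hw, hf, e]
  have hp : Φ.Pl (w + f) (w - f) :=
    ⟨by simp [q1], by simp [q2], by simp [e, e', Φ.B_self hw, Φ.B_self hf]⟩
  obtain ⟨c, d, fr, -⟩ := h.exists_fr hp one_ne_zero
  have e1 : (h.o.r (w + f) * h.o.r (w - f)) w = -w := by
    simp only [h.rr_apply hp, q1, q2, Φ.bsimp, e', Φ.B_self hw]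
    match_scalars <;> simp
  have e2 : (h.o.r (w + f) * h.o.r (w - f)) y = y - (2 * Φ.B f y) • w := by
    simp only [h.rr_apply hp, q1, q2, Φ.bsimp, hy]
    match_scalars <;> simp
    ring
  have key : (h.o.r (w + f) * h.o.r (w - f)) y + y ∈ S := by
    rcases isSquare_mul_or (mul_ne_zero hp.qa hp.qb) (mul_ne_zero fr.p₂.qa fr.p₂.qb) one_ne_zero with
      m | m | m
    · exact absurd m (h.not_isSquare fr)
    · simpa using k _ (h.o.rr_mem h.two h.three hp.qa hp.qb (by simpa using m)) (-1)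
        (by simpa using e1) y hy
    · have := S.neg_mem (k _ (h.o.rr_mem h.two h.three fr.p₂.qa fr.p₂.qb (by simpa using m)) 1
        (by rw [h.rr_neg fr, e1, neg_neg, one_smul]) y hy)
      rwa [h.rr_neg fr, one_smul, neg_sub', neg_neg, sub_neg_eq_add] at this
  rw [e2, show y - (2 * Φ.B f y) • w + y = (2 : F) • y - (2 * Φ.B f y) • w by module] at key
  exact (S.smul_mem_iff h.two).1 ((S.sub_mem_iff_left (S.smul_mem _ wS)).1 key)

/-- No `p`-element centralises a plane involution. -/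
theorem eq_one_of_comm (hp : Φ.Pl a b) {g : W ≃ₗ[F] W} (hg : g ∈ Φ.Iso) (h1 : g ^ ringChar F = 1)
    (hc : ∀ x, g ((h.o.r a * h.o.r b) x) = (h.o.r a * h.o.r b) (g x)) : g = 1 := by
  have key : ∀ {a b}, Φ.Pl a b → ∀ f, g (g f - f) = g f - f → Φ.B a f = 0 → Φ.B b f = 0 →
      Φ.B a (g f) = 0 → Φ.B b (g f) = 0 → g f = f := fun {a b} hp f f2 e1 e2 e3 e4 => by
    by_contra f1
    have k : ∀ z, g z = z → Φ.B z (g f - f) = 0 := fun z hz => by
      rw [map_sub, ← hg.1 z f, hz, sub_self]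
    have k1 : Φ.B (g f - f) f = 0 := mul_left_cancel₀ h.two (by
      have h1 := k _ f2
      have h3 := hg.1 f f
      simp only [Φ.bsimp, h.o.symm f (g f)] at h1 ⊢
      linear_combination h3 - h1)
    have m : g f - f ∈ (⊤ ⊓ LinearMap.ker (Φ.B a) ⊓ LinearMap.ker (Φ.B b) : Submodule F W) :=
      ⟨⟨trivial, by simp [e1, e3]⟩, by simp [e2, e4]⟩
    obtain ⟨t, ht⟩ := (h.nd_two hp).1.plane_perp (h.nd_two hp).2 m (sub_ne_zero.2 f1) m
      (sub_ne_zero.2 f1) (y := f) ⟨⟨trivial, e1⟩, e2⟩ (k _ f2) k1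
    exact f1 (by rw [ht, map_smul, f2])
  have key' : ∀ {a b}, Φ.Pl a b → (∀ x, g ((h.o.r a * h.o.r b) x) = (h.o.r a * h.o.r b) (g x)) →
      ∀ f, g (g f - f) = g f - f → g (f + (h.o.r a * h.o.r b) f) = f + (h.o.r a * h.o.r b) f :=
    fun {a b} hp hc f f2 => by
      have k : ∀ x, Φ.B a (x + (h.o.r a * h.o.r b) x) = 0 ∧ Φ.B b (x + (h.o.r a * h.o.r b) x) = 0 :=
        fun x => by
          have := hp.qa
          have := hp.qb
          simp only [h.rr_apply hp, Φ.bsimp, hp.ab, hp.symm.ab, h.o.B_self]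
          constructor <;> field_simp <;> ring
      refine key hp _ ?_ (k f).1 (k f).2 (by rw [map_add, hc]; exact (k _).1)
        (by rw [map_add, hc]; exact (k _).2)
      rw [map_add, hc, add_sub_add_comm, ← map_sub, map_add, hc, f2]
  refine LinearEquiv.ext fun x => by_contra fun hx => ?_
  obtain ⟨f, f1, f2⟩ := exists_jordan h1 hx
  obtain ⟨c, d, fr, -⟩ := h.exists_fr hp one_ne_zero
  have k1 := key' hp hc f f2
  have k2 := key' fr.p₂ (fun x => by rw [h.rr_neg fr, h.rr_neg fr, map_neg, hc]) f f2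
  rw [h.rr_neg fr, map_add, map_neg] at k2
  rw [map_add] at k1
  exact f1 (smul_right_injective W h.two (by linear_combination (norm := module) k1 + k2))

theorem exists_root2 {w : W} (hw : Φ.Q w = 0) (hw0 : w ≠ 0) :
    ∃ x : Multiplicative (F × F) →* (W ≃ₗ[F] W), (∀ t, x t ∈ Φ.RG w) ∧ Function.Injective x ∧
      (∀ t, t ≠ 1 → ∃ c : F, c ≠ 0 ∧
        ((x t).toLinearMap - 1) * ((x t).toLinearMap - 1) = c • Φ.rk w w) ∧
      ∃ s t, s ≠ 1 ∧ t ≠ 1 ∧ ((x s).toLinearMap - 1) * ((x t).toLinearMap - 1) = 0 := by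
  have hO := h.o
  obtain ⟨f, hf, e⟩ := exists_partner' hw hw0
  have e' : Φ.B f w = 1 := by rw [h.o.symm, e]
  have q1 : Φ.Q (w + f) = 1 := by simp [h.o.Q_add, hw, hf, e]
  have q2 : Φ.Q (w - f) = -1 := by simp [h.o.Q_sub, hw, hf, e]
  obtain ⟨c, d, fr, -⟩ := h.exists_fr (a := w + f) (b := w - f)
    ⟨by simp [q1], by simp [q2], by simp [e, e', Φ.B_self hw, Φ.B_self hf]⟩ one_ne_zero
  have an := (h.an_or fr).resolve_left fun k => one_ne_zero (k 1 1 (by simp [q1, q2])).1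
  have k : ∀ z, Φ.B (w + f) z = 0 → Φ.B (w - f) z = 0 → Φ.B w z = 0 := fun z e1 e2 =>
    mul_left_cancel₀ h.two (by simp only [Φ.bsimp] at e1 e2; linear_combination e1 + e2)
  let y : F × F → W := fun t => t.1 • c + t.2 • d
  have y1 : ∀ t, Φ.B w (y t) = 0 := fun t => by simp [y, k c fr.ac fr.bc, k d fr.ad fr.bd]
  have y0 : ∀ t : Multiplicative (F × F), Φ.Q (y t.toAdd) = 0 → t = 1 := fun t e =>
    Multiplicative.toAdd.injective (Prod.ext_iff.2 (an _ _ (by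
      simpa [y, hO.Q_add, hO.Q_smul, fr.simp] using e)))
  have hv : ∀ t, Φ.Valid w (y t) (Φ.Q (y t)) := fun t => hO.valid hw (y1 t)
  let x : Multiplicative (F × F) →* (W ≃ₗ[F] W) := MonoidHom.mk' (fun t => (hv t.toAdd).eich)
    fun s t => LinearEquiv.ext fun v => by
      rw [mul_app, Fm.Valid.eich_apply, Fm.Valid.eich_apply, Fm.Valid.eich_apply,
        (hv _).ef_ef (hv _), ← hO.Q_add, toAdd_mul, show y (s.toAdd + t.toAdd) = y s.toAdd + y t.toAdd by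
          simp only [y, Prod.fst_add, Prod.snd_add]; module]
  have ex : ∀ t v, x t v = Φ.ef w (y t.toAdd) (Φ.Q (y t.toAdd)) v := fun _ _ => rfl
  have x2 : ∀ s t, ((x s).toLinearMap - 1) * ((x t).toLinearMap - 1) =
      (-Φ.B (y s.toAdd) (y t.toAdd)) • Φ.rk w w := fun s t => LinearMap.ext fun v => by
    simp only [Module.End.mul_apply, LinearMap.sub_apply, LinearEquiv.coe_coe, ex, hO.ef,
      Module.End.one_apply, Φ.bsimp, y1, Φ.B_self hw, hO.symm w (y _), Fm.rk_apply,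
      LinearMap.smul_apply]
    module
  refine ⟨x, fun t => ⟨(hv _).eich_mem, (hv _).ef_self, fun v hv => ⟨-Φ.B (y t.toAdd) v, by
      simp [ex, hO.ef, hv, sub_eq_add_neg]⟩⟩, (injective_iff_map_eq_one _).2 fun t ht => y0 t ?_,
    fun t ht => ⟨_, neg_ne_zero.2 (mt (fun e => y0 t (h.sing_iff.1 e)) ht), x2 t t⟩,
    .ofAdd (1, 0), .ofAdd (0, 1), by simp, by simp, by simp [x2, y, fr.simp]⟩
  simpa [ex, hO.ef, e, h.sing_iff, Φ.perp_symm (y1 _)] using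
    congrArg (Φ.B (y t.toAdd)) (LinearEquiv.congr_fun ht f)

theorem neg_notMem {g : W ≃ₗ[F] W} (e : ∀ x, g x = -x) : g ∉ Φ.EG := fun hg => by
  obtain ⟨a, b, c, d, f⟩ := h.exists_fr₀
  rw [show g = h.o.r c * h.o.r d * (h.o.r a * h.o.r b) from LinearEquiv.ext fun x => by
    rw [e, mul_app, h.rr_neg f, ← mul_app, h.rr_sq f.p₁, one_app], h.o.mul_mem_EG_iff h.two h.three
      (mul_mem (h.o.r_mem_Iso c) (h.o.r_mem_Iso d)) (mul_mem (h.o.r_mem_Iso a) (h.o.r_mem_Iso b)),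
    h.o.sg_rr h.two f.p₂.qa f.p₂.qb, h.o.sg_rr h.two f.p₁.qa f.p₁.qb, Prod.mk.injEq,
    Orth.sqClass_eq_iff_isSquare (by simp [f.simp]) (by simp [f.simp]), mul_comm] at hg
  exact h.not_isSquare f hg.2

omit [Finite F] in
theorem exists_neg {g : W ≃ₗ[F] W} (hg : g ∈ Φ.Iso) (g2 : g * g = 1) (g1 : g ≠ 1) :
    ∃ a, Φ.Q a ≠ 0 ∧ g a = -a ∧ h.o.r a * g * (h.o.r a * g) = 1 ∧
      ∀ z, g z = z → Φ.B z a = 0 := by
  have k : ∀ x, g (g x) = x := LinearEquiv.congr_fun g2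
  have m : ∀ y, y - g y ∈ LinearMap.ker (g.toLinearMap + LinearMap.id) := fun y => by simp [k]
  obtain ⟨a, ha, a0⟩ := h.o.exists_nonsing (W := LinearMap.ker (g.toLinearMap + LinearMap.id))
    (fun x hx e => Φ.nondeg x fun y => mul_left_cancel₀ h.two (by
      have e1 := hg.1 x (g y)
      rw [k, show g x = -x from eq_neg_of_add_eq_zero_left hx] at e1
      have e2 := e _ (m y)
      simp only [Φ.bsimp] at e1 e2
      linear_combination e2 - e1))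
    fun e => g1 (LinearEquiv.ext fun y => (sub_eq_zero.1 (e.le (m y))).symm)
  replace ha : g a = -a := eq_neg_of_add_eq_zero_left ha
  refine ⟨a, a0, ha, ?_, fun z hz => mul_left_cancel₀ h.two ?_⟩
  · have := h.o.conj_r hg a
    rw [ha, ← neg_one_smul F a, h.o.r_smul (by simp), inv_eq_of_mul_eq_one_right g2] at this
    rw [mul_assoc, ← mul_assoc g, this, h.o.r_mul_self]
  · have := hg.1 z a
    rw [hz, ha, map_neg] at this
    linear_combination -this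

/-- The involutions of `Ω₄⁻(q)`. -/
theorem exists_pl_eq {g : W ≃ₗ[F] W} (hg : g ∈ Φ.EG) (g2 : g * g = 1) (g1 : g ≠ 1) :
    ∃ a b, Φ.Pl a b ∧ g = h.o.r a * h.o.r b := by
  have hI := Φ.EG_le_Iso hg
  have r := h.o.r_mem_Iso
  have n : ∀ g ∈ Φ.Iso, ∀ a, Φ.Q a ≠ 0 → LinearMap.det g.toLinearMap = 1 → h.o.r a * g ≠ 1 :=
    fun g hg a ha e k => by
      rw [eq_inv_of_mul_eq_one_right k, h.o.r_inv, ← h.o.sg_fst h.two (r a), h.o.sg_r h.two ha] at e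
      simp at e
  have d1 : LinearMap.det g.toLinearMap = 1 := by
    rw [← h.o.sg_fst h.two hI, (h.o.mem_EG_iff h.two h.three ⟨g, hI⟩).1 hg]; rfl
  obtain ⟨a, qa, ea, a2, -⟩ := h.exists_neg hI g2 g1
  have fa : (h.o.r a * g) a = a := by simp [ea, h.o.r_self qa]
  obtain ⟨b, qb, eb, b2, kb⟩ := h.exists_neg (mul_mem (r a) hI) a2 (n g hI a qa d1)
  have ab := kb a fa
  by_cases e : h.o.r b * (h.o.r a * g) = 1
  · refine ⟨a, b, ⟨qa, qb, ab⟩, ?_⟩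
    rw [← mul_assoc] at e
    rw [eq_inv_of_mul_eq_one_right e, mul_inv_rev, h.o.r_inv, h.o.r_inv]
  have fa' : (h.o.r b * (h.o.r a * g)) a = a := by rw [mul_app, fa, h.o.r_of_perp (Φ.perp_symm ab)]
  have fb : (h.o.r b * (h.o.r a * g)) b = b := by rw [mul_app, eb]; simp [h.o.r_self qb]
  have m := mul_mem (r b) (mul_mem (r a) hI)
  obtain ⟨c, qc, ec, c2, kc⟩ := h.exists_neg m b2 e
  obtain ⟨d, qd, ed, -, kd⟩ := h.exists_neg (mul_mem (r c) m) c2 (n _ m c qc (by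
    rw [← mul_assoc, LinearEquiv.coe_toLinearMap_mul, map_mul, d1, mul_one,
      ← h.o.sg_fst h.two (mul_mem (r b) (r a)), h.o.sg_rr h.two qb qa]))
  have f : Φ.Fr a b c d := ⟨⟨qa, qb, ab⟩, ⟨qc, qd, kd c (by rw [mul_app, ec]; simp [h.o.r_self qc])⟩,
    kc a fa', kd a (by rw [mul_app, fa', h.o.r_of_perp (Φ.perp_symm (kc a fa'))]), kc b fb,
    kd b (by rw [mul_app, fb, h.o.r_of_perp (Φ.perp_symm (kc b fb))])⟩
  have i : ∀ a x y, Φ.B a y = 0 → h.o.r a x = -y → x = -y := fun a x y e k => by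
    rw [← h.o.r_r a x, k, map_neg, h.o.r_of_perp e]
  exact absurd hg (h.neg_notMem (h.ext f (g := g.toLinearMap) (g' := -LinearMap.id) ea (i a _ _ ab eb)
    (i a _ _ f.ac (i b _ _ f.bc ec)) (i a _ _ f.ad (i b _ _ f.bd (i c _ _ f.p₂.ab ed)))))

end M4

end Fm

end Cfsg.Agent.Class.Max
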