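import Mathlib
import Cfsg.Agent.Class.Max.C7OD

/-!
Four-dimensional orthogonal spaces of minus type: similarities and tensor products.
-/

set_option autoImplicit false
set_option linter.unusedSectionVars false

namespace Cfsg.Agent.Class.Max

open Module

variable {F U W V : Type*} [Field F] [AddCommGroup U] [Module F U] [AddCommGroup W]
  [Module F W] [AddCommGroup V] [Module F V]
  [FiniteDimensional F U] [FiniteDimensional F W] [FiniteDimensional F V]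

theorem Tn.det_kr4 (T : Tn F U W V) (a : U ≃ₗ[F] U) (d : W ≃ₗ[F] W) :
    LinearMap.det (T.kr a d).toLinearMap =
      LinearMap.det a.toLinearMap ^ finrank F W * LinearMap.det d.toLinearMap ^ finrank F U := by
  have := LinearMap.det_conj (TensorProduct.map a.toLinearMap d.toLinearMap) T.e
  rw [← LinearMap.det_toMatrix ((finBasis F U).tensorProduct (finBasis F W))
    (TensorProduct.map _ _), TensorProduct.toMatrix_map, Matrix.det_kronecker, LinearMap.det_toMatrix,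
    LinearMap.det_toMatrix, Fintype.card_fin, Fintype.card_fin] at this
  exact this

namespace Fm

variable {Φ : Fm F W} {a b c d : W}

theorem exists_equiv_of_mul (f : End F W) {m : F} (m0 : m ≠ 0)
    (h : ∀ x y, Φ.B (f x) (f y) = m * Φ.B x y) : ∃ g : W ≃ₗ[F] W, ∀ x, g x = f x :=
  ⟨LinearEquiv.ofInjectiveEndo f ((injective_iff_map_eq_zero _).2 fun x hx => Φ.nondeg x fun y =>
    mul_left_cancel₀ m0 (by rw [← h, hx]; simp)), fun _ => rfl⟩

namespace IsO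

variable (hO : Φ.IsO) (h2 : (2 : F) ≠ 0)
include hO h2

theorem conj_r_sim {g : W ≃ₗ[F] W} {m : F} (m0 : m ≠ 0) (h : ∀ x y, m * Φ.B (g x) (g y) = Φ.B x y)
    (v : W) : g * hO.r v * g⁻¹ = hO.r (g v) := LinearEquiv.ext fun x => neg_injective (by
  simpa [hO.nr_apply] using LinearEquiv.congr_fun (hO.conj_nr h2 m0 h v) x)

theorem perp_of_comm (ha : Φ.Q a ≠ 0) (hb : Φ.Q b ≠ 0) (hne : hO.r a ≠ hO.r b)
    (h : hO.r a * hO.r b = hO.r b * hO.r a) : Φ.B a b = 0 := by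
  by_contra e
  obtain ⟨t, ht⟩ := hO.smul_of_r_eq h2 (v := b) (v' := hO.r a b) (by
    rw [← mul_app, ← h, mul_app, hO.r_self hb, map_neg])
  have k : a = ((Φ.Q a * (Φ.B a b)⁻¹) * (1 - t)) • b := by
    rw [hO.r_apply] at ht
    rw [mul_smul, show (1 - t) • b = ((Φ.Q a)⁻¹ * Φ.B a b) • a by
      linear_combination (norm := module) ht, smul_smul, mul_mul_mul_comm, mul_inv_cancel₀ ha,
      inv_mul_cancel₀ e, one_mul, one_smul]
  exact hne (by rw [k, hO.r_smul fun e => ne_of_Q ha (by rw [k, e, zero_smul])])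

omit h2 in
theorem r_comm_of_eig {g : End F W} (hg : ∀ x y, Φ.B (g x) y = Φ.B x (g y)) {m : F} (e : g a = m • a)
    (x : W) : g (hO.r a x) = hO.r a (g x) := by
  simp only [hO.r_apply, map_sub, map_smul, e, ← hg, Φ.bsimp, hO.σ]
  module

theorem exists_eig {g : End F W} (hg : ∀ x y, Φ.B (g x) y = Φ.B x (g y)) {m : F} (m0 : m ≠ 0)
    (g2 : ∀ x, g (g x) = (m * m) • x) {n : W} (hn : Φ.Q n ≠ 0) :
    ∃ l : F, Φ.Q (m • n + l • g n) ≠ 0 ∧ g (m • n + l • g n) = (l * m) • (m • n + l • g n) := by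
  have q : Φ.Q (g n) = m * m * Φ.Q n := mul_left_cancel₀ h2 (by
    rw [← hO.B_self, hg, g2, map_smul, hO.B_self, smul_eq_mul]; ring)
  by_cases e : Φ.Q (m • n + (1 : F) • g n) = 0
  · refine ⟨-1, fun e' => mul_ne_zero (mul_ne_zero (mul_ne_zero h2 h2) (mul_ne_zero m0 m0)) hn ?_, by
      simp only [map_add, map_smul, g2]; module⟩
    simp only [hO.Q_add, hO.Q_smul, q, Φ.bsimp, hO.σ] at e e'
    linear_combination e + e'
  · exact ⟨1, e, by simp only [map_add, map_smul, g2]; module⟩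

end IsO

namespace M4

variable (h : Φ.M4)
include h

theorem r_ns (hs : ∃ t : F, ∀ x, (h.o.r a * h.o.r b) x = t • x) :
    h.o.r a = h.o.r b := by
  obtain ⟨t, ht⟩ := hs
  obtain ⟨x, x0, e1, e2⟩ := exists_perp_pair (Ψ := Φ) h.three a b
  obtain rfl : 1 = t := smul_left_injective F x0 (by
    simpa [h.o.r_of_perp e1, h.o.r_of_perp e2] using ht x)
  rw [eq_inv_of_mul_eq_one_left (LinearEquiv.ext (by simpa using ht) : h.o.r a * h.o.r b = 1),
    h.o.r_inv]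

theorem rr_ns (hp : Φ.Pl a b) : ¬ ∃ t : F, ∀ x, (h.o.r a * h.o.r b) x = t • x := fun hs => by
  have := LinearEquiv.congr_fun (h.r_ns hs) a
  rw [h.o.r_self hp.qa, h.o.r_of_perp hp.symm.ab, neg_eq_iff_add_eq_zero, ← two_smul F] at this
  exact ne_of_Q hp.qa ((smul_eq_zero.1 this).resolve_left h.two)

theorem sim_of_sa {g : End F W} (hg : ∀ x y, Φ.B (g x) y = Φ.B x (g y)) {t : F}
    (g2 : ∀ x, g (g x) = t • x) (x y : W) : Φ.B (g x) (g y) = t * Φ.B x y := by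
  rw [hg, g2, map_smul, smul_eq_mul]

variable [Finite F]

theorem exists_three {g : End F W} (hg : ∀ x y, Φ.B (g x) y = Φ.B x (g y)) {m : F} (m0 : m ≠ 0)
    (g2 : ∀ x, g (g x) = (m * m) • x) : ∃ a b c, Φ.Pl a b ∧ Φ.Pl a c ∧ Φ.Pl b c ∧
      (∀ x, g (h.o.r a x) = h.o.r a (g x)) ∧ (∀ x, g (h.o.r b x) = h.o.r b (g x)) ∧
      ∀ x, g (h.o.r c x) = h.o.r c (g x) := by
  have k := fun n => h.o.exists_eig h.two hg m0 g2 (n := n)
  have p : ∀ a n (s l : F), g a = s • a → Φ.B a n = 0 → Φ.B a (m • n + l • g n) = 0 :=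
    fun a n s l e e' => by simp [← hg, e, e']
  obtain ⟨n, _, _, _, f⟩ := h.exists_fr₀
  obtain ⟨_, qa, ea⟩ := k n f.p₁.qa
  obtain ⟨n, hn, -⟩ := h.exists_pl qa one_ne_zero
  obtain ⟨l, qb, eb⟩ := k n hn.qb
  have ab := p _ _ _ l ea hn.ab
  obtain ⟨n, _, f, -⟩ := h.exists_fr ⟨qa, qb, ab⟩ one_ne_zero
  obtain ⟨l, qc, ec⟩ := k n f.p₂.qa
  exact ⟨_, _, _, ⟨qa, qb, ab⟩, ⟨qa, qc, p _ _ _ l ea f.ac⟩, ⟨qb, qc, p _ _ _ l eb f.bc⟩,
    h.o.r_comm_of_eig hg ea, h.o.r_comm_of_eig hg eb, h.o.r_comm_of_eig hg ec⟩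

omit [Finite F] in
theorem exists_pl_comm {g : End F W} (hg : ∀ x y, Φ.B (g x) y = Φ.B x (g y)) {t : F}
    (ht : ¬ IsSquare t) (g2 : ∀ x, g (g x) = t • x) {x : W} (x0 : x ≠ 0) : ∃ a b, Φ.Pl a b ∧
      (∀ y, g ((h.o.r a * h.o.r b) y) = (h.o.r a * h.o.r b) (g y)) ∧ (h.o.r a * h.o.r b) x = -x := by
  have h2 := h.two
  have key : ∀ x, Φ.Q x ≠ 0 → ∃ a b, Φ.Pl a b ∧ (∀ y, g ((h.o.r a * h.o.r b) y) =
      (h.o.r a * h.o.r b) (g y)) ∧ (h.o.r a * h.o.r b) x = -x := fun x hx => by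
    obtain ⟨k, hk⟩ : ∃ k, Φ.B x (g x) = k * (2 * Φ.Q x) := ⟨_, (div_mul_cancel₀ _ (by simp [*])).symm⟩
    have k0 : t - k * k ≠ 0 := fun e => ht ⟨k, sub_eq_zero.1 e⟩
    have q : Φ.Q (g x - k • x) = (t - k * k) * Φ.Q x := mul_left_cancel₀ h2 (by
      simp only [← h.o.B_self, Φ.bsimp, hg x, g2, hk, h.o.σ]
      simp only [h.o.B_self]
      ring)
    have hp : Φ.Pl x (g x - k • x) := ⟨hx, by simp [q, k0, hx], by simp [hk, h.o.B_self]⟩
    refine ⟨_, _, hp, fun y => ?_, by rw [mul_app, h.o.r_of_perp hp.symm.ab, h.o.r_self hx]⟩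
    simp only [h.rr_apply hp, q, Φ.bsimp, hg, g2, h.o.σ]
    simp only [map_sub, map_smul, g2]
    obtain ⟨u, rfl⟩ : ∃ u, t = u + k * k := ⟨t - k * k, by ring⟩
    rw [add_sub_cancel_right] at k0 ⊢
    match_scalars <;> field_simp <;> ring
  by_cases hx : Φ.Q x = 0
  swap
  · exact key x hx
  have q := mul_left_cancel₀ h2 (show 2 * Φ.Q (g x) = 2 * 0 by
    rw [← h.o.B_self, h.sim_of_sa hg g2, Φ.B_self hx]; simp)
  obtain ⟨a, b, hp, k1, k2⟩ := key (x + g x) fun e => by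
    obtain ⟨l, hl⟩ := h.smul_of_sing hx x0 q (by simpa [h.o.Q_add, hx, q] using e)
    exact ht ⟨l, smul_left_injective F x0 (by simpa [hl, smul_smul] using (g2 x).symm)⟩
  refine ⟨a, b, hp, k1, smul_right_injective W (show t - 1 ≠ 0 from fun e => ht ⟨1, by
    linear_combination e⟩) ?_⟩
  have k3 := k1 (x + g x)
  rw [k2, map_neg, map_add, g2, map_add, map_smul] at k3
  rw [map_add] at k2
  linear_combination (norm := module) -k3 - k2

theorem exists_sa (hp : Φ.Pl c d) (t : F) : ∃ β : End F W, (∀ x y, Φ.B (β x) y = Φ.B x (β y)) ∧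
    β (β c) = t • c ∧ β (β d) = t • d ∧ ∀ x, ∃ s s' : F, β x = s • c + s' • d ∧
      (Φ.B c x = 0 → Φ.B d x = 0 → s = 0 ∧ s' = 0) := by
  have := h.two
  have := hp.qa
  have := hp.qb
  obtain ⟨x, y, e⟩ := Orth.exists_mul_sq_add_mul_sq h.two one_ne_zero
    (show 2 * Φ.Q c * (2 * Φ.Q d) ≠ 0 by simp [*]) t
  refine ⟨(x / (2 * Φ.Q c)) • Φ.rk c c - (x / (2 * Φ.Q d)) • Φ.rk d d + y • (Φ.rk c d + Φ.rk d c),
    fun u v => ?_, ?_, ?_, fun u => ⟨x / (2 * Φ.Q c) * Φ.B c u + y * Φ.B d u,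
      y * Φ.B c u - x / (2 * Φ.Q d) * Φ.B d u, ?_, fun e1 e2 => by simp [e1, e2]⟩⟩ <;>
    simp only [LinearMap.add_apply, LinearMap.sub_apply, LinearMap.smul_apply, rk_apply, Φ.bsimp,
      h.o.σ, h.o.B_self, hp.ab, hp.symm.ab, ← e]
  · rw [h.o.symm c u, h.o.symm d u]; ring
  · match_scalars <;> field_simp <;> ring
  · match_scalars <;> field_simp <;> ring
  · module

theorem exists_alpha (ha : Φ.An a b) (hp : Φ.Pl a b) {r s : W}
    (e : Φ.Q a * Φ.Q r + Φ.Q b * Φ.Q s = 0) : (∃ w, ∃ l m : F, Φ.Q w = 0 ∧ r = l • w ∧ s = m • w) ∨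
      ∃ α : W ≃ₗ[F] W, (∀ x y, Φ.B (α x) y = Φ.B x (α y)) ∧
        (∀ x, α (α x) = -(4 * Φ.Q a * Φ.Q b) • x) ∧ α r = -(2 * Φ.Q b) • s ∧ α s = (2 * Φ.Q a) • r := by
  have h2 := h.two
  have qa := hp.qa
  have qb := hp.qb
  by_cases hΔ : 4 * Φ.Q r * Φ.Q s - Φ.B r s * Φ.B r s = 0
  · obtain ⟨e1, e2⟩ := ha (2 * Φ.Q r) (Φ.B r s) (by linear_combination 4 * Φ.Q r * e - Φ.Q b * hΔ)
    replace e1 : Φ.Q r = 0 := by simpa [h2] using e1
    have e3 : Φ.Q s = 0 := by simpa [e1, qb] using e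
    by_cases r0 : r = 0
    · exact Or.inl ⟨s, 0, 1, e3, by simp [r0], by simp⟩
    · exact Or.inl ⟨r, 1, _, e1, by simp, (h.smul_of_sing e1 r0 e3 e2).choose_spec⟩
  obtain ⟨c, d, hq, e1, e2, e3, e4, k⟩ : ∃ c d, Φ.Pl c d ∧ Φ.B c r = 0 ∧ Φ.B c s = 0 ∧ Φ.B d r = 0 ∧
      Φ.B d s = 0 ∧ ∀ x, Φ.B r x = 0 → Φ.B s x = 0 → Φ.B c x = 0 → Φ.B d x = 0 → x = 0 := by
    by_cases q : Φ.Q r = 0
    · have q' : Φ.Q s = 0 := by simpa [q, qb] using e
      have q0 : Φ.B r s ≠ 0 := by simpa [q] using hΔ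
      obtain ⟨c, d, f, -⟩ := h.exists_fr (a := r + s) (b := r - s) ⟨by simp [h.o.Q_add, *],
        by simp [h.o.Q_sub, *], by simp [h.o.B_self, h.o.symm r s, *]⟩ one_ne_zero
      obtain ⟨-, -, -, -, -, -, -, k1, k2, k3, k4, -⟩ := f.simp
      simp only [Φ.bsimp] at k1 k2 k3 k4
      exact ⟨c, d, f.p₂, mul_left_cancel₀ h2 (by linear_combination k1 + k3),
        mul_left_cancel₀ h2 (by linear_combination k1 - k3),
        mul_left_cancel₀ h2 (by linear_combination k2 + k4),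
        mul_left_cancel₀ h2 (by linear_combination k2 - k4),
        fun x e1 e2 => h.eq_zero f (by simp [e1, e2]) (by simp [e1, e2])⟩
    · obtain ⟨c, d, f, -⟩ := h.exists_fr (a := r) (b := (2 * Φ.Q r) • s - Φ.B r s • r) ⟨q, fun e' =>
        mul_ne_zero q hΔ (by
          simp only [h.o.Q_sub, h.o.Q_smul, Φ.bsimp, h.o.σ, h.o.symm r s] at e'
          linear_combination e'), by simp [h.o.B_self, mul_comm]⟩ one_ne_zero
      exact ⟨c, d, f.p₂, f.symm.ac, by simpa [f.symm.ac, h2, q] using f.symm.ad, f.symm.bc,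
        by simpa [f.symm.bc, h2, q] using f.symm.bd, fun x e1 e2 => h.eq_zero f e1 (by simp [*])⟩
  obtain ⟨β, b1, b2, b3, b4⟩ := h.exists_sa hq (-(4 * Φ.Q a * Φ.Q b))
  have b5 : ∀ x, Φ.B c x = 0 → Φ.B d x = 0 → β x = 0 := fun x e1 e2 =>
    let ⟨_, _, k1, k2⟩ := b4 x
    by simp [k1, k2 e1 e2]
  have b6 : ∀ x, Φ.B r (β x) = 0 ∧ Φ.B s (β x) = 0 := fun x => by simp [← b1, b5 r e1 e3, b5 s e2 e4]
  obtain ⟨i, hi⟩ : ∃ i, i * (4 * Φ.Q r * Φ.Q s - Φ.B r s * Φ.B r s) = 1 := ⟨_, inv_mul_cancel₀ hΔ⟩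
  let α := i • (-(2 * Φ.Q b) • Φ.rk s ((2 * Φ.Q s) • r -
    Φ.B r s • s) + (2 * Φ.Q a) • Φ.rk r ((2 * Φ.Q r) • s - Φ.B r s • r)) + β
  have a0 : ∀ x, Φ.B r x = 0 → Φ.B s x = 0 → α x = β x := fun x e1 e2 => by simp [α, e1, e2]
  have a1 : ∀ x y, Φ.B (α x) y = Φ.B x (α y) := fun x y => by
    simp only [α, LinearMap.add_apply, LinearMap.smul_apply, rk_apply, Φ.bsimp, h.o.σ, b1,
      h.o.symm r x, h.o.symm s x]
    linear_combination i * 4 * (Φ.B s x * Φ.B r y - Φ.B r x * Φ.B s y) * e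
  have a2 : α r = -(2 * Φ.Q b) • s := by
    simp only [α, LinearMap.add_apply, LinearMap.smul_apply, rk_apply, Φ.bsimp, h.o.σ, b5 r e1 e3,
      h.o.B_self, h.o.symm r s]
    match_scalars
    · linear_combination -2 * Φ.Q b * hi
    · ring
  have a3 : α s = (2 * Φ.Q a) • r := by
    simp only [α, LinearMap.add_apply, LinearMap.smul_apply, rk_apply, Φ.bsimp, h.o.σ, b5 s e2 e4,
      h.o.B_self]
    match_scalars
    · ring
    · linear_combination 2 * Φ.Q a * hi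
  have a4 : ∀ x, α (α x) = -(4 * Φ.Q a * Φ.Q b) • x := fun x => by
    have p : ∀ z, α (α z) = -(4 * Φ.Q a * Φ.Q b) • z → Φ.B z (α (α x) - -(4 * Φ.Q a * Φ.Q b) • x) = 0 :=
      fun z hz => by rw [map_sub, ← a1, ← a1, hz]; simp [h.o.σ]
    refine sub_eq_zero.1 (k _ (p r ?_) (p s ?_) (p c ?_) (p d ?_))
    · rw [a2, map_smul, a3]; module
    · rw [a3, map_smul, a2]; module
    · rw [a0 c (Φ.perp_symm e1) (Φ.perp_symm e2), a0 _ (b6 c).1 (b6 c).2, b2]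
    · rw [a0 d (Φ.perp_symm e3) (Φ.perp_symm e4), a0 _ (b6 d).1 (b6 d).2, b3]
  obtain ⟨g, hg⟩ := exists_equiv_of_mul α (by
    simp [qa, qb, show (4 : F) = 2 * 2 by norm_num, h2]) (h.sim_of_sa a1 a4)
  exact Or.inr ⟨g, by simpa [hg] using a1, by simpa [hg] using a4, by rw [hg, a2], by rw [hg, a3]⟩

theorem exists_dee (f : Φ.Fr a b c d) {t : F} (ht : t = -(4 * Φ.Q a * Φ.Q b)) :
    ∃ (g : W ≃ₗ[F] W) (x y : F), x * x - t * (y * y) = t ∧ g a = x • a + y • Φ.rt a b a ∧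
      g b = x • b + y • Φ.rt a b b ∧ (∀ v, g ((h.o.r a * h.o.r b) v) = (h.o.r a * h.o.r b) (g v)) ∧
      (∀ u v, Φ.B (g u) (g v) = t * Φ.B u v) ∧ LinearMap.det g.toLinearMap ^ 2 = t ^ 4 := by
  have h2 := h.two
  have qa := f.p₁.qa
  have qb := f.p₁.qb
  have t0 : t ≠ 0 := by simp [ht, qa, qb, show (4 : F) = 2 * 2 by norm_num, h2]
  obtain ⟨x, y, e⟩ := Orth.exists_mul_sq_add_mul_sq h2 one_ne_zero (neg_ne_zero.2 t0) t
  obtain ⟨β, b1, b2, b3, b4⟩ := h.exists_sa f.p₂ t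
  have b5 : ∀ x, Φ.B c x = 0 → Φ.B d x = 0 → β x = 0 := fun x e1 e2 =>
    let ⟨_, _, k1, k2⟩ := b4 x
    by simp [k1, k2 e1 e2]
  have ba := b5 a f.symm.ac f.symm.bc
  have bb := b5 b f.symm.ad f.symm.bd
  have b6 : ∀ x, Φ.B a (β x) = 0 ∧ Φ.B b (β x) = 0 := fun x => by simp [← b1, ba, bb]
  let D : F → End F W := fun y => (x / (2 * Φ.Q a)) • Φ.rk a a + (x / (2 * Φ.Q b)) • Φ.rk b b +
    y • Φ.rt a b + β
  have d0 : ∀ y v, Φ.B a v = 0 → Φ.B b v = 0 → D y v = β v := fun y v e1 e2 => by simp [D, e1, e2]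
  have da : ∀ y, D y a = x • a + (y * (2 * Φ.Q a)) • b := fun y => by
    simp [D, ba, f.simp, h.o.B_self, h2, smul_smul]
  have db : ∀ y, D y b = x • b - (y * (2 * Φ.Q b)) • a := fun y => by
    simp [D, bb, f.simp, h.o.B_self, h2, smul_smul, sub_eq_add_neg]
  have d1 : ∀ v, D (-y) (D y v) = t • v := h.ext f (g := D (-y) * D y) (g' := t • LinearMap.id)
    (by
      simp only [End.mul_apply, da, db, map_add, map_smul, LinearMap.smul_apply, LinearMap.id_apply]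
      match_scalars
      · linear_combination e + y ^ 2 * ht
      · ring)
    (by
      simp only [End.mul_apply, da, db, map_sub, map_smul, LinearMap.smul_apply, LinearMap.id_apply]
      match_scalars
      · linear_combination e + y ^ 2 * ht
      · ring)
    (by simpa [d0, f.simp, b6] using b2) (by simpa [d0, f.simp, b6] using b3)
  have d2 : ∀ u v, Φ.B (D y u) (D y v) = t * Φ.B u v := fun u v => by
    rw [← smul_eq_mul, ← map_smul, ← d1]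
    generalize D y v = v
    simp only [D, LinearMap.add_apply, LinearMap.smul_apply, rk_apply, rt_apply, Φ.bsimp, h.o.σ, b1,
      h.o.symm a u, h.o.symm b u]
    ring
  have d3 : ∀ y v, D (-y) (h.o.r a v) = h.o.r a (D y v) := fun y => h.ext f
    (g := D (-y) * (h.o.r a).toLinearMap) (g' := (h.o.r a).toLinearMap * D y)
    (by simp [da, h.o.r_self, h.o.r_of_perp, f.simp, add_comm])
    (by simp [db, h.o.r_self, h.o.r_of_perp, f.simp])
    (by simp [d0, h.o.r_of_perp, f.simp, b6]) (by simp [d0, h.o.r_of_perp, f.simp, b6])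
  obtain ⟨g, hg⟩ := exists_equiv_of_mul (D y) t0 d2
  refine ⟨g, x, y, by linear_combination e, by simp [hg, da, f.simp, h.o.B_self, smul_smul],
    by simp [hg, db, f.simp, h.o.B_self, smul_smul, sub_eq_add_neg],
    h.ext f (g := g.toLinearMap * (h.o.r a * h.o.r b).toLinearMap)
      (g' := (h.o.r a * h.o.r b).toLinearMap * g.toLinearMap)
      (by simp [hg, da, h.o.r_self, h.o.r_of_perp, f.simp, add_comm])
      (by simp [hg, db, h.o.r_self, h.o.r_of_perp, f.simp]; abel)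
      (by simp [hg, d0, h.o.r_of_perp, f.simp, b6]) (by simp [hg, d0, h.o.r_of_perp, f.simp, b6]),
    by simpa [hg] using d2, ?_⟩
  have := congrArg LinearMap.det (show (h.o.r a).toLinearMap * (g.toLinearMap *
      (h.o.r a).toLinearMap) * g.toLinearMap = t • LinearMap.id from LinearMap.ext fun v => by
    simp [hg, ← d3, h.o.r_r, d1])
  rw [map_mul, map_mul, map_mul, LinearMap.det_smul, h.four, LinearMap.det_id, mul_one] at this
  have k := congrArg (fun g : W ≃ₗ[F] W => LinearMap.det g.toLinearMap) (h.o.r_mul_self a)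
  simp only [LinearEquiv.coe_toLinearMap_mul, map_mul, LinearEquiv.coe_toLinearMap_one,
    LinearMap.det_id] at k
  linear_combination this - LinearMap.det g.toLinearMap ^ 2 * k

end M4

end Fm

namespace TF

variable {T : Tn F U W V} {Φ₁ : Fm F U} {Φ₂ : Fm F W} {Φ : Fm F V} [Finite F]
  (hT : TF T Φ₁ Φ₂ Φ) (h₂ : Φ₂.IsO) (hO : Φ.IsO) (h2 : (2 : F) ≠ 0) (h3 : 3 ≤ finrank F V)
include hT h₂ hO h2 h3

theorem krR_EG_of_even (he : Even (finrank F U)) {d : W ≃ₗ[F] W} (hd : d ∈ Φ₂.Iso)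
    (h1 : LinearMap.det d.toLinearMap = 1) : T.krR d ∈ Φ.EG := by
  obtain ⟨D, hD⟩ := hT.exists_sg_krR h₂ h2 hO
  have e : ∀ v, (Orth.refl h₂.qf v).1 = h₂.r v := fun v => LinearEquiv.ext fun x => by
    rw [Orth.refl_apply, h₂.polar_qf, h₂.symm]; exact (h₂.r_apply v x).symm
  obtain ⟨k, hk⟩ := he
  have s : ∀ v, Φ₂.Q v ≠ 0 → Orth.sqClass (Φ₂.Q v ^ finrank F U * D) = Orth.sqClass D := fun v hv => by
    rw [hk, ← two_mul, mul_comm 2, pow_mul, Orth.sqClass_sq_mul (pow_ne_zero _ hv) (hD v hv).1]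
  have key : (Orth.dickson h₂.nd_qf (h₂.nd_qf.reflGen_odd h2)).ker ≤
      Φ.EG.comap (T.krR.comp (Orth.OG h₂.qf).subtype) := by
    rw [Orth.ker_dickson_eq_closure, Subgroup.closure_le]
    rintro _ ⟨u, v, hu, hv, rfl⟩
    rw [SetLike.mem_coe, Subgroup.mem_comap, MonoidHom.comp_apply, Subgroup.subtype_apply,
      Subgroup.coe_mul, e, e, map_mul, hO.mul_mem_EG_iff h2 h3 (hT.krR_Iso (h₂.r_mem_Iso u))
      (hT.krR_Iso (h₂.r_mem_Iso v)), (hD u hu).2, (hD v hv).2, s u hu, s v hv]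
  exact key (x := ⟨d, h₂.mem_OG.2 hd⟩) (MonoidHom.mem_ker.2
    ((Orth.detO_eq_one_iff_dickson _ _ h2 _).1 (Units.ext (by rw [Orth.coe_detO]; exact h1))))

theorem cov_four (h₁ : Φ₁.M4) {v : W} (hv : Φ₂.Q v ≠ 0) {g : V ≃ₗ[F] V} (hg : g ∈ Φ.Iso)
    (h1 : LinearMap.det g.toLinearMap = 1) : g ∈ Φ.EG ∨ T.krR (h₂.r v) * g ∈ Φ.EG := by
  obtain ⟨a, b, c, d, f⟩ := h₁.exists_fr₀
  have q : ∀ e, Φ.Q (T.tm e v) = 2 * Φ₂.Q v * Φ₁.Q e := fun e => mul_left_cancel₀ h2 (by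
    rw [← hO.B_self, hT.B, h₂.B_self, h₁.o.B_self]; ring)
  have q0 : ∀ e, Φ₁.Q e ≠ 0 → Φ.Q (T.tm e v) ≠ 0 := fun e he => by simp [q, h2, hv, he]
  have r1 : ∀ e y, Φ₁.Q e ≠ 0 → hO.r (T.tm e v) (T.tm e y) = T.tm e (h₂.r v y) := fun e y he => by
    rw [hO.r_apply, h₂.r_apply, q, hT.B, h₁.o.B_self, map_sub, map_smul]
    congr 2
    field_simp
  have r2 : ∀ e e' y, Φ₁.B e e' = 0 → hO.r (T.tm e v) (T.tm e' y) = T.tm e' y := fun e e' y he =>
    hO.r_of_perp (by simp [hT.B, he])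
  have e : T.krR (h₂.r v) = hO.r (T.tm a v) * hO.r (T.tm b v) * (hO.r (T.tm c v) * hO.r (T.tm d v)) :=
    T.ext' fun u y => h₁.ext f (g := (T.krR (h₂.r v)).toLinearMap ∘ₗ T.tm.flip y)
      (g' := (hO.r (T.tm a v) * hO.r (T.tm b v) * (hO.r (T.tm c v) * hO.r (T.tm d v))).toLinearMap ∘ₗ
        T.tm.flip y) (by simp [r1, r2, f.simp])
      (by simp [r1, r2, f.simp]) (by simp [r1, r2, f.simp]) (by simp [r1, r2, f.simp]) u
  have r := fun x y => mul_mem (hO.r_mem_Iso x) (hO.r_mem_Iso y)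
  rw [e, hO.mul_mem_EG_iff h2 h3 (mul_mem (r _ _) (r _ _)) hg,
    ← MulMemClass.mk_mul_mk _ _ _ (r _ _) (r _ _), map_mul, hO.sg_rr h2 (q0 a f.p₁.qa) (q0 b f.p₁.qb),
    hO.sg_rr h2 (q0 c f.p₂.qa) (q0 d f.p₂.qb), hO.mem_EG_iff h2 h3 ⟨g, hg⟩, or_iff_not_imp_left, Prod.ext_iff, Prod.ext_iff]
  have k := (hO.sg_fst h2 hg).2 h1
  refine fun hn => ⟨by simp [k], Orth.sqClass_eq_of_ne_one (fun e => h₁.not_isSquare f ?_)
    fun e => hn ⟨k, e⟩⟩
  rw [Prod.snd_mul, mul_eq_one_iff_eq_inv, Orth.sqClass_inv, Orth.sqClass_eq_iff_isSquare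
    (by simp [q0, f.simp]) (by simp [q0, f.simp])] at e
  obtain ⟨m, hm⟩ := e
  refine ⟨m / (2 * Φ₂.Q v) ^ 2, ?_⟩
  simp only [q] at hm
  field_simp
  linear_combination hm

end TF

end Cfsg.Agent.Class.Max
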