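import Mathlib
import Cfsg.Agent.Class.Max.C7OE

/-!
Tensor powers of `O₄⁻`: root elements in the wreath product.
-/

set_option autoImplicit false
set_option linter.unusedSectionVars false

namespace Cfsg.Agent.Class.Max

open Module

variable {F U W V : Type*} [Field F] [AddCommGroup U] [Module F U] [AddCommGroup W]
  [Module F W] [AddCommGroup V] [Module F V]
  [FiniteDimensional F U] [FiniteDimensional F W] [FiniteDimensional F V]
  {Φ₂ : Fm F W} {Φ : Fm F V}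

theorem exists_dual_inv {a : W ≃ₗ[F] W} (h : ¬ ∃ c : F, ∀ x, a x = c • x) :
    ∃ (x : W) (φ : Dual F W), φ x = 1 ∧ φ (a x) = 0 := by
  obtain ⟨v, hv⟩ := exists_not_eigen (A := (a⁻¹ : W ≃ₗ[F] W).toLinearMap) fun ⟨c, hc⟩ => by
    have k : ∀ x, x = c • a x := fun x => by simpa using hc (a x)
    by_cases c0 : c = 0
    · exact h ⟨0, fun x => by rw [k x, c0]; simp⟩
    · exact h ⟨c⁻¹, fun x => (eq_inv_smul_iff₀ c0).2 (k x).symm⟩
  obtain ⟨φ, h1, h2⟩ := exists_dual_zero_one hv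
  exact ⟨_, φ, h2, by simpa using h1⟩

theorem TF.dich {T : Tn F U W V} {Φ₁ : Fm F U} (hT : TF T Φ₁ Φ₂ Φ) (h₂ : Φ₂.M4) {a a' : U ≃ₗ[F] U}
    {d d' : W ≃ₗ[F] W} (hI : T.kr a d ∈ Φ.Iso)
    (e : ∀ v, T.kr a d (T.kr a' d' v) + v = T.kr a d v + T.kr a' d' v) :
    (∃ c : F, ∀ u, a u = c • u) ∨ (∃ c : F, ∀ w, d' w = c • w) ∨ ∃ c : F, ∀ w, d (d w) = c • w := by
  refine or_iff_not_imp_left.2 fun ha => or_iff_not_imp_left.2 fun hd' => ?_
  have k : ∀ (α : Dual F U) u w, α (a (a' u)) • d (d' w) + α u • w = α (a u) • d w + α (a' u) • d' w :=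
    fun α u w => by simpa using congrArg (T.cL α) (e (T.tm u w))
  obtain ⟨x, α, h1, h2⟩ := exists_dual_inv ha
  have k1 : ∀ w, d' w = α (a'⁻¹ x) • w - α (a (a'⁻¹ x)) • d w := fun w => by
    simpa [h1, h2, eq_sub_iff_add_eq'] using (k α (a'⁻¹ x) w).symm
  generalize α (a'⁻¹ x) = s, α (a (a'⁻¹ x)) = t at k1
  have t0 : t ≠ 0 := fun e => hd' ⟨s, fun w => by simp [k1, e]⟩
  by_cases hd : ∃ c : F, ∀ w, d w = c • w
  · exact let ⟨c, hc⟩ := hd; ⟨c * c, fun w => by simp [hc, smul_smul]⟩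
  obtain ⟨u, hu⟩ := hT.ne₁
  obtain ⟨β, hβ⟩ := exists_dual_eq_one (F := F) ((a * a').map_ne_zero_iff.2 hu)
  obtain ⟨m, -, -, hm⟩ := hT.exists_sim hI
  have k2 : ∀ w, d (d w) = (t⁻¹ * (s - β (a u) + t * β (a' u))) • d w +
      (t⁻¹ * (β u - s * β (a' u))) • w := fun w => by
    have := k β u w
    rw [show β (a (a' u)) = 1 from hβ, k1, map_sub, map_smul, map_smul] at this
    rw [mul_smul, mul_smul, ← smul_add, eq_inv_smul_iff₀ t0]
    linear_combination (norm := module) -this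
  exact ⟨_, fun w => by rw [k2, (h₂.sa_of_quad hm k2 hd).1, zero_smul, zero_add]⟩

namespace TP

open Tn

variable {ι : Type*} {T : ι → Tn F U W V} (hT : TP T) {g h h' : V ≃ₗ[F] V} {i j l : ι}
include hT

theorem dim_move (hjl : j ≠ l) (hg : (T j).Mv (T l) g) {w : W} (w0 : w ≠ 0) :
    ∃ S : Submodule F V, finrank F S * finrank F W ≤ finrank F U ∧
      ∀ (φ : Dual F W) u, (T j).sl (φ.smulRight w) (g ((T j).tm u w)) ∈ S := by
  obtain ⟨a, d, e⟩ := hg.exists_tm hT.neU hT.neW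
  refine ⟨(T j).sp w ⊓ (T l).sp (d w), ?_, fun φ u => ⟨⟨_, ((T j).sl_rk φ w _).symm⟩, ?_⟩⟩
  · have := hT.finrank_inf hjl (Submodule.span F {w}) (Submodule.span F {d w})
    rwa [← sp_eq_ts, ← sp_eq_ts, finrank_span_singleton w0,
      finrank_span_singleton (d.map_ne_zero_iff.2 w0), mul_one, mul_one] at this
  · obtain ⟨c, ec⟩ := (hT.cm l j hjl.symm (φ.smulRight w)).exists_left hT.neW
    rw [e, ec]
    exact (T l).tm_mem_sp _ _

theorem not_le_three (h4 : finrank F W = 4) {w : W} (w0 : w ≠ 0) {A B C : Submodule F V}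
    (hA : finrank F A * finrank F W ≤ finrank F U) (hB : finrank F B * finrank F W ≤ finrank F U)
    (hC : finrank F C * finrank F W ≤ finrank F U) : ¬ ∀ u, (T j).tm u w ∈ A ⊔ B ⊔ C := fun h => by
  have h1 := Submodule.finrank_mono (show (T j).sp w ≤ A ⊔ B ⊔ C by rintro _ ⟨u, rfl⟩; exact h u)
  have h2 := Submodule.finrank_add_le_finrank_add_finrank (A ⊔ B) C
  have h3 := Submodule.finrank_add_le_finrank_add_finrank A B
  have := (finrank_pos_iff_exists_ne_zero (R := F)).2 hT.neU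
  rw [finrank_sp _ w0] at h1
  rw [h4] at hA hB hC
  omega

variable [Finite ι] (h4 : finrank F W = 4)
include h4

theorem mv_mul (hh : h ∈ hT.WR) (hh' : h' ∈ hT.WR) (e : ∀ v, h (h' v) + v = h v + h' v)
    (h1 : h' ≠ 1) (hj : ¬ (T j).Mv (T j) h) : (T j).Mv (T j) (h * h') := by
  obtain ⟨l, hl⟩ := hh j
  have hjl : j ≠ l := fun e => hj (e ▸ hl)
  by_contra hc
  by_cases hj' : (T j).Mv (T j) h'
  swap
  · obtain ⟨l', hl'⟩ := hh' j
    obtain ⟨m, hm⟩ := hT.WR.mul_mem hh hh' j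
    obtain ⟨w, w0⟩ := hT.neW
    obtain ⟨φ, hφ⟩ := exists_dual_eq_one (F := F) w0
    obtain ⟨A, a1, a2⟩ := hT.dim_move hjl hl w0
    obtain ⟨B, b1, b2⟩ := hT.dim_move (fun e : j = l' => hj' (e ▸ hl')) hl' w0
    obtain ⟨C, c1, c2⟩ := hT.dim_move (fun e : j = m => hc (e ▸ hm)) hm w0
    refine hT.not_le_three h4 w0 a1 b1 c1 (j := j) fun u => ?_
    convert sub_mem (Submodule.mem_sup_left (Submodule.add_mem_sup (a2 φ u) (b2 φ u)))
      (Submodule.mem_sup_right (c2 φ u)) using 1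
    rw [← map_add, ← e, mul_app]
    simp [hφ]
  obtain ⟨a, d, rfl⟩ := hj'.mem_NG hT.neU hT.neW
  by_cases hd : ∃ c : F, ∀ x, d x = c • x
  swap
  · obtain ⟨w, φ, f1, f2⟩ := exists_dual_inv hd
    have w0 : w ≠ 0 := fun e => by simp [e] at f1
    obtain ⟨A, a1, a2⟩ := hT.dim_move hjl hl w0
    obtain ⟨B, b1, b2⟩ := hT.dim_move hjl (hl.mul hj') w0
    refine hT.not_le_three h4 w0 a1 b1 b1 (j := j) fun u => Submodule.mem_sup_left ?_
    convert sub_mem (Submodule.mem_sup_left (a2 φ u)) (Submodule.mem_sup_right (b2 φ u)) using 1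
    simpa [f1, f2, eq_sub_iff_add_eq'] using congrArg ((T j).sl (φ.smulRight w)) (e ((T j).tm u w))
  obtain ⟨c, hd⟩ := hd
  obtain ⟨u, hu⟩ : ∃ u, c • a u - u ≠ 0 := by
    by_contra hn
    push Not at hn
    exact h1 ((T j).ext' fun u w => by
      rw [kr_tm, hd, map_smul, ← LinearMap.smul_apply, ← map_smul, sub_eq_zero.1 (hn u), one_app])
  obtain ⟨b, f, eb⟩ := hl.exists_tm hT.neU hT.neW
  have k : ∀ w, (T l).tm (b (c • a u - u)) (f w) = (T j).tm (c • a u - u) w := fun w => by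
    have := e ((T j).tm u w)
    rw [← eb]
    simp only [kr_tm, hd, map_smul, map_sub, LinearMap.sub_apply, LinearMap.smul_apply] at this ⊢
    linear_combination (norm := module) this
  obtain ⟨x, hx⟩ := hT.not_smul
  obtain ⟨w, hw⟩ := exists_not_eigen hx
  obtain ⟨n, en⟩ := (hT.cm l j hjl.symm x).exists_left hT.neW
  obtain ⟨t, ht⟩ := Submodule.mem_span_singleton.1 ((T l).mem_of_tm_mem_ts (w := f (x w))
    (b.map_ne_zero_iff.2 hu) (by
      rw [k, ← sl_tm, ← k, en]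
      exact (T l).tm_mem_ts _ (Submodule.mem_span_singleton_self (f w))))
  exact hw (Submodule.mem_span_singleton.2 ⟨t, f.injective (by rw [map_smul, ht])⟩)

theorem mv_fix (hh : h ∈ hT.WR) (hh' : h' ∈ hT.WR) (e : ∀ v, h (h' v) + v = h v + h' v)
    (h1 : h' * h' ≠ 1) (j : ι) : (T j).Mv (T j) h := by
  by_contra hj
  have m1 := hT.mv_mul h4 hh hh' e (fun e => h1 (by rw [e, mul_one])) hj
  have m2 := hT.mv_mul h4 hh (mul_mem hh' hh') (fun v => by
    rw [mul_app]; linear_combination (norm := module) e v + e (h' v)) h1 hj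
  have m3 := (m1.inv hT.neU).mul m2
  exact hj (by simpa [mul_assoc] using m1.mul (m3.inv hT.neU))

variable {Φ₁ : ι → Fm F U} (hF : ∀ i, TF (T i) (Φ₁ i) Φ₂ Φ) (h₂ : Φ₂.M4)
include hF h₂

omit h4 in
theorem exists_sl_of_pair (hh : h ∈ hT.WR) (hh' : h' ∈ hT.WR) (hI : h ∈ Φ.Iso) {N N' R : End F V}
    (e : ∀ v, h v = v + N v) (e' : ∀ v, h' v = v + N' v) (h1 : N * N' = 0) (h1' : N' * N = 0)
    {c c' : F} (c0 : c ≠ 0) (c0' : c' ≠ 0) (h3 : N * N = c • R) (h3' : N' * N' = c' • R)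
    (h5 : N * R = 0) (h5' : N' * R = 0) (R0 : R ≠ 0) : ∃ l η, ∀ v, R v = (T l).sl η v := by
  have a := fun {A B : End F V} (h : A = B) v => LinearMap.congr_fun h v
  have p1 := a h1
  have p2 := a h1'
  have p3 := a h3
  have p4 := a h3'
  have p5 := a h5
  have p6 := a h5'
  simp only [End.mul_apply, LinearMap.zero_apply, LinearMap.smul_apply] at p1 p2 p3 p4 p5 p6
  have q : ∀ {h : V ≃ₗ[F] V} {N : End F V} {c : F}, (∀ v, h v = v + N v) → c ≠ 0 →
      (∀ v, N (N v) = c • R v) → (∀ v, N (R v) = 0) → h * h ≠ 1 := fun {_ N _} e c0 p p' k => R0 (by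
    ext v
    have := congrArg N (LinearEquiv.congr_fun k v)
    simp only [mul_app, e, map_add, p, map_smul, p', one_app, smul_zero, add_zero, add_assoc,
      add_eq_left, ← two_smul F] at this
    simpa [h₂.two, c0] using this)
  have r : ∀ v, h (h' v) + v = h v + h' v := fun v => by simp only [e, e', map_add, p1]; abel
  have f := hT.mv_fix h₂.four hh hh' r (q e' c0' p4 p6)
  have f' := hT.mv_fix h₂.four hh' hh (fun v => by simp only [e, e', map_add, p2]; abel) (q e c0 p3 p5)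
  have n : ∀ v, N v = h v - v := fun v => by rw [e, add_sub_cancel_left]
  have n' : ∀ v, N' v = h' v - v := fun v => by rw [e', add_sub_cancel_left]
  by_contra hc
  obtain ⟨κ, hκ⟩ := hT.scal R fun j => by
    obtain ⟨a, d, rfl⟩ := (f j).mem_NG hT.neU hT.neW
    obtain ⟨a', d', rfl⟩ := (f' j).mem_NG hT.neU hT.neW
    have cm : ∀ a (d : W ≃ₗ[F] W), (∃ c : F, ∀ w, d w = c • w) → ∀ x v,
        (T j).kr a d ((T j).sl x v) = (T j).sl x ((T j).kr a d v) := fun a d ⟨c, hc⟩ x =>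
      (T j).ext (f := ((T j).kr a d).toLinearMap ∘ₗ (T j).sl x)
        (g := (T j).sl x ∘ₗ ((T j).kr a d).toLinearMap) fun u w => by simp [hc]
    rcases (hF j).dich h₂ hI r with k | k | k
    · obtain ⟨d₁, e₁⟩ := (T j).exists_krR_of_smul d hT.neU k
      refine absurd ⟨j, c⁻¹ • ((d₁.toLinearMap - 1) * (d₁.toLinearMap - 1)), fun v => ?_⟩ hc
      rw [map_smul, LinearMap.smul_apply, eq_inv_smul_iff₀ c0, ← p3]
      simp [n, e₁, krR_eq_sl]
    · exact fun x v => smul_right_injective V c0' (by simp only [← p4, n', cm a' d' k, ← map_sub, ← map_smul])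
    · have k2 : ∀ v, ((2 * 2 : F) * c) • R v = (T j).kr (a * a) (d * d) ((T j).kr (a * a) (d * d) v - v) -
          ((T j).kr (a * a) (d * d) v - v) := fun v => by
        have : N (N (N v)) = 0 := by rw [p3 v, map_smul, p5, smul_zero]
        simp only [kr_mul, mul_app, e, map_add, map_sub, this, mul_smul, ← p3, map_zero]
        module
      exact fun x v => smul_right_injective V (mul_ne_zero (mul_ne_zero h₂.two h₂.two) c0) (by
        simp only [k2, cm (a * a) (d * d) k, ← map_sub, ← map_smul])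
  refine R0 (LinearMap.ext fun v => ?_)
  by_cases κ0 : κ = 0
  · simp [hκ, κ0]
  · simpa [c0, show N v = 0 by simpa [hκ, κ0] using p5 v] using (p3 v).symm

omit h4 in
theorem ux [Finite F] {w : W} (hw : Φ₂.Q w = 0) (hw0 : w ≠ 0)
    (h : ∀ τ ∈ Φ₂.RG w, g * (T i).krR τ * g⁻¹ ∈ hT.WR ⊓ Φ.Iso) :
    ∃ l η, ∀ v, g ((T i).sl (Φ₂.rk w w) v) = (T l).sl η (g v) := by
  obtain ⟨x, x1, -, x3, s, t, s1, t1, x4⟩ := h₂.exists_root2 hw hw0
  obtain ⟨c, c0, ec⟩ := x3 s s1
  obtain ⟨c', c0', ec'⟩ := x3 t t1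
  have e : ∀ t v, (g * (T i).krR (x t) * g⁻¹) v = v + cjL g ((T i).sl ((x t).toLinearMap - 1)) v :=
    fun t v => by simp [cjL_apply, krR_eq_sl]
  have z : cjL g 0 = 0 := LinearMap.ext fun v => by simp [cjL_apply]
  have sm : ∀ (c : F) b, cjL g (c • b) = c • cjL g b := fun c b =>
    LinearMap.ext fun v => by simp [cjL_apply]
  have k : ∀ t, ((x t).toLinearMap - 1) * Φ₂.rk w w = 0 := fun t =>
    LinearMap.ext fun v => by simp [(x1 t).2.1]
  obtain ⟨f, -, ef⟩ := Fm.exists_partner' hw hw0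
  obtain ⟨u, hu⟩ := hT.neU
  obtain ⟨l, η, el⟩ := hT.exists_sl_of_pair hF h₂ (h _ (x1 s)).1 (h _ (x1 t)).1 (h _ (x1 s)).2 (e s) (e t)
    (R := cjL g ((T i).sl (Φ₂.rk w w))) (by rw [← cjL_mul', ← map_mul, x4, map_zero, z])
    (by
      rw [← cjL_mul', ← map_mul, show _ * _ = _ * _ from ?_, x4, map_zero, z]
      simp only [mul_sub, sub_mul, mul_one, one_mul, ← LinearEquiv.coe_toLinearMap_mul, ← map_mul,
        mul_comm s t]
      abel)
    c0 c0' (by rw [← cjL_mul', ← map_mul, ec, map_smul, sm])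
    (by rw [← cjL_mul', ← map_mul, ec', map_smul, sm]) (by rw [← cjL_mul', ← map_mul, k, map_zero, z])
    (by rw [← cjL_mul', ← map_mul, k, map_zero, z]) fun e => (T i).tm_ne_zero hu hw0 (by
      simpa [cjL_app, ef] using LinearMap.congr_fun e (g ((T i).tm u f)))
  exact ⟨l, η, fun v => by rw [← el, cjL_app]⟩

omit h4 in
theorem mv_of_conj [Finite F] (h : ∀ τ ∈ Φ₂.EG, g * (T i).krR τ * g⁻¹ ∈ hT.WR ⊓ Φ.Iso) :
    ∃ l, (T i).Mv (T l) g := by
  have ux := fun w hw hw0 => hT.ux hF h₂ (w := w) hw hw0 fun τ hτ => h τ hτ.1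
  obtain ⟨w, w0, hw⟩ := h₂.exists_sing
  obtain ⟨l, η, e⟩ := ux w hw w0
  let R : Submodule F (End F W) :=
    { carrier := {x | ∃ x', ∀ v, g ((T i).sl x v) = (T l).sl x' (g v)}
      zero_mem' := ⟨0, by simp⟩
      add_mem' := fun ⟨x, hx⟩ ⟨y, hy⟩ => ⟨x + y, fun v => by simp [hx, hy]⟩
      smul_mem' := fun c _ ⟨x, hx⟩ => ⟨c • x, fun v => by simp [hx]⟩ }
  refine ⟨l, h₂.o.all_mem h₂.two h₂.three R
    (fun _ ⟨x, hx⟩ _ ⟨y, hy⟩ => ⟨x * y, fun v => by simp [hx, hy]⟩) fun s hs => ?_⟩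
  by_cases s0 : s = 0
  · exact ⟨0, by simp [s0, Fm.rk]⟩
  obtain ⟨m, η', e'⟩ := ux s hs s0
  by_cases hm : m = l
  · exact ⟨η', hm ▸ e'⟩
  have k := LinearMap.congr_fun ((T i).sl_inj hT.neU (x := Φ₂.rk s s * Φ₂.rk w w)
    (y := Φ₂.rk w w * Φ₂.rk s s) fun v => g.injective (by
      simp only [map_mul, End.mul_apply, e, e', (hT.cm m l hm η).app])) w
  obtain ⟨t, rfl⟩ := h₂.smul_of_sing hw w0 hs (by
    have := congrArg (Φ₂.B s) k
    simpa [Φ₂.B_self hw, Φ₂.B_self hs, h₂.o.symm w s] using this.symm)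
  convert R.smul_mem (t * t) ⟨η, e⟩ using 1
  exact LinearMap.ext fun v => by simp [h₂.o.σ, smul_smul, mul_right_comm]

end TP

/-- A group normalised by a two-parameter group. -/
theorem le_of_noncyc [Finite F] (x : Multiplicative (F × F) →* (V ≃ₗ[F] V))
    (hx : Function.Injective x) {N L : Subgroup (V ≃ₗ[F] V)}
    (hN : ∀ t, ∀ n ∈ N, x t * n * (x t)⁻¹ ∈ N)
    (hL : ∀ t, t ≠ 1 → ∀ n ∈ N, n * x t = x t * n → n ∈ L)
    (hp : ∀ n ∈ N, n ∈ L → n ^ ringChar F = 1 → n = 1) : N ≤ L := by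
  have : Finite V := Module.finite_of_finite F
  have : Finite (V ≃ₗ[F] V) := DFunLike.finite _
  have := Fact.mk (CharP.char_is_prime F (ringChar F))
  have p1 : ∀ t, x t ^ ringChar F ^ 1 = 1 := fun t => by
    rw [← map_pow, pow_one, show t ^ ringChar F = 1 from Multiplicative.toAdd.injective
      (Prod.ext (by simp) (by simp)), map_one]
  have hn : x.range ≤ Subgroup.normalizer (N : Set _) := by
    rintro _ ⟨t, rfl⟩ n
    exact ⟨hN t n, fun h => by simpa [mul_assoc] using hN t⁻¹ _ h⟩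
  let t : Multiplicative (F × F) := Multiplicative.ofAdd (1, 0)
  have t1 : t ≠ 1 := by simp [t]
  have hP := PLocal.isPGroup_zpowers_of_pow_eq_one (p1 t)
  have hz : Subgroup.zpowers (x t) ≤ Subgroup.normalizer (N : Set _) :=
    (Subgroup.zpowers_le.2 (MonoidHom.mem_range.2 ⟨t, rfl⟩)).trans hn
  have hc : (Nat.card N).Coprime (ringChar F) := by
    refine ((Nat.Prime.coprime_iff_not_dvd this.out).2 fun h => ?_).symm
    obtain ⟨n, e⟩ := exists_prime_orderOf_dvd_card' (G := ↥(N ⊓ Subgroup.centralizer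
      (Subgroup.zpowers (x t) : Set (V ≃ₗ[F] V)))) (ringChar F) ((Grp.ConjCount.card_modEq hP N
        fun g hg n => (hz hg n).1).dvd_iff dvd_rfl |>.1 h)
    have h1 := hp n n.2.1 (hL t t1 n n.2.1 (n.2.2 _ (Subgroup.mem_zpowers _)).symm) (by
      rw [← e, ← Subgroup.coe_pow, pow_orderOf_eq_one]; rfl)
    exact this.out.one_lt.ne (by rw [← e, show n = 1 from Subtype.ext h1, orderOf_one])
  have : IsMulCommutative x.range := ⟨⟨by
    rintro ⟨_, a, rfl⟩ ⟨_, b, rfl⟩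
    exact Subtype.ext (by simp [← map_mul, mul_comm])⟩⟩
  have e : Nat.card x.range = Nat.card F * Nat.card F :=
    (Nat.card_congr (MonoidHom.ofInjective hx).toEquiv).symm.trans (Nat.card_prod F F)
  have hX : IsPGroup (ringChar F) x.range := by
    rintro ⟨_, a, rfl⟩
    exact ⟨1, Subtype.ext (p1 a)⟩
  refine Solv.le_of_centralizers_le x.range N (fun h => ?_) hn
    (Solv.coprime_card_of_isPGroup hX hc).symm L ?_
  · obtain ⟨⟨_, a, rfl⟩, h1⟩ := IsCyclic.exists_ofOrder_eq_natCard (α := x.range)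
    have h4 := orderOf_dvd_of_pow_eq_one (x := (⟨x a, a, rfl⟩ : x.range)) (Subtype.ext (p1 a))
    rw [h1, e, pow_one] at h4
    exact Finite.one_lt_card.ne' (Nat.isUnit_iff.1
      ((CharP.char_is_prime F (ringChar F)).squarefree _ h4))
  · rintro _ ⟨a, rfl⟩ ha n hn
    exact hL a (fun e => ha (by rw [e, map_one])) n hn.1
      (Subgroup.mem_centralizer_singleton_iff.1 hn.2)

end Cfsg.Agent.Class.Max
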