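import Mathlib
import Cfsg.Agent.Class.Max.C7OF

/-!
Tensor powers of `O₄⁻`: the common part of the global argument.
-/

set_option autoImplicit false
set_option linter.unusedSectionVars false

namespace Cfsg.Agent.Class.Max

open Module

variable {F U W V : Type*} [Field F] [AddCommGroup U] [Module F U] [AddCommGroup W]
  [Module F W] [AddCommGroup V] [Module F V]
  [FiniteDimensional F U] [FiniteDimensional F W] [FiniteDimensional F V]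
  {Φ₂ : Fm F W} {Φ : Fm F V} {M : Subgroup (V ≃ₗ[F] V)} {g : V ≃ₗ[F] V}

theorem Tn.krR_inj4 (T : Tn F U W V) (hU : ∃ u : U, u ≠ 0) : Function.Injective T.krR :=
  fun _ _ e => LinearEquiv.toLinearMap_injective
    (T.sl_inj hU fun v => by rw [← T.krR_eq_sl, ← T.krR_eq_sl, e])

theorem Tn.krR_r (T : Tn F U W V) (h₂ : Φ₂.IsO) (a : W) (v : V) :
    T.krR (h₂.r a) v = v - (Φ₂.Q a)⁻¹ • T.tm (T.cR (Φ₂.B a) v) a :=
  T.ext (f := (T.krR (h₂.r a)).toLinearMap) (g := LinearMap.id - (Φ₂.Q a)⁻¹ • T.xl 1 a (Φ₂.B a))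
    (fun u w => by simp [h₂.r_apply, Tn.xl_apply, smul_smul]) v

namespace TF

variable {T : Tn F U W V} {Φ₁ : Fm F U} (hT : TF T Φ₁ Φ₂ Φ) (h₂ : Φ₂.IsO) (h2 : (2 : F) ≠ 0)
  (hg : g ∈ Φ.Iso) {a e : W} (ha : Φ₂.Q a ≠ 0)
include hT h₂ h2 hg ha

theorem conj_r_of_sp (e0 : e ≠ 0) (h : ∀ u, g (T.tm u a) ∈ T.sp e) :
    Φ₂.Q e ≠ 0 ∧ g * T.krR (h₂.r a) = T.krR (h₂.r e) * g := by
  obtain ⟨α, hα⟩ := Tn.exists_left' (Fm.ne_of_Q ha) e0 h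
  have k : ∀ u u', Φ₁.B (α u) (α u') * Φ₂.Q e = Φ₁.B u u' * Φ₂.Q a := fun u u' =>
    mul_left_cancel₀ h2 (by
      have := hg.1 (T.tm u a) (T.tm u' a)
      rw [hα, hα, hT.B, hT.B, h₂.B_self, h₂.B_self] at this
      linear_combination this)
  have he : Φ₂.Q e ≠ 0 := fun h => by
    obtain ⟨u, u', e1⟩ := hT.exists_B_one
    exact ha (by simpa [h, e1] using (k u u').symm)
  refine ⟨he, LinearEquiv.ext fun v => ?_⟩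
  suffices (Φ₂.Q a)⁻¹ • α (T.cR (Φ₂.B a) v) = (Φ₂.Q e)⁻¹ • T.cR (Φ₂.B e) (g v) by
    simpa [Tn.krR_r, hα] using congrArg (T.tm · e) this
  refine sub_eq_zero.1 (Φ₁.nondeg _ fun y => Φ₁.perp_symm ?_)
  obtain ⟨u, rfl⟩ := α.surjective y
  rw [map_sub, map_smul, map_smul, ← hT.B_tm, ← hα, hg.1, hT.B_tm, smul_eq_mul, smul_eq_mul]
  field_simp
  linear_combination k u (T.cR (Φ₂.B a) v)

theorem exists_r_of_conj {ξ : W ≃ₗ[F] W} (h : g * T.krR (h₂.r a) = T.krR ξ * g) :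
    ∃ e, Φ₂.Q e ≠ 0 ∧ ξ = h₂.r e ∧ ∀ u, g (T.tm u a) ∈ T.sp e := by
  obtain ⟨φ0, eφ⟩ := h₂.r_eq_rk h2 ha
  obtain ⟨e, e0, he⟩ := Tn.exists_sp_of_sl (T := T) (T' := T) (g := g) hT.ne₁ φ0 (Fm.ne_of_Q ha)
    (x := ξ.toLinearMap - 1) fun v => by
      have := LinearEquiv.congr_fun h v
      simp only [mul_app, Tn.krR_eq_sl, eφ, map_add, map_one, LinearMap.add_apply, End.one_apply] at this
      simp [← this]
  have k := fun u => he.le ⟨_, T.tm_mem_sp u a, rfl⟩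
  obtain ⟨h1, h3⟩ := hT.conj_r_of_sp h₂ h2 hg ha e0 k
  exact ⟨e, h1, T.krR_inj4 hT.ne₁ (mul_right_cancel (h.symm.trans h3)), k⟩

end TF

variable {ι : Type*} [Fintype ι] [DecidableEq ι] {T : ι → Tn F U W V} {i j l : ι}

namespace TP

open Tn

variable (hT : TP T)
include hT

theorem mem_NG_of_comm (hg : g ∈ hT.WR) {x x' : W ≃ₗ[F] W} (hx : ¬ ∃ c : F, ∀ w, x' w = c • w)
    (e : g * (T i).krR x = (T i).krR x' * g) : g ∈ (T i).NG := by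
  obtain ⟨j, hj⟩ := hg i
  by_cases hij : i = j
  · exact Tn.Mv.mem_NG hT.neU hT.neW (hij ▸ hj)
  obtain ⟨y, hy⟩ := hj x.toLinearMap
  refine absurd (hT.smul_of_eq hij (x := x'.toLinearMap) (y := y) fun v => ?_) hx
  obtain ⟨v, rfl⟩ := g.surjective v
  rw [← hy, ← Tn.krR_eq_sl, ← Tn.krR_eq_sl, ← mul_app, ← e, mul_app]

theorem comm_krR (hij : i ≠ j) (x y : W ≃ₗ[F] W) :
    (T i).krR x * (T j).krR y = (T j).krR y * (T i).krR x := LinearEquiv.ext fun v => by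
  simp only [mul_app, Tn.krR_eq_sl]
  exact (hT.cm i j hij _ _ v).symm

/-- The involution criterion, when all normalising elements are known. -/
theorem le_WR_of_inv' [Finite F] [Nontrivial ι] (R : Set (W ≃ₗ[F] W))
    (hR : ∀ i, ∀ ρ ∈ R, (T i).krR ρ ∈ M) (sq : ∀ ρ ∈ R, ρ * ρ = 1)
    (ns : ∀ ρ ∈ R, ¬ ∃ c : F, ∀ w, ρ w = c • w)
    (inj : ∀ ρ ∈ R, ∀ ρ' ∈ R, (∃ c : F, ∀ w, (ρ * ρ') w = c • w) → ρ = ρ')
    (par : ∀ ρ ∈ R, ∃ ρ' ∈ R, ρ' ≠ ρ ∧ ρ' * ρ = ρ * ρ') (ne : R.Nonempty)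
    (cj : ∀ h ∈ M, ∀ i j (a : U ≃ₗ[F] U) (d : W ≃ₗ[F] W),
      (∀ u w, h ((T i).tm u w) = (T j).tm (a u) (d w)) → ∀ ρ ∈ R, d * ρ * d⁻¹ ∈ R)
    (uniq : ∀ g ∈ M, ∀ i, ∀ ρ ∈ R, g * (T i).krR ρ * g⁻¹ ∈ hT.WR → g ∈ hT.WR)
    (cl : ∀ g ∈ M, ∀ i, ∀ ρ ∈ R, ∀ ρ' ∈ R, ρ ≠ ρ' → ρ * ρ' = ρ' * ρ →
      g * (T i).krR (ρ * ρ') = (T i).krR (ρ * ρ') * g → g ∈ hT.WR)
    (fin : ∀ g ∈ M, ∀ i, (∀ ρ ∈ R, ∀ ρ' ∈ R, g * (T i).krR (ρ * ρ') * g⁻¹ ∈ hT.WR) → g ∈ hT.WR) :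
    M ≤ hT.WR := by
  have : Finite V := Module.finite_of_finite F
  have : Finite (V ≃ₗ[F] V) := DFunLike.finite _
  intro g hg
  let I : ι → Set M := fun i => {s | ∃ ρ ∈ R, s.1 = (T i).krR ρ}
  let B : ι → Subgroup M := fun i =>
    { carrier := {b | (T i).Cm b.1.toLinearMap}
      one_mem' := fun _ _ => rfl
      mul_mem' := fun ha hb => ha.mul hb
      inv_mem' := fun {a} ha x v => a.1.injective (by
        change a.1 (a.1⁻¹ _) = a.1.toLinearMap ((T i).sl x (a.1⁻¹ v))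
        rw [ha, LinearEquiv.coe_coe, app_inv_app, app_inv_app]) }
  have ki := fun i => (T i).krR_inj4 hT.neU
  have kc : ∀ i (ρ : W ≃ₗ[F] W), (T i).Cm ((T i).krR ρ).toLinearMap → ∃ c : F, ∀ w, ρ w = c • w :=
    fun i ρ h => by
      obtain ⟨a, e⟩ := h.exists_left hT.neW
      obtain ⟨u, hu⟩ := hT.neU
      obtain ⟨α, hα⟩ := exists_dual_eq_one (F := F) hu
      exact ⟨α (a u), fun w => by simpa [hα] using congrArg ((T i).cL α) (e u w)⟩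
  have D : InvD (hT.WR.subgroupOf M) I B := by
    refine ⟨?_, ?_, fun h hh i => ?_, ?_, ?_, ?_, ?_, ?_, ?_, ?_⟩
    · rintro i s ⟨ρ, hρ, e⟩
      exact Subtype.ext (by rw [Subgroup.coe_mul, e, ← map_mul, sq ρ hρ, map_one]; rfl)
    · rintro i s ⟨ρ, hρ, e⟩
      exact (e ▸ hT.krR_mem i ρ : s.1 ∈ hT.WR)
    · obtain ⟨j, hj : (T i).Mv (T j) h.1⟩ := hh i
      obtain ⟨a, d, e⟩ := hj.exists_tm hT.neU hT.neW
      refine ⟨j, ?_, fun b hb => (hj.inv hT.neU).cm hb fun v => by simp⟩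
      rintro s ⟨ρ, hρ, es⟩
      refine ⟨_, cj h h.2 i j a d e ρ hρ, ?_⟩
      rw [Subgroup.coe_mul, Subgroup.coe_mul, Subgroup.coe_inv, mul_inv_eq_iff_eq_mul, es]
      exact (T i).ext' fun u w => by simp only [mul_app, e, krR_tm, inv_app_app]
    · rintro i j hij s ⟨ρ, -, e⟩
      exact (e ▸ hT.cm_krR hij ρ : (T i).Cm s.1.toLinearMap)
    · rintro i s ⟨ρ, -, e⟩ b hb
      exact Subtype.ext (LinearEquiv.ext fun v => by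
        simp only [Subgroup.coe_mul, mul_app, e, krR_eq_sl]; exact (hb _ v).symm)
    · rintro i s ⟨ρ, hρ, e⟩ hb
      exact ns ρ hρ (kc i ρ (e ▸ hb))
    · rintro i s ⟨ρ, hρ, e⟩ s' ⟨ρ', hρ', e'⟩ hb
      refine Subtype.ext (e.trans (inj ρ hρ ρ' hρ' (kc i _ ?_) ▸ e'.symm))
      rw [map_mul, ← e, ← e']
      exact hb
    · rintro i s ⟨ρ, hρ, e⟩ g hg
      exact uniq g g.2 i ρ hρ (e ▸ hg)
    · rintro i s ⟨ρ, hρ, e⟩ s' ⟨ρ', hρ', e'⟩ hne hc g hg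
      exact cl g g.2 i ρ hρ ρ' hρ' (fun h => hne (Subtype.ext (by rw [e, e', h])))
        (ki i (by rw [map_mul, map_mul, ← e, ← e']; exact congrArg Subtype.val hc))
        (by rw [map_mul, ← e, ← e']; exact congrArg Subtype.val hg)
    · rintro i s ⟨ρ, hρ, e⟩
      obtain ⟨ρ', h1, h2, h3⟩ := par ρ hρ
      exact ⟨⟨_, hR i ρ' h1⟩, ⟨ρ', h1, rfl⟩, fun h => h2 (ki i (e ▸ congrArg Subtype.val h)),
        Subtype.ext (by simp only [Subgroup.coe_mul, e, ← map_mul, h3])⟩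
  obtain ⟨ρ, hρ⟩ := ne
  obtain ⟨j₁, j₂, h12⟩ := exists_pair_ne ι
  exact D.mem_of_two (g := ⟨g, hg⟩) h12 (t := ⟨_, hR j₂ ρ hρ⟩) ⟨ρ, hρ, rfl⟩
    (s₀ := ⟨_, hR j₁ ρ hρ⟩) ⟨ρ, hρ, rfl⟩ fun h => fin g hg j₁ fun ρ hρ ρ' hρ' => by
      simpa [Subgroup.mem_subgroupOf] using
        h ⟨_, hR j₁ ρ hρ⟩ ⟨ρ, hρ, rfl⟩ ⟨_, hR j₁ ρ' hρ'⟩ ⟨ρ', hρ', rfl⟩

end TP

/-- The hypotheses of the global argument. -/
structure O4 (T : ι → Tn F U W V) (Φ₁ : ι → Fm F U) (Φ₂ : Fm F W) (Φ : Fm F V)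
    (M : Subgroup (V ≃ₗ[F] V)) : Prop where
  ot : OT T Φ₂ Φ
  tf : ∀ i, TF (T i) (Φ₁ i) Φ₂ Φ
  m4 : Φ₂.M4
  H : ot.tp.WR ⊓ Φ.EG ≤ M
  G : M ≤ Φ.EG
  ev : Even (finrank F U)
  S : ∀ i j, ∀ g ∈ M, ∀ w w', Φ₂.Q w = 0 → w ≠ 0 → w' ≠ 0 →
    (∀ u, g ((T i).tm u w) ∈ (T j).sp w') → g ∈ ot.tp.WR

namespace O4

variable {Φ₁ : ι → Fm F U} (h : O4 T Φ₁ Φ₂ Φ M) [Finite F] [Nontrivial ι] {a b c d w : W}
include h

theorem I (hg : g ∈ M) : g ∈ Φ.Iso := Φ.EG_le_Iso (h.G hg)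

theorem K (i : ι) {τ : W ≃ₗ[F] W} (hτ : τ ∈ Φ₂.EG) : (T i).krR τ ∈ M := h.ot.krR_mem h.H i hτ

theorem rr_mem (i : ι) (ha : Φ₂.Q a ≠ 0) (hb : Φ₂.Q b ≠ 0) :
    (T i).krR (h.m4.o.r a * h.m4.o.r b) ∈ M :=
  have k := mul_mem (h.m4.o.r_mem_Iso a) (h.m4.o.r_mem_Iso b)
  h.H ⟨h.ot.tp.krR_mem i _, (h.tf i).krR_EG_of_even h.m4.o h.ot.o h.m4.two (h.ot.three_le' i) h.ev k
    ((h.m4.o.sg_fst h.m4.two k).1 (by rw [h.m4.o.sg_rr h.m4.two ha hb]))⟩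

theorem ux (hg : g ∈ M) (hw : Φ₂.Q w = 0) (hw0 : w ≠ 0)
    (e : ∀ τ ∈ Φ₂.RG w, g * (T i).krR τ * g⁻¹ ∈ h.ot.tp.WR) : g ∈ h.ot.tp.WR := by
  obtain ⟨l, η, k⟩ := h.ot.tp.ux h.tf h.m4 hw hw0 fun τ hτ =>
    ⟨e τ hτ, h.I (mul_mem (mul_mem hg (h.K i hτ.1)) (inv_mem hg))⟩
  obtain ⟨f, -, ef⟩ := Fm.exists_partner' hw hw0
  obtain ⟨w', w0, k'⟩ := Tn.exists_sp_of_sl h.ot.tp.neU (φ := Φ₂.B w) (fun e => by simp [e] at ef) hw0 k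
  exact h.S i l g hg w w' hw hw0 w0 fun u => k'.le ⟨_, (T i).tm_mem_sp u w, rfl⟩

theorem mem_WR_of_comm (hw : Φ₂.Q w = 0) (hw0 : w ≠ 0) {x : W ≃ₗ[F] W}
    (hx : ∃ c : F, c ≠ 0 ∧ (x.toLinearMap - 1) * (x.toLinearMap - 1) = c • Φ₂.rk w w) (hg : g ∈ M)
    (e : g * (T i).krR x = (T i).krR x * g) : g ∈ h.ot.tp.WR := by
  obtain ⟨c, c0, hx⟩ := hx
  obtain ⟨f, -, e1⟩ := Fm.exists_partner' hw hw0
  have k : ∀ v, g ((T i).sl (x.toLinearMap - 1) v) = (T i).sl (x.toLinearMap - 1) (g v) := fun v => by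
    simpa [← Tn.krR_eq_sl] using LinearEquiv.congr_fun e v
  refine h.S i i g hg w w hw hw0 hw0 fun u => ?_
  have := k ((T i).sl (x.toLinearMap - 1) ((T i).tm (c⁻¹ • u) f))
  rw [k ((T i).tm _ f), Tn.sl_sl, Tn.sl_sl, hx, Tn.sl_tm] at this
  rw [show (T i).tm u w = (T i).tm (c⁻¹ • u) ((c • Φ₂.rk w w) f) by simp [e1, c0], this, map_smul,
    LinearMap.smul_apply, Fm.rk, Tn.sl_rk]
  exact Submodule.smul_mem _ _ ((T i).tm_mem_sp _ _)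

/-- The pointwise stabiliser of `U ⊗ ⟨c, d⟩`. -/
theorem fix_two (hp : Φ₂.Pl c d) (hg : g ∈ M) (e1 : ∀ u, g ((T i).tm u c) = (T i).tm u c)
    (e2 : ∀ u, g ((T i).tm u d) = (T i).tm u d) :
    ∃ ζ ∈ Φ₂.Iso, g = (T i).krR ζ ∧ ζ c = c ∧ ζ d = d := by
  have c0 := Fm.ne_of_Q hp.qa
  obtain ⟨j, hj⟩ := exists_ne i
  obtain ⟨w, hw0, hw⟩ := h.m4.exists_sing
  obtain ⟨x, x1, x2, x3, -⟩ := h.m4.exists_root2 hw hw0
  obtain ⟨u₀, hu⟩ := h.ot.tp.neU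
  let N : Subgroup (V ≃ₗ[F] V) :=
    { carrier := {n | n ∈ M ∧ (∀ u, n ((T i).tm u c) = (T i).tm u c) ∧
        ∀ u, n ((T i).tm u d) = (T i).tm u d}
      one_mem' := ⟨M.one_mem, fun _ => rfl, fun _ => rfl⟩
      mul_mem' := fun ha hb => ⟨M.mul_mem ha.1 hb.1, fun x => by rw [mul_app, hb.2.1, ha.2.1],
        fun x => by rw [mul_app, hb.2.2, ha.2.2]⟩
      inv_mem' := fun ha => ⟨M.inv_mem ha.1, fun x => inv_app_of_eq (ha.2.1 x),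
        fun x => inv_app_of_eq (ha.2.2 x)⟩ }
  have kr : ∀ n ∈ N, n ∈ (T i).NG → ∃ ζ ∈ Φ₂.Iso, n = (T i).krR ζ ∧ ζ c = c ∧ ζ d = d :=
    fun n hn h1 => by
      obtain ⟨ζ, e⟩ := Tn.exists_kr_of_tm (a := 1) ⟨u₀, hu⟩ h1 c0 one_ne_zero fun u => by
        simpa using hn.2.1 u
      obtain rfl : n = (T i).krR ζ := e
      exact ⟨ζ, (h.tf i).B_of_krR (h.I hn.1), rfl, (T i).right_inj hu (by simpa using hn.2.1 u₀),
        (T i).right_inj hu (by simpa using hn.2.2 u₀)⟩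
  refine kr g ⟨hg, e1, e2⟩ (le_of_noncyc ((T j).krR.comp x)
    (((T j).krR_inj4 ⟨u₀, hu⟩).comp x2) (N := N) (fun t n hn => ?_)
    (fun t ht n hn e => h.ot.tp.mem_NG_of_sp (h.mem_WR_of_comm hw hw0 (x3 t ht) hn.1 e) c0 fun u =>
      (hn.2.1 u).symm ▸ (T i).tm_mem_sp u c) (fun n hn h1 hp' => ?_) ⟨hg, e1, e2⟩)
  · have m := h.K j (x1 t).1
    obtain ⟨α, eα⟩ := (h.ot.tp.cm_krR hj.symm (x t)).exists_kr h.ot.tp.neW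
    rw [MonoidHom.comp_apply]
    rw [eα] at m ⊢
    exact ⟨mul_mem (mul_mem m hn.1) (inv_mem m), fun u => by simp [Tn.kr_inv, hn.2.1],
      fun u => by simp [Tn.kr_inv, hn.2.2]⟩
  · obtain ⟨ζ, z1, rfl, z2, z3⟩ := kr n hn h1
    rw [h.m4.eq_one_of_comm hp z1 ((T i).krR_inj4 ⟨u₀, hu⟩ (by rw [map_pow, hp', map_one])) fun y => by
      rw [← mul_app, ← mul_app ((h.m4.o.r c * h.m4.o.r d)), show ζ * (h.m4.o.r c * h.m4.o.r d) =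
        ζ * h.m4.o.r c * ζ⁻¹ * (ζ * h.m4.o.r d * ζ⁻¹) * ζ by group, h.m4.o.conj_r z1, h.m4.o.conj_r z1,
        z2, z3], map_one]

end O4

end Cfsg.Agent.Class.Max
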