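import Mathlib
import Cfsg.Agent.Class.Max.C7OG
import Cfsg.Agent.Class.Max.C7OC

/-!
Tensor powers of `O₄⁻` with at least three factors: the complement of a slot.
-/

set_option autoImplicit false
set_option linter.unusedSectionVars false

namespace Cfsg.Agent.Class.Max

open Module

variable {F X U W V : Type*} [Field F] [AddCommGroup U] [Module F U] [AddCommGroup W]
  [Module F W] [AddCommGroup V] [Module F V] [AddCommGroup X] [Module F X] [FiniteDimensional F X]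
  [FiniteDimensional F U] [FiniteDimensional F W] [FiniteDimensional F V]
  {Φ₂ : Fm F W} {Φ : Fm F V} {M : Subgroup (V ≃ₗ[F] V)} {g : V ≃ₗ[F] V}

namespace Fm.IsO

variable (hO : Φ.IsO) (h2 : (2 : F) ≠ 0)
include hO h2

theorem det_sq (hg : g ∈ Φ.Iso) : LinearMap.det g.toLinearMap ^ 2 = 1 := by
  have := (hO.sg_fst h2 (mul_mem hg hg)).1 (by
    rw [← MulMemClass.mk_mul_mk _ _ _ hg hg, map_mul, Prod.fst_mul, Int.units_mul_self])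
  rwa [LinearEquiv.coe_toLinearMap_mul, map_mul, ← pow_two] at this

theorem exists_cz {x y : V ≃ₗ[F] V} (hx : x ∈ Φ.Iso) (hy : y ∈ Φ.Iso) (x2 : ∀ v, x (x v) = v)
    (y2 : ∀ v, y (y v) = v) (e : ∀ v, y (x v) = x (y v)) :
    ∃ ρ ∈ Φ.Iso, ∀ v, ρ v = (2 : F)⁻¹ • (v + x v + y v - x (y v)) := by
  let f : End F V := (2 : F)⁻¹ • (1 + x.toLinearMap + y.toLinearMap - x.toLinearMap * y.toLinearMap)
  have ef : ∀ v, f v = (2 : F)⁻¹ • (v + x v + y v - x (y v)) := fun _ => rfl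
  have ff : ∀ v, f (f v) = v := fun v => by
    simp only [ef, map_smul, map_add, map_sub, x2, y2, e]
    match_scalars <;> field_simp <;> ring
  have sx : ∀ u v, Φ.B (x u) v = Φ.B u (x v) := fun u v => by rw [← hx.1, x2]
  have sy : ∀ u v, Φ.B (y u) v = Φ.B u (y v) := fun u v => by rw [← hy.1, y2]
  refine ⟨LinearEquiv.ofInvolutive f ff, (hO.tv h2).mem_Iso fun u v => ?_, ef⟩
  change Φ.B (f u) (f v) = _
  conv_rhs => rw [← ff v, ef (f v)]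
  simp only [ef u, Φ.bsimp, hO.σ, sx, sy, e]

end Fm.IsO

theorem Tn.syS_of_fr {T : Tn F U W V} (h : Φ₂.M4) {a b c d : W} (f : Φ₂.Fr a b c d) {e : End F V}
    (he : ∀ x ∈ [a, b, c, d], ∀ v, e (T.krR (h.o.r x) v) = T.krR (h.o.r x) (e v)) : T.SyS Φ₂ e := by
  have k : ∀ x ∈ [a, b, c, d], Φ₂.Q x ≠ 0 →
      T.SyS Φ₂ (((2 * Φ₂.Q x)⁻¹ • T.sl (Φ₂.rk x x)) * e) := fun x hx' hx => by
    convert Tn.syS_rk (T := T) h.o x (((2 * Φ₂.Q x)⁻¹ * (2 * Φ₂.Q x)⁻¹) • e) using 1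
    refine LinearMap.ext fun v => ?_
    have : ∀ v, e (T.sl (Φ₂.rk x x) v) = T.sl (Φ₂.rk x x) (e v) := fun v => by
      simpa [Tn.krR_r, hx, Fm.rk, Tn.sl_rk] using he x hx' v
    simp only [End.mul_apply, LinearMap.smul_apply, this, map_smul]
    simp only [Fm.rk, Tn.sl_rk_rk, h.o.B_self, smul_smul, mul_assoc,
      inv_mul_cancel₀ (mul_ne_zero h.two hx), mul_one]
  convert (((k a (by simp) f.p₁.qa).add (k b (by simp) f.p₁.qb)).add (k c (by simp) f.p₂.qa)).add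
    (k d (by simp) f.p₂.qb) using 1
  rw [← add_mul, ← add_mul, ← add_mul, eq_comm]
  convert one_mul e
  refine LinearMap.ext (T.ext fun u w => ?_)
  conv_rhs => rw [End.one_apply, h.sum f w]
  simp [smul_smul, div_eq_inv_mul]

variable {ι : Type*} [Fintype ι] [DecidableEq ι] {T : ι → Tn F U W V} {i j l : ι}

theorem TP.comm_krR' (hT : TP T) (i j : ι) {x y : W ≃ₗ[F] W} (e : x * y = y * x) :
    (T i).krR x * (T j).krR y = (T j).krR y * (T i).krR x := by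
  by_cases hij : i = j
  · rw [hij, ← map_mul, e, map_mul]
  · exact hT.comm_krR hij x y

namespace OT

variable (h : OT T Φ₂ Φ) [Finite F]
include h

theorem mem_WR_of_conj (h₂ : Φ₂.M4)
    (e : ∀ j, ∀ τ ∈ Φ₂.EG, g * (T j).krR τ * g⁻¹ ∈ h.tp.WR ⊓ Φ.Iso) : g ∈ h.tp.WR := fun j => by
  choose Φ₁ _ hF using fun i => (T i).exists_TF h.o₂ h.o h.two h.tp.neU h.tp.neW (h.adj i)
  exact h.tp.mv_of_conj hF h₂ (e j)

/-- A diagonal involution in `Ω` outside the wreath product. -/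
theorem exists_rho2 (hjl : j ≠ l) {a b : W} (hp : Φ₂.Pl a b) (hq : Φ₂.Q b = Φ₂.Q a) :
    ∃ ρ ∈ Φ.EG, ρ ∉ h.tp.WR ∧ ∀ m τ, τ * h.o₂.r a = h.o₂.r a * τ → τ * h.o₂.r b = h.o₂.r b * τ →
      (T m).krR τ * ρ = ρ * (T m).krR τ := by
  have h₂ := h.o₂
  have : Nontrivial ι := ⟨j, l, hjl⟩
  obtain ⟨Φ₁, -, hF⟩ := (T j).exists_TF h₂ h.o h.two h.tp.neU h.tp.neW (h.adj j)
  obtain ⟨Φ₁', -, hF'⟩ := (T l).exists_TF h₂ h.o h.two h.tp.neU h.tp.neW (h.adj l)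
  have sq : ∀ m x v, (T m).krR (h₂.r x) ((T m).krR (h₂.r x) v) = v := fun m x v => by
    rw [← mul_app, ← map_mul, h₂.r_mul_self, map_one, one_app]
  have cm := fun x y => LinearEquiv.congr_fun (h.tp.comm_krR hjl.symm x y)
  simp only [mul_app] at cm
  obtain ⟨ρ, hρ, e⟩ := h.o.exists_cz h.two (hF.krR_Iso (h₂.r_mem_Iso a)) (hF'.krR_Iso (h₂.r_mem_Iso a))
    (sq j a) (sq l a) (cm _ _)
  have ba := Φ₂.perp_symm hp.ab
  have rab : h₂.r (a - b) a = b := by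
    rw [h₂.r_apply, h₂.Q_sub, hq, Φ₂.B_sub_left, h₂.B_self, hp.ab, ba, sub_zero, ← two_mul, sub_zero,
      inv_mul_cancel₀ (mul_ne_zero h.two hp.qa), one_smul, sub_sub_cancel]
  set k := (T j).krR (h₂.r (a - b)) with hk
  have kI : k ∈ Φ.Iso := hF.krR_Iso (h₂.r_mem_Iso _)
  have e' : ∀ v, (k * ρ * k⁻¹) v = (2 : F)⁻¹ • (v + (T j).krR (h₂.r b) v + (T l).krR (h₂.r a) v -
      (T j).krR (h₂.r b) ((T l).krR (h₂.r a) v)) := fun v => by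
    obtain ⟨v, rfl⟩ := k.surjective v
    have : ∀ v, (T j).krR (h₂.r b) (k v) = k ((T j).krR (h₂.r a) v) := fun v => by
      rw [← rab, ← h₂.conj_r (h₂.r_mem_Iso _), map_mul, map_mul, map_inv, mul_app, mul_app, inv_app_app]
    simp only [mul_app, inv_app_app, e, map_smul, map_add, map_sub, cm, hk]
    simp only [← hk, this]
  refine ⟨ρ * (k * ρ * k⁻¹), ?_, fun hρ' => ?_, fun m τ ha hb => LinearEquiv.ext fun v => ?_⟩
  · rw [h.o.mul_mem_EG_iff h.two (h.three_le' j) hρ (mul_mem (mul_mem kI hρ) (inv_mem kI))]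
    change _ = h.o.sg h.two (⟨k, kI⟩ * ⟨ρ, hρ⟩ * ⟨k, kI⟩⁻¹)
    rw [map_mul, map_mul, map_inv, mul_inv_cancel_comm]
  · obtain ⟨c, c0, hc, hc'⟩ := Fm.exists_perp_pair (Ψ := Φ₂) h.three a b
    have t : ∀ v : V, (2 : F)⁻¹ • (v + v) = v := fun v => by
      rw [← two_smul F, inv_smul_smul₀ h.two]
    have k1 : ∀ u, (ρ * (k * ρ * k⁻¹)) ((T j).tm u c) =
        (1 : F) • (T j).tm ((1 : U ≃ₗ[F] U) u) c := fun u => by
      rw [mul_app, e', ← cm]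
      simp [h₂.r_of_perp hc', t, e, ← cm, h₂.r_of_perp hc]
    obtain ⟨d, ed⟩ := Tn.exists_kr_of_tm h.tp.neU (h.tp.mem_NG_of_sp hρ' c0 fun u => by
      rw [k1, one_smul]; exact (T j).tm_mem_sp _ _) c0 one_ne_zero k1
    obtain ⟨α, eα⟩ := (h.tp.cm_krR hjl (h₂.r a)).exists_kr h.tp.neW
    have k2 : ∀ u, (T j).tm (α u) a = (T j).tm u (d a) := fun u => by
      have := LinearEquiv.congr_fun ed ((T j).tm u a)
      rw [mul_app, e', ← cm] at this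
      simpa [h₂.r_of_perp ba, t, e, ← cm, h₂.r_self hp.qa, eα] using this
    obtain ⟨φ, hφ⟩ := exists_dual_eq_one (F := F) (Fm.ne_of_Q hp.qa)
    have k3 : ∀ u, α u = φ (d a) • u := fun u => by simpa [hφ] using congrArg ((T j).cR φ) (k2 u)
    obtain ⟨s, hs⟩ := h.tp.smul_of_eq hjl.symm (x := (h₂.r a).toLinearMap) (y := φ (d a) • 1)
      fun v => by
        rw [← Tn.krR_eq_sl, eα]
        exact (T j).ext (f := ((T j).kr α 1).toLinearMap) (fun u w => by simp [k3]) v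
    have s1 := hs a
    have s2 := hs c
    rw [LinearEquiv.coe_coe, h₂.r_self hp.qa] at s1
    rw [LinearEquiv.coe_coe, h₂.r_of_perp hc] at s2
    obtain rfl : 1 = s := smul_left_injective F c0 (by simpa using s2)
    exact Fm.ne_of_Q hp.qa (smul_right_injective W h.two (by
      linear_combination (norm := module) -s1))
  · have c1 := fun n => LinearEquiv.congr_fun (h.tp.comm_krR' m n ha)
    have c2 := fun n => LinearEquiv.congr_fun (h.tp.comm_krR' m n hb)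
    simp only [mul_app] at c1 c2
    rw [mul_app, mul_app, mul_app _ ((T m).krR τ), mul_app ρ, e', e', e, e]
    simp only [map_smul, map_add, map_sub, c1, c2]

end OT

/-- The complement of a slot, with the induction hypothesis. -/
structure Dn4 (T : ι → Tn F U W V) (Φ₂ : Fm F W) (Φ : Fm F V) (i : ι) (Φ₁ : Fm F U)
    (T' : {j // j ≠ i} → Tn F X W U) : Prop where
  tf : TF (T i) Φ₁ Φ₂ Φ
  ot : OT T' Φ₂ Φ₁
  e : ∀ j x, (T i).swap.sl ((T' j).sl x) = (T j).sl x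
  nt : ∃ j l : {j // j ≠ i}, j ≠ l
  ev : Even (finrank F X)
  m4 : Φ₂.M4
  ih : ∀ G, ot.tp.WR ⊓ Φ₁.EG ≤ G → G ≤ Φ₁.EG → G ≤ ot.tp.WR ∨ Φ₁.EG ≤ G

namespace Dn4

variable {Φ₁ : Fm F U} {T' : {j // j ≠ i} → Tn F X W U} (D : Dn4 T Φ₂ Φ i Φ₁ T')
include D

theorem tm (j : {j // j ≠ i}) (x : End F W) (u : U) (y : W) :
    (T i).tm ((T' j).sl x u) y = (T j).sl x ((T i).tm u y) := by rw [← D.e, Tn.swap_sl_tm]

theorem conj_tm (j : {j // j ≠ i}) (τ : W ≃ₗ[F] W) {α : U ≃ₗ[F] U} {y y' : W}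
    (e : ∀ u, g ((T i).tm u y) = (T i).tm (α u) y') (u : U) :
    (g * (T j).krR τ * g⁻¹) ((T i).tm u y') = (T i).tm ((α * (T' j).krR τ * α⁻¹) u) y' := by
  obtain ⟨u, rfl⟩ := α.surjective u
  rw [← e, mul_app, mul_app, inv_app_app, mul_app, mul_app, inv_app_app, ← e, Tn.krR_eq_sl,
    Tn.krR_eq_sl, D.tm]

theorem conj_EG [Finite F] (j : {j // j ≠ i}) {τ : W ≃ₗ[F] W} (hτ : τ ∈ Φ₂.EG) {α : U ≃ₗ[F] U} {m : F}
    (m0 : m ≠ 0) (e : ∀ x y, m * Φ₁.B (α x) (α y) = Φ₁.B x y) : α * (T' j).krR τ * α⁻¹ ∈ Φ₁.EG :=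
  let ⟨_, _, hF⟩ := (T' j).exists_TF D.m4.o D.ot.o D.m4.two D.ot.tp.neU D.ot.tp.neW (D.ot.adj j)
  D.tf.tv₁.EG_conj m0 (D.ot.o.σ m) e (hF.krR_EG hτ)

variable (h : OT T Φ₂ Φ)

theorem kr_mem_WR {a : U ≃ₗ[F] U} (ha : a ∈ D.ot.tp.WR) (d : W ≃ₗ[F] W) :
    (T i).kr a d ∈ h.tp.WR := fun m => by
  by_cases hm : m = i
  · exact ⟨i, hm.symm ▸ Tn.mv_of_NG ((T i).kr_mem a d)⟩
  obtain ⟨l, hl⟩ := ha ⟨m, hm⟩
  exact ⟨l, fun x => (hl x).imp fun x' e => (T i).ext (f := ((T i).kr a d).toLinearMap ∘ₗ (T m).sl x)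
    (g := (T l).sl x' ∘ₗ ((T i).kr a d).toLinearMap) fun u y => by
      simp only [LinearMap.comp_apply, LinearEquiv.coe_coe, ← D.tm ⟨m, hm⟩, Tn.kr_tm, e, ← D.tm l]⟩

variable [Finite F] [Nontrivial ι] (hH : h.tp.WR ⊓ Φ.EG ≤ M)
include hH

theorem kr_mem {a : U ≃ₗ[F] U} (ha : a ∈ D.ot.tp.WR ⊓ Φ₁.EG) : (T i).kr a 1 ∈ M :=
  hH ⟨D.kr_mem_WR h ha.1 1, (T i).swap_kr a 1 ▸ D.tf.swap.krR_EG ha.2⟩

theorem krR_mem (j : {j // j ≠ i}) {d : W ≃ₗ[F] W} (hd : d ∈ Φ₂.Iso) : (T j).krR d ∈ M := by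
  obtain ⟨_, _, hF⟩ := (T' j).exists_TF D.m4.o D.ot.o D.m4.two D.ot.tp.neU D.ot.tp.neW (D.ot.adj j)
  refine hH ⟨h.tp.krR_mem j d, ?_⟩
  rw [← Tn.kr_krR (D.e j), ← Tn.swap_kr]
  refine D.tf.swap.krR_EG_of_even D.ot.o h.o h.two (h.three_le' i) (D.m4.four ▸ by decide)
    (hF.krR_Iso hd) ?_
  obtain ⟨k, hk⟩ := D.ev
  change LinearMap.det ((T' j).kr 1 d).toLinearMap = 1
  rw [Tn.det_kr4, hk, ← two_mul, pow_mul, h.o₂.det_sq h.two hd]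
  simp

theorem cases (Y : Set W) :
    (∀ a ∈ Φ₁.EG, ∀ g ∈ M, (∀ y ∈ Y, ∀ u, g ((T i).tm u y) = (T i).tm (a u) y) → a ∈ D.ot.tp.WR) ∨
    ∀ a ∈ Φ₁.EG, ∃ g ∈ M, ∀ y ∈ Y, ∀ u, g ((T i).tm u y) = (T i).tm (a u) y := by
  let G : Subgroup (U ≃ₗ[F] U) :=
    { carrier := {a | a ∈ Φ₁.EG ∧ ∃ g ∈ M, ∀ y ∈ Y, ∀ u, g ((T i).tm u y) = (T i).tm (a u) y}
      one_mem' := ⟨one_mem _, 1, M.one_mem, fun _ _ _ => rfl⟩
      mul_mem' := fun ⟨h1, g, hg, e⟩ ⟨h2, g', hg', e'⟩ =>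
        ⟨mul_mem h1 h2, _, M.mul_mem hg hg', fun y hy u => by simp [e y hy, e' y hy]⟩
      inv_mem' := fun ⟨h1, g, hg, e⟩ => ⟨inv_mem h1, _, M.inv_mem hg,
        fun y hy u => g.injective (by simp [e y hy])⟩ }
  exact (D.ih G (fun a ha => ⟨ha.2, _, D.kr_mem h hH ha, fun y _ u => by simp⟩) fun _ h => h.1).imp
    (fun k a ha g hg e => k ⟨ha, g, hg, e⟩) fun k a ha => (k ha).2

theorem mem_WR_of_cases {Y : Set W}
    (k : ∀ a ∈ Φ₁.EG, ∀ g ∈ M, (∀ y ∈ Y, ∀ u, g ((T i).tm u y) = (T i).tm (a u) y) → a ∈ D.ot.tp.WR)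
    (hg : g ∈ M) {α : U ≃ₗ[F] U} {m : F} (m0 : m ≠ 0) (e : ∀ x y, m * Φ₁.B (α x) (α y) = Φ₁.B x y)
    (e' : ∀ y' ∈ Y, ∃ y, ∀ u, g ((T i).tm u y) = (T i).tm (α u) y') : α ∈ D.ot.tp.WR :=
  D.ot.mem_WR_of_conj D.m4 fun j τ hτ => have m := D.conj_EG j hτ m0 e
    ⟨k _ m _ (mul_mem (mul_mem hg (h.krR_mem hH j hτ)) (inv_mem hg)) fun y' hy =>
      let ⟨_, e⟩ := e' y' hy; D.conj_tm j τ e, Φ₁.EG_le_Iso m⟩

variable (hG : M ≤ Φ.EG) (hn : ¬ Φ.EG ≤ M)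
include hG hn

theorem exists_not_kr {j l : {j // j ≠ i}} (hjl : l ≠ j) {w : W} (hw : Φ₂.Q w = 0) (hw0 : w ≠ 0) :
    ∃ a ∈ Φ₁.EG, (∀ d, (T i).kr a d ∉ M) ∧
      ∀ τ ∈ Φ₂.Iso, τ w = w → (T' j).krR τ * a = a * (T' j).krR τ := by
  have h₂ := h.o₂
  have : Nontrivial {j // j ≠ i} := ⟨l, j, hjl⟩
  obtain ⟨f, y, hf, e1, y0, y1, y2⟩ := h₂.exists_triple h.two h.three hw hw0
  obtain ⟨a', ha', ea'⟩ := D.ot.exists_long hjl ((h₂.skew_rt w y).smul (h₂.σ 2⁻¹)) hw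
  have cm := fun y => (D.ot.tp.cm l j hjl y).app
  have ea : ∀ v, (a' * a') v = v + ((T' l).sl (Φ₂.rt w y) * (T' j).sl (Φ₂.rk w w)) v := fun v => by
    simp [ea', cm, Fm.rk, Tn.sl_rk_rk, Φ₂.B_self hw, add_assoc, ← two_smul F, h.two]
  refine ⟨a' * a', (D.ot.o.mul_mem_EG_iff h.two (D.ot.three_le' j) ha' ha').2 rfl, fun d hd => ?_,
    fun τ hτ e => LinearEquiv.ext fun v => ?_⟩
  swap
  · rw [mul_app, mul_app (a' * a'), ea, ea, map_add, ← cjL_app, D.ot.tp.cjL_krR_mul j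
      (fun e => absurd e.symm hjl) fun _ => LinearMap.ext fun x => by rw [Fm.cjL_rk hτ, e]]
  generalize a' * a' = a at *
  obtain ⟨κ, hκ, c, c0, ec⟩ := Fm.Rk.move_pt (Ψ := Φ₂) (Or.inl h.three) hw hf hw0
    fun h => by simp [h] at e1
  have hk := h.krR_mem hH l hκ
  have m := M.mul_mem (M.mul_mem (M.mul_mem hd hk) (M.inv_mem hd)) (M.inv_mem hk)
  have hjl' : j.1 ≠ l := fun e => hjl (Subtype.ext e.symm)
  have := h.eq_zero_of_hasU hH (by simp [D.m4.four]) D.m4.wide hG hn hw hw0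
    (h.tp.cm j l hjl' (Φ₂.rt w y - cjL κ (Φ₂.rt w y))) ⟨_, m, by
      rw [← Tn.kr_krR (D.e l), Tn.kr_inv, Tn.kr_inv, ← Tn.kr_mul, ← Tn.kr_mul, ← Tn.kr_mul]
      refine (T i).ext (g := LinearMap.id + _ * _) fun u x => ?_
      rw [LinearEquiv.coe_coe, Tn.kr_tm, mul_app, mul_app, mul_app, inv_apply_of_unip (A := _ * _)
        (fun v => by simp [cm, Fm.rk, Tn.sl_rk_rk, Φ₂.B_self hw]) ea, map_sub, app_inv_app,
        ← cjL_apply, cjL_mul', Tn.cjL_krR_sl, (D.ot.tp.cm l j hjl _).cjL_krR, ea]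
      simp [← D.tm, cm, Fm.rk, Tn.sl_rk_rk, Φ₂.B_self hw]
      abel⟩
  have := LinearMap.congr_fun ((T l).sl_inj h.tp.neU (y := 0) fun v => by rw [this, map_zero]) (κ w)
  rw [LinearMap.sub_apply, cjL_app, ec] at this
  exact y0 (by
    rw [show y = 0 by simpa [c0, e1, Φ₂.perp_symm y2, Φ₂.perp_symm y1, Φ₂.B_self hw] using this,
      Φ₂.Q_zero])

theorem mem_WR' {a : U ≃ₗ[F] U} {d : W ≃ₗ[F] W} (hd : (T i).kr a d ∈ M) : a ∈ D.ot.tp.WR := by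
  obtain ⟨m, m0, -, e⟩ := D.tf.swap.exists_sim ((T i).swap_kr a d ▸ Φ.EG_le_Iso (hG hd) :)
  rcases D.cases h hH Set.univ with k | k
  · exact D.mem_WR_of_cases h hH k hd m0 e fun y _ => ⟨d⁻¹ y, fun u => by simp⟩
  obtain ⟨j, l, hjl⟩ := D.nt
  obtain ⟨w, hw0, hw⟩ := D.m4.exists_sing
  obtain ⟨b, hb, n, -⟩ := D.exists_not_kr h hH hG hn hjl hw hw0
  obtain ⟨g, hg, e⟩ := k b hb
  exact absurd ((T i).ext' (f := g) (g := (T i).kr b 1) (fun u y => by simp [e y trivial]) ▸ hg) (n 1)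

theorem mem_WR (hg : g ∈ M) (hN : g ∈ (T i).NG) : g ∈ h.tp.WR := by
  obtain ⟨a, d, rfl⟩ := hN
  exact D.kr_mem_WR h (D.mem_WR' h hH hG hn hg) d

/-- The stabiliser of `U ⊗ w` for singular `w`. -/
theorem mem_NG (hK : ∀ m, ∀ d ∈ Φ₂.Iso, (T m).krR d ∈ M) {w : W} (hw : Φ₂.Q w = 0) (hw0 : w ≠ 0)
    (hg : g ∈ M) (hE : ∀ u, g ((T i).tm u w) ∈ (T i).sp w) : g ∈ (T i).NG := by
  have h₂ := h.o₂
  have hI := hG.trans Φ.EG_le_Iso
  have hq : ¬ (Nat.card F = 3 ∧ finrank F W = 3) := by simp [D.m4.four]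
  have hL := h.loc hH hq D.m4.wide hG hn D.ot.o D.tf
    (Or.inr ⟨D.m4.np, Or.inr fun y => hK i _ (h₂.r_mem_Iso y)⟩) hw hw0
  have dec := fun g (hg : g ∈ M) => D.tf.exists_nu_stab hw hw0 hL (fun τ => h.krR_mem hH i) h.three
    (D.m4.irw hw hw0) (hI hg)
    fun τ hτ => M.mul_mem (M.mul_mem (M.inv_mem hg) (h.krR_mem hH i hτ)) hg
  rcases D.cases h hH {w} with k | k
  · obtain ⟨a, d, z, C, h1, h2, e, ez, -⟩ := dec g hg hE
    obtain ⟨m, m0, -, em⟩ := D.tf.swap.exists_sim ((T i).swap_kr a d ▸ h1 :)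
    have z1 : ∀ u, z ((T i).tm u w) = (T i).tm u w := fun u => by
      simp [ez, Tn.xl_apply, Φ₂.B_self hw]
    have zE := D.tf.mem_EG_of_unip ((Φ.Iso.mul_mem_cancel_left (hI hg)).1 (e ▸ h1)) hw z1
      fun v hv => by simp [ez, Tn.xl_apply, hv]
    obtain ⟨b, hb⟩ := hL.Z C ⟨z, (M.mul_mem_cancel_left hg).1 (hH ⟨by
      rw [e]
      refine D.kr_mem_WR h (D.mem_WR_of_cases h hH k hg m0 em ?_) d
      rintro _ rfl
      exact ⟨_, fun u => by rw [← z1, ← mul_app, e, Tn.kr_tm, h2]⟩, mul_mem (hG hg) zE⟩), ez⟩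
    exact ((T i).NG.mul_mem_cancel_right (TF.mem_NG_of_smul hw ez hb)).1 (e ▸ (T i).kr_mem a d)
  obtain ⟨j, l, hjl⟩ := D.nt
  obtain ⟨a, -, -, -, ⟨ha, -⟩, -⟩ := D.m4.exists_fr₀
  obtain ⟨b, hp, hb⟩ := D.m4.exists_pl ha ha
  obtain ⟨c, d, f, -⟩ := D.m4.exists_fr hp ha
  obtain ⟨ρ, hρ, n, cρ⟩ := D.ot.exists_rho2 hjl hp hb
  obtain ⟨g, hg, eg⟩ := k ρ hρ
  replace eg := eg w rfl
  obtain ⟨a', d, z, C, h1, h2, e, ez, -⟩ := dec g hg fun u => by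
    rw [eg]; exact (T i).tm_mem_sp _ _
  have z1 : ∀ u, z ((T i).tm u w) = (T i).tm u w := fun u => by
    simp [ez, Tn.xl_apply, Φ₂.B_self hw]
  obtain ⟨d', e'⟩ := Tn.exists_kr_of_tm (a := ρ) h.tp.neU (e ▸ (T i).kr_mem a' d) hw0 one_ne_zero
    fun u => by rw [mul_app, z1, eg, one_smul]
  have zI := (Φ.Iso.mul_mem_cancel_left (hI hg)).1 (e ▸ h1)
  have cC : ∀ m, ∀ τ ∈ Φ₂.Iso, τ * h₂.r a = h₂.r a * τ → τ * h₂.r b = h₂.r b * τ →
      ∀ u, C ((T' m).krR τ u) = (T' m).krR τ (C u) :=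
    fun m τ hτ e1 e2 u => by
      have hk := Tn.kr_krR (D.e m) τ ▸ hK m τ hτ
      set κ := (T' m).krR τ
      have := h.eq_zero_of_hasU hH hq D.m4.wide hG hn hw hw0 (Tn.cm_swap (C - cjL κ C))
        ⟨_, M.mul_mem (M.mul_mem (M.mul_mem (M.inv_mem hg) hk) hg) (M.inv_mem hk), fun v => by
          rw [show g⁻¹ * (T i).kr κ 1 * g * ((T i).kr κ 1)⁻¹ =
              z * ((T i).kr κ 1 * z⁻¹ * ((T i).kr κ 1)⁻¹) by
            have : (T i).kr κ 1 * (g * z) = g * z * (T i).kr κ 1 := by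
              rw [e', ← Tn.kr_mul, ← Tn.kr_mul, cρ m τ e1 e2, mul_one, one_mul]
            rw [mul_assoc g⁻¹, show (T i).kr κ 1 * g = g * z * (T i).kr κ 1 * z⁻¹ by
              rw [← this]; group]
            group, ← Tn.xl_eq_rk, mul_app, mul_app, mul_app, inv_apply_of_unip
              (fun v => by simp [Tn.xl_apply, Φ₂.B_self hw]) ez, map_sub, app_inv_app, ez]
          simp [Tn.xl_apply, Φ₂.B_self hw, cjL_apply, Tn.kr_inv, Tn.cR_kr]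
          abel⟩
      rw [← cjL_app, ← sub_eq_zero.1 ((T i).swap_sl_inj h.tp.neW (this.trans (map_zero _).symm))]
  have s1 := D.ot.symm_of (b := C) fun m => Tn.syS_of_fr D.m4 f fun x hx => by
    simp only [List.mem_cons, List.not_mem_nil, or_false] at hx
    refine cC m _ (h₂.r_mem_Iso x) ?_ ?_ <;> rcases hx with rfl | rfl | rfl | rfl <;>
      first | rfl | exact h₂.r_comm (by simp [f.simp])
  have C0 : C = 0 := LinearMap.ext fun u => Φ₁.nondeg _ fun y => mul_left_cancel₀ h.two (by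
    linear_combination s1 u y + D.tf.skew_of_hasU h₂ le_rfl hw hw0 ⟨z, zI, ez⟩ u y)
  rw [show z = 1 from LinearEquiv.ext fun v => by simp [ez, C0, Tn.xl_apply], mul_one] at e'
  exact absurd (D.mem_WR' h hH hG hn (e' ▸ hg)) n

end Dn4

end Cfsg.Agent.Class.Max
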