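import Mathlib
import Cfsg.Agent.Class.Max.C7OH

/-!
Tensor powers of `O₄⁻` with at least three factors: the induction step.
-/

set_option autoImplicit false
set_option linter.unusedSectionVars false

namespace Cfsg.Agent.Class.Max

open Module

variable {F X U W V : Type*} [Field F] [AddCommGroup U] [Module F U] [AddCommGroup W]
  [Module F W] [AddCommGroup V] [Module F V] [AddCommGroup X] [Module F X] [FiniteDimensional F X]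
  [FiniteDimensional F U] [FiniteDimensional F W] [FiniteDimensional F V]
  {Φ₂ : Fm F W} {Φ : Fm F V} {M : Subgroup (V ≃ₗ[F] V)} {g : V ≃ₗ[F] V} {a b c d a' b' c' d' : W}

theorem Fm.IsO.EG_le_of_rr [Finite F] (hO : Φ.IsO) (h2 : (2 : F) ≠ 0) (h3 : 3 ≤ finrank F V)
    (h : ∀ a b, Φ.Q a ≠ 0 → Φ.Q b ≠ 0 → hO.r a * hO.r b ∈ M) : Φ.EG ≤ M := fun d hd => by
  have e : ∀ v, (Orth.refl hO.qf v).1 = hO.r v := fun v => LinearEquiv.ext fun x => by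
    rw [Orth.refl_apply, hO.polar_qf, hO.symm]; exact (hO.r_apply v x).symm
  have key : (Orth.dickson hO.nd_qf (hO.nd_qf.reflGen_odd h2)).ker ≤
      M.comap (Orth.OG hO.qf).subtype := by
    rw [Orth.ker_dickson_eq_closure, Subgroup.closure_le]
    rintro _ ⟨u, v, hu, hv, rfl⟩
    rw [SetLike.mem_coe, Subgroup.mem_comap, Subgroup.subtype_apply, Subgroup.coe_mul, e, e]
    exact h u v hu hv
  exact key (x := ⟨d, hO.mem_OG.2 (Φ.EG_le_Iso hd)⟩)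
    (congrArg Prod.fst ((hO.mem_EG_iff h2 h3 ⟨d, Φ.EG_le_Iso hd⟩).1 hd))

namespace Tn

variable {T : Tn F U W V} (h : Φ₂.M4)

theorem krR_fix (hp : Φ₂.Pl c d) {ζ : W ≃ₗ[F] W} (e1 : ζ c = c) (e2 : ζ d = d) {v : V}
    (hv : T.krR (h.o.r c * h.o.r d) v = -v) : T.krR ζ v = v := by
  have := T.ext (f := (T.krR ζ).toLinearMap ∘ₗ ((T.krR (h.o.r c * h.o.r d)).toLinearMap - 1))
    (g := (T.krR (h.o.r c * h.o.r d)).toLinearMap - 1) (fun u w => by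
      simp [-map_mul, -LinearEquiv.mul_apply, h.rr_apply hp, e1, e2, sub_sub]) v
  simp only [LinearMap.comp_apply, LinearMap.sub_apply, LinearEquiv.coe_coe, hv, End.one_apply,
    map_sub, map_neg] at this
  exact smul_right_injective V h.two (by linear_combination (norm := module) -this)

theorem krR_rr_neg (f : Φ₂.Fr a b c d) (v : V) :
    T.krR (h.o.r c * h.o.r d) v = -T.krR (h.o.r a * h.o.r b) v :=
  T.ext (f := (T.krR (h.o.r c * h.o.r d)).toLinearMap) (g := -(T.krR (h.o.r a * h.o.r b)).toLinearMap)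
    (fun u w => by simp [-map_mul, -LinearEquiv.mul_apply, h.rr_neg f]) v

theorem krR_rr_left (hp : Φ₂.Pl c d) (u : U) :
    T.krR (h.o.r c * h.o.r d) (T.tm u c) = -T.tm u c := by
  rw [krR_tm, mul_app, h.o.r_of_perp (Φ₂.perp_symm hp.ab), h.o.r_self hp.qa, map_neg]

theorem krR_rr_right (hp : Φ₂.Pl c d) (u : U) :
    T.krR (h.o.r c * h.o.r d) (T.tm u d) = -T.tm u d := by
  rw [krR_tm, mul_app, h.o.r_self hp.qb, map_neg, h.o.r_of_perp hp.ab, map_neg]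

end Tn

variable {ι : Type*} [Fintype ι] [DecidableEq ι] {T : ι → Tn F U W V} {i j l : ι}

/-- Conjugates of elements fixing a plane. -/
theorem O4.conj_fix {Φ₁ : ι → Fm F U} (h : O4 T Φ₁ Φ₂ Φ M) [Finite F] [Nontrivial ι] (hg : g ∈ M)
    (hp : Φ₂.Pl c d) (hp' : Φ₂.Pl c' d') (e : g * (T i).krR (h.m4.o.r c * h.m4.o.r d) =
      (T i).krR (h.m4.o.r c' * h.m4.o.r d') * g) {ζ : W ≃ₗ[F] W} (hζ : (T i).krR ζ ∈ M)
    (e1 : ζ c = c) (e2 : ζ d = d) :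
    ∃ ζ' ∈ Φ₂.Iso, g * (T i).krR ζ * g⁻¹ = (T i).krR ζ' ∧ ζ' c' = c' ∧ ζ' d' = d' := by
  have k : ∀ v, (T i).krR (h.m4.o.r c' * h.m4.o.r d') v = -v → (g * (T i).krR ζ * g⁻¹) v = v :=
    fun v hv => by
      rw [mul_app, mul_app, Tn.krR_fix h.m4 hp e1 e2 (g.injective (by
        rw [← mul_app, e, mul_app, map_neg, app_inv_app, hv])), app_inv_app]
  exact h.fix_two hp' (mul_mem (mul_mem hg hζ) (inv_mem hg)) (fun u => k _ (Tn.krR_rr_left h.m4 hp' u))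
    fun u => k _ (Tn.krR_rr_right h.m4 hp' u)

namespace OT

variable (h : OT T Φ₂ Φ) [Finite F] [Nontrivial ι] {Φ₁ : ι → Fm F U}
  {T' : ∀ i, {j // j ≠ i} → Tn F X W U} (D : ∀ i, Dn4 T Φ₂ Φ i (Φ₁ i) (T' i))
  (hH : h.tp.WR ⊓ Φ.EG ≤ M) (hG : M ≤ Φ.EG)
include D hH

theorem krR_iso (m : ι) (d : W ≃ₗ[F] W) (hd : d ∈ Φ₂.Iso) : (T m).krR d ∈ M :=
  let ⟨j, hj⟩ := exists_ne m
  (D j).krR_mem h hH ⟨m, hj.symm⟩ hd

include hG

theorem exists_back (i l : ι) : ∃ p ∈ M, p ∈ h.tp.WR ∧ ∃ (a : U ≃ₗ[F] U) (d : W ≃ₗ[F] W),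
    ∀ u w, p ((T l).tm u w) = (T i).tm (a u) (d w) := by
  by_cases hl : l = i
  · exact ⟨1, one_mem _, one_mem _, 1, 1, fun u w => by simp [hl]⟩
  obtain ⟨j, m, hjm⟩ := (D i).nt
  obtain ⟨m, h1, h2⟩ : ∃ m, m ≠ l ∧ m ≠ i := by
    by_cases e : j.1 = l
    · exact ⟨m, fun e' => hjm (Subtype.ext (e.trans e'.symm)), m.2⟩
    · exact ⟨j, e, j.2⟩
  obtain ⟨p, p1, p2, p3, -⟩ := h.cyc hH hG l i m hl h1 h2
  exact ⟨p, p1, p2, p3.exists_tm h.tp.neU h.tp.neW⟩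

variable (hn : ¬ Φ.EG ≤ M)
include hn

theorem o4 : O4 T Φ₁ Φ₂ Φ M := by
  obtain ⟨i, -⟩ := exists_pair_ne ι
  obtain ⟨j, -⟩ := (D i).nt
  refine ⟨h, fun i => (D i).tf, (D i).m4, hH, hG, (T' i j).finrank_eq ▸ (D i).ev.mul_right _,
    fun i j g hg w w' hw hw0 hw0' e => ?_⟩
  obtain ⟨p, p1, p2, a, d, ea⟩ := h.exists_back D hH hG i j
  have d0 := d.map_ne_zero_iff.2 hw0'
  have e' : ∀ u, (p * g) ((T i).tm u w) ∈ (T i).sp (d w') := fun u =>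
    let ⟨x, hx⟩ := e u; ⟨a x, (ea x w').symm.trans (congrArg p hx)⟩
  obtain ⟨τ, hτ, c, c0, eτ⟩ := Fm.Rk.move_pt (Ψ := Φ₂) (Or.inl h.three)
    (((D i).tf.sing_iff (D i).tf (Φ.EG_le_Iso (hG (mul_mem p1 hg))) hw0 d0 e').1 hw) hw d0 hw0
  have m := mul_mem (h.krR_mem hH i hτ) (mul_mem p1 hg)
  simpa using mul_mem (inv_mem p2) (mul_mem (inv_mem (h.tp.krR_mem i τ)) ((D i).mem_WR h hH hG hn m
    ((D i).mem_NG h hH hG hn (h.krR_iso D hH) hw hw0 m fun u => by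
      obtain ⟨x, hx⟩ := e' u
      exact ⟨c • x, by rw [mul_app, ← hx]; simp [eτ]⟩)))

theorem stab (hg : g ∈ M) (ha : Φ₂.Q a ≠ 0) (hp : Φ₂.Pl a' b') {α : U ≃ₗ[F] U}
    (e1 : ∀ u, g ((T i).tm u a) = (T i).tm (α u) a') (e2 : ∀ u, g ((T i).tm u b) = (T i).tm (α u) b') :
    g ∈ h.tp.WR := by
  have O := h.o4 D hH hG hn
  have key : ∀ g ∈ M, ∀ (α : U ≃ₗ[F] U) a b, (∀ u, g ((T i).tm u a) = (T i).tm (α u) a') →
      (∀ u, g ((T i).tm u b) = (T i).tm (α u) b') → ∀ j : {j // j ≠ i}, ∀ τ ∈ Φ₂.EG,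
        α * (T' i j).krR τ * α⁻¹ ∈ (D i).ot.tp.WR ⊓ (Φ₁ i).EG → g * (T j).krR τ * g⁻¹ ∈ h.tp.WR :=
    fun g hg α a b e1 e2 j τ hτ m => by
      obtain ⟨ζ, -, e, -⟩ := O.fix_two (i := i) hp (mul_mem (inv_mem ((D i).kr_mem h hH m))
        (mul_mem (mul_mem hg (O.K j hτ)) (inv_mem hg)))
        (fun u => by rw [mul_app, (D i).conj_tm j τ e1]; exact inv_app_of_eq (by simp))
        fun u => by rw [mul_app, (D i).conj_tm j τ e2]; exact inv_app_of_eq (by simp)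
      rw [inv_mul_eq_iff_eq_mul.1 e]
      exact mul_mem ((D i).kr_mem_WR h m.1 1) (h.tp.krR_mem i ζ)
  obtain ⟨j, l, hjl⟩ := (D i).nt
  obtain ⟨w, hw0, hw⟩ := O.m4.exists_sing
  rcases (D i).cases h hH {a', b'} with k | k
  · refine O.ux (i := j.1) hg hw hw0 fun τ hτ => key g hg α a b e1 e2 j τ hτ.1 ?_
    have m := (D i).conj_EG j hτ.1 (α := α) (div_ne_zero hp.qa ha) fun x y => by
      have := (O.I hg).1 ((T i).tm x a) ((T i).tm y a)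
      rw [e1, e1, (D i).tf.B, (D i).tf.B, h.o₂.B_self, h.o₂.B_self] at this
      field_simp
      exact mul_left_cancel₀ h.two (by linear_combination this)
    refine ⟨k _ m _ (mul_mem (mul_mem hg (O.K j hτ.1)) (inv_mem hg)) ?_, m⟩
    rintro _ (rfl | rfl)
    exacts [(D i).conj_tm j τ e1, (D i).conj_tm j τ e2]
  obtain ⟨n, n1, n2, n3⟩ := (D i).exists_not_kr h hH hG hn hjl.symm hw hw0
  obtain ⟨g, hg, e⟩ := k n n1
  have a0 := Fm.ne_of_Q hp.qa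
  obtain ⟨d, rfl⟩ := Tn.exists_kr_of_tm (a := n) h.tp.neU (h.tp.mem_NG_of_sp (O.ux (i := j.1) hg hw hw0
    fun τ hτ => key g hg n a' b' (e a' (by simp)) (e b' (by simp)) j τ hτ.1 (by
      have := (D i).conj_EG j hτ.1 (α := n) one_ne_zero fun x y => by
        rw [one_mul, ((Φ₁ i).EG_le_Iso n1).1]
      refine ⟨?_, this⟩
      rw [← n3 τ (Φ₂.EG_le_Iso hτ.1) hτ.2.1, mul_inv_cancel_right]
      exact (D i).ot.tp.krR_mem j τ)) a0 fun u => by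
        rw [e a' (by simp)]; exact (T i).tm_mem_sp _ _) a0 one_ne_zero
    fun u => by rw [e a' (by simp), one_smul]
  exact absurd hg (n2 d)

theorem nsp_an (hg : g ∈ M) (f : Φ₂.Fr a b c d) (ha : Φ₂.An a b) (hp : Φ₂.Pl c' d')
    (e : g * (T i).krR (h.o₂.r c * h.o₂.r d) = (T i).krR (h.o₂.r c' * h.o₂.r d') * g) :
    g ∈ h.tp.WR := by
  have O := h.o4 D hH hG hn
  have hI := O.I hg
  have key : ∀ x, Φ₂.Q x ≠ 0 → Φ₂.B x c = 0 → Φ₂.B x d = 0 → ∃ x', Φ₂.Q x' ≠ 0 ∧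
      ∃ α : U ≃ₗ[F] U, ∀ u, g ((T i).tm u x) = (T i).tm (α u) x' := fun x hx e1 e2 => by
    obtain ⟨ζ, -, eζ, -⟩ := O.conj_fix hg f.p₂ hp e (h.krR_iso D hH i _ (h.o₂.r_mem_Iso x))
      (h.o₂.r_of_perp e1) (h.o₂.r_of_perp e2)
    obtain ⟨x', h1, -, h3⟩ := (D i).tf.exists_r_of_conj h.o₂ h.two hI hx (mul_inv_eq_iff_eq_mul.1 eζ)
    exact ⟨x', h1, Tn.exists_left' (Fm.ne_of_Q hx) (Fm.ne_of_Q h1) h3⟩
  obtain ⟨a₁, a0, α, eα⟩ := key a f.p₁.qa f.ac f.ad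
  obtain ⟨b₁, b0, β, eβ⟩ := key b f.p₁.qb f.bc f.bd
  obtain ⟨e₁, -, γ, eγ⟩ := key (a + b) (by
    rw [h.o₂.Q_add, f.p₁.ab, add_zero]; exact Fm.M4.An.q_add O.m4 ha) (by simp [f.simp]) (by simp [f.simp])
  obtain ⟨u, u', hu⟩ := (D i).tf.exists_B_one
  have ab : Φ₂.B a₁ b₁ = 0 := by
    simpa [eα, eβ, (D i).tf.B, hu, f.p₁.ab] using hI.1 ((T i).tm (α⁻¹ u) a) ((T i).tm (β⁻¹ u') b)
  have k : ∀ u, (T i).tm (α u) a₁ + (T i).tm (β u) b₁ = (T i).tm (γ u) e₁ := fun u => by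
    rw [← eα, ← eβ, ← eγ, map_add, map_add]
  have k1 : ∀ u, (2 * Φ₂.Q a₁) • α u = Φ₂.B a₁ e₁ • γ u := fun u => by
    simpa [ab, h.o₂.B_self] using congrArg ((T i).cR (Φ₂.B a₁)) (k u)
  have k2 : ∀ u, (2 * Φ₂.Q b₁) • β u = Φ₂.B b₁ e₁ • γ u := fun u => by
    simpa [Φ₂.perp_symm ab, h.o₂.B_self] using congrArg ((T i).cR (Φ₂.B b₁)) (k u)
  have u0 : u ≠ 0 := fun e => by simp [e] at hu
  have s1 : Φ₂.B a₁ e₁ ≠ 0 := fun e => u0 (by simpa [e, h.two, a0] using k1 u)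
  have s2 : Φ₂.B b₁ e₁ ≠ 0 := fun e => u0 (by simpa [e, h.two, b0] using k2 u)
  have t2 := h.two
  refine h.stab D hH hG hn hg f.p₁.qa (b := b)
    (b' := (Φ₂.B b₁ e₁ * Φ₂.Q a₁ / (Φ₂.B a₁ e₁ * Φ₂.Q b₁)) • b₁)
    ⟨a0, by simp [h.o₂.Q_smul, s1, s2, a0, b0], by simp [ab]⟩ eα fun u => ?_
  rw [eβ, map_smul, ← LinearMap.smul_apply, ← map_smul, (eq_inv_smul_iff₀ (mul_ne_zero t2 b0)).2 (k2 u),
    (eq_inv_smul_iff₀ (mul_ne_zero t2 a0)).2 (k1 u), smul_smul, smul_smul, smul_smul]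
  congr 3
  field_simp

theorem nsp (hg : g ∈ M) (hp : Φ₂.Pl a b) (hp' : Φ₂.Pl a' b')
    (e : g * (T i).krR (h.o₂.r a * h.o₂.r b) = (T i).krR (h.o₂.r a' * h.o₂.r b') * g) :
    g ∈ h.tp.WR := by
  have h₂ := (D i).m4
  obtain ⟨c, d, f, -⟩ := h₂.exists_fr hp one_ne_zero
  rcases h₂.an_or f with k | k
  · obtain ⟨c', d', f', -⟩ := h₂.exists_fr hp' one_ne_zero
    exact h.nsp_an D hH hG hn (i := i) hg f k f'.p₂ (LinearEquiv.ext fun v => by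
      rw [mul_app, mul_app, Tn.krR_rr_neg h₂ f, Tn.krR_rr_neg h₂ f', map_neg, ← mul_app, e, mul_app])
  · exact h.nsp_an D hH hG hn hg f.symm k hp' e

theorem exists_rr {e : W} (hp : Φ₂.Pl e a) {z c : V ≃ₗ[F] V} (hz : z ∈ M) (z1 : z ≠ 1)
    (z2 : ∀ u, z ((T i).tm u e) = (T i).tm u e)
    (z3 : (T i).krR (h.o₂.r a) * z = z * (T i).krR (h.o₂.r a)) (hc : c ∈ M) (hb : Φ₂.Q b ≠ 0)
    (z4 : c * (T i).krR (h.o₂.r b) * c⁻¹ = (T i).krR (h.o₂.r a) * z) :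
    ∃ b, Φ₂.Pl a b ∧ z = (T i).krR (h.o₂.r a * h.o₂.r b) := by
  have hI := hG.trans Φ.EG_le_Iso
  have e0 := Fm.ne_of_Q hp.qa
  have k := fun u => (z2 u).symm ▸ (T i).tm_mem_sp u e
  obtain ⟨ζ, eζ⟩ := Tn.exists_kr_of_tm (a := 1) h.tp.neU (h.tp.mem_NG_of_sp (h.nsp D hH hG hn hz hp hp
    (i := i) (by
      rw [map_mul, ← mul_assoc, ((D i).tf.conj_r_of_sp h.o₂ h.two (hI hz) hp.qa e0 k).2, mul_assoc,
        ← z3, mul_assoc])) e0 k) e0 one_ne_zero fun u => by simpa using z2 u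
  obtain rfl : z = (T i).krR ζ := eζ
  obtain ⟨b, b0, eb, -⟩ := (D i).tf.exists_r_of_conj h.o₂ h.two (hI hc) hb (ξ := h.o₂.r a * ζ)
    (by rw [map_mul, ← z4, inv_mul_cancel_right])
  obtain rfl : ζ = h.o₂.r a * h.o₂.r b := by rw [← eb, ← mul_assoc, h.o₂.r_mul_self, one_mul]
  refine ⟨b, ⟨hp.qb, b0, h.o₂.perp_of_comm h.two hp.qb b0 (fun e => z1 ?_) ?_⟩, rfl⟩
  · rw [e, h.o₂.r_mul_self, map_one]
  · rw [← map_mul, ← map_mul] at z3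
    exact mul_left_cancel (((T i).krR_inj4 h.tp.neU z3).trans (mul_assoc _ _ _))

theorem mem_WR_ns {v e : W} (hv : Φ₂.Q v ≠ 0) (he : Φ₂.Q e ≠ 0) (hg : g ∈ M)
    (hs : ∀ u, g ((T i).tm u v) ∈ (T i).sp e) : g ∈ h.tp.WR := by
  have : Finite V := Module.finite_of_finite F
  have : Finite (V ≃ₗ[F] V) := DFunLike.finite _
  have hI := hG.trans Φ.EG_le_Iso
  have h₂ := (D i).m4
  have e0 := Fm.ne_of_Q he
  obtain ⟨δ, hδ⟩ := FiniteField.exists_nonsquare (F := F) fun e =>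
    h.two (by simpa [e] using ringChar.Nat.cast_ringChar (R := F))
  obtain ⟨a, hp, -⟩ := h₂.exists_pl hv hv
  obtain ⟨a', hp', ea⟩ := h₂.exists_pl he (t := δ * Φ₂.Q a * Φ₂.Q v * Φ₂.Q e)
    (by simp [hp.qb, hv, he, show δ ≠ 0 from fun e => hδ (by simp [e])])
  let K : Subgroup (V ≃ₗ[F] V) :=
    { carrier := {n | n ∈ M ∧ ∀ u, n ((T i).tm u e) = (T i).tm u e}
      one_mem' := ⟨M.one_mem, fun _ => rfl⟩
      mul_mem' := fun ha hb => ⟨M.mul_mem ha.1 hb.1, fun x => by rw [mul_app, hb.2, ha.2]⟩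
      inv_mem' := fun ha => ⟨M.inv_mem ha.1, fun x => inv_app_of_eq (ha.2 x)⟩ }
  have r := fun x => h.krR_iso D hH i _ (h.o₂.r_mem_Iso x)
  obtain ⟨α, eα⟩ := Tn.exists_left' (Fm.ne_of_Q hv) e0 hs
  have sq : ∀ x, (T i).krR (h.o₂.r x) * (T i).krR (h.o₂.r x) = 1 := fun x => by
    rw [← map_mul, h.o₂.r_mul_self, map_one]
  rcases dih_cases (K := K) (sq a') (y := g * (T i).krR (h.o₂.r a) * g⁻¹)
    (by rw [← pow_two, conj_pow, pow_two, sq, mul_one, mul_inv_cancel])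
    ⟨r a', fun u => by simp [h.o₂.r_of_perp (Φ₂.perp_symm hp'.ab)]⟩
    ⟨mul_mem (mul_mem hg (r a)) (inv_mem hg), fun u => by
      obtain ⟨u, rfl⟩ := α.surjective u
      simp [← eα, h.o₂.r_of_perp (Φ₂.perp_symm hp.ab)]⟩ with ⟨c, hc, ec⟩ | ⟨z, hz, z1, -, z2, z3, k⟩
  · have m := mul_mem (inv_mem hc.1) hg
    have k1 : c⁻¹ * g * (T i).krR (h.o₂.r a) = (T i).krR (h.o₂.r a') * (c⁻¹ * g) := by
      rw [mul_assoc, mul_inv_eq_iff_eq_mul.1 ec.symm]; group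
    have k2 := ((D i).tf.conj_r_of_sp h.o₂ h.two (hI m) hv e0 fun u => by
      rw [mul_app, eα, (K.inv_mem hc).2]; exact (T i).tm_mem_sp _ _).2
    obtain ⟨β, d, ed⟩ := h.tp.mem_NG_of_comm (h.nsp D hH hG hn m hp hp' (i := i) (by
      rw [map_mul, map_mul, ← mul_assoc, k2, mul_assoc, k1, mul_assoc])) (h₂.rr_ns hp') (by
      rw [map_mul, map_mul, ← mul_assoc, k2, mul_assoc, k1, mul_assoc] :
        _ * (T i).krR (h.o₂.r v * h.o₂.r a) = _)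
    rw [ed] at m k1 k2
    obtain ⟨s, s0, -, es⟩ := (D i).tf.exists_sim (hI m)
    obtain ⟨u, hu⟩ := h.tp.neU
    have k : ∀ x x', Φ₂.Q x ≠ 0 → (T i).kr β d * (T i).krR (h.o₂.r x) =
        (T i).krR (h.o₂.r x') * (T i).kr β d → ∃ c : F, s * (c * c * Φ₂.Q x') = Φ₂.Q x :=
      fun x x' hx e => by
        obtain ⟨c, hc⟩ := h.o₂.smul_of_r_eq h.two (v := x') (v' := d x)
          ((T i).right_inj (β.map_ne_zero_iff.2 hu) (by
            simpa [h.o₂.r_self hx] using (LinearEquiv.congr_fun e ((T i).tm u x)).symm))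
        exact ⟨c, by rw [← h.o₂.Q_of_sim h.two es x, hc, h.o₂.Q_smul]⟩
    obtain ⟨c₁, e₁⟩ := k a a' hp.qb k1
    obtain ⟨c₂, e₂⟩ := k v e hv k2
    have : δ * (s * c₁ * c₂ * Φ₂.Q e) ^ 2 = 1 := mul_right_cancel₀ hp.qb (by
      rw [ea] at e₁
      linear_combination e₁ + s * c₁ * c₁ * δ * Φ₂.Q a * Φ₂.Q e * e₂)
    exact absurd ⟨(s * c₁ * c₂ * Φ₂.Q e)⁻¹, by
      rw [← mul_inv, ← pow_two]; exact eq_inv_of_mul_eq_one_left this⟩ hδ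
  obtain ⟨c, hc, d, hd, k⟩ := k
  have m := fun {c} (hc : c ∈ M) => mul_mem (mul_mem (inv_mem hg) hc) hg
  have k3 := fun c hc b hb => h.exists_rr D hH hG hn (i := i) hp (m hz.1) (c := c) (b := b)
    (fun e => z1 (by simpa [mul_assoc] using congrArg (fun x => g * x * g⁻¹) e))
    (fun u => by rw [mul_app, mul_app, eα, hz.2, ← eα, inv_app_app])
    (by simpa [mul_assoc] using congrArg (fun x => g⁻¹ * x * g) z3) hc hb
  have k4 := fun c hc b hb => h.exists_rr D hH hG hn (i := i) hp' hz.1 (c := c) (b := b) z1 hz.2 z2 hc hb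
  obtain ⟨⟨b, pb, eb⟩, b', pb', eb'⟩ : (∃ b, Φ₂.Pl a b ∧ g⁻¹ * z * g = (T i).krR (h.o₂.r a * h.o₂.r b)) ∧
      ∃ b, Φ₂.Pl a' b ∧ z = (T i).krR (h.o₂.r a' * h.o₂.r b) := by
    rcases k with ⟨k1, k2⟩ | ⟨k1, k2⟩
    · exact ⟨k3 _ (m hd.1) a hp.qb (by simpa [mul_assoc] using congrArg (fun x => g⁻¹ * x * g) k2),
        k4 c hc.1 a' hp'.qb k1⟩
    · exact ⟨k3 _ (mul_mem (inv_mem hg) hd.1) a' hp'.qb
        (by simpa [mul_assoc] using congrArg (fun x => g⁻¹ * x * g) k2),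
        k4 _ (mul_mem hc.1 hg) a hp.qb (by simpa [mul_assoc] using k1)⟩
  exact h.nsp D hH hG hn hg pb pb' (i := i) (by rw [← eb, ← eb']; group)

theorem step4 : M ≤ h.tp.WR := by
  have O := h.o4 D hH hG hn
  have h₂ := O.m4
  refine h.tp.le_WR_of_inv' {ρ | ∃ v, Φ₂.Q v ≠ 0 ∧ ρ = h.o₂.r v} ?_ ?_ ?_ ?_ ?_ ?_ ?_ ?_ ?_
    fun g hg i k => ?_
  · rintro i _ ⟨v, -, rfl⟩
    exact h.krR_iso D hH i _ (h.o₂.r_mem_Iso v)
  · rintro _ ⟨v, -, rfl⟩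
    exact h.o₂.r_mul_self v
  · rintro _ ⟨v, hv, rfl⟩ ⟨c, hc⟩
    obtain ⟨a, hp, -⟩ := h₂.exists_pl hv hv
    obtain rfl : 1 = c := smul_left_injective F (Fm.ne_of_Q hp.qb)
      (by simpa [h.o₂.r_of_perp hp.ab] using hc a)
    exact Fm.ne_of_Q hv (smul_right_injective W h.two (by
      linear_combination (norm := module) h.o₂.r_self hv - hc v))
  · rintro _ ⟨v, -, rfl⟩ _ ⟨v', -, rfl⟩
    exact h₂.r_ns
  · rintro _ ⟨v, hv, rfl⟩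
    obtain ⟨a, hp, -⟩ := h₂.exists_pl hv hv
    exact ⟨_, ⟨a, hp.qb, rfl⟩, fun e => h₂.rr_ns hp ⟨1, fun x => by rw [e, h.o₂.r_mul_self]; simp⟩,
      (h.o₂.r_comm hp.ab).symm⟩
  · obtain ⟨a, -, -, -, ⟨ha, -⟩, -⟩ := h₂.exists_fr₀
    exact ⟨_, a, ha, rfl⟩
  · rintro g hg i j a d e _ ⟨v, hv, rfl⟩
    obtain ⟨m, m0, -, em, -⟩ := (O.tf i).exists_sim' (O.tf j) (O.I hg) e
    exact ⟨d v, fun e => hv (by rw [← h.o₂.Q_of_sim h.two em, e, mul_zero]),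
      h.o₂.conj_r_sim h.two m0 em v⟩
  · rintro g hg i _ ⟨v, hv, rfl⟩ hy
    have hL : ∀ x, (g * (T i).krR (h.o₂.r v) * g⁻¹) x - x ∈ ((T i).sp v).map g.toLinearMap := fun x =>
      ⟨_, Submodule.smul_mem _ (-(Φ₂.Q v)⁻¹) ((T i).tm_mem_sp ((T i).cR (Φ₂.B v) (g⁻¹ x)) v), by
        simp [Tn.krR_r]⟩
    have hr := ((LinearEquiv.finrank_map_eq g _).trans ((T i).finrank_sp (Fm.ne_of_Q hv))).le
    obtain ⟨u, hu⟩ := h.tp.neU
    obtain ⟨l, ξ, e⟩ := h.tp.exists_krR_of_fix h.three (fun m => by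
      obtain ⟨l, hl⟩ := hy m
      by_cases hml : m = l
      · exact hml ▸ hl
      · exact absurd (h.tp.finrank_lt_four hml hl hL hr) (by simp [h₂.four])) hL hr i
        ⟨g ((T i).tm u v), fun e => (T i).tm_ne_zero hu (Fm.ne_of_Q hv) (smul_right_injective V h.two (by
          rw [mul_app, mul_app, inv_app_app, Tn.krR_tm, h.o₂.r_self hv, g.injective.eq_iff, map_neg] at e
          linear_combination (norm := module) -e))⟩
    obtain ⟨p, p1, p2, a, d, ea⟩ := h.exists_back D hH hG i l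
    obtain ⟨e, he, -, k⟩ := (O.tf i).exists_r_of_conj h.o₂ h.two (O.I (mul_mem p1 hg)) hv
      (ξ := d * ξ * d⁻¹) (by
        rw [mul_assoc, mul_inv_eq_iff_eq_mul.1 e, ← mul_assoc, ← mul_assoc]
        exact congrArg (· * g) ((T l).ext' fun u w => by simp [-map_mul, ea]))
    simpa using mul_mem (inv_mem p2) (h.mem_WR_ns D hH hG hn hv he (mul_mem p1 hg) k)
  · rintro g hg i _ ⟨a, ha, rfl⟩ _ ⟨b, hb, rfl⟩ hne hc e
    have hp : Φ₂.Pl a b := ⟨ha, hb, h.o₂.perp_of_comm h.two ha hb hne hc⟩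
    exact h.nsp D hH hG hn hg hp hp e
  · obtain ⟨w, hw0, hw⟩ := h₂.exists_sing
    exact O.ux (i := i) hg hw hw0 fun τ hτ => h.o₂.EG_le_of_rr h.two h.three
      (M := h.tp.WR.comap ((MulAut.conj g).toMonoidHom.comp (T i).krR))
      (fun a b ha hb => k _ ⟨a, ha, rfl⟩ _ ⟨b, hb, rfl⟩) hτ.1

end OT

end Cfsg.Agent.Class.Max
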