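import Mathlib
import Cfsg.Agent.Class.Max.C7OI

/-!
Tensor squares of `O₄⁻`: the setting.
-/

set_option autoImplicit false
set_option linter.unusedSectionVars false

namespace Cfsg.Agent.Class.Max

open Module

variable {F U W V : Type*} [Field F] [AddCommGroup U] [Module F U] [AddCommGroup W]
  [Module F W] [AddCommGroup V] [Module F V]
  [FiniteDimensional F U] [FiniteDimensional F W] [FiniteDimensional F V]
  {Φ₂ : Fm F W} {Φ : Fm F V} {M : Subgroup (V ≃ₗ[F] V)} {g : V ≃ₗ[F] V} {a b c d : W}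

namespace Tn

variable {T : Tn F U W V}

theorem Cm.not_line (h2 : 2 ≤ finrank F W) {e : End F V} (he : T.Cm e) {v₀ : V}
    (h : ∀ v, ∃ c : F, e v = c • v₀) (v : V) : e v = 0 := by
  by_contra hv
  obtain ⟨α, hα⟩ := not_forall.1 fun k => hv (T.swap.eq_zero_of_cR k)
  obtain ⟨y, hy⟩ := exists_notMem_span h2 (T.cL α v₀)
  obtain ⟨φ, hφ⟩ := exists_dual_eq_one (F := F) hα
  obtain ⟨c, hc⟩ := h (T.sl (φ.smulRight y) v)
  have := congrArg (T.cL α) hc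
  rw [he, T.cL_sl, map_smul, LinearMap.smulRight_apply, show φ (T.cL α (e v)) = 1 from hφ,
    one_smul] at this
  exact hy (Submodule.mem_span_singleton.2 ⟨c, this.symm⟩)

theorem exists_smul_of_tm {u u' : U} {w w' : W} (hu : u' ≠ 0) (hw : w' ≠ 0)
    (h : T.tm u w = T.tm u' w') : ∃ c : F, u = c • u' ∧ w' = c • w := by
  obtain ⟨φ, hφ⟩ := exists_dual_eq_one (F := F) hw
  have k : φ w • u = u' := by simpa [hφ] using congrArg (T.cR φ) h
  have c0 : φ w ≠ 0 := fun e => hu (by simp [← k, e])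
  refine ⟨(φ w)⁻¹, (eq_inv_smul_iff₀ c0).2 k, T.right_inj hu ?_⟩
  rw [← h, ← k]
  simp [c0]

variable (h : Φ₂.M4)

theorem exists_of_neg (hp : Φ₂.Pl a b) {v : V} (hv : T.krR (h.o.r a * h.o.r b) v = -v) :
    ∃ r s, v = T.tm r a + T.tm s b := by
  have := T.ext (f := (T.krR (h.o.r a * h.o.r b)).toLinearMap) (g := 1 - (Φ₂.Q a)⁻¹ • T.xl 1 a (Φ₂.B a) -
    (Φ₂.Q b)⁻¹ • T.xl 1 b (Φ₂.B b)) (fun u w => by
      simp [-map_mul, -LinearEquiv.mul_apply, h.rr_apply hp, Tn.xl_apply, smul_smul]) v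
  simp only [LinearEquiv.coe_coe, hv, LinearMap.sub_apply, LinearMap.smul_apply, End.one_apply,
    Tn.xl_apply] at this
  refine ⟨(2 : F)⁻¹ • (Φ₂.Q a)⁻¹ • T.cR (Φ₂.B a) v, (2 : F)⁻¹ • (Φ₂.Q b)⁻¹ • T.cR (Φ₂.B b) v, ?_⟩
  simp only [map_smul, LinearMap.smul_apply]
  rw [← smul_add, eq_inv_smul_iff₀ h.two]
  linear_combination (norm := module) -this

theorem sl_rt_rt (hp : Φ₂.Pl a b) {v : V} (hv : T.krR (h.o.r a * h.o.r b) v = -v) :
    T.sl (Φ₂.rt a b) (T.sl (Φ₂.rt a b) v) = -(4 * Φ₂.Q a * Φ₂.Q b) • v := by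
  obtain ⟨r, s, rfl⟩ := exists_of_neg h hp hv
  simp only [map_add, sl_tm, Fm.rt_apply, h.o.B_self, hp.ab, Φ₂.perp_symm hp.ab, map_sub,
    map_smul]
  module

theorem krR_sl_rt (hp : Φ₂.Pl a b) (v : V) :
    T.krR (h.o.r a * h.o.r b) (T.sl (Φ₂.rt a b) v) = -T.sl (Φ₂.rt a b) v :=
  T.ext (f := (T.krR (h.o.r a * h.o.r b)).toLinearMap ∘ₗ T.sl (Φ₂.rt a b)) (g := -T.sl (Φ₂.rt a b))
    (fun u w => by
      simp only [LinearMap.comp_apply, sl_tm, Fm.rt_apply, map_sub, map_smul, LinearEquiv.coe_coe,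
        krR_rr_left h hp, krR_rr_right h hp, LinearMap.neg_apply]
      module) v

end Tn

/-- Unipotent elements commuting with a plane involution. -/
theorem TF.cm_of_pow {T : Tn F U W V} {Φ₁ : Fm F U} (hT : TF T Φ₁ Φ₂ Φ) [Finite F] (h : Φ₂.M4)
    (hp : Φ₂.Pl a b) (hN : g ∈ T.NG) (hI : g ∈ Φ.Iso) (h1 : g ^ ringChar F = 1)
    (e : g * T.krR (h.o.r a * h.o.r b) = T.krR (h.o.r a * h.o.r b) * g) : T.Cm g.toLinearMap := by
  obtain ⟨α, β, rfl⟩ := hN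
  have := Fintype.ofFinite F
  obtain ⟨u, hu⟩ := hT.ne₁
  obtain ⟨m, m0, -, hm⟩ := hT.exists_sim hI
  have p1 : ∀ n : ℕ, ∀ x y, m ^ n * Φ₂.B ((β ^ n) x) ((β ^ n) y) = Φ₂.B x y := fun n => by
    induction n with
    | zero => simp
    | succ n ih => exact fun x y => by rw [pow_succ, pow_succ', mul_app, mul_app, mul_assoc, hm, ih]
  obtain ⟨φ, hφ⟩ := exists_dual_eq_one (F := F) hu
  have p2 : ∀ x, φ ((α ^ ringChar F) u) • (β ^ ringChar F) x = x := fun x => by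
    simpa [hφ, T.kr_pow] using congrArg (T.cL φ) (LinearEquiv.congr_fun h1 (T.tm u x))
  generalize φ ((α ^ ringChar F) u) = s at p2
  have p3 : ∀ n : ℕ, ∀ x, s ^ n • ((β ^ ringChar F) ^ n) x = x := fun n => by
    induction n with
    | zero => simp
    | succ n ih => exact fun x => by rw [pow_succ, pow_succ', mul_app, mul_smul, p2, ih]
  obtain ⟨w, hw⟩ := hT.ne₂
  have s0 : s ≠ 0 := fun e => hw (by simpa [e] using (p2 w).symm)
  have cm : Commute β (h.o.r a * h.o.r b) := LinearEquiv.ext fun x =>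
    T.right_inj (α.map_ne_zero_iff.2 hu) (by
      simpa [-map_mul] using LinearEquiv.congr_fun e (T.tm u x))
  have b1 := h.eq_one_of_comm hp (g := β ^ (Fintype.card F - 1)) (hT.tv₂.mem_Iso fun x y => by
    simpa [FiniteField.pow_card_sub_one_eq_one m m0] using p1 (Fintype.card F - 1) x y)
    (LinearEquiv.ext fun x => by
      simpa [FiniteField.pow_card_sub_one_eq_one s s0, ← pow_mul, mul_comm] using
        p3 (Fintype.card F - 1) x) (LinearEquiv.congr_fun (cm.pow_left _))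
  obtain ⟨n, -, hn⟩ := FiniteField.card F (ringChar F)
  have k : T.kr α β * T.kr (α ^ (Fintype.card F - 1)) 1 = 1 := by
    rw [← b1, ← T.kr_pow, ← pow_succ', Nat.sub_add_cancel Fintype.card_pos, hn,
      ← Nat.sub_add_cancel n.pos, pow_succ', pow_mul, h1, one_pow]
  rw [eq_inv_of_mul_eq_one_left k, T.kr_inv]
  exact fun x => T.ext (f := (T.kr _ _).toLinearMap ∘ₗ T.sl x) (g := T.sl x ∘ₗ (T.kr _ _).toLinearMap)
    fun u w => by simp

variable {ι : Type*} [Fintype ι] [DecidableEq ι] {i j l : ι}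

/-- The unitary structure on the negative eigenspace of a plane involution. -/
theorem O4.exists_mu {T : ι → Tn F U W V} {Φ₁ : ι → Fm F U} (h : O4 T Φ₁ Φ₂ Φ M) [Finite F]
    [Nontrivial ι] (f : Φ₂.Fr a b c d) (ha : Φ₂.An a b) (hg : g ∈ M)
    (e : g * (T i).krR (h.m4.o.r a * h.m4.o.r b) = (T i).krR (h.m4.o.r a * h.m4.o.r b) * g) :
    ∃ μ : F, μ * μ = 1 ∧ ∀ v, g ((T i).sl (Φ₂.rt a b) v) = μ • (T i).sl (Φ₂.rt a b) (g v) := by
  have h₂ := h.m4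
  have e' := LinearEquiv.congr_fun e
  simp only [mul_app] at e'
  have q : Φ₂.Q (a + b) ≠ 0 := by rw [h₂.o.Q_add, f.p₁.ab, add_zero]; exact Fm.M4.An.q_add h₂ ha
  obtain ⟨ζ, -, eζ, z1, z2⟩ := h.conj_fix (i := i) hg f.p₂ f.p₂ (LinearEquiv.ext fun v => by
    rw [mul_app, mul_app, Tn.krR_rr_neg h₂ f, Tn.krR_rr_neg h₂ f, map_neg, e'])
    (h.rr_mem i f.p₁.qa q) (by simp [h₂.o.r_of_perp, f.simp]) (by simp [h₂.o.r_of_perp, f.simp])
  have e1 := LinearEquiv.congr_fun (mul_inv_eq_iff_eq_mul.1 eζ)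
  simp only [mul_app] at e1
  let η : End F W := Φ₂.Q a • 1 + Φ₂.Q b • (h₂.o.r a * h₂.o.r b).toLinearMap -
    (Φ₂.Q a + Φ₂.Q b) • ζ.toLinearMap
  have k : ∀ v, g ((T i).sl (Φ₂.rt a b) v) = (T i).sl η (g v) := fun v => by
    rw [show Φ₂.rt a b = Φ₂.Q a • 1 + Φ₂.Q b • (h₂.o.r a * h₂.o.r b).toLinearMap -
      (Φ₂.Q a + Φ₂.Q b) • (h₂.o.r a * h₂.o.r (a + b)).toLinearMap from LinearMap.ext fun x => by
        exact (sub_sub_cancel _ _).symm.trans (congrArg _ (h₂.rot_eq f.p₁ ha x).symm)]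
    simp only [η, map_sub, map_add, map_smul, map_one, LinearMap.sub_apply, LinearMap.add_apply,
      LinearMap.smul_apply, End.one_apply, ← Tn.krR_eq_sl, e', e1]
  obtain ⟨μ, hμ⟩ := h₂.skew_eq_rt f (e := η) ((h.tf i).skew_of_krL (by
      convert ((h.tf i).skew_krL (h₂.o.skew_rt a b)).cjL (h.I hg) using 1
      exact LinearMap.ext fun v => by
        rw [cjL_apply]; exact ((k _).trans (by rw [app_inv_app]; rfl)).symm))
    (by simp [η, z1, h₂.o.r_of_perp, f.simp, add_smul]) (by simp [η, z2, h₂.o.r_of_perp, f.simp, add_smul])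
  replace k : ∀ v, g ((T i).sl (Φ₂.rt a b) v) = μ • (T i).sl (Φ₂.rt a b) (g v) := fun v => by
    rw [k, show η = μ • Φ₂.rt a b from LinearMap.ext hμ, map_smul, LinearMap.smul_apply]
  obtain ⟨u, hu⟩ := h.ot.tp.neU
  have y := Tn.krR_rr_left (T := T i) h₂ f.p₁ u
  have := k ((T i).sl (Φ₂.rt a b) ((T i).tm u a))
  rw [k ((T i).tm u a), map_smul, Tn.sl_rt_rt h₂ f.p₁ y, Tn.sl_rt_rt h₂ f.p₁ (by rw [← e', y, map_neg]),
    map_smul, smul_smul, smul_smul] at this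
  refine ⟨μ, mul_right_cancel₀ (b := -(4 * Φ₂.Q a * Φ₂.Q b)) ?_ ?_, k⟩
  · have : (4 : F) ≠ 0 := by simpa [← two_mul, show (2 : F) * 2 = 4 by norm_num] using mul_ne_zero h₂.two h₂.two
    simp [this, f.simp]
  · rw [one_mul]
    exact (smul_left_injective F (g.map_ne_zero_iff.2 ((T i).tm_ne_zero hu (Fm.ne_of_Q f.p₁.qa))) this).symm

theorem OT.transfer {U' : Type*} [AddCommGroup U'] [Module F U'] [FiniteDimensional F U']
    {T : ι → Tn F U W V} (h : OT T Φ₂ Φ) {T' : ι → Tn F U' W V} (e : ∀ m, (T' m).sl = (T m).sl)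
    (hU : ∃ u : U', u ≠ 0) : ∃ h' : OT T' Φ₂ Φ, h'.tp.WR = h.tp.WR :=
  ⟨⟨⟨by simpa [Tn.Cm, e] using h.tp.cm, by simpa [Tn.Cm, e] using h.tp.scal, hU, h.tp.two⟩, h.o₂, h.o,
    h.two, h.three, by simpa [e] using h.adj, by simpa [e] using h.sw⟩,
    Subgroup.ext fun g => by simp [TP.WR, Tn.Mv, e]⟩

/-- A tensor square. -/
structure B2 (T : ι → Tn F W W V) (Φ₁ : ι → Fm F W) (Φ₂ : Fm F W) (Φ : Fm F V) : Prop where
  ot : OT T Φ₂ Φ
  tf : ∀ i, TF (T i) (Φ₁ i) Φ₂ Φ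
  o₁ : ∀ i, (Φ₁ i).IsO
  m4 : Φ₂.M4
  sw : ∀ i j, i ≠ j → ∀ a b, (T j).tm a b = (T i).tm b a
  two : ∀ i j k : ι, j ≠ i → k ≠ i → j = k

theorem OT.exists_B2 [Finite F] [Nontrivial ι] {T : ι → Tn F U W V} (h : OT T Φ₂ Φ) (h₂ : Φ₂.M4)
    (hU : finrank F U = finrank F W) (two : ∀ i j k : ι, j ≠ i → k ≠ i → j = k) :
    ∃ (T' : ι → Tn F W W V) (Φ₁ : ι → Fm F W) (h' : B2 T' Φ₁ Φ₂ Φ), h'.ot.tp.WR = h.tp.WR := by
  obtain ⟨j, i, hij⟩ := exists_pair_ne ι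
  obtain ⟨Φ₁, h₁, hF⟩ := (T i).exists_TF h.o₂ h.o h.two h.tp.neU h.tp.neW (h.adj i)
  obtain ⟨T', h', e⟩ := h.exists_down hij h₁ hF
  obtain ⟨x, hx⟩ := h'.tp.neU
  let θ := ((T' ⟨j, hij⟩).tm x).linearEquivOfInjective (fun _ _ => Tn.right_inj _ hx) hU.symm
  let T₀ : Tn F W W V := ⟨(TensorProduct.congr θ (LinearEquiv.refl F W)).trans (T i).e⟩
  have e₀ : ∀ a b, T₀.tm a b = (T i).tm ((T' ⟨j, hij⟩).tm x a) b := fun _ _ => rfl
  obtain ⟨k, ek⟩ := h.transfer (T' := fun m => if m = i then T₀ else T₀.swap) (fun m => by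
    refine AlgHom.ext fun y => LinearMap.ext (T₀.ext fun a b => ?_)
    by_cases hm : m = i
    · rw [if_pos hm, Tn.sl_tm, hm, e₀, e₀, Tn.sl_tm]
    · rw [if_neg hm, Tn.swap_sl_tm, two i m j hm hij, ← e ⟨j, hij⟩, e₀, e₀, Tn.swap_sl_tm, Tn.sl_tm])
    h.tp.neW
  choose Φ₁ h₁ hF using fun m => Tn.exists_TF _ h.o₂ h.o h.two k.tp.neU k.tp.neW (k.adj m)
  refine ⟨_, Φ₁, ⟨k, hF, h₁, h₂, fun m l hml a b => ?_, two⟩, ek⟩
  by_cases hm : m = i
  · simp [hm, show l ≠ i from fun e => hml (hm.trans e.symm)]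
  · simp [hm, show l = i from by_contra fun hl => hml (two i m l hm hl)]

namespace B2

variable {T : ι → Tn F W W V} {Φ₁ : ι → Fm F W} (h : B2 T Φ₁ Φ₂ Φ) [Nontrivial ι]
include h

theorem kr_swap (hij : i ≠ j) (α β : W ≃ₗ[F] W) : (T j).kr α β = (T i).kr β α :=
  (T j).ext' fun u w => by rw [Tn.kr_tm, h.sw i j hij, h.sw i j hij, Tn.kr_tm]

theorem sl_tm (hij : i ≠ j) (x : End F W) (a b : W) : (T j).sl x ((T i).tm a b) = (T i).tm (x a) b := by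
  rw [← h.sw i j hij, Tn.sl_tm, h.sw i j hij]

theorem krR_tm (hij : i ≠ j) (x : W ≃ₗ[F] W) (a b : W) :
    (T j).krR x ((T i).tm a b) = (T i).tm (x a) b := by rw [Tn.krR_eq_sl, h.sl_tm hij]; rfl

theorem exists_kappa (i : ι) : ∃ κ, κ ≠ 0 ∧ ∀ x y, (Φ₁ i).B x y = κ * Φ₂.B x y := by
  obtain ⟨j, hj⟩ := exists_ne i
  obtain ⟨w, hw⟩ := h.ot.tp.neW
  obtain ⟨z, hz⟩ := Φ₂.exists_B_ne hw
  have k : ∀ x y, (Φ₁ i).B x y = (Φ₁ i).B z w / Φ₂.B w z * Φ₂.B x y := fun x y => by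
    have := h.ot.adj j (Φ₂.rk x w) ((T i).tm z w) ((T i).tm y z)
    simp only [h.sl_tm hj.symm, (h.tf i).B, h.m4.o.adj_rk', Fm.rk_apply, (Φ₁ i).bsimp, (h.o₁ i).σ] at this
    field_simp
    exact mul_right_cancel₀ hz (by linear_combination this)
  refine ⟨_, fun e => ?_, k⟩
  exact hw ((Φ₁ i).nondeg _ fun y => by rw [k, e, zero_mul])

theorem m4' (i : ι) : (Φ₁ i).M4 := by
  obtain ⟨κ, κ0, e⟩ := h.exists_kappa i
  have q : ∀ x, (Φ₁ i).Q x = 0 → Φ₂.Q x = 0 := fun x hx => h.m4.sing_iff.1 (by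
    simpa [e, κ0] using (Φ₁ i).B_self hx)
  exact ⟨h.o₁ i, h.m4.two, h.m4.four, fun s v hp => h.m4.np s v ⟨q s hp.q₁, q v hp.q₂,
    by simpa [e, κ0] using hp.perp, hp.ne, by simpa [e, κ0] using hp.ind⟩⟩

theorem NG_le (i : ι) : (T i).NG ≤ h.ot.tp.WR := fun x hx k => ⟨k, Tn.mv_of_NG (by
  by_cases hk : i = k
  · exact hk ▸ hx
  · obtain ⟨α, β, rfl⟩ := hx
    exact ⟨β, α, (h.kr_swap hk β α).symm⟩)⟩

variable [Finite F] (hH : h.ot.tp.WR ⊓ Φ.EG ≤ M)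
include hH

theorem exists_swap (hij : i ≠ j) : ∃ p ∈ M, p ∈ h.ot.tp.WR ∧ ∃ d : W ≃ₗ[F] W,
    ∀ u w, p ((T j).tm u w) = (T i).tm u (d w) := by
  let s := (T j).e.symm.trans (T i).e
  have es : ∀ u w, s ((T j).tm u w) = (T i).tm u w := fun u w => by simp [s, Tn.tm_apply]
  have es' : ∀ u w, s ((T i).tm u w) = (T j).tm u w := fun u w => by
    rw [← h.sw i j hij, es, h.sw i j hij]
  have mv : ∀ i j, (∀ u w, s ((T j).tm u w) = (T i).tm u w) → (T j).Mv (T i) s := fun i j e x =>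
    ⟨x, (T j).ext (f := s.toLinearMap ∘ₗ (T j).sl x) (g := (T i).sl x ∘ₗ s.toLinearMap)
      fun u w => by simp [e]⟩
  have sW : s ∈ h.ot.tp.WR := fun k => by
    by_cases hk : k = i
    · exact ⟨j, hk ▸ mv j i es'⟩
    · exact ⟨i, h.two i j k hij.symm hk ▸ mv i j es⟩
  obtain ⟨κ, -, e⟩ := h.exists_kappa i
  have sI : s ∈ Φ.Iso := (h.ot.o.tv h.m4.two).mem_Iso fun x => (T i).induction
    (p := fun x => ∀ y, Φ.B (s x) (s y) = Φ.B x y) (by simp) (fun u w => (T i).ext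
      (f := Φ.B (s ((T i).tm u w)) ∘ₗ s.toLinearMap) fun u' w' => by
        simp only [LinearMap.comp_apply, LinearEquiv.coe_coe, es', h.sw i j hij, (h.tf i).B, e]
        ring) (fun x y hx hy z => by simp [hx, hy]) x
  have sd : LinearMap.det s.toLinearMap = 1 := by
    let b₀ := finBasisOfFinrankEq F W h.m4.four
    let b := (b₀.tensorProduct b₀).map (T i).e
    have := b.det_comp s.toLinearMap b
    rw [show s.toLinearMap ∘ b = b ∘ Equiv.prodComm (Fin 4) (Fin 4) from funext fun ⟨k, l⟩ => by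
      simp [b, ← Tn.tm_apply, es', h.sw i j hij], AlternatingMap.map_perm, b.det_self,
      show Equiv.Perm.sign (Equiv.prodComm (Fin 4) (Fin 4)) = 1 by decide +kernel] at this
    simpa using this.symm
  obtain ⟨a, -, -, -, ⟨ha, -⟩, -⟩ := h.m4.exists_fr₀
  rcases (h.tf i).cov_four h.m4.o h.ot.o h.m4.two (h.ot.three_le' i) (h.m4' i) ha sI sd with k | k
  · exact ⟨s, hH ⟨sW, k⟩, sW, 1, es⟩
  · have := mul_mem (h.ot.tp.krR_mem i (h.m4.o.r a)) sW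
    exact ⟨_, hH ⟨this, k⟩, this, _, fun u w => by rw [mul_app, es, Tn.krR_tm]⟩

theorem o4 (hG : M ≤ Φ.EG) (hn : ¬ Φ.EG ≤ M) : O4 T Φ₁ Φ₂ Φ M := by
  refine ⟨h.ot, h.tf, h.m4, hH, hG, h.m4.four ▸ by decide, fun i j g hg w w' hw hw0 hw0' e => ?_⟩
  have hN : (T i).NG ⊓ Φ.EG ≤ M := fun x hx => hH ⟨h.NG_le i hx.1, hx.2⟩
  have k := fun g hg w' hw0' e => h.NG_le i ((h.tf i).mem_of_sp hN hG (fun _ => (h.tf i).loc_one h.m4.o
    (h.o₁ i) h.ot.o h.m4.two h.m4.three h.m4.three hN hG hn (by simp [h.m4.four]) (h.m4' i).wide h.m4.np)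
    h.m4.three (g := g) hg hw hw0 (w' := w') hw0' e)
  by_cases hij : i = j
  · exact k g hg w' hw0' (hij ▸ e)
  obtain ⟨p, p1, p2, d, ed⟩ := h.exists_swap hH hij
  simpa using mul_mem (inv_mem p2) (k _ (mul_mem p1 hg) _ (d.map_ne_zero_iff.2 hw0') fun u =>
    let ⟨x, hx⟩ := e u; ⟨x, (ed x w').symm.trans (congrArg p hx)⟩)

end B2

end Cfsg.Agent.Class.Max
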