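import Mathlib
import Cfsg.Agent.Class.Max.C7OJ

/-!
Tensor squares of `O₄⁻`: centralisers of plane involutions.
-/

set_option autoImplicit false
set_option linter.unusedSectionVars false

namespace Cfsg.Agent.Class.Max

open Module

variable {F U W V : Type*} [Field F] [AddCommGroup U] [Module F U] [AddCommGroup W]
  [Module F W] [AddCommGroup V] [Module F V]
  [FiniteDimensional F U] [FiniteDimensional F W] [FiniteDimensional F V]
  {Φ₂ : Fm F W} {Φ : Fm F V} {M : Subgroup (V ≃ₗ[F] V)} {g : V ≃ₗ[F] V} {a b c d w : W}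
  {ι : Type*} [Fintype ι] [DecidableEq ι] {i j l : ι}

theorem TF.krR_sub_mem {T : Tn F U W V} {Φ₁ : Fm F U} (hT : TF T Φ₁ Φ₂ Φ) {τ : W ≃ₗ[F] W}
    (hτ : τ ∈ Φ₂.RG w) {v : V} (hv : T.cR (Φ₂.B w) v = 0) : T.krR τ v - v ∈ T.sp w :=
  T.mem_sp_iff.2 fun φ hφ => hT.eq_on_perp (f := T.cR φ ∘ₗ ((T.krR τ).toLinearMap - 1)) (g := 0)
    (fun u y hy => by
      obtain ⟨c, e⟩ := hτ.2.2 y hy
      simp [e, hφ]) hv

/-- A flag argument in the negative eigenspace of an involution. -/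
theorem O4.mem_WR_of_flag {T : ι → Tn F U W V} {Φ₁ : ι → Fm F U} (h : O4 T Φ₁ Φ₂ Φ M) [Finite F]
    [Nontrivial ι] {k : V ≃ₗ[F] V} (kI : k ∈ Φ.Iso) (k2 : ∀ v, k (k v) = v)
    (kc : (T j).Cm k.toLinearMap)
    (A0 : ∀ n ∈ M, (∀ v, k v = -v → n v = v) → n ∈ h.ot.tp.WR) (hw : Φ₂.Q w = 0) (hw0 : w ≠ 0)
    (hg : g ∈ M) (e : ∀ v, g (k v) = k (g v))
    (hD : ∀ v ∈ (T j).sp w, k v = -v → g v ∈ (T j).sp w) : g ∈ h.ot.tp.WR := by
  have hT := h.tf j
  have c1 : ∀ τ v, (T j).krR τ (k v) = k ((T j).krR τ v) := fun τ v => by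
    rw [Tn.krR_eq_sl, Tn.krR_eq_sl]; exact (kc _ v).symm
  have ci : ∀ {n : V ≃ₗ[F] V}, (∀ v, n (k v) = k (n v)) → ∀ v, n⁻¹ (k v) = k (n⁻¹ v) :=
    fun {n} e v => inv_app_of_eq (by rw [e, app_inv_app])
  have f1 : ∀ τ ∈ Φ₂.RG w, ∀ v ∈ (T j).sp w, (T j).krR τ v = v := by
    rintro τ hτ _ ⟨u, rfl⟩
    simp [hτ.2.1]
  have f2 : ∀ τ ∈ Φ₂.RG w, ∀ v, (T j).cR (Φ₂.B w) ((T j).krR τ v - v) = 0 := fun τ hτ =>
    hT.cR_of_fix (hT.krR_Iso (Φ₂.EG_le_Iso hτ.1)) fun u => f1 τ hτ _ ((T j).tm_mem_sp u w)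
  have f3 : ∀ v, k v = -v → ∀ u y, 2 * Φ.B ((T j).tm u y) v = Φ.B ((T j).tm u y - k ((T j).tm u y)) v :=
    fun v hv u y => by rw [Φ.B_sub_left, ← kI.1 (k _), k2, hv, map_neg]; ring
  have f4 : ∀ x, k (x - k x) = -(x - k x) := fun x => by rw [map_sub, k2, neg_sub]
  obtain ⟨κ, eκ⟩ := kc.exists_left h.ot.tp.neW
  have step : ∀ (P : V → Prop) (n : V ≃ₗ[F] V), n ∈ M → (∀ v, n (k v) = k (n v)) →
      (∀ n ∈ M, (∀ v, n (k v) = k (n v)) → (∀ v, P v → n v = v) → n ∈ h.ot.tp.WR) →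
      (∀ τ ∈ Φ₂.RG w, ∀ v, P v → (T j).krR τ (n v) = n ((T j).krR τ v)) → n ∈ h.ot.tp.WR :=
    fun P n hn e A hP => (inv_mem_iff (x := n)).1 (h.ux (i := j) (inv_mem hn) hw hw0 fun τ hτ => by
      have m := h.K j hτ.1
      simpa [mul_assoc] using mul_mem (h.ot.tp.krR_mem j τ) (A (((T j).krR τ)⁻¹ * (n⁻¹ * ((T j).krR τ * n)))
        (mul_mem (inv_mem m) (mul_mem (inv_mem hn) (mul_mem m hn)))
        (fun v => by simp only [mul_app, e, c1, ci e, ci (c1 τ)])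
        fun v hv => by simp only [mul_app, hP τ hτ v hv, inv_app_app]))
  have A1 : ∀ n ∈ M, (∀ v, n (k v) = k (n v)) →
      (∀ v, k v = -v ∧ (T j).cR (Φ₂.B w) v = 0 → n v = v) → n ∈ h.ot.tp.WR := fun n hn e h1 =>
    step (fun v => k v = -v) n hn e (fun n hn _ => A0 n hn) fun τ hτ v hv => by
      have m : n v - v ∈ (T j).sp w := hT.mem_sp_of fun y hy => hT.cR_eq_zero fun u =>
        mul_left_cancel₀ h.m4.two (by
          have := h1 _ ⟨f4 ((T j).tm u y), by simp [show ∀ u y, k ((T j).tm u y) = _ from eκ, hy]⟩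
          rw [f3 _ (by rw [map_sub, ← e, hv, map_neg, neg_sub_neg, neg_sub]), map_sub, mul_zero,
            ← (h.I hn).1 _ v, this, sub_self])
      have e1 := f1 τ hτ _ m
      have e2 := h1 _ ⟨by rw [map_sub, ← c1, hv, map_neg, neg_sub_neg, neg_sub], f2 τ hτ v⟩
      rw [map_sub] at e1 e2
      linear_combination (norm := module) e1 - e2
  have A2 : ∀ n ∈ M, (∀ v, n (k v) = k (n v)) → (∀ v ∈ (T j).sp w, k v = -v → n v = v) →
      (∀ v, k v = -v → (T j).cR (Φ₂.B w) v = 0 → n v - v ∈ (T j).sp w) → n ∈ h.ot.tp.WR :=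
    fun n hn e h1 h2 => step _ n hn e A1 fun τ hτ v hv => by
      have e1 := f1 τ hτ _ (h2 v hv.1 hv.2)
      have e2 := h1 _ (hT.krR_sub_mem hτ hv.2) (by
        rw [map_sub, ← c1, hv.1, map_neg, neg_sub_neg, neg_sub])
      rw [map_sub] at e1 e2
      linear_combination (norm := module) e1 - e2
  let D := (T j).sp w ⊓ LinearMap.ker (k.toLinearMap + 1)
  have mD : ∀ v, v ∈ D ↔ v ∈ (T j).sp w ∧ k v = -v := fun v => by simp [D, add_eq_zero_iff_eq_neg]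
  have hD' : ∀ v ∈ (T j).sp w, k v = -v → g⁻¹ v ∈ (T j).sp w := fun v h1 h2 => by
    obtain ⟨x, hx, rfl⟩ := (Submodule.eq_of_le_of_finrank_eq (show D.map g.toLinearMap ≤ D by
      rintro _ ⟨x, hx, rfl⟩
      rw [SetLike.mem_coe, mD] at hx
      exact (mD _).2 ⟨hD x hx.1 hx.2, by rw [LinearEquiv.coe_coe, ← e, hx.2, map_neg]⟩)
      (g.finrank_map_eq D)).ge ((mD v).2 ⟨h1, h2⟩)
    simpa using hx.1
  refine (inv_mem_iff (x := g)).1 (h.ux (i := j) (inv_mem hg) hw hw0 fun τ hτ => A2 _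
    (mul_mem (mul_mem (inv_mem hg) (h.K j hτ.1)) (inv_mem (inv_mem hg)))
    (fun v => by simp only [mul_app, e, c1, ci e, inv_inv])
    (fun v h1 h2 => by rw [inv_inv, mul_app, mul_app, f1 τ hτ _ (hD v h1 h2), inv_app_app])
    fun v h1 h2 => ?_)
  have k1 : k (g v) = -g v := by rw [← e, h1, map_neg]
  have := hD' _ (hT.krR_sub_mem hτ (v := g v) (hT.cR_eq_zero fun u => mul_left_cancel₀ h.m4.two (by
    obtain ⟨x, hx⟩ := hD' (_ - k _) (sub_mem ((T j).tm_mem_sp u w) ⟨_, (eκ u w).symm⟩) (f4 _)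
    rw [f3 _ k1, ← Fm.Iso.B_inv_left (h.I hg), ← hx, LinearMap.flip_apply, hT.B_tm, h2, map_zero,
      mul_zero]))) (by rw [map_sub, ← c1, k1, map_neg, neg_sub_neg, neg_sub])
  simpa using this

namespace B2

variable {T : ι → Tn F W W V} {Φ₁ : ι → Fm F W} (h : B2 T Φ₁ Φ₂ Φ) [Nontrivial ι] [Finite F]
  (O : O4 T Φ₁ Φ₂ Φ M)
include h O

theorem stab_D (hij : i ≠ j) (f : Φ₂.Fr a b c d) (ha : Φ₂.An a b) (hw : Φ₂.Q w = 0) (hw0 : w ≠ 0)
    (hg : g ∈ M)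
    (e : g * (T i).krR (h.m4.o.r a * h.m4.o.r b) = (T i).krR (h.m4.o.r a * h.m4.o.r b) * g)
    {x : W} (hx : g ((T i).tm w a) = (T i).tm w x) : g ∈ h.ot.tp.WR := by
  have h₂ := h.m4
  obtain ⟨μ, -, hμ⟩ := O.exists_mu f ha hg e
  refine O.mem_WR_of_flag (j := j) ((h.tf i).krR_Iso (mul_mem (h₂.o.r_mem_Iso a) (h₂.o.r_mem_Iso b)))
    (fun v => by rw [← mul_app, ← map_mul, h₂.rr_sq f.p₁, map_one, one_app])
    (h.ot.tp.cm_krR hij.symm _) (fun n hn k => ?_) hw hw0 hg (LinearEquiv.congr_fun e) ?_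
  · obtain ⟨ζ, -, rfl, -⟩ := O.fix_two (i := i) f.p₁ hn (fun u => k _ (Tn.krR_rr_left h₂ f.p₁ u))
      fun u => k _ (Tn.krR_rr_right h₂ f.p₁ u)
    exact h.ot.tp.krR_mem i ζ
  rintro _ ⟨y, rfl⟩ hy
  rw [LinearMap.flip_apply, h.sw i j hij] at hy ⊢
  rw [Tn.krR_tm, ← map_neg, h₂.rr_apply f.p₁] at hy
  have m : ∀ x, (T i).tm w x ∈ (T j).sp w := fun x => ⟨x, h.sw i j hij x w⟩
  have e1 : y = ((2 : F)⁻¹ * ((Φ₂.Q a)⁻¹ * Φ₂.B a y)) • a + ((2 : F)⁻¹ * ((Φ₂.Q b)⁻¹ * Φ₂.B b y) *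
      (2 * Φ₂.Q a)⁻¹) • Φ₂.rt a b a := by
    rw [Fm.rt_apply, h₂.o.B_self, Φ₂.perp_symm f.p₁.ab, zero_smul, sub_zero, smul_smul,
      inv_mul_cancel_right₀ (mul_ne_zero h₂.two f.p₁.qa), mul_smul, mul_smul (2 : F)⁻¹, ← smul_add,
      eq_inv_smul_iff₀ h₂.two]
    linear_combination (norm := module) (T i).right_inj hw0 hy
  rw [e1, map_add, map_add, map_smul, map_smul, map_smul, map_smul, ← (T i).sl_tm (Φ₂.rt a b), hμ, hx,
    Tn.sl_tm]
  exact add_mem (Submodule.smul_mem _ _ (m _)) (Submodule.smul_mem _ _ (Submodule.smul_mem _ _ (m _)))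

theorem ns_an (f : Φ₂.Fr a b c d) (ha : Φ₂.An a b) (hg : g ∈ M)
    (e : g * (T i).krR (h.m4.o.r a * h.m4.o.r b) = (T i).krR (h.m4.o.r a * h.m4.o.r b) * g) :
    g ∈ h.ot.tp.WR := by
  have h₂ := h.m4
  have hp := f.p₁
  obtain ⟨j, hj⟩ := exists_ne i
  obtain ⟨w, hw0, hw⟩ := h₂.exists_sing
  obtain ⟨κ, κ0, eκ⟩ := h.exists_kappa i
  have hB := fun u x u' x' => ((h.tf i).B u x u' x').trans (congrArg (· * _) (eκ u u'))
  have e' := LinearEquiv.congr_fun e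
  simp only [mul_app] at e'
  have y1 := Tn.krR_rr_left (T := T i) h₂ hp
  obtain ⟨r, s, ers⟩ := Tn.exists_of_neg h₂ hp (v := g ((T i).tm w a)) (by rw [← e', y1, map_neg])
  have a0 := Fm.ne_of_Q hp.qa
  have t2 := h₂.two
  rcases h₂.exists_alpha ha hp (r := r) (s := s) (mul_left_cancel₀ (mul_ne_zero κ0 (mul_ne_zero t2 t2)) (by
    have := (O.I hg).1 ((T i).tm w a) ((T i).tm w a)
    simp only [ers, Φ.bsimp, hB, h₂.o.B_self, hw, f.simp] at this
    linear_combination this)) with ⟨w', l, m, hw', rfl, rfl⟩ | ⟨α, α1, α2, α3, α4⟩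
  · obtain ⟨τ, hτ, c, -, eτ⟩ := Fm.Rk.move_pt (Ψ := Φ₂) (Or.inl h₂.three) hw' hw
      (fun e => (T i).tm_ne_zero hw0 a0 (g.map_eq_zero_iff.1 (by simp [ers, e]))) hw0
    simpa using mul_mem (inv_mem (h.ot.tp.krR_mem j τ)) (h.stab_D O hj.symm f ha hw hw0
      (mul_mem (O.K j hτ) hg) (by rw [mul_assoc, e, ← mul_assoc, h.ot.tp.comm_krR hj, mul_assoc])
      (x := c • (l • a + m • b)) (by simp [ers, h.krR_tm hj.symm, eτ, smul_comm c]))
  exfalso
  set t := -(4 * Φ₂.Q a * Φ₂.Q b) with ht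
  have t0 : t ≠ 0 := by
    simpa [ht, f.simp, ← two_mul, show (2 : F) * 2 = 4 by norm_num] using mul_ne_zero t2 t2
  obtain ⟨δ, x, y, d1, d2, d3, d4, d5, d6⟩ := h₂.exists_dee f ht
  obtain ⟨μ, μ2, hμ⟩ := O.exists_mu f ha hg e
  have αs := h₂.sim_of_sa (g := α.toLinearMap) α1 α2
  simp only [LinearEquiv.coe_coe] at αs
  set J := (T i).sl (Φ₂.rt a b) with hJ
  set k := (T i).krR (h₂.o.r a * h₂.o.r b) with hk
  let α' := LinearEquiv.smulOfNeZero F W t⁻¹ (inv_ne_zero t0) * α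
  have eI : (T i).kr α' δ ∈ Φ.Iso := (h.tf i).kr_Iso fun u u' z z' => by
    simp only [α', mul_app, LinearEquiv.smulOfNeZero_apply, eκ, Φ₂.bsimp, h₂.o.σ, αs, d5]
    field_simp
  have ed : LinearMap.det ((T i).kr α' δ).toLinearMap = 1 := by
    have := h₂.o.det_sq t2 (g := α' * δ) ((h₂.o.tv t2).mem_Iso fun u u' => by
      simp only [α', mul_app, LinearEquiv.smulOfNeZero_apply, Φ₂.bsimp, h₂.o.σ, αs, d5]
      field_simp)
    rw [LinearEquiv.coe_toLinearMap_mul, map_mul] at this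
    rw [Tn.det_kr4, h₂.four, ← mul_pow, show 4 = 2 * 2 from rfl, pow_mul, this, one_pow]
  have ec : ∀ v, (T i).kr α' δ (k v) = k ((T i).kr α' δ v) := (T i).ext
    (f := ((T i).kr α' δ).toLinearMap ∘ₗ k.toLinearMap) (g := k.toLinearMap ∘ₗ ((T i).kr α' δ).toLinearMap)
    fun u z => by simp only [hk, LinearMap.comp_apply, LinearEquiv.coe_coe, Tn.krR_tm, Tn.kr_tm, d4]
  obtain ⟨ε, ε1, ε2, ε3⟩ : ∃ ε ∈ M, (∀ v, ε (k v) = k (ε v)) ∧
      ∀ v, k v = -v → ε v = (T i).kr α' δ v := by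
    rcases (h.tf i).cov_four h₂.o h.ot.o t2 (h.ot.three_le' i) (h.m4' i) f.p₂.qa eI ed with m | m
    · exact ⟨_, O.H ⟨h.NG_le i ((T i).kr_mem _ _), m⟩, ec, fun _ _ => rfl⟩
    · refine ⟨_, O.H ⟨h.NG_le i (mul_mem ((T i).krR_mem _) ((T i).kr_mem _ _)), m⟩, fun v => ?_,
        fun v hv => Tn.krR_fix h₂ hp (by simp [h₂.o.r_of_perp, f.simp]) (by simp [h₂.o.r_of_perp, f.simp])
          ((ec v).symm.trans (by rw [hv, map_neg]; rfl))⟩
      rw [mul_app, ec, mul_app, ← mul_app, ← mul_app k, hk, ← map_mul, ← map_mul, ← mul_assoc,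
        h₂.o.r_comm (c := a) (by simp [f.simp]), mul_assoc, h₂.o.r_comm (c := b) (by simp [f.simp]),
        mul_assoc]
  let A := cjL g⁻¹ ((T i).swap.sl α.toLinearMap)
  have eA : ∀ v, g (A v) = (T i).swap.sl α.toLinearMap (g v) := fun v => by simp [A, cjL_apply]
  have cA := Tn.cm_swap (T := T i) α.toLinearMap
  have AJ : ∀ v, A (J v) = J (A v) := fun v => g.injective (by rw [eA, hμ, hμ, map_smul, eA, cA])
  have Ak : ∀ v, k v = -v → k (A v) = -A v := fun v hv => g.injective (by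
    rw [e', eA, hk, Tn.krR_eq_sl, ← cA, ← (T i).krR_eq_sl, ← hk, ← e', hv, map_neg, map_neg, map_neg, eA])
  have E : ∀ v, k v = -v → (g⁻¹ * ε * g) v = t⁻¹ • (x • A v + (y * μ) • J (A v)) := fun v hv => by
    have hv' : k (g v) = -g v := by rw [← e', hv, map_neg]
    refine g.injective ?_
    rw [mul_app, mul_app, app_inv_app, ε3 _ hv', map_smul, map_add, map_smul, map_smul, hμ, eA,
      smul_smul, mul_assoc, μ2, mul_one]
    obtain ⟨p, q, epq⟩ := Tn.exists_of_neg h₂ hp hv'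
    simp only [epq, map_add, Tn.kr_tm, d2, d3, α', mul_app, LinearEquiv.smulOfNeZero_apply, map_smul,
      LinearMap.smul_apply, Tn.swap_sl_tm, LinearEquiv.coe_coe, hJ, Tn.sl_tm]
    module
  have JJ := fun v => Tn.sl_rt_rt (T := T i) h₂ hp (v := v)
  rw [← hJ, ← ht, ← hk] at JJ
  have Aw : A ((T i).tm w a) = μ • J ((T i).tm w a) := g.injective (by
    rw [eA, map_smul, hμ, smul_smul, μ2, one_smul, ers]
    simp only [map_add, Tn.swap_sl_tm, LinearEquiv.coe_coe, α3, α4, hJ, Tn.sl_tm, Fm.rt_apply,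
      h₂.o.B_self, f.simp, map_sub, map_smul, LinearMap.smul_apply]
    module)
  have m := mul_mem (mul_mem (inv_mem hg) ε1) hg
  have cE : g⁻¹ * ε * g * k = k * (g⁻¹ * ε * g) := LinearEquiv.ext fun v => g.injective (by
    simp only [mul_app, e', app_inv_app, ε2])
  set b' := Φ₂.rt a b a with hb'
  have Ja : ∀ u, J ((T i).tm u a) = (T i).tm u b' := fun u => (T i).sl_tm _ _ _
  have Jb : ∀ u, J ((T i).tm u b') = t • (T i).tm u a := fun u => by rw [← Ja, JJ _ (y1 u)]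
  have y2 : ∀ u, k ((T i).tm u b') = -(T i).tm u b' := fun u => by
    rw [← Ja]; exact Tn.krR_sl_rt h₂ hp _
  have Ew : (g⁻¹ * ε * g) ((T i).tm w a) = (T i).tm w ((t⁻¹ * x * μ) • b' + y • a) := by
    simp only [E _ (y1 w), Aw, map_smul, Ja, Jb, map_add]
    match_scalars
    · ring
    · field_simp
      linear_combination y * μ2
  obtain ⟨β, γ, eβ⟩ := h.ot.tp.mem_NG_of_comm (h.stab_D O hj.symm f ha hw hw0 m cE Ew) (h₂.rr_ns hp) cE
  rw [eβ] at E Ew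
  obtain ⟨l, l1, l2⟩ := Tn.exists_smul_of_tm hw0 (fun e => (T i).tm_ne_zero hw0 a0
    (((T i).kr β γ).map_eq_zero_iff.1 (by rw [Ew, e, map_zero]))) (((T i).kr_tm β γ w a).symm.trans Ew)
  replace l2 : (x * μ) • b' + (t * y) • a = (t * l) • γ a := by
    rw [mul_smul t l, ← l2]
    match_scalars <;> field_simp
  have A1 : ∀ u, l • A ((T i).tm u a) = μ • (T i).tm (β u) b' := fun u => by
    have e1 := (eq_inv_smul_iff₀ t0).1 (E _ (y1 u))
    have k1 := congrArg ((T i).tm (β u)) l2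
    rw [map_add, map_smul, map_smul, map_smul, mul_comm t l, mul_smul l, ← Tn.kr_tm, e1] at k1
    have k2 := congrArg J k1
    simp only [map_add, map_smul, Ja, Jb, JJ _ (Ak _ (y1 u))] at k2
    refine smul_right_injective V t0 ?_
    linear_combination (norm := module) (y * μ) • k2 - x • k1 +
      d1 • (μ • (T i).tm (β u) b' - l • A ((T i).tm u a)) +
      μ2 • ((l * t * y * y) • A ((T i).tm u a) - (x * t * y) • (T i).tm (β u) a)
  have A2 : ∀ u, l • A ((T i).tm u b') = (μ * t) • (T i).tm (β u) a := fun u => by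
    rw [← Ja, AJ, ← map_smul, A1, map_smul, Jb, mul_smul]
  have sA : ∀ v v', Φ.B (A v) v' = Φ.B v (A v') := fun v v' => by
    rw [← (O.I hg).1, ← (O.I hg).1 v, eA, eA, ← AlgHom.congr_fun (show (T j).sl = (T i).swap.sl from
      AlgHom.ext fun x => LinearMap.ext ((T i).ext fun u w => by simp [h.sl_tm hj.symm])), h.ot.adj,
      show Φ₂.adj α.toLinearMap = α.toLinearMap from LinearMap.ext fun u => Fm.adj_eq (α1 u)]
  have μ0 : μ ≠ 0 := fun e => by simp [e] at μ2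
  refine β.map_ne_zero_iff.2 hw0 (h₂.skew_eq_zero (e := β.toLinearMap) (t := l * l) (fun u u' => ?_)
    (fun u => (T i).left_inj a0 (smul_right_injective V t0 ?_)) w)
  · have := sA (l • (T i).tm u a) ((T i).tm u' b')
    rw [map_smul, A1, Φ.B_smul_left, Φ.B_smul_left, h.ot.o.σ, h.ot.o.σ, ← Φ.B_smul_right l, A2] at this
    simp only [Φ.bsimp, hB, hb', Fm.rt_apply, Φ₂.bsimp, h₂.o.B_self, h₂.o.σ, f.simp] at this
    refine mul_left_cancel₀ (mul_ne_zero (mul_ne_zero μ0 κ0) (mul_ne_zero t0 (mul_ne_zero t2 hp.qa))) ?_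
    simp only [LinearEquiv.coe_coe]
    rw [ht] at this ⊢
    linear_combination -this
  · have := congrArg (fun v => l • A v) (A1 u)
    simp only [map_smul, smul_comm l μ, A2] at this
    rw [show A (A ((T i).tm u a)) = t • (T i).tm u a from g.injective (by
      rw [eA, eA, Tn.sl_sl, show α.toLinearMap * α.toLinearMap = t • 1 from LinearMap.ext α2]
      simp)] at this
    simp only [LinearEquiv.coe_coe, map_smul, LinearMap.smul_apply]
    linear_combination (norm := module) -this - μ2 • t • (T i).tm (β (β u)) a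

/-- The centraliser of a plane involution. -/
theorem ns (hp : Φ₂.Pl a b) (hg : g ∈ M)
    (e : g * (T i).krR (h.m4.o.r a * h.m4.o.r b) = (T i).krR (h.m4.o.r a * h.m4.o.r b) * g) :
    g ∈ (T i).NG := by
  obtain ⟨c, d, f, -⟩ := h.m4.exists_fr hp one_ne_zero
  refine h.ot.tp.mem_NG_of_comm ?_ (h.m4.rr_ns hp) e
  rcases h.m4.an_or f with k | k
  · exact h.ns_an O f k hg e
  · exact h.ns_an O (i := i) f.symm k hg (LinearEquiv.ext fun v => by
      rw [mul_app, mul_app, Tn.krR_rr_neg h.m4 f, Tn.krR_rr_neg h.m4 f, map_neg, ← mul_app, e, mul_app])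

end B2

end Cfsg.Agent.Class.Max
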