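import Mathlib
import Cfsg.Agent.Class.Max.C7OK

/-!
Tensor powers of `O₄⁻`: the tensor square, and the main theorem.
-/

set_option autoImplicit false
set_option linter.unusedSectionVars false

namespace Cfsg.Agent.Class.Max

open Module

theorem sq_of_swap {A : Type*} [Ring A] {n n' m m' : A} (h1 : n * n' = 0)
    (h3 : m * m' = 0) (h4 : m' * m = 0) (c1 : m * n = n * m) (c2 : m * n' = n' * m)
    (c3 : m' * n = n * m') (c4 : m' * n' = n' * m') :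
    (n + m + n * m) * (n' + m' + n' * m') * ((n + m + n * m) * (n' + m' + n' * m')) =
      n * n * (m' * m') + n' * n' * (m * m) := by
  have a : ∀ {x y z t : A}, x * y = z * t → ∀ s, x * (y * s) = z * (t * s) := fun h s => by
    rw [← mul_assoc, h, mul_assoc]
  have z : ∀ {x y : A}, x * y = 0 → ∀ s, x * (y * s) = 0 := fun h s => by
    rw [← mul_assoc, h, zero_mul]
  simp only [mul_add, add_mul, mul_assoc, a c1, a c2, a c3, a c4, c2, h1, h3, h4, z h1, mul_zero,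
    add_zero, zero_add]
  exact add_comm _ _

section Two

variable {F W V : Type*} [Field F] [AddCommGroup W] [Module F W] [AddCommGroup V] [Module F V]
  [FiniteDimensional F W] [FiniteDimensional F V] [Finite F]
  {Φ₂ : Fm F W} {Φ : Fm F V} {M : Subgroup (V ≃ₗ[F] V)} {g y : V ≃ₗ[F] V} {a b c d w : W}
  {ι : Type*} [Fintype ι] [DecidableEq ι] {i j l : ι}

theorem Fm.M4.eq_one_of_smul (h : Φ₂.M4) {ρ : W ≃ₗ[F] W} (hρ : ρ ∈ Φ₂.EG)
    (e : ∃ c : F, ∀ x, ρ x = c • x) : ρ = 1 := by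
  obtain ⟨c, e⟩ := e
  obtain ⟨a, -, -, -, ⟨ha, -⟩, -⟩ := h.exists_fr₀
  have := (Φ₂.EG_le_Iso hρ).2 a
  rw [e, h.o.Q_smul] at this
  rcases mul_self_eq_one_iff.1 (mul_right_cancel₀ ha (this.trans (one_mul _).symm)) with rfl | rfl
  · exact LinearEquiv.ext fun x => by simp [e]
  · exact absurd hρ (h.neg_notMem fun x => by simp [e])

theorem Fm.M4.rot_sq (h : Φ₂.M4) (hp : Φ₂.Pl a b) (q : Φ₂.Q (a + b) ≠ 0) :
    h.o.r a * h.o.r (a + b) * (h.o.r a * h.o.r (a + b)) ≠ 1 := fun e => by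
  have := h.o.perp_of_comm h.two hp.qa q (fun e => by
    obtain ⟨c, hc⟩ := h.o.smul_of_r_eq h.two (e ▸ h.o.r_self q :)
    simpa [h.o.B_self, Φ₂.perp_symm hp.ab, h.two, hp.qb] using congrArg (Φ₂.B b) hc)
    (by rw [eq_inv_of_mul_eq_one_left e, mul_inv_rev, h.o.r_inv, h.o.r_inv])
  simp [h.o.B_self, hp.ab, h.two, hp.qa] at this

namespace B2

variable {T : ι → Tn F W W V} {Φ₁ : ι → Fm F W} (h : B2 T Φ₁ Φ₂ Φ) [Nontrivial ι]
  (O : O4 T Φ₁ Φ₂ Φ M) (hp : Φ₂.Pl a b) (hg : g ∈ M)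
  (hy : g * (T i).krR (h.m4.o.r a * h.m4.o.r b) * g⁻¹ = y)
include h O hp hg hy

theorem y_mem : y ∈ M := hy ▸ mul_mem (mul_mem hg (O.rr_mem i hp.qa hp.qb)) (inv_mem hg)

omit O hg in
theorem y_sq : y * y = 1 := by
  rw [← hy, ← pow_two, conj_pow, pow_two, ← map_mul, h.m4.rr_sq hp, map_one, mul_one, mul_inv_cancel]

omit O hg hp in
theorem conj_comm {n : V ≃ₗ[F] V} (e : n * y = y * n) : g⁻¹ * n * g * (T i).krR (h.m4.o.r a * h.m4.o.r b) =
    (T i).krR (h.m4.o.r a * h.m4.o.r b) * (g⁻¹ * n * g) := by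
  simpa [← hy, mul_assoc, -map_mul] using congrArg (fun x => g⁻¹ * x * g) e

theorem mem_of_krR {ξ : W ≃ₗ[F] W} (e : y = (T l).krR ξ) : g ∈ h.ot.tp.WR := by
  obtain ⟨w, hw0, hw⟩ := h.m4.exists_sing
  obtain ⟨m, hm⟩ := exists_ne l
  exact (inv_mem_iff (x := g)).1 (O.ux (i := m) (inv_mem hg) hw hw0 fun τ hτ => h.NG_le i (by
    rw [inv_inv]
    exact h.ns O hp (mul_mem (mul_mem (inv_mem hg) (O.K m hτ.1)) hg)
      (h.conj_comm hy (e ▸ h.ot.tp.comm_krR hm τ ξ))))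

theorem not_swap (hij : i ≠ j) : ¬ (T i).Mv (T j) y := fun hm => by
  obtain ⟨θ, θ', e⟩ := hm.exists_tm h.ot.tp.neU h.ot.tp.neW
  obtain ⟨w, hw0, hw⟩ := h.m4.exists_sing
  obtain ⟨x, x1, -, x3, s, t, s1, t1, x4⟩ := h.m4.exists_root2 hw hw0
  obtain ⟨c, c0, ec⟩ := x3 s s1
  obtain ⟨c', c0', ec'⟩ := x3 t t1
  have y2 := h.y_sq hp hy
  have ym := h.y_mem O hp hg hy
  have e1 : ∀ τ, (T j).krR (θ' * τ * θ'⁻¹) = y * (T i).krR τ * y⁻¹ := fun τ =>
    eq_mul_inv_of_mul_eq ((T i).ext' fun u x => by simp [-map_mul, e])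
  have key : ∀ t, (T i).Cm (cjL g⁻¹ ((T i).sl ((x t).toLinearMap - 1) +
      (T j).sl (cjL θ' ((x t).toLinearMap - 1)) +
      (T i).sl ((x t).toLinearMap - 1) * (T j).sl (cjL θ' ((x t).toLinearMap - 1)))) := fun t => by
    have m := O.K i (x1 t).1
    have cm := h.ot.tp.comm_krR hij (x t) (θ' * x t * θ'⁻¹)
    have m' := mul_mem (mul_mem (inv_mem hg) (mul_mem m (e1 _ ▸ mul_mem (mul_mem ym m) (inv_mem ym) :
      (T j).krR (θ' * x t * θ'⁻¹) ∈ M))) hg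
    have k := h.conj_comm hy (n := (T i).krR (x t) * (T j).krR (θ' * x t * θ'⁻¹)) (by
      conv_rhs => rw [cm]
      rw [e1, ← mul_assoc y, ← mul_assoc y, ← mul_assoc y, y2, inv_eq_of_mul_eq_one_right y2,
        mul_assoc _ _ y, mul_assoc _ y y, y2]
      group)
    have p : x t ^ ringChar F = 1 := by
      rw [← map_pow, show t ^ ringChar F = 1 from Multiplicative.toAdd.injective
        (Prod.ext (by simp) (by simp)), map_one]
    have := ((h.tf i).cm_of_pow h.m4 hp (h.ns O hp m' k) (O.I m') (by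
      rw [← inv_inv g, inv_inv g⁻¹, conj_pow, Commute.mul_pow cm, ← map_pow (T i).krR,
        ← map_pow (T j).krR, conj_pow, p]
      simp) k).add ((show (T i).Cm 1 from fun _ _ => rfl).smul (-1))
    convert this using 1
    refine LinearMap.ext fun v => ?_
    rw [show cjL θ' ((x t).toLinearMap - 1) = (θ' * x t * θ'⁻¹).toLinearMap - 1 from
      LinearMap.ext fun v => by simp [cjL_apply]]
    generalize θ' * x t * θ'⁻¹ = τ
    simp [cjL_apply, ← Tn.krR_eq_sl]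
    abel
  have z : cjL θ' 0 = 0 := LinearMap.ext fun v => by simp [cjL_apply]
  have sm : ∀ (c : F) b, cjL θ' (c • b) = c • cjL θ' b := fun c b =>
    LinearMap.ext fun v => by simp [cjL_apply]
  have cm := fun x y => LinearMap.ext (f := (T j).sl x * (T i).sl y) (g := (T i).sl y * (T j).sl x)
    (h.ot.tp.cm i j hij x y)
  have k := ((key s).mul (key t)).mul ((key s).mul (key t))
  rw [← cjL_mul', ← cjL_mul', sq_of_swap (by rw [← map_mul, x4, map_zero])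
    (by rw [← map_mul, ← cjL_mul', x4, z, map_zero]) (by
      rw [← map_mul, ← cjL_mul', show _ * _ = _ * _ from ?_, x4, z, map_zero]
      simp only [mul_sub, sub_mul, mul_one, one_mul, ← LinearEquiv.coe_toLinearMap_mul, ← map_mul,
        mul_comm s t]
      abel) (cm _ _) (cm _ _) (cm _ _) (cm _ _)] at k
  simp only [← map_mul, ← cjL_mul', ec, ec', sm] at k
  replace k : (T i).Cm (cjL g⁻¹ ((T i).sl (Φ₂.rk w w) * (T j).sl (cjL θ' (Φ₂.rk w w)))) := by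
    convert k.smul (2 * c * c')⁻¹ using 1
    refine LinearMap.ext fun v => ?_
    have := h.m4.two
    simp only [cjL_apply, map_smul, LinearMap.smul_apply, LinearMap.add_apply, End.mul_apply, map_add]
    match_scalars
    field_simp
    ring
  obtain ⟨f, -, ef⟩ := Fm.exists_partner' hw hw0
  have := k.not_line h.ot.tp.two (v₀ := g⁻¹ ((T i).tm (θ' w) w)) (fun v => (T i).induction
    (p := fun z => ∃ c : F, g⁻¹ (((T i).sl (Φ₂.rk w w) * (T j).sl (cjL θ' (Φ₂.rk w w))) z) = c • _)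
    ⟨0, by simp⟩ (fun u x => ⟨_, by simp [h.sl_tm hij, cjL_apply, smul_smul]; rfl⟩)
    (fun x y ⟨c, hc⟩ ⟨d, hd⟩ => ⟨c + d, by rw [map_add, map_add, hc, hd, add_smul]⟩) _)
    (g⁻¹ ((T i).tm (θ' f) f))
  rw [cjL_app] at this
  simp [cjL_app, h.sl_tm hij, ef, (T i).tm_ne_zero (θ'.map_ne_zero_iff.2 hw0) hw0] at this

omit O hg in
theorem sa_of_kr (hI : y ∈ Φ.Iso) {α β : W ≃ₗ[F] W} (e : y = (T l).kr α β)
    (hβ : ¬ ∃ c : F, ∀ x, β x = c • x) :
    (∀ x x', Φ₂.B (β x) x' = Φ₂.B x (β x')) ∧ ∃ t : F, t ≠ 0 ∧ ∀ x, β (β x) = t • x := by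
  obtain ⟨m, -, -, hm⟩ := (h.tf l).exists_sim (e ▸ hI)
  obtain ⟨u, hu⟩ := h.ot.tp.neW
  obtain ⟨φ, hφ⟩ := exists_dual_eq_one (F := F) ((α * α).map_ne_zero_iff.2 hu)
  have k : ∀ x, β (β x) = φ u • x := fun x => by
    simpa [e, show φ (α (α u)) = 1 from hφ] using
      congrArg ((T l).cL φ) (LinearEquiv.congr_fun (h.y_sq hp hy) ((T l).tm u x))
  exact ⟨(h.m4.sa_of_quad hm (s := 0) (by simpa using k) hβ).2.2, _,
    fun e => hu (by simpa [e] using k u), k⟩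

variable (f : Φ₂.Fr a b c d) (ha : Φ₂.An a b)
include f ha

theorem comm_or_anti {α β : W ≃ₗ[F] W} (e : y = (T l).kr α β) (hβ : ¬ ∃ c : F, ∀ x, β x = c • x) :
    (∃ a' b', Φ₂.Pl a' b' ∧ (∀ v, y ((T l).krR (h.m4.o.r a' * h.m4.o.r b') v) =
      (T l).krR (h.m4.o.r a' * h.m4.o.r b') (y v)) ∧ ∀ v, (T l).krR (h.m4.o.r a' * h.m4.o.r b')
        (cjL g ((T i).sl (Φ₂.rt a b)) v) = cjL g ((T i).sl (Φ₂.rt a b))
          ((T l).krR (h.m4.o.r a' * h.m4.o.r b') v)) ∨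
      ∀ u x u' x', Φ.B (cjL g ((T i).sl (Φ₂.rt a b)) ((T l).tm u x)) ((T l).tm u' x') =
        -Φ.B (cjL g ((T i).sl (Φ₂.rt a b)) ((T l).tm u x')) ((T l).tm u' x) := by
  have h₂ := h.m4
  set J := cjL g ((T i).sl (Φ₂.rt a b)) with hJ
  refine or_iff_not_imp_left.2 fun hn => ?_
  have anti : ∀ a' b', Φ₂.Pl a' b' → (∀ x, β ((h₂.o.r a' * h₂.o.r b') x) = (h₂.o.r a' * h₂.o.r b') (β x)) →
      ∀ v, (T l).krR (h₂.o.r a' * h₂.o.r b') (J v) = -J ((T l).krR (h₂.o.r a' * h₂.o.r b') v) :=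
    fun a' b' hp' k => by
      have k1 : y * (T l).krR (h₂.o.r a' * h₂.o.r b') = (T l).krR (h₂.o.r a' * h₂.o.r b') * y :=
        (T l).ext' fun u x => by simp only [e, mul_app _ _ ((T l).tm u x), Tn.krR_tm, Tn.kr_tm, k]
      obtain ⟨μ, μ2, hμ⟩ := O.exists_mu f ha
        (mul_mem (mul_mem (inv_mem hg) (O.rr_mem l hp'.qa hp'.qb)) hg) (h.conj_comm hy k1.symm)
      replace hμ : ∀ v, (T l).krR (h₂.o.r a' * h₂.o.r b') (J v) =
          μ • J ((T l).krR (h₂.o.r a' * h₂.o.r b') v) := fun v => by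
        simpa [-map_mul, hJ, cjL_apply] using congrArg g (hμ (g⁻¹ v))
      rcases mul_self_eq_one_iff.1 μ2 with rfl | rfl
      · exact absurd ⟨a', b', hp', LinearEquiv.congr_fun k1, by simpa only [one_smul] using hμ⟩ hn
      · simpa only [neg_one_smul] using hμ
  obtain ⟨sa, t, t0, β2⟩ := h.sa_of_kr hp hy (O.I (h.y_mem O hp hg hy)) e hβ
  by_cases ht : IsSquare t
  · obtain ⟨m, rfl⟩ := ht
    obtain ⟨p, q, r, p1, p2, p3, c1, c2, c3⟩ := h₂.exists_three (g := β.toLinearMap) sa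
      (left_ne_zero_of_mul t0) β2
    simp only [LinearEquiv.coe_coe] at c1 c2 c3
    have k1 := anti p q p1 fun x => by simp only [mul_app, c1, c2]
    have k2 := anti q r p3 fun x => by simp only [mul_app, c2, c3]
    have e3 : h₂.o.r p * h₂.o.r r = h₂.o.r p * h₂.o.r q * (h₂.o.r q * h₂.o.r r) := by
      rw [mul_assoc, ← mul_assoc (h₂.o.r q), h₂.o.r_mul_self, one_mul]
    refine absurd ⟨p, r, p2, (T l).ext (f := y.toLinearMap ∘ₗ ((T l).krR _).toLinearMap)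
      (g := ((T l).krR _).toLinearMap ∘ₗ y.toLinearMap) fun u x => by simp [e, c1, c3], fun v => ?_⟩ hn
    rw [e3, map_mul, mul_app, mul_app, k2, map_neg, k1, neg_neg]
  have k : ∀ u u' x, Φ.B (J ((T l).tm u x)) ((T l).tm u' x) = 0 := fun u u' x => by
    by_cases x0 : x = 0
    · simp [x0]
    obtain ⟨p, q, p1, c1, c2⟩ := h₂.exists_pl_comm (g := β.toLinearMap) sa ht β2 x0
    have := ((h.tf l).krR_Iso (mul_mem (h₂.o.r_mem_Iso p) (h₂.o.r_mem_Iso q))).1 (J ((T l).tm u x))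
      ((T l).tm u' x)
    simp only [anti p q p1 c1, Tn.krR_tm, c2, map_neg, neg_neg] at this
    exact mul_left_cancel₀ h₂.two (by linear_combination -this)
  intro u x u' x'
  have := k u u' (x + x')
  simp only [map_add, LinearMap.add_apply, k] at this
  linear_combination this

theorem uniq_an (hW : y ∈ h.ot.tp.WR) : g ∈ h.ot.tp.WR := by
  have h₂ := h.m4
  obtain ⟨j, hj⟩ := exists_ne i
  obtain ⟨α, β, e⟩ : y ∈ (T i).NG := by
    obtain ⟨l, hl⟩ := hW i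
    by_cases hil : i = l
    · exact Tn.Mv.mem_NG h.ot.tp.neU h.ot.tp.neW (hil ▸ hl)
    · exact absurd hl (h.not_swap O hp hg hy hil)
  have e' := e.trans (h.kr_swap hj.symm β α).symm
  by_cases hα : ∃ c : F, ∀ x, α x = c • x
  · exact let ⟨_, k⟩ := (T i).exists_krR_of_smul β h.ot.tp.neU hα; h.mem_of_krR O hp hg hy (e.trans k)
  by_cases hβ : ∃ c : F, ∀ x, β x = c • x
  · exact let ⟨_, k⟩ := (T j).exists_krR_of_smul α h.ot.tp.neU hβ; h.mem_of_krR O hp hg hy (e'.trans k)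
  exfalso
  have k1 := h.comm_or_anti O hp hg hy f ha e hβ
  have k2 := h.comm_or_anti O hp hg hy f ha e' hα
  have sk := ((h.tf i).skew_krL (h₂.o.skew_rt a b)).cjL (O.I hg)
  change Φ.Skew (cjL g ((T i).sl (Φ₂.rt a b))) at sk
  obtain ⟨u₀, hu⟩ := h.ot.tp.neW
  have q : Φ₂.Q (a + b) ≠ 0 := by rw [h₂.o.Q_add, hp.ab, add_zero]; exact Fm.M4.An.q_add h₂ ha
  set ρ := h₂.o.r a * h₂.o.r (a + b) with hρ
  have m := mul_mem (mul_mem hg (O.rr_mem i hp.qa q)) (inv_mem hg)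
  have eu : ∀ v, (Φ₂.Q a + Φ₂.Q b) • (g * (T i).krR ρ * g⁻¹) v =
      Φ₂.Q a • v + Φ₂.Q b • y v - cjL g ((T i).sl (Φ₂.rt a b)) v := fun v => by
    obtain ⟨v, rfl⟩ := g.surjective v
    simp only [← hy, mul_app, inv_app_app, cjL_app, ← map_smul g, ← map_add, ← map_sub]
    exact congrArg g ((T i).ext (f := (Φ₂.Q a + Φ₂.Q b) • ((T i).krR ρ).toLinearMap)
      (g := Φ₂.Q a • 1 + Φ₂.Q b • ((T i).krR (h₂.o.r a * h₂.o.r b)).toLinearMap - (T i).sl (Φ₂.rt a b))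
      (fun u x => by simpa [-map_mul, hρ] using congrArg ((T i).tm u) (h₂.rot_eq hp ha x)) v)
  set J := cjL g ((T i).sl (Φ₂.rt a b)) with hJ
  have fix : ∀ v, (T i).krR (h₂.o.r a * h₂.o.r b) v = v → (g * (T i).krR ρ * g⁻¹) (g v) = g v :=
    fun v hv => by
      rw [mul_app, mul_app, inv_app_app, Tn.krR_fix h₂ f.p₂ (by simp [hρ, h₂.o.r_of_perp, f.simp])
        (by simp [hρ, h₂.o.r_of_perp, f.simp]) (by rw [Tn.krR_rr_neg h₂ f, hv])]
  have rel : ∀ v, (g * (T i).krR ρ * g⁻¹) (v + y v) = v + y v := fun v => by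
    obtain ⟨v, rfl⟩ := g.surjective v
    rw [← hy, mul_app _ g⁻¹ (g v), inv_app_app, mul_app g, ← map_add, fix]
    rw [map_add, ← mul_app, ← map_mul, h₂.rr_sq hp, map_one, one_app, add_comm]
  have ne : g * (T i).krR ρ * g⁻¹ * (g * (T i).krR ρ * g⁻¹) ≠ 1 := fun e => h₂.rot_sq hp q
    ((T i).krR_inj4 ⟨u₀, hu⟩ (by
      rw [map_mul, map_one, ← hρ]; simpa [mul_assoc] using congrArg (fun x => g⁻¹ * x * g) e))
  have f0 : (g * (T i).krR ρ * g⁻¹) (g ((T i).tm u₀ c)) = _ := fix _ (by simp [h₂.o.r_of_perp, f.simp])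
  have mem : ∀ l a' b', Φ₂.Pl a' b' → (∀ v, y ((T l).krR (h₂.o.r a' * h₂.o.r b') v) =
      (T l).krR (h₂.o.r a' * h₂.o.r b') (y v)) → (∀ v, (T l).krR (h₂.o.r a' * h₂.o.r b') (J v) =
        J ((T l).krR (h₂.o.r a' * h₂.o.r b') v)) → g * (T i).krR ρ * g⁻¹ ∈ (T l).NG :=
    fun l a' b' p1 p2 p3 => h.ns O p1 m (LinearEquiv.ext fun v => smul_right_injective V
      (Fm.M4.An.q_add h₂ ha) (by
        simp only [mul_app _ ((T l).krR _), mul_app ((T l).krR _)]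
        rw [← map_smul ((T l).krR _), eu, eu]
        simp only [map_sub, map_add, map_smul, p2, p3]))
  generalize g * (T i).krR ρ * g⁻¹ = z at *
  obtain ⟨α', β', ez⟩ : z ∈ (T i).NG := by
    rcases k1 with ⟨a', b', p⟩ | k1
    · exact mem i a' b' p.1 p.2.1 p.2.2
    rcases k2 with ⟨a', b', p⟩ | k2
    · obtain ⟨α', β', ez⟩ := mem j a' b' p.1 p.2.1 p.2.2
      exact ⟨β', α', ez.trans (h.kr_swap hj.symm α' β')⟩
    have J0 : ∀ v, J v = 0 := (T i).ext (g := 0) fun u x => Φ.nondeg _ ((T i).ext (g := 0) fun u' x' =>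
      mul_left_cancel₀ h₂.two (by
        have := k2 x' u x u'
        simp only [h.sw i j hj.symm] at this
        have s := sk ((T i).tm u x) ((T i).tm u' x')
        rw [h.ot.o.symm _ ((T i).tm u x)] at s
        simp only [LinearMap.zero_apply]
        linear_combination k1 u x u' x' - this + s))
    simpa [hJ, cjL_app, h₂.o.B_self, f.simp, h₂.two, (T i).tm_ne_zero hu (Fm.ne_of_Q hp.qb)] using
      J0 (g ((T i).tm u₀ a))
  have ez' := ez.trans (h.kr_swap hj.symm β' α').symm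
  have triv : ∀ l (α β α' β' : W ≃ₗ[F] W), y = (T l).kr α β → z = (T l).kr α' β' →
      (¬ ∃ c : F, ∀ x, α x = c • x) → (¬ ∃ c : F, ∀ x, β x = c • x) → ∃ c : F, ∀ x, β' (β' x) = c • x :=
    fun l α β α' β' e ez hα hβ => by
      rcases (h.tf l).dich h₂ (a := α') (d := β') (a' := α) (d' := LinearEquiv.neg F * β)
        (ez ▸ O.I m) (fun v => by
          rw [show (T l).kr α (LinearEquiv.neg F * β) v = -y v from (T l).ext
            (f := ((T l).kr α (LinearEquiv.neg F * β)).toLinearMap) (g := -y.toLinearMap)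
            (fun u x => by simp [e]) v, ← ez, map_neg]
          linear_combination (norm := module) map_add z v (y v) - rel v) with k | ⟨c, k⟩ | k
      · obtain ⟨γ, k⟩ := (T l).exists_krR_of_smul β' ⟨u₀, hu⟩ k
        obtain ⟨u, φ, f1, f2⟩ := exists_dual_inv hα
        refine absurd ?_ ne
        rw [ez, k, show γ = 1 from LinearEquiv.ext fun x => by
          simpa [ez, k, e, f1, f2] using congrArg ((T l).cL φ) (rel ((T l).tm u x)), map_one, mul_one]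
      · exact absurd ⟨-c, fun x => by simpa [neg_eq_iff_eq_neg] using k x⟩ hβ
      · exact k
  obtain ⟨s, hs⟩ := triv i α β α' β' e ez hα hβ
  obtain ⟨t, ht⟩ := triv j β α β' α' e' ez' hβ hα
  have k : ∀ v, z (z v) = (s * t) • v := (T i).ext (f := z.toLinearMap ∘ₗ z.toLinearMap)
    (g := (s * t) • LinearMap.id) fun u x => by simp [ez, hs, ht, mul_smul]
  have := k (g ((T i).tm u₀ c))
  rw [f0, f0] at this
  exact ne (LinearEquiv.ext fun v => by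
    rw [mul_app, k, ← smul_left_injective F (g.map_ne_zero_iff.2
      ((T i).tm_ne_zero hu (Fm.ne_of_Q f.p₂.qa))) ((one_smul _ _).trans this), one_smul, one_app])

omit f ha in
theorem uniq (hW : y ∈ h.ot.tp.WR) : g ∈ h.ot.tp.WR := by
  obtain ⟨c, d, f, -⟩ := h.m4.exists_fr hp one_ne_zero
  rcases h.m4.an_or f with k | k
  · exact h.uniq_an O hp hg hy f k hW
  refine h.uniq_an O (i := i) f.p₂ hg rfl f.symm k ?_
  convert mul_mem (h.ot.tp.krR_mem i (h.m4.o.r c * h.m4.o.r d * (h.m4.o.r a * h.m4.o.r b))) hW using 1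
  refine LinearEquiv.ext fun v => ?_
  rw [mul_app, mul_app, Tn.krR_rr_neg h.m4 f, map_neg, mul_app, map_mul _ (_ * _), mul_app,
    Tn.krR_rr_neg h.m4 f, ← mul_app _ _ (y v), ← map_mul, h.m4.rr_sq hp, map_one, one_app, ← hy, mul_app,
    mul_app]

omit hp hg hy f ha in
theorem le_WR : M ≤ h.ot.tp.WR := by
  have h₂ := h.m4
  have cl : ∀ ρ ∈ {ρ | ρ ∈ Φ₂.EG ∧ ρ * ρ = 1 ∧ ρ ≠ 1}, ∀ ρ' ∈ {ρ | ρ ∈ Φ₂.EG ∧ ρ * ρ = 1 ∧ ρ ≠ 1},
      ρ ≠ ρ' → ρ * ρ' = ρ' * ρ → ∃ a b, Φ₂.Pl a b ∧ ρ * ρ' = h₂.o.r a * h₂.o.r b :=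
    fun ρ hρ ρ' hρ' hne hc => h₂.exists_pl_eq (mul_mem hρ.1 hρ'.1)
      (by rw [mul_assoc, ← mul_assoc ρ', ← hc, mul_assoc, hρ'.2.1, mul_one, hρ.2.1])
      fun e => hne ((eq_inv_of_mul_eq_one_left e).trans (inv_eq_of_mul_eq_one_right hρ'.2.1))
  have mk : ∀ a b, Φ₂.Pl a b → Φ₂.Q b = Φ₂.Q a →
      h₂.o.r a * h₂.o.r b ∈ {ρ | ρ ∈ Φ₂.EG ∧ ρ * ρ = 1 ∧ ρ ≠ 1} := fun a b hp e =>
    ⟨h₂.o.rr_mem h₂.two h₂.three hp.qa hp.qb ⟨_, by rw [e]⟩, h₂.rr_sq hp,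
      fun e => h₂.rr_ns hp ⟨1, fun x => by simp [e]⟩⟩
  have par : ∀ ρ ∈ {ρ | ρ ∈ Φ₂.EG ∧ ρ * ρ = 1 ∧ ρ ≠ 1},
      ∃ ρ' ∈ {ρ | ρ ∈ Φ₂.EG ∧ ρ * ρ = 1 ∧ ρ ≠ 1}, ρ' ≠ ρ ∧ ρ' * ρ = ρ * ρ' := fun ρ hρ => by
    obtain ⟨a, b, hp, rfl⟩ := h₂.exists_pl_eq hρ.1 hρ.2.1 hρ.2.2
    obtain ⟨c, d, f, e⟩ := h₂.exists_fr hp hp.qa
    refine ⟨_, mk a c ⟨hp.qa, f.p₂.qa, f.ac⟩ e, fun e => h₂.rr_ns ⟨hp.qb, f.p₂.qa, f.bc⟩
      ⟨1, fun x => by rw [mul_left_cancel e, h₂.o.r_mul_self]; simp⟩, ?_⟩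
    rw [mul_assoc, mul_assoc, ← mul_assoc (h₂.o.r c), ← h₂.o.r_comm f.ac, ← mul_assoc (h₂.o.r b),
      ← h₂.o.r_comm hp.ab, mul_assoc, mul_assoc, h₂.o.r_comm f.bc]
  obtain ⟨a, -, -, -, ⟨ha, -⟩, -⟩ := h₂.exists_fr₀
  obtain ⟨b, hp, hb⟩ := h₂.exists_pl ha ha
  refine h.ot.tp.le_WR_of_inv' _ (fun i ρ hρ => O.K i hρ.1) (fun ρ hρ => hρ.2.1)
    (fun ρ hρ e => hρ.2.2 (h₂.eq_one_of_smul hρ.1 e))
    (fun ρ hρ ρ' hρ' e => (eq_inv_of_mul_eq_one_left (h₂.eq_one_of_smul (mul_mem hρ.1 hρ'.1) e)).trans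
      (inv_eq_of_mul_eq_one_right hρ'.2.1)) par ⟨_, mk a b hp hb⟩ (fun g hg i j a d e ρ hρ => ?_)
    (fun g hg i ρ hρ e => ?_) (fun g hg i ρ hρ ρ' hρ' hne hc e => ?_) fun g hg i e => ?_
  · obtain ⟨m, m0, m1, em, -⟩ := (O.tf i).exists_sim' (O.tf j) (O.I hg) e
    exact ⟨(O.tf i).tv₂.EG_conj m0 m1 em hρ.1, by rw [← pow_two, conj_pow, pow_two, hρ.2.1]; simp,
      fun e => hρ.2.2 (by simpa using e)⟩
  · obtain ⟨a, b, hp, rfl⟩ := h₂.exists_pl_eq hρ.1 hρ.2.1 hρ.2.2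
    exact h.uniq O hp hg rfl e
  · obtain ⟨a, b, hp, k⟩ := cl ρ hρ ρ' hρ' hne hc
    exact h.NG_le i (h.ns O hp hg (k ▸ e))
  · obtain ⟨ρ', h1, h2, h3⟩ := par _ (mk a b hp hb)
    obtain ⟨c, d, hp', k⟩ := cl _ h1 _ (mk a b hp hb) h2 h3
    exact h.uniq O hp' hg rfl (k ▸ e _ h1 _ (mk a b hp hb))

end B2

end Two

universe u

theorem OT.le_WR_four {F : Type u} {W : Type*} [Field F] [Finite F] [AddCommGroup W] [Module F W]
    [FiniteDimensional F W] {Φ₂ : Fm F W} (h₂ : Φ₂.M4) (n : ℕ) :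
    ∀ {ι : Type} [Fintype ι] [DecidableEq ι] {U V : Type u} [AddCommGroup U] [Module F U]
      [AddCommGroup V] [Module F V] [FiniteDimensional F U] [FiniteDimensional F V]
      {T : ι → Tn F U W V} {Φ : Fm F V} (h : OT T Φ₂ Φ), Fintype.card ι = n + 2 →
      finrank F V = 4 ^ (n + 2) → ∀ M, h.tp.WR ⊓ Φ.EG ≤ M → M ≤ Φ.EG → ¬ Φ.EG ≤ M → M ≤ h.tp.WR := by
  induction n with
  | zero =>
    intro ι _ _ U V _ _ _ _ _ _ T Φ h hι hV M hH hG hn
    have : Nontrivial ι := Fintype.one_lt_card_iff_nontrivial.1 (by omega)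
    obtain ⟨a, b, -, e⟩ := Finset.card_eq_two.1 hι
    have e' : ∀ i, i = a ∨ i = b := fun i => by simpa using e.le (Finset.mem_univ i)
    rw [(T a).finrank_eq, h₂.four] at hV
    obtain ⟨T', Φ₁, h', k⟩ := h.exists_B2 h₂ (by rw [h₂.four]; omega) fun i j k => by
      rcases e' i with rfl | rfl <;> rcases e' j with rfl | rfl <;> rcases e' k with rfl | rfl <;> simp
    exact k ▸ h'.le_WR (h'.o4 (k ▸ hH) hG hn)
  | succ n ih =>
    intro ι _ _ U V _ _ _ _ _ _ T Φ h hι hV M hH hG hn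
    have : Nontrivial ι := Fintype.one_lt_card_iff_nontrivial.1 (by omega)
    choose Φ₁ h₁ hF using fun i => (T i).exists_TF h.o₂ h.o h.two h.tp.neU h.tp.neW (h.adj i)
    choose T' h' e using fun i => h.exists_down (exists_ne i).choose_spec (h₁ i) (hF i)
    refine h.step4 (Φ₁ := Φ₁) (T' := T') (fun i => ?_) hH hG hn
    have hc : Fintype.card {j // j ≠ i} = n + 2 := by simp [Fintype.card_subtype_compl, hι]
    rw [(T i).finrank_eq, h₂.four, pow_succ] at hV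
    replace hV := Nat.eq_of_mul_eq_mul_right four_pos hV
    exact ⟨hF i, h' i, e i, Fintype.one_lt_card_iff.1 (hc ▸ by omega), by
      rw [Module.finrank_fin_fun, hV, h₂.four, pow_succ, Nat.mul_div_cancel _ four_pos, pow_succ]
      exact Even.mul_left (by decide) _,
      h₂, fun G h1 h2 => or_iff_not_imp_right.2 (ih (h' i) hc hV G h1 h2)⟩

/-- Tensor powers of `O₄⁻`, matrix form. -/
theorem o4_wreath_isMaximalIn {ι : Type} [Fintype ι] [DecidableEq ι] {F : Type*} [Field F] [Fintype F]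
    {t : ℕ} {f₁ : (Fin 4 → F) → (Fin 4 → F) → F} {Q : (ι → F) → F}
    (hQ : Geo.IsNondegenerateQuadraticForm Q) (hodd : Odd (Fintype.card F)) (ht : 2 ≤ t)
    (e : ι ≃ (Fin t → Fin 4)) (P : GL ι F) (hf₁ : Geo.IsSymmetricForm f₁)
    (h4 : ¬ Geo.IsPlusTypeOn (fun v => f₁ v v) ⊤)
    (hT : Geo.IsTensorPowerFormStructure id (QuadraticMap.polar Q) f₁ e P) :
    Geo.IsMaximalIn (Geo.omegaGL Q) (Geo.tensorWreathSubgroup 4 t e P ⊓ Geo.omegaGL Q) := by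
  have h2 := two_ne_zero_of_odd hodd
  have h₂ := isO_fmSym h2 hf₁
  have hO := isO_fmO hQ
  have hc : Fintype.card ι = 4 ^ t := by simp [Fintype.card_congr e]
  have k1 : ∀ s, 1 ≤ s → 4 ≤ 4 ^ s := fun s hs => Nat.le_self_pow (by omega) 4
  obtain ⟨n, rfl⟩ := Nat.exists_eq_add_of_le' ht
  refine isMaximalIn_of_PT (by omega) ((show 3 ≤ 4 by omega).trans (k1 _ (by omega)))
    (Asch.isSesq_of_bilinear hf₁.bilinear) hT (Φ₂ := fmSym h2 hf₁)
    (Or.inl ⟨fun _ _ => rfl, fmSym_B h2 hf₁⟩) (mem_omegaGL_iff hQ (by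
      have := k1 (n + 1) (by omega)
      rw [hc, pow_succ]; omega)) fun T c h hT hp _ h3 => ?_
  choose Φ₁ h₁ hF using fun i => (T i).exists_TF h₂ hO h2 hT.neU hT.neW (h.B_sl i)
  have D : OT T (fmSym h2 hf₁) (fmO hQ) := ⟨hT, h₂, hO, h2, by simp, h.B_sl, fun j l =>
    let ⟨p, p2, e⟩ := hp j l
    ⟨p, (hO.tv h2).mem_Iso (h.B_swap hT (Equiv.swap_apply_self j l) p2 e), e⟩⟩
  exact hT.isMaximalIn_o hF h₂ hO h2 h3 (by simp) 0 (OT.le_WR_four ⟨h₂, h2, by simp, fun s v hp =>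
    h4 ⟨_, le_top, fun x hx => by simpa [fmSym_B] using hp.ts.2 x hx x hx,
      by rw [hp.finrank_span, finrank_top]; simp⟩⟩ n D (by simp) (by simp [hc]))

end Cfsg.Agent.Class.Max
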